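import Cfsg.Agent.Lib.Block.DihedralOrder
import Cfsg.Agent.Lib.Char.Linear
import Cfsg.Agent.Lib.Char.Orthogonality

/-!
# A lower bound for the degree of a character which is constant on singular sections

`Q` is an abelian subgroup of odd order centralised by `σ` and inverted by `τ`, normalised but not
centralised by the element `u` of odd order.  A faithful character `χ` with the same value at all
`y * s`, `s ≠ 1` in `⟨σ⟩`, has degree at least `12 h`: its multiplicities on `Q` are multiples of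
`2 h`, and some linear character occurring has six conjugates under `u` and `τ`.
-/

set_option autoImplicit false
set_option linter.unusedSectionVars false
set_option maxHeartbeats 1000000

namespace Cfsg.Lib.GW.CMax

open Cfsg Cfsg.Lib.Block Cfsg.Lib.Char
open scoped ComplexConjugate

universe u

variable {G : Type u} [Group G] [Fintype G]

noncomputable local instance (priority := high) fintypeSubgroupCMaxCount {A : Type u}
    [Group A] [Fintype A] (H : Subgroup A) : Fintype H := Fintype.ofFinite H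

/-- A permutation of odd order fixing a function through a power of two fixes it. -/
theorem fixed_of_two_pow {A B : Type*} (f : A → B) (a : A → A) {o : ℕ} (ho : Odd o)
    (hao : a^[o] = id) {k : ℕ} (hk : ∀ y, f (a^[2 ^ k] y) = f y) : ∀ y, f (a y) = f y := by
  have hit : ∀ j, ∀ y, f (a^[2 ^ k * j] y) = f y := by
    intro j
    induction j with
    | zero => simp
    | succ j ih =>
      intro y
      rw [Nat.mul_succ, Function.iterate_add_apply, ih, hk]
  have hot : ∀ i, a^[o * i] = id := fun i => by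
    rw [Function.iterate_mul, hao, Function.iterate_id]
  by_cases ho1 : o = 1
  · intro y
    rw [ho1, Function.iterate_one] at hao
    rw [hao]
    rfl
  obtain ⟨j, -, hj⟩ := Nat.exists_mul_mod_eq_one_of_coprime
    ((Nat.coprime_two_left.2 ho).pow_left k) (by obtain ⟨c, hc⟩ := ho; omega)
  intro y
  have e : a^[2 ^ k * j] y = a y := by
    conv_lhs => rw [← Nat.mod_add_div (2 ^ k * j) o, hj, Function.iterate_add_apply, hot]
    rfl
  rw [← e, hit]

/-- The lower bound. -/
theorem degree_ge (χ : IrrCharacter G) {h : ℕ} (hh : 1 ≤ h) {σ τ : G} (hσ : orderOf σ = 2 * h)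
    (δ : ℂ) (Q : Subgroup G) (hQσ : ∀ y ∈ Q, Commute y σ) (hQτ : ∀ y ∈ Q, τ * y * τ⁻¹ = y⁻¹)
    (hQo : ∀ y ∈ Q, Odd (orderOf y))
    (hval : ∀ y ∈ Q, ∀ s ∈ Subgroup.zpowers σ, s ≠ 1 → (χ : G → ℂ) (y * s) = δ)
    (hker : ∀ g : G, (χ : G → ℂ) g = (χ : G → ℂ) 1 → g = 1)
    {u : G} (hu : Odd (orderOf u)) (huQ : ∀ y ∈ Q, u * y * u⁻¹ ∈ Q)
    {y₀ : G} (hy₀ : y₀ ∈ Q) (hmove : ¬ Commute u y₀) :
    12 * h ≤ charDegree (χ : G → ℂ) := by
  classical
  -- `Q` is abelian
  have hcomm : ∀ a b : Q, a * b = b * a := by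
    intro a b
    refine Subtype.ext ?_
    show (a : G) * b = b * a
    have e := hQτ _ (mul_mem a.2 b.2)
    rw [show τ * ((a : G) * b) * τ⁻¹ = (τ * a * τ⁻¹) * (τ * b * τ⁻¹) by group, hQτ _ a.2,
      hQτ _ b.2] at e
    have := congrArg (·⁻¹) e
    simpa using this.symm
  have hlin : ∀ ψ : IrrCharacter Q, ∃ φ : Q →* ℂˣ, (ψ : Q → ℂ) = fun y => (φ y : ℂ) := fun ψ =>
    Char.exists_hom_of_degree_one ψ.2.isCharacter (Char.degree_eq_one_of_comm hcomm ψ.2)
  obtain ⟨f, hfdef⟩ : ∃ f : Q → ℂ, f = fun y : Q => (χ : G → ℂ) (y : G) := ⟨_, rfl⟩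
  have hf : IsCharacter Q f := hfdef ▸ χ.2.isCharacter.comp Q.subtype
  choose m hm using fun ψ : IrrCharacter Q => hf.exists_nat_classInner ψ.2.isCharacter
  have hexp : ∀ y : Q, f y = ∑ ψ : IrrCharacter Q, (m ψ : ℂ) * (ψ : Q → ℂ) y := by
    intro y
    conv_lhs => rw [Char.eq_sum_classInner hf.isClassFunction]
    simp [hm]
  -- the two automorphisms
  let au : Q ≃* Q :=
    { toFun := fun y => ⟨u * (y : G) * u⁻¹, huQ _ y.2⟩
      invFun := fun y => ⟨u⁻¹ * (y : G) * u, by
        have hle : ∀ k : ℕ, ∀ z ∈ Q, u ^ k * z * (u ^ k)⁻¹ ∈ Q := by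
          intro k
          induction k with
          | zero => intro z hz; simpa using hz
          | succ k ih =>
            intro z hz
            have := huQ _ (ih z hz)
            rw [pow_succ']
            convert this using 1
            group
        obtain ⟨k, hk⟩ : ∃ k, orderOf u = k + 1 := ⟨orderOf u - 1, by have := orderOf_pos u; omega⟩
        have e : u⁻¹ = u ^ k := inv_eq_of_mul_eq_one_right (by
          rw [← pow_succ', ← hk, pow_orderOf_eq_one])
        have := hle k _ y.2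
        rw [← e, inv_inv] at this
        exact this⟩
      left_inv := fun y => Subtype.ext (by show u⁻¹ * (u * (y : G) * u⁻¹) * u = y; group)
      right_inv := fun y => Subtype.ext (by show u * (u⁻¹ * (y : G) * u) * u⁻¹ = y; group)
      map_mul' := fun a b => Subtype.ext (by
        show u * ((a : G) * b) * u⁻¹ = u * a * u⁻¹ * (u * b * u⁻¹); group) }
  have hau : ∀ y : Q, ((au y : Q) : G) = u * (y : G) * u⁻¹ := fun y => rfl
  let ai : Q ≃* Q :=
    { toFun := fun y => y⁻¹
      invFun := fun y => y⁻¹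
      left_inv := inv_inv
      right_inv := inv_inv
      map_mul' := fun a b => by rw [mul_inv_rev, hcomm] }
  have hai : ∀ y : Q, ai y = y⁻¹ := fun y => rfl
  have hinvar : ∀ a : Q ≃* Q, (∀ y, f (a y) = f y) → ∀ ψ : IrrCharacter Q,
      ∃ ψ' : IrrCharacter Q, (∀ y, (ψ' : Q → ℂ) y = (ψ : Q → ℂ) (a y)) ∧ m ψ' = m ψ := by
    intro a ha ψ
    refine ⟨⟨_, ψ.2.comp_surjective a.toMonoidHom a.surjective⟩, fun y => rfl, ?_⟩
    apply Nat.cast_injective (R := ℂ)
    rw [← hm, ← hm, classInner, classInner]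
    congr 1
    exact Fintype.sum_equiv a.toEquiv _ _ fun y => by
      simp [ha]
  have hfu : ∀ y : Q, f (au y) = f y := fun y => by
    rw [hfdef]; simp only [hau]; exact χ.2.isClassFunction (y : G) u
  have hfi : ∀ y : Q, f (ai y) = f y := fun y => by
    rw [hfdef]
    simp only [hai, InvMemClass.coe_inv]
    rw [← hQτ _ y.2]
    exact χ.2.isClassFunction (y : G) τ
  -- a moved constituent
  obtain ⟨ψ, hψm, hψmove⟩ : ∃ ψ : IrrCharacter Q, m ψ ≠ 0 ∧
      ∃ y, (ψ : Q → ℂ) (au y) ≠ (ψ : Q → ℂ) y := by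
    by_contra hno
    simp only [not_exists, not_and, not_not] at hno
    refine hmove ?_
    have hz : f (au ⟨y₀, hy₀⟩ * (⟨y₀, hy₀⟩ : Q)⁻¹) = f 1 := by
      rw [hexp, hexp]
      refine Finset.sum_congr rfl fun ψ _ => ?_
      by_cases h0 : m ψ = 0
      · simp [h0]
      obtain ⟨φ, hφ⟩ := hlin ψ
      have e : φ (au ⟨y₀, hy₀⟩) = φ ⟨y₀, hy₀⟩ := Units.ext (by
        have := hno ψ h0 ⟨y₀, hy₀⟩
        rwa [hφ] at this)
      simp only [hφ, map_mul, map_inv, e, mul_inv_cancel, map_one]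
    rw [hfdef] at hz
    have h1 := hker _ hz
    rw [Subgroup.coe_mul, InvMemClass.coe_inv, hau, mul_inv_eq_one] at h1
    exact mul_inv_eq_iff_eq_mul.1 h1
  obtain ⟨φ, hφ⟩ := hlin ψ
  -- the multiplicity is a multiple of the order of `σ`
  have hne1 : φ ≠ 1 := by
    rintro rfl
    obtain ⟨y, hy⟩ := hψmove
    simp [hφ] at hy
  have hdvd : 2 * h ≤ m ψ := by
    let π : Q × Subgroup.zpowers σ →* G :=
      Q.subtype.noncommCoprod (Subgroup.zpowers σ).subtype fun y s => by
        obtain ⟨k, hk⟩ := Subgroup.mem_zpowers_iff.1 s.2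
        show Commute (y : G) (s : G)
        rw [← hk]
        exact (hQσ _ y.2).zpow_right k
    have hπ : ∀ y s, π (y, s) = (y : G) * (s : G) := fun y s => rfl
    obtain ⟨n, hn⟩ := (χ.2.isCharacter.comp π).exists_nat_classInner
      ((isIrrCharacter_linear φ).isCharacter.comp (MonoidHom.fst Q (Subgroup.zpowers σ)))
    have hsum0 : ∑ y : Q, conj (φ y : ℂ) = 0 := by
      have hne1' : (Units.coeHom ℂ).comp φ ≠ 1 := fun e =>
        hne1 (MonoidHom.ext fun y => Units.ext (DFunLike.congr_fun e y))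
      have := sum_hom_units_eq_zero ((Units.coeHom ℂ).comp φ) hne1'
      rw [MonoidHom.coe_comp] at this
      simp only [Function.comp_apply, Units.coeHom_apply] at this
      rw [← map_sum, this, map_zero]
    have hcard : Nat.card (Subgroup.zpowers σ) = 2 * h := by rw [Nat.card_zpowers, hσ]
    have key : ∀ y : Q, ∑ s : Subgroup.zpowers σ, (χ : G → ℂ) ((y : G) * (s : G)) =
        f y + ((2 * h : ℕ) - 1 : ℂ) * δ := by
      intro y
      rw [← Finset.sum_erase_add _ _ (Finset.mem_univ (1 : Subgroup.zpowers σ)),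
        Finset.sum_congr rfl fun s hs => hval _ y.2 _ s.2
          (fun e => (Finset.mem_erase.1 hs).1 (Subtype.ext e)),
        Finset.sum_const, Finset.card_erase_of_mem (Finset.mem_univ _), Finset.card_univ,
        ← Nat.card_eq_fintype_card, hcard, nsmul_eq_mul, Nat.cast_sub (by omega),
        OneMemClass.coe_one, mul_one, hfdef]
      push_cast
      ring
    have hQne : (Nat.card Q : ℂ) ≠ 0 := Nat.cast_ne_zero.2 Nat.card_pos.ne'
    have hmψ := hm ψ
    simp only [classInner, hφ] at hmψ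
    rw [inv_mul_eq_iff_eq_mul₀ hQne] at hmψ
    simp only [classInner] at hn
    rw [Nat.card_prod, hcard, inv_mul_eq_iff_eq_mul₀ (by
      rw [Nat.cast_mul]; exact mul_ne_zero hQne (Nat.cast_ne_zero.2 (by omega))),
      Fintype.sum_prod_type] at hn
    simp only [hπ, MonoidHom.coe_fst] at hn
    rw [Finset.sum_congr rfl fun y _ => by rw [← Finset.sum_mul, key y]] at hn
    simp only [add_mul, Finset.sum_add_distrib, ← Finset.mul_sum, hsum0, mul_zero, add_zero,
      hmψ] at hn
    have hmn : (m ψ : ℂ) = ((2 * h * n : ℕ) : ℂ) := by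
      refine mul_left_cancel₀ hQne ?_
      rw [hn]
      push_cast
      ring
    have hmn' : m ψ = 2 * h * n := Nat.cast_injective hmn
    rcases n with _ | n
    · exact absurd (by rw [hmn', mul_zero]) hψm
    · rw [hmn', Nat.mul_succ]; omega
  -- six conjugates
  have hord : (au : Q → Q)^[orderOf u] = id := by
    have hit : ∀ k : ℕ, ∀ y : Q, (((au : Q → Q)^[k] y : Q) : G) = u ^ k * (y : G) * (u ^ k)⁻¹ := by
      intro k
      induction k with
      | zero => intro y; simp
      | succ k ih =>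
        intro y
        rw [Function.iterate_succ', Function.comp_apply, hau, ih, pow_succ']
        group
    funext y
    exact Subtype.ext (by rw [hit, pow_orderOf_eq_one]; simp)
  have hmoved : ∀ k : ℕ, ¬ ∀ y, φ ((au : Q → Q)^[2 ^ k] y) = φ y := by
    intro k hk
    obtain ⟨y, hy⟩ := hψmove
    refine hy ?_
    rw [hφ]
    exact congrArg Units.val (fixed_of_two_pow (fun y => φ y) (au : Q → Q) hu hord hk y)
  have hnotinv : ∀ k : ℕ, ¬ ∀ y, φ ((au : Q → Q)^[2 ^ k] y) = (φ y)⁻¹ := by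
    intro k hk
    refine hmoved (k + 1) fun y => ?_
    rw [pow_succ, Nat.mul_two, Function.iterate_add_apply, hk, hk, inv_inv]
  have hnotsq : ¬ ∀ y, φ y = (φ y)⁻¹ := by
    intro h2
    refine hne1 (MonoidHom.ext fun y => ?_)
    obtain ⟨c, hc⟩ := hQo _ y.2
    have e : φ y ^ orderOf (y : G) = 1 := by
      rw [← map_pow, Subgroup.orderOf_coe, pow_orderOf_eq_one, map_one]
    rw [hc, pow_succ, pow_mul, pow_two, mul_eq_one_iff_eq_inv.2 (h2 y), one_pow, one_mul] at e
    exact e
  obtain ⟨ψ₁, h1, hm1⟩ := hinvar au hfu ψ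
  obtain ⟨ψ₂, h2, hm2⟩ := hinvar au hfu ψ₁
  obtain ⟨ψ₀', h0', hm0'⟩ := hinvar ai hfi ψ
  obtain ⟨ψ₁', h1', hm1'⟩ := hinvar ai hfi ψ₁
  obtain ⟨ψ₂', h2', hm2'⟩ := hinvar ai hfi ψ₂
  have v0 : ∀ y, (ψ : Q → ℂ) y = (φ y : ℂ) := fun y => by rw [hφ]
  have v1 : ∀ y, (ψ₁ : Q → ℂ) y = (φ (au y) : ℂ) := fun y => by rw [h1, v0]
  have v2 : ∀ y, (ψ₂ : Q → ℂ) y = (φ (au (au y)) : ℂ) := fun y => by rw [h2, v1]
  have w0 : ∀ y, (ψ₀' : Q → ℂ) y = ((φ y)⁻¹ : ℂˣ) := fun y => by rw [h0', v0, hai, map_inv]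
  have w1 : ∀ y, (ψ₁' : Q → ℂ) y = ((φ (au y))⁻¹ : ℂˣ) := fun y => by
    rw [h1', v1, hai, map_inv, map_inv]
  have w2 : ∀ y, (ψ₂' : Q → ℂ) y = ((φ (au (au y)))⁻¹ : ℂˣ) := fun y => by
    rw [h2', v2, hai, map_inv, map_inv, map_inv]
  have cast : ∀ {a b : Q → ℂ} {p q : Q → ℂˣ}, (∀ y, a y = p y) → (∀ y, b y = q y) → a = b →
      ∀ y, p y = q y := fun ha hb e y => Units.ext (by rw [← ha, ← hb, e])
  have sur : ∀ y : Q, ∃ z, au z = y := au.surjective
  have d01 : ψ ≠ ψ₁ := fun e => hmoved 0 fun y => (cast v0 v1 (congrArg Subtype.val e) y).symm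
  have d02 : ψ ≠ ψ₂ := fun e => hmoved 1 fun y => (cast v0 v2 (congrArg Subtype.val e) y).symm
  have d12 : ψ₁ ≠ ψ₂ := fun e => hmoved 0 fun y => by
    obtain ⟨z, rfl⟩ := sur y
    exact (cast v1 v2 (congrArg Subtype.val e) z).symm
  have e01 : ψ₀' ≠ ψ₁' := fun e => hmoved 0 fun y =>
    (inv_injective (cast w0 w1 (congrArg Subtype.val e) y)).symm
  have e02 : ψ₀' ≠ ψ₂' := fun e => hmoved 1 fun y =>
    (inv_injective (cast w0 w2 (congrArg Subtype.val e) y)).symm
  have e12 : ψ₁' ≠ ψ₂' := fun e => hmoved 0 fun y => by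
    obtain ⟨z, rfl⟩ := sur y
    exact (inv_injective (cast w1 w2 (congrArg Subtype.val e) z)).symm
  have c00 : ψ ≠ ψ₀' := fun e => hnotsq fun y => cast v0 w0 (congrArg Subtype.val e) y
  have c01 : ψ ≠ ψ₁' := fun e => hnotinv 0 fun y => by
    have := cast v0 w1 (congrArg Subtype.val e) y
    show φ (au y) = _
    rw [this, inv_inv]
  have c02 : ψ ≠ ψ₂' := fun e => hnotinv 1 fun y => by
    have := cast v0 w2 (congrArg Subtype.val e) y
    show φ (au (au y)) = _
    rw [this, inv_inv]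
  have c10 : ψ₁ ≠ ψ₀' := fun e => hnotinv 0 fun y => cast v1 w0 (congrArg Subtype.val e) y
  have c11 : ψ₁ ≠ ψ₁' := fun e => hnotsq fun y => by
    obtain ⟨z, rfl⟩ := sur y
    exact cast v1 w1 (congrArg Subtype.val e) z
  have c12 : ψ₁ ≠ ψ₂' := fun e => hnotinv 0 fun y => by
    obtain ⟨z, rfl⟩ := sur y
    have := cast v1 w2 (congrArg Subtype.val e) z
    show φ (au (au z)) = _
    rw [this, inv_inv]
  have c20 : ψ₂ ≠ ψ₀' := fun e => hnotinv 1 fun y => cast v2 w0 (congrArg Subtype.val e) y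
  have c21 : ψ₂ ≠ ψ₁' := fun e => hnotinv 0 fun y => by
    obtain ⟨z, rfl⟩ := sur y
    exact cast v2 w1 (congrArg Subtype.val e) z
  have c22 : ψ₂ ≠ ψ₂' := fun e => hnotsq fun y => by
    obtain ⟨z, rfl⟩ := sur y
    obtain ⟨z', rfl⟩ := sur z
    exact cast v2 w2 (congrArg Subtype.val e) z'
  -- the degree
  have hdeg : charDegree (χ : G → ℂ) = ∑ x : IrrCharacter Q, m x := by
    apply Nat.cast_injective (R := ℂ)
    rw [← Block.apply_one_eq_charDegree, Nat.cast_sum]
    have := hexp 1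
    rw [hfdef] at this
    simp only [OneMemClass.coe_one] at this
    rw [this]
    exact Finset.sum_congr rfl fun x _ => by
      rw [Char.degree_eq_one_of_comm hcomm x.2, mul_one]
  rw [hdeg]
  refine le_trans ?_ (Finset.sum_le_univ_sum_of_nonneg
    (s := ({ψ, ψ₁, ψ₂, ψ₀', ψ₁', ψ₂'} : Finset (IrrCharacter Q))) fun _ => Nat.zero_le _)
  rw [Finset.sum_insert (by simp [d01, d02, c00, c01, c02]),
    Finset.sum_insert (by simp [d12, c10, c11, c12]),
    Finset.sum_insert (by simp [c20, c21, c22]),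
    Finset.sum_insert (by simp [e01, e02]), Finset.sum_pair e12]
  rw [hm0', hm1', hm2', hm2, hm1]
  omega

end Cfsg.Lib.GW.CMax
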