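import Cfsg.Agent.Lib.GW.CMax.Fix
import Cfsg.Agent.Lib.GW.CMax.Count
import Cfsg.Agent.Lib.GW.Companion

/-!
# Degree at least twelve from a moved abelian subgroup of the odd part

`Z` is an abelian subgroup of the odd part, normalised but not centralised by it and centralised by
`σ²`.  A faithful character whose values at `y s`, `s ≠ 1`, do not depend on `y ∈ Z` has on `Z`
multiplicities which are multiples of the order of the rotations used, and a constituent with an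
orbit of at least three (six, with an inversion) conjugates.
-/

set_option autoImplicit false
set_option linter.unusedSectionVars false
set_option linter.style.haveILetI false
set_option maxHeartbeats 1000000

namespace Cfsg.Lib.GW.CMax

open Cfsg Cfsg.Lib.Block Cfsg.Lib.Char
open Cfsg.Lib.Block.DihSylow (oddPart mem_oddPart)
open scoped ComplexConjugate

universe u

variable {G : Type u} [Group G] [Fintype G]

noncomputable local instance (priority := high) fintypeSubgroupCMaxDegreeLow {A : Type u}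
    [Group A] [Fintype A] (H : Subgroup A) : Fintype H := Fintype.ofFinite H

/-- Orbit bound for the degree. -/
theorem orbit_degree (χ : IrrCharacter G) (Z : Subgroup G) (hcomm : ∀ a ∈ Z, ∀ b ∈ Z, Commute a b)
    (hZo : ∀ y ∈ Z, Odd (orderOf y)) (s₀ : G) (hs₀ : ∀ y ∈ Z, Commute y s₀)
    (hval : ∀ y ∈ Z, ∀ s ∈ Subgroup.zpowers s₀, s ≠ 1 → (χ : G → ℂ) (y * s) = (χ : G → ℂ) s)
    (hker : ∀ g : G, (χ : G → ℂ) g = (χ : G → ℂ) 1 → g = 1)
    {u : G} (hu : Odd (orderOf u)) (huZ : ∀ y ∈ Z, u * y * u⁻¹ ∈ Z)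
    {y₀ : G} (hy₀ : y₀ ∈ Z) (hmove : ¬ Commute u y₀) :
    3 * orderOf s₀ ≤ charDegree (χ : G → ℂ) ∧
      ∀ g : G, (∀ y ∈ Z, g * y * g⁻¹ = y⁻¹) → 6 * orderOf s₀ ≤ charDegree (χ : G → ℂ) := by
  classical
  have hcomm' : ∀ a b : Z, a * b = b * a := fun a b => Subtype.ext (hcomm _ a.2 _ b.2).eq
  have hlin : ∀ ψ : IrrCharacter Z, ∃ φ : Z →* ℂˣ, (ψ : Z → ℂ) = fun y => (φ y : ℂ) := fun ψ =>
    Char.exists_hom_of_degree_one ψ.2.isCharacter (Char.degree_eq_one_of_comm hcomm' ψ.2)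
  obtain ⟨f, hfdef⟩ : ∃ f : Z → ℂ, f = fun y : Z => (χ : G → ℂ) (y : G) := ⟨_, rfl⟩
  have hf : IsCharacter Z f := hfdef ▸ χ.2.isCharacter.comp Z.subtype
  choose m hm using fun ψ : IrrCharacter Z => hf.exists_nat_classInner ψ.2.isCharacter
  have hexp : ∀ y : Z, f y = ∑ ψ : IrrCharacter Z, (m ψ : ℂ) * (ψ : Z → ℂ) y := by
    intro y
    conv_lhs => rw [Char.eq_sum_classInner hf.isClassFunction]
    simp [hm]
  let cu : Z →* Z :=
    { toFun := fun y => ⟨u * (y : G) * u⁻¹, huZ _ y.2⟩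
      map_one' := Subtype.ext (by simp)
      map_mul' := fun a b => Subtype.ext (by
        show u * ((a : G) * b) * u⁻¹ = u * a * u⁻¹ * (u * b * u⁻¹); group) }
  have hbij : Function.Bijective cu := Finite.injective_iff_bijective.1 fun a b e =>
    Subtype.ext (mul_left_cancel (mul_right_cancel (congrArg Subtype.val e :
      u * (a : G) * u⁻¹ = u * (b : G) * u⁻¹)))
  obtain ⟨au, hau⟩ : ∃ au : Z ≃* Z, ∀ y : Z, ((au y : Z) : G) = u * (y : G) * u⁻¹ :=
    ⟨MulEquiv.ofBijective cu hbij, fun y => rfl⟩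
  let ai : Z ≃* Z :=
    { toFun := fun y => y⁻¹
      invFun := fun y => y⁻¹
      left_inv := inv_inv
      right_inv := inv_inv
      map_mul' := fun a b => by rw [mul_inv_rev, hcomm'] }
  have hai : ∀ y : Z, ai y = y⁻¹ := fun y => rfl
  have hinvar : ∀ a : Z ≃* Z, (∀ y, f (a y) = f y) → ∀ ψ : IrrCharacter Z,
      ∃ ψ' : IrrCharacter Z, (∀ y, (ψ' : Z → ℂ) y = (ψ : Z → ℂ) (a y)) ∧ m ψ' = m ψ := by
    intro a ha ψ
    refine ⟨⟨_, ψ.2.comp_surjective a.toMonoidHom a.surjective⟩, fun y => rfl, ?_⟩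
    apply Nat.cast_injective (R := ℂ)
    rw [← hm, ← hm, classInner, classInner]
    congr 1
    exact Fintype.sum_equiv a.toEquiv _ _ fun y => by simp [ha]
  have hfu : ∀ y : Z, f (au y) = f y := fun y => by
    rw [hfdef]; simp only [hau]; exact χ.2.isClassFunction (y : G) u
  -- a moved constituent
  obtain ⟨ψ, hψm, hψmove⟩ : ∃ ψ : IrrCharacter Z, m ψ ≠ 0 ∧
      ∃ y, (ψ : Z → ℂ) (au y) ≠ (ψ : Z → ℂ) y := by
    by_contra hno
    simp only [not_exists, not_and, not_not] at hno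
    refine hmove ?_
    have hz : f (au ⟨y₀, hy₀⟩ * (⟨y₀, hy₀⟩ : Z)⁻¹) = f 1 := by
      rw [hexp, hexp]
      refine Finset.sum_congr rfl fun ψ _ => ?_
      by_cases h0 : m ψ = 0
      · simp [h0]
      obtain ⟨φ, hφ⟩ := hlin ψ
      have e : φ (au ⟨y₀, hy₀⟩) = φ ⟨y₀, hy₀⟩ := Units.ext (by
        have := hno ψ h0 ⟨y₀, hy₀⟩
        rwa [hφ] at this)
      simp only [hφ, map_mul, map_inv, e, mul_inv_cancel, map_one]
    rw [hfdef] at hz
    have h1 := hker _ hz
    rw [Subgroup.coe_mul, InvMemClass.coe_inv, hau, mul_inv_eq_one] at h1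
    exact mul_inv_eq_iff_eq_mul.1 h1
  obtain ⟨φ, hφ⟩ := hlin ψ
  have hne1 : φ ≠ 1 := by
    rintro rfl
    obtain ⟨y, hy⟩ := hψmove
    simp [hφ] at hy
  -- the multiplicity
  have hdvd : orderOf s₀ ≤ m ψ := by
    let π : Z × Subgroup.zpowers s₀ →* G :=
      Z.subtype.noncommCoprod (Subgroup.zpowers s₀).subtype fun y s => by
        obtain ⟨k, hk⟩ := Subgroup.mem_zpowers_iff.1 s.2
        show Commute (y : G) (s : G)
        rw [← hk]
        exact (hs₀ _ y.2).zpow_right k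
    have hπ : ∀ y s, π (y, s) = (y : G) * (s : G) := fun y s => rfl
    obtain ⟨n, hn⟩ := (χ.2.isCharacter.comp π).exists_nat_classInner
      ((isIrrCharacter_linear φ).isCharacter.comp (MonoidHom.fst Z (Subgroup.zpowers s₀)))
    have hne1' : (Units.coeHom ℂ).comp φ ≠ 1 := fun e =>
      hne1 (MonoidHom.ext fun y => Units.ext (DFunLike.congr_fun e y))
    have hsum0 : ∑ y : Z, conj (φ y : ℂ) = 0 := by
      have := sum_hom_units_eq_zero ((Units.coeHom ℂ).comp φ) hne1'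
      rw [MonoidHom.coe_comp] at this
      simp only [Function.comp_apply, Units.coeHom_apply] at this
      rw [← map_sum, this, map_zero]
    obtain ⟨c, hc⟩ : ∃ c : ℂ,
        c = ∑ s ∈ Finset.univ.erase (1 : Subgroup.zpowers s₀), (χ : G → ℂ) (s : G) := ⟨_, rfl⟩
    have key : ∀ y : Z, ∑ s : Subgroup.zpowers s₀, (χ : G → ℂ) ((y : G) * (s : G)) = f y + c := by
      intro y
      rw [← Finset.sum_erase_add _ _ (Finset.mem_univ (1 : Subgroup.zpowers s₀)), hc,
        Finset.sum_congr rfl fun s hs => hval _ y.2 _ s.2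
          (fun e => (Finset.mem_erase.1 hs).1 (Subtype.ext e)),
        OneMemClass.coe_one, mul_one, hfdef, add_comm]
    have hQne : (Nat.card Z : ℂ) ≠ 0 := Nat.cast_ne_zero.2 Nat.card_pos.ne'
    have hmψ := hm ψ
    simp only [classInner, hφ] at hmψ
    rw [inv_mul_eq_iff_eq_mul₀ hQne] at hmψ
    simp only [classInner] at hn
    rw [Nat.card_prod, Nat.card_zpowers, inv_mul_eq_iff_eq_mul₀ (by
      rw [Nat.cast_mul]; exact mul_ne_zero hQne (Nat.cast_ne_zero.2 (orderOf_pos s₀).ne')),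
      Fintype.sum_prod_type] at hn
    simp only [hπ, MonoidHom.coe_fst] at hn
    rw [Finset.sum_congr rfl fun y _ => by rw [← Finset.sum_mul, key y]] at hn
    simp only [add_mul, Finset.sum_add_distrib, ← Finset.mul_sum, hsum0, mul_zero, add_zero,
      hmψ] at hn
    have hmn : (m ψ : ℂ) = ((orderOf s₀ * n : ℕ) : ℂ) := by
      refine mul_left_cancel₀ hQne ?_
      rw [hn]
      push_cast
      ring
    have hmn' : m ψ = orderOf s₀ * n := Nat.cast_injective hmn
    rcases n with _ | n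
    · exact absurd (by rw [hmn', mul_zero]) hψm
    · rw [hmn', Nat.mul_succ]; omega
  -- the orbit
  have hord : (au : Z → Z)^[orderOf u] = id := by
    have hit : ∀ k : ℕ, ∀ y : Z, (((au : Z → Z)^[k] y : Z) : G) = u ^ k * (y : G) * (u ^ k)⁻¹ := by
      intro k
      induction k with
      | zero => intro y; simp
      | succ k ih =>
        intro y
        rw [Function.iterate_succ', Function.comp_apply, hau, ih, pow_succ']
        group
    funext y
    exact Subtype.ext (by rw [hit, pow_orderOf_eq_one]; simp)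
  have hmoved : ∀ k : ℕ, ¬ ∀ y, φ ((au : Z → Z)^[2 ^ k] y) = φ y := by
    intro k hk
    obtain ⟨y, hy⟩ := hψmove
    refine hy ?_
    rw [hφ]
    exact congrArg Units.val (fixed_of_two_pow (fun y => φ y) (au : Z → Z) hu hord hk y)
  obtain ⟨ψ₁, h1, hm1⟩ := hinvar au hfu ψ
  obtain ⟨ψ₂, h2, hm2⟩ := hinvar au hfu ψ₁
  have v0 : ∀ y, (ψ : Z → ℂ) y = (φ y : ℂ) := fun y => by rw [hφ]
  have v1 : ∀ y, (ψ₁ : Z → ℂ) y = (φ (au y) : ℂ) := fun y => by rw [h1, v0]
  have v2 : ∀ y, (ψ₂ : Z → ℂ) y = (φ (au (au y)) : ℂ) := fun y => by rw [h2, v1]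
  have cast : ∀ {a b : Z → ℂ} {p q : Z → ℂˣ}, (∀ y, a y = p y) → (∀ y, b y = q y) → a = b →
      ∀ y, p y = q y := fun ha hb e y => Units.ext (by rw [← ha, ← hb, e])
  have sur : ∀ y : Z, ∃ z, au z = y := au.surjective
  have d01 : ψ ≠ ψ₁ := fun e => hmoved 0 fun y => (cast v0 v1 (congrArg Subtype.val e) y).symm
  have d02 : ψ ≠ ψ₂ := fun e => hmoved 1 fun y => (cast v0 v2 (congrArg Subtype.val e) y).symm
  have d12 : ψ₁ ≠ ψ₂ := fun e => hmoved 0 fun y => by
    obtain ⟨z, rfl⟩ := sur y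
    exact (cast v1 v2 (congrArg Subtype.val e) z).symm
  have hdeg : charDegree (χ : G → ℂ) = ∑ x : IrrCharacter Z, m x := by
    apply Nat.cast_injective (R := ℂ)
    rw [← Block.apply_one_eq_charDegree, Nat.cast_sum]
    have := hexp 1
    rw [hfdef] at this
    simp only [OneMemClass.coe_one] at this
    rw [this]
    exact Finset.sum_congr rfl fun x _ => by
      rw [Char.degree_eq_one_of_comm hcomm' x.2, mul_one]
  rw [hdeg]
  refine ⟨le_trans ?_ (Finset.sum_le_univ_sum_of_nonneg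
    (s := ({ψ, ψ₁, ψ₂} : Finset (IrrCharacter Z))) fun _ => Nat.zero_le _), fun g hg => ?_⟩
  · rw [Finset.sum_insert (by simp [d01, d02]), Finset.sum_pair d12, hm2, hm1]
    omega
  -- with an inversion
  have hfi : ∀ y : Z, f (ai y) = f y := fun y => by
    rw [hfdef]
    simp only [hai, InvMemClass.coe_inv]
    rw [← hg _ y.2]
    exact χ.2.isClassFunction (y : G) g
  have hnotinv : ∀ k : ℕ, ¬ ∀ y, φ ((au : Z → Z)^[2 ^ k] y) = (φ y)⁻¹ := by
    intro k hk
    refine hmoved (k + 1) fun y => ?_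
    rw [pow_succ, Nat.mul_two, Function.iterate_add_apply, hk, hk, inv_inv]
  have hnotsq : ¬ ∀ y, φ y = (φ y)⁻¹ := by
    intro h2
    refine hne1 (MonoidHom.ext fun y => ?_)
    obtain ⟨c, hc⟩ := hZo _ y.2
    have e : φ y ^ orderOf (y : G) = 1 := by
      rw [← map_pow, Subgroup.orderOf_coe, pow_orderOf_eq_one, map_one]
    rw [hc, pow_succ, pow_mul, pow_two, mul_eq_one_iff_eq_inv.2 (h2 y), one_pow, one_mul] at e
    exact e
  obtain ⟨ψ₀', h0', hm0'⟩ := hinvar ai hfi ψ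
  obtain ⟨ψ₁', h1', hm1'⟩ := hinvar ai hfi ψ₁
  obtain ⟨ψ₂', h2', hm2'⟩ := hinvar ai hfi ψ₂
  have w0 : ∀ y, (ψ₀' : Z → ℂ) y = ((φ y)⁻¹ : ℂˣ) := fun y => by rw [h0', v0, hai, map_inv]
  have w1 : ∀ y, (ψ₁' : Z → ℂ) y = ((φ (au y))⁻¹ : ℂˣ) := fun y => by
    rw [h1', v1, hai, map_inv, map_inv]
  have w2 : ∀ y, (ψ₂' : Z → ℂ) y = ((φ (au (au y)))⁻¹ : ℂˣ) := fun y => by
    rw [h2', v2, hai, map_inv, map_inv, map_inv]
  have e01 : ψ₀' ≠ ψ₁' := fun e => hmoved 0 fun y =>
    (inv_injective (cast w0 w1 (congrArg Subtype.val e) y)).symm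
  have e02 : ψ₀' ≠ ψ₂' := fun e => hmoved 1 fun y =>
    (inv_injective (cast w0 w2 (congrArg Subtype.val e) y)).symm
  have e12 : ψ₁' ≠ ψ₂' := fun e => hmoved 0 fun y => by
    obtain ⟨z, rfl⟩ := sur y
    exact (inv_injective (cast w1 w2 (congrArg Subtype.val e) z)).symm
  have c00 : ψ ≠ ψ₀' := fun e => hnotsq fun y => cast v0 w0 (congrArg Subtype.val e) y
  have c01 : ψ ≠ ψ₁' := fun e => hnotinv 0 fun y => by
    have := cast v0 w1 (congrArg Subtype.val e) y
    show φ (au y) = _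
    rw [this, inv_inv]
  have c02 : ψ ≠ ψ₂' := fun e => hnotinv 1 fun y => by
    have := cast v0 w2 (congrArg Subtype.val e) y
    show φ (au (au y)) = _
    rw [this, inv_inv]
  have c10 : ψ₁ ≠ ψ₀' := fun e => hnotinv 0 fun y => cast v1 w0 (congrArg Subtype.val e) y
  have c11 : ψ₁ ≠ ψ₁' := fun e => hnotsq fun y => by
    obtain ⟨z, rfl⟩ := sur y
    exact cast v1 w1 (congrArg Subtype.val e) z
  have c12 : ψ₁ ≠ ψ₂' := fun e => hnotinv 0 fun y => by
    obtain ⟨z, rfl⟩ := sur y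
    have := cast v1 w2 (congrArg Subtype.val e) z
    show φ (au (au z)) = _
    rw [this, inv_inv]
  have c20 : ψ₂ ≠ ψ₀' := fun e => hnotinv 1 fun y => cast v2 w0 (congrArg Subtype.val e) y
  have c21 : ψ₂ ≠ ψ₁' := fun e => hnotinv 0 fun y => by
    obtain ⟨z, rfl⟩ := sur y
    exact cast v2 w1 (congrArg Subtype.val e) z
  have c22 : ψ₂ ≠ ψ₂' := fun e => hnotsq fun y => by
    obtain ⟨z, rfl⟩ := sur y
    obtain ⟨z', rfl⟩ := sur z
    exact cast v2 w2 (congrArg Subtype.val e) z'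
  refine le_trans ?_ (Finset.sum_le_univ_sum_of_nonneg
    (s := ({ψ, ψ₁, ψ₂, ψ₀', ψ₁', ψ₂'} : Finset (IrrCharacter Z))) fun _ => Nat.zero_le _)
  rw [Finset.sum_insert (by simp [d01, d02, c00, c01, c02]),
    Finset.sum_insert (by simp [d12, c10, c11, c12]),
    Finset.sum_insert (by simp [c20, c21, c22]),
    Finset.sum_insert (by simp [e01, e02]), Finset.sum_pair e12]
  rw [hm0', hm1', hm2', hm2, hm1]
  omega

variable [Fact (Nat.Prime 2)] {P : Sylow 2 G} {σ τ : G} {h : ℕ} (D : DihSylow P σ τ h)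

include D

/-- The degree is at least twelve. -/
theorem degree_ge_twelve (χ : IrrCharacter G)
    (hker : ∀ g : G, (χ : G → ℂ) g = (χ : G → ℂ) 1 → g = 1) (Z : Subgroup G)
    (hcomm : ∀ a ∈ Z, ∀ b ∈ Z, Commute a b) (hZU : Z ≤ oddSub σ h)
    (hnorm : ∀ u ∈ oddSub σ h, ∀ z ∈ Z, u * z * u⁻¹ ∈ Z)
    (hσ2 : ∀ z ∈ Z, Commute (σ * σ) z)
    (hmove : ∃ u ∈ oddSub σ h, ∃ z ∈ Z, ¬ Commute u z)
    (hval : ∀ y ∈ Z, ∀ s ∈ Subgroup.zpowers σ, s ≠ 1 → Commute y s →
      (χ : G → ℂ) (y * s) = (χ : G → ℂ) s)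
    (hcase : (∀ z ∈ Z, Commute σ z) ∨ (∀ z ∈ Z, σ * τ * z * (σ * τ)⁻¹ = z⁻¹)) :
    12 ≤ charDegree (χ : G → ℂ) := by
  obtain ⟨u, hu, z, hz, huz⟩ := hmove
  have hh := D.two_le
  have hsq : orderOf (σ * σ) = h := by
    rw [← pow_two, orderOf_pow_of_dvd two_ne_zero (by rw [D.orderσ]; exact dvd_mul_right 2 h),
      D.orderσ]
    omega
  rcases hcase with hc | hc
  · have := (orbit_degree χ Z hcomm (fun y hy => odd_orderOf D (hZU hy)) σ
      (fun y hy => (hc y hy).symm) (fun y hy s hs hs1 => hval y hy s hs hs1 (by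
        obtain ⟨k, hk⟩ := Subgroup.mem_zpowers_iff.1 hs
        rw [← hk]; exact (hc y hy).symm.zpow_right k))
      hker (odd_orderOf D hu) (hnorm u hu) hz huz).1
    rw [D.orderσ] at this
    omega
  · have := (orbit_degree χ Z hcomm (fun y hy => odd_orderOf D (hZU hy)) (σ * σ)
      (fun y hy => (hσ2 y hy).symm) (fun y hy s hs hs1 => hval y hy s
        (Subgroup.zpowers_le.2 (mul_mem (Subgroup.mem_zpowers σ) (Subgroup.mem_zpowers σ)) hs) hs1
        (by
          obtain ⟨k, hk⟩ := Subgroup.mem_zpowers_iff.1 hs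
          rw [← hk]; exact (hσ2 y hy).symm.zpow_right k))
      hker (odd_orderOf D hu) (hnorm u hu) hz huz).2 _ hc
    rw [hsq] at this
    omega

/-- The characters of the companion are constant on the sections of the rotations. -/
theorem companion_section {M : Ideal AlgInt} (hM : IsPModular 2 M) {χ : IrrCharacter G}
    (hχ : χ ∈ principalBlock M G) {y : G} (hyo : Odd (orderOf y)) {s : G}
    (hs : s ∈ Subgroup.zpowers σ) (hs1 : s ≠ 1) (hys : Commute y s) :
    (χ : G → ℂ) (y * s) = (χ : G → ℂ) s := by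
  rw [hys.eq]
  exact principal_value_of_complement hM (D.exists_order (D.zpowers_le hs))
    (D.complement (D.zpowers_le hs) hs1) hχ hys.symm (fun hd => by obtain ⟨c, hc⟩ := hyo; omega)

omit D in
/-- A nontrivial irreducible character of a simple group is faithful. -/
theorem eq_one_of_value [IsSimpleGroup G] (χ : IrrCharacter G) (hχ : χ ≠ trivChar G) (g : G)
    (hg : (χ : G → ℂ) g = (χ : G → ℂ) 1) : g = 1 := by
  classical
  haveI := Char.charKer_normal χ.2.isCharacter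
  rcases IsSimpleGroup.eq_bot_or_eq_top_of_normal (Char.charKer χ.2.isCharacter) inferInstance
    with e | e
  · exact Subgroup.mem_bot.1 (e ▸ hg)
  · refine absurd (classInner_irr_ne χ.2 (isIrrCharacter_one (G := G)) fun e' =>
      hχ (Subtype.ext (e'.trans trivChar_coe.symm))) ?_
    rw [Char.classInner_one_right, Finset.sum_congr rfl fun x _ =>
      ((e ▸ Subgroup.mem_top x : x ∈ Char.charKer χ.2.isCharacter) : (χ : G → ℂ) x = _),
      Finset.sum_const, Finset.card_univ, nsmul_eq_mul, ← Nat.card_eq_fintype_card,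
      inv_mul_cancel_left₀ (Nat.cast_ne_zero.2 Nat.card_pos.ne')]
    exact χ.2.apply_one_ne_zero

/-- All three degrees of the companion are at least twelve. -/
theorem companion_degrees [IsSimpleGroup G] {M : Ideal AlgInt} (hM : IsPModular 2 M)
    (co : Companion M P σ τ h) (Z : Subgroup G)
    (hcomm : ∀ a ∈ Z, ∀ b ∈ Z, Commute a b) (hZU : Z ≤ oddSub σ h)
    (hnorm : ∀ u ∈ oddSub σ h, ∀ z ∈ Z, u * z * u⁻¹ ∈ Z)
    (hσ2 : ∀ z ∈ Z, Commute (σ * σ) z)
    (hmove : ∃ u ∈ oddSub σ h, ∃ z ∈ Z, ¬ Commute u z)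
    (hcase : (∀ z ∈ Z, Commute σ z) ∨ (∀ z ∈ Z, σ * τ * z * (σ * τ)⁻¹ = z⁻¹)) :
    12 ≤ |co.X| ∧ 12 ≤ |co.a| ∧ 12 ≤ |co.b| := by
  obtain ⟨n1, n2, n3⟩ := co.ne_triv
  have key : ∀ χ : IrrCharacter G, χ ≠ trivChar G → χ ∈ principalBlock M G →
      12 ≤ charDegree (χ : G → ℂ) := fun χ hχ hb =>
    degree_ge_twelve D χ (eq_one_of_value χ hχ) Z hcomm hZU hnorm hσ2 hmove
      (fun y hy s hs hs1 hys => companion_section D hM hb (odd_orderOf D (hZU hy)) hs hs1 hys) hcase
  refine ⟨?_, ?_, ?_⟩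
  · have := key _ n1 co.mem_block
    rw [co.degX]
    rcases co.hδ₁ with r | r <;> rw [r] <;> simp <;> exact_mod_cast this
  · have := key _ n2 co.mem_block₂₃.1
    rw [co.dega]
    rcases co.hδ₂ with r | r <;> rw [r] <;> simp <;> exact_mod_cast this
  · have := key _ n3 co.mem_block₂₃.2
    rw [co.degb]
    rcases co.hδ₃ with r | r <;> rw [r] <;> simp <;> exact_mod_cast this

end Cfsg.Lib.GW.CMax
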