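import Cfsg.Agent.Lib.GW.CMax.Fix
import Cfsg.Agent.Lib.GW.CMax.Count
import Cfsg.Agent.Lib.GW.Companion
import Cfsg.Agent.Lib.GW.ArithTwo
import Cfsg.Agent.Lib.GW.OrderFormula
import Cfsg.Agent.Lib.GW.Min
import Cfsg.Agent.Lib.GW.CaseOneBase
import Cfsg.Agent.Lib.Block.RegInt

/-!
# A maximal centralizer of an involution with the dichotomy on the Fitting subgroup

If every noncentral involution of `S` centralises or inverts each `O_p(U)` and some four group has a
nontrivial odd centralizer, the centralizer of an involution is not maximal: an `O_p(U)` centralised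
by a reflection forces `|S| = 8`, is the only kind, makes the ratio of the fixed points an odd integer
and so bounds a companion degree by `15`, against the bound `24` from the sections.  If none exists,
the Fitting subgroup is inverted by both reflections, which is Case A.
-/

set_option autoImplicit false
set_option linter.unusedSectionVars false
set_option linter.style.haveILetI false
set_option maxHeartbeats 1000000

namespace Cfsg.Lib.GW.CMax

open Cfsg Cfsg.Lib.Block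
open Cfsg.Lib.Block.DihSylow (oddPart mem_oddPart oddFix mem_oddFix)

universe u

variable {G : Type u} [Group G] [Fintype G] [Fact (Nat.Prime 2)] {P : Sylow 2 G} {σ τ : G} {h : ℕ}

/-- The second class of reflections. -/
theorem swap_gens (D : DihSylow P σ τ h) : DihSylow P σ (σ * τ) h := by
  have hστ : σ * τ ∈ (P : Subgroup G) ∧ σ * τ ∉ Subgroup.zpowers σ :=
    D.reflection_iff.2 ⟨1, by have := D.two_le; omega, by rw [pow_one]⟩
  refine ⟨D.even, D.two_le, D.memσ, hστ.1, D.orderσ, D.sq_outside hστ.1 hστ.2, ?_, ?_, D.card⟩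
  · rw [show σ * τ * σ * (σ * τ)⁻¹ = σ * (τ * σ * τ⁻¹) * σ⁻¹ by group, D.rel]
    group
  · intro x hx
    rcases D.cover x hx with hm | hm
    · exact Or.inl hm
    · refine Or.inr ?_
      have hτσ : σ * τ = τ * σ⁻¹ := by
        have e := D.rel
        rw [D.τ_inv] at e
        calc σ * τ = τ * (τ * σ * τ) := by
              rw [← mul_assoc, ← mul_assoc, D.sqτ, one_mul]
          _ = τ * σ⁻¹ := by rw [e]
      rw [hτσ, ← mul_assoc]
      exact mul_mem hm (inv_mem (Subgroup.mem_zpowers σ))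

variable (D : DihSylow P σ τ h)

include D

theorem tau_mem : τ ∈ (P : Subgroup G) ∧ τ ∉ Subgroup.zpowers σ :=
  D.reflection_iff.2 ⟨0, by have := D.two_le; omega, by simp⟩

theorem sigma_not_commute : ¬ Commute σ τ := by
  intro hc
  have e := D.rel
  rw [hc.symm.eq, mul_inv_cancel_right] at e
  have := Nat.le_of_dvd two_pos
    (orderOf_dvd_of_pow_eq_one (x := σ) (n := 2) (by rw [pow_two]; exact mul_eq_one_iff_eq_inv.2 e))
  have := D.orderσ
  have := D.two_le
  omega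

theorem exists_ne_one_of_ne_bot {T : Subgroup G} (hT : T ≠ ⊥) : ∃ a ∈ T, a ≠ 1 :=
  (Subgroup.bot_or_exists_ne_one T).resolve_left hT

omit D in
theorem pow_of_product {X : Subgroup G} (f a : G) (hf : f ∈ X)
    (hn : ∀ x ∈ X, a * x * a⁻¹ ∈ X) : ∀ n : ℕ, ∃ e ∈ X, (a * f) ^ n = e * a ^ n := by
  intro n
  induction n with
  | zero => exact ⟨1, one_mem _, by simp⟩
  | succ n ih =>
    obtain ⟨e, he, hpow⟩ := ih
    refine ⟨(a * f * a⁻¹) * (a * e * a⁻¹), mul_mem (hn f hf) (hn e he), ?_⟩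
    rw [pow_succ', hpow, pow_succ']
    group

/-- What a centralised `O_p` gives about `σ` and the fixed points. -/
theorem fixed_step [IsSimpleGroup G] (hmax : IsCoatom (Subgroup.centralizer ({σ ^ h} : Set G)))
    (hconjJ : ∀ a : G, a * a = 1 → a ≠ 1 → IsConj (σ ^ h) a)
    (hτpm : ActsPM σ h τ) (hστpm : ActsPM σ h (σ * τ)) {p : ℕ} (hp : p.Prime)
    (hR : coreP σ h p ≠ ⊥) (hfix : ∀ a ∈ coreP σ h p, Commute τ a) :
    h = 2 ∧ (∀ a ∈ coreP σ h p, σ * a * σ⁻¹ = a⁻¹) ∧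
      (∀ a ∈ coreP σ h p, σ * τ * a * (σ * τ)⁻¹ = a⁻¹) ∧
      (∀ f ∈ fitSub σ h, ∀ a ∈ coreP σ h p, Commute f a) := by
  obtain ⟨hJ2, hJ1, hJc⟩ := D.central_involution
  obtain ⟨hτP, hτσ⟩ := tau_mem D
  have hτ2 := D.sqτ
  obtain ⟨d, hdx, hdJ, hdW, hdW'⟩ := exists_moving D hconjJ hτP hτσ
  have hτJ : Commute τ (σ ^ h) := hJc τ hτP
  have hRC : ∀ c, Commute c (σ ^ h) → ∀ a ∈ coreP σ h p, c * a * c⁻¹ ∈ coreP σ h p :=
    fun c hc a ha => conj_coreP D hc ha
  obtain ⟨a₀, ha₀, ha₀1⟩ := exists_ne_one_of_ne_bot D hR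
  -- the second reflection and the rotation on `R`
  have hσR : (∀ a ∈ coreP σ h p, Commute σ a) ∨ (∀ a ∈ coreP σ h p, σ * a * σ⁻¹ = a⁻¹) := by
    rcases hστpm p hp with hb | hb
    · left
      intro a ha
      have := (hb a ha).mul_left (hfix a ha)
      rwa [mul_assoc, hτ2, mul_one] at this
    · right
      intro a ha
      have e := hb a ha
      rw [show σ * τ * a * (σ * τ)⁻¹ = σ * (τ * a * τ⁻¹) * σ⁻¹ by group, (hfix a ha).eq,
        mul_inv_cancel_right] at e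
      exact e
  have hσ2R : ∀ a ∈ coreP σ h p, Commute (σ * σ) a := by
    intro a ha
    rcases hσR with hb | hb
    · exact (hb a ha).mul_left (hb a ha)
    · refine mul_inv_eq_iff_eq_mul.1 ?_
      rw [show σ * σ * a * (σ * σ)⁻¹ = σ * (σ * a * σ⁻¹) * σ⁻¹ by group, hb a ha,
        hb _ (inv_mem ha), inv_inv]
  have hσU : ∀ y ∈ oddSub σ h, Commute (σ * σ) y := by
    refine commute_oddSub D (mul_mem D.memσ D.memσ) (commute_fitSub D fun q hq a ha => ?_)
    have key : ∀ z : G, ((∀ b ∈ coreP σ h q, Commute z b) ∨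
        (∀ b ∈ coreP σ h q, z * b * z⁻¹ = b⁻¹)) →
        (∀ b ∈ coreP σ h q, z * b * z⁻¹ = b) ∨ (∀ b ∈ coreP σ h q, z * b * z⁻¹ = b⁻¹) := by
      rintro z (hb | hb)
      · exact Or.inl fun b hb' => by rw [(hb b hb').eq, mul_inv_cancel_right]
      · exact Or.inr hb
    have hs : (∀ b ∈ coreP σ h q, σ * b * σ⁻¹ = b) ∨ (∀ b ∈ coreP σ h q, σ * b * σ⁻¹ = b⁻¹) := by
      have e : ∀ b, σ * b * σ⁻¹ = σ * τ * (τ * b * τ⁻¹) * (σ * τ)⁻¹ := fun b => by
        rw [show σ * τ * (τ * b * τ⁻¹) * (σ * τ)⁻¹ = σ * (τ * τ) * b * (τ * τ)⁻¹ * σ⁻¹ by group,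
          hτ2, mul_one, inv_one, mul_one]
      rcases key τ (hτpm q hq) with h1 | h1 <;> rcases key _ (hστpm q hq) with h2 | h2
      · exact Or.inl fun b hb => by rw [e, h1 b hb, h2 b hb]
      · exact Or.inr fun b hb => by rw [e, h1 b hb, h2 b hb]
      · exact Or.inr fun b hb => by rw [e, h1 b hb, h2 _ (inv_mem hb)]
      · exact Or.inl fun b hb => by rw [e, h1 b hb, h2 _ (inv_mem hb), inv_inv]
    refine mul_inv_eq_iff_eq_mul.1 ?_
    rw [show σ * σ * a * (σ * σ)⁻¹ = σ * (σ * a * σ⁻¹) * σ⁻¹ by group]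
    rcases hs with hb | hb
    · rw [hb a ha, hb a ha]
    · rw [hb a ha, hb _ (inv_mem ha), inv_inv]
  have hh : h = 2 := by
    obtain ⟨m, hm⟩ := D.even
    by_contra hne
    -- `σ ^ m` centralises `U`
    have hm' : Even m := by
      obtain ⟨k, hk⟩ := P.2.exists_card_eq
      rw [D.card] at hk
      rcases k with _ | _ | _ | _ | k
      · omega
      · omega
      · omega
      · omega
      · refine ⟨2 ^ k, ?_⟩
        have : 2 ^ (k + 4) = 16 * 2 ^ k := by rw [pow_add]; ring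
        omega
    obtain ⟨l, hl⟩ := hm'
    have hρU : ∀ y ∈ oddSub σ h, Commute (σ ^ m) y := fun y hy => by
      rw [hl, ← two_mul, pow_mul, pow_two]
      exact (hσU y hy).pow_left l
    obtain ⟨e, he⟩ : ∃ e, e = d * σ ^ m * d⁻¹ := ⟨_, rfl⟩
    have heR : ∀ a ∈ coreP σ h p, e * a * e⁻¹ ∈ coreP σ h p := by
      intro a ha
      have hb := hdW' a (coreP_le ha) (hfix a ha).symm
      have : e * a * e⁻¹ = a := by
        rw [he, show d * σ ^ m * d⁻¹ * a * (d * σ ^ m * d⁻¹)⁻¹ =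
          d * (σ ^ m * (d⁻¹ * a * d) * (σ ^ m)⁻¹) * d⁻¹ by group, (hρU _ hb.1).eq,
          mul_inv_cancel_right]
        group
      rw [this]
      exact ha
    have hc := commute_of_normalizes D hmax _ coreP_le hR hRC heR
    -- but `e` moves `J`
    have e1 : σ ^ m * (τ * σ ^ h) * (σ ^ m)⁻¹ = τ := by
      have hτσh : τ * σ ^ h = σ ^ h * τ := hτJ.eq
      have e0 : σ ^ (h + 2 * m) = (1 : G) := by
        rw [show h + 2 * m = orderOf σ by rw [D.orderσ]; omega, pow_orderOf_eq_one]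
      rw [hτσh, D.conj_pow_reflection h m, e0, one_mul]
    have e2 : d * (τ * σ ^ h) * d⁻¹ = σ ^ h := by
      rw [show d * (τ * σ ^ h) * d⁻¹ = d * τ * d⁻¹ * (d * σ ^ h * d⁻¹) by group, hdx, hdJ,
        ← mul_assoc, hτ2, one_mul]
    have e3 : e * σ ^ h * e⁻¹ = τ := by
      rw [he]
      calc d * σ ^ m * d⁻¹ * σ ^ h * (d * σ ^ m * d⁻¹)⁻¹
          = d * σ ^ m * d⁻¹ * (d * (τ * σ ^ h) * d⁻¹) * (d * σ ^ m * d⁻¹)⁻¹ := by rw [e2]
        _ = d * (σ ^ m * (τ * σ ^ h) * (σ ^ m)⁻¹) * d⁻¹ := by group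
        _ = τ := by rw [e1, hdx]
    rw [hc.eq, mul_inv_cancel_right] at e3
    exact hτσ (e3 ▸ D.mem_pow h)
  subst hh
  rcases hσR with hb | hb
  · exfalso
    -- `σ` would normalise `R' = d R d⁻¹`
    have hfix' : ∀ a ∈ coreP σ 2 p, Commute σ (d * a * d⁻¹) := by
      intro a ha
      obtain ⟨hrU, hrτ⟩ := hdW a (coreP_le ha) (hfix a ha).symm
      obtain ⟨r, hr⟩ : ∃ r, r = d * a * d⁻¹ := ⟨_, rfl⟩
      rw [← hr] at hrU hrτ ⊢
      have hσJ : Commute σ (σ ^ 2) := (Commute.refl σ).pow_right 2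
      obtain ⟨f, hf⟩ : ∃ f, f = σ * r * σ⁻¹ * r⁻¹ := ⟨_, rfl⟩
      have hfF : f ∈ fitSub σ 2 := by
        have h2 := diff_mem (swap_gens D) (swap_gens D).memτ (swap_gens D).sqτ hστpm hrU
        have e : f = (r * (σ * τ) * r⁻¹ * (σ * τ)⁻¹)⁻¹ := by
          rw [hf, show (r * (σ * τ) * r⁻¹ * (σ * τ)⁻¹)⁻¹ = σ * (τ * r * τ⁻¹) * σ⁻¹ * r⁻¹ by group,
            hrτ.symm.eq, mul_inv_cancel_right]
        rw [e]
        exact inv_mem h2
      -- `f` is a `p`-element
      obtain ⟨Rc, hRc⟩ : ∃ Rc, Rc = (coreP σ 2 p).map (MulAut.conj d).toMonoidHom := ⟨_, rfl⟩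
      obtain ⟨Rs, hRs⟩ : ∃ Rs, Rs = Rc.map (MulAut.conj σ).toMonoidHom := ⟨_, rfl⟩
      have hnR : ∀ w ∈ oddSub σ 2, Commute w τ → ∀ z ∈ Rc, w * z * w⁻¹ ∈ Rc := by
        intro w hw hwτ z hz
        rw [hRc] at hz ⊢
        obtain ⟨b, hb, rfl⟩ := hz
        refine ⟨d⁻¹ * w * d * b * (d⁻¹ * w * d)⁻¹, hRC _ (commute_J D (hdW' w hw hwτ).1) b hb, ?_⟩
        simp only [MulEquiv.coe_toMonoidHom, MulAut.conj_apply]
        group
      have hστJ : σ * τ * σ⁻¹ = σ ^ 2 * τ := by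
        have := D.conj_pow_reflection 0 1
        simpa using this
      have hnS : Rc ≤ Subgroup.normalizer (Rs : Set G) := by
        intro w hw
        refine Subgroup.mem_normalizer_fintype fun z hz => ?_
        rw [SetLike.mem_coe] at hz ⊢
        have hw' : w ∈ oddSub σ 2 ∧ Commute w τ := by
          rw [hRc] at hw
          obtain ⟨b, hb, rfl⟩ := hw
          exact hdW b (coreP_le hb) (hfix b hb).symm
        rw [hRs] at hz ⊢
        obtain ⟨z, hz, rfl⟩ := hz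
        refine ⟨σ⁻¹ * w * σ * z * (σ⁻¹ * w * σ)⁻¹, hnR _ ?_ ?_ z hz, ?_⟩
        · have := conj_oddSub D hσJ.inv_left hw'.1
          rwa [inv_inv] at this
        · have h3 : Commute w (σ * τ * σ⁻¹) := hστJ ▸ (commute_J D hw'.1).mul_right hw'.2
          have := h3.map (MulAut.conj σ⁻¹).toMonoidHom
          simp only [MulEquiv.coe_toMonoidHom, MulAut.conj_apply, inv_inv] at this
          rwa [show σ⁻¹ * (σ * τ * σ⁻¹) * σ = τ by group] at this
        · simp only [MulEquiv.coe_toMonoidHom, MulAut.conj_apply]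
          group
      have hpS : IsPGroup p ↥(Rc ⊔ Rs) := by
        have h1 : IsPGroup p Rc := hRc ▸ (isPGroup_coreP).map _
        exact h1.to_sup_of_normal_right' (hRs ▸ h1.map _) hnS
      have hfS : f ∈ Rc ⊔ Rs := by
        have hrm : r ∈ Rc := hRc ▸ ⟨a, ha, hr.symm⟩
        rw [hf]
        exact mul_mem (le_sup_right (a := Rc) (hRs ▸ ⟨r, hrm, rfl⟩))
          (inv_mem (le_sup_left (b := Rs) hrm))
      obtain ⟨i, hi⟩ := hpS ⟨f, hfS⟩
      have hfR : f ∈ coreP σ 2 p := mem_coreP_of_mem_fitSub D hp hfF (k := i) (congrArg Subtype.val hi)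
      have hσf : Commute σ f := hb f hfR
      have hrJ : Commute r (σ ^ 2) := commute_J D hrU
      have e1 : σ * r * σ⁻¹ = f * r := by rw [hf]; group
      have e2 : σ * σ * r * (σ * σ)⁻¹ = f * f * r := by
        calc σ * σ * r * (σ * σ)⁻¹ = σ * (σ * r * σ⁻¹) * σ⁻¹ := by group
          _ = σ * (f * r) * σ⁻¹ := by rw [e1]
          _ = σ * f * σ⁻¹ * (σ * r * σ⁻¹) := by group
          _ = f * f * r := by rw [hσf.eq, mul_inv_cancel_right, e1, mul_assoc]
      rw [← pow_two, hrJ.symm.eq, mul_inv_cancel_right] at e2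
      have hf1 : f = 1 := eq_one_of_two_pow D (fitSub_le hfF) (k := 1)
        (by rw [pow_one, pow_two]; exact mul_eq_right.1 e2.symm)
      rw [hf1, one_mul] at e1
      exact mul_inv_eq_iff_eq_mul.1 e1
    have hn : ∀ a ∈ coreP σ 2 p, (d⁻¹ * σ * d) * a * (d⁻¹ * σ * d)⁻¹ ∈ coreP σ 2 p := by
      intro a ha
      have : (d⁻¹ * σ * d) * a * (d⁻¹ * σ * d)⁻¹ = a := by
        rw [show (d⁻¹ * σ * d) * a * (d⁻¹ * σ * d)⁻¹ = d⁻¹ * (σ * (d * a * d⁻¹) * σ⁻¹) * d by
          group, (hfix' a ha).eq, mul_inv_cancel_right]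
        group
      rw [this]
      exact ha
    have hc := commute_of_normalizes D hmax _ coreP_le hR hRC hn
    have e := hc.map (MulAut.conj d).toMonoidHom
    simp only [MulEquiv.coe_toMonoidHom, MulAut.conj_apply] at e
    rw [hdJ, show d * (d⁻¹ * σ * d) * d⁻¹ = σ by group] at e
    refine sigma_not_commute D ?_
    have h4 := e.mul_right ((Commute.refl σ).pow_right 2)
    rwa [mul_assoc, hJ2, mul_one] at h4
  · refine ⟨rfl, hb, fun a ha => ?_, fun f hf a ha => ?_⟩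
    · rw [show σ * τ * a * (σ * τ)⁻¹ = σ * (τ * a * τ⁻¹) * σ⁻¹ by group, (hfix a ha).eq,
        mul_inv_cancel_right, hb a ha]
    · exact (commute_fitSub_of_inverted D hp hb ha f hf).symm

/-- The moved `O_p` meets the Fitting subgroup trivially. -/
theorem moved_inf [IsSimpleGroup G] (hmax : IsCoatom (Subgroup.centralizer ({σ ^ h} : Set G)))
    (hτpm : ActsPM σ h τ) {p : ℕ} (hp : p.Prime) (hfix : ∀ a ∈ coreP σ h p, Commute τ a)
    (hσR : ∀ a ∈ coreP σ h p, σ * a * σ⁻¹ = a⁻¹)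
    (hFR : ∀ f ∈ fitSub σ h, ∀ a ∈ coreP σ h p, Commute f a) {d : G}
    (hdx : d * τ * d⁻¹ = τ) (hdJ : d * σ ^ h * d⁻¹ = τ * σ ^ h)
    (hdW : ∀ y ∈ oddSub σ h, Commute y τ →
      d * y * d⁻¹ ∈ oddSub σ h ∧ Commute (d * y * d⁻¹) τ)
    (hdW' : ∀ y ∈ oddSub σ h, Commute y τ →
      d⁻¹ * y * d ∈ oddSub σ h ∧ Commute (d⁻¹ * y * d) τ)
    {a : G} (ha : a ∈ coreP σ h p) (haF : d * a * d⁻¹ ∈ fitSub σ h) : a = 1 := by
  classical
  obtain ⟨hJ2, hJ1, hJc⟩ := D.central_involution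
  obtain ⟨hτP, hτσ⟩ := tau_mem D
  by_contra ha1
  have hRC : ∀ c, Commute c (σ ^ h) → ∀ b ∈ coreP σ h p, c * b * c⁻¹ ∈ coreP σ h p :=
    fun c hc b hb => conj_coreP D hc hb
  -- subgroups of `R` invariant under the fixed points are normal in `C`
  have hnorm : ∀ T : Subgroup G, T ≤ coreP σ h p →
      (∀ w ∈ oddSub σ h, Commute w τ → ∀ b ∈ T, w * b * w⁻¹ ∈ T) →
      ∀ c, Commute c (σ ^ h) → ∀ b ∈ T, c * b * c⁻¹ ∈ T := by
    intro T hT hW c hc b hb
    obtain ⟨x, hx, hu⟩ := D.oddPart_spec.2.2.2.2.1 c hc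
    have hxb : x * b * x⁻¹ ∈ T := by
      rcases D.cover x hx with hm | hm
      · obtain ⟨k, rfl⟩ := Subgroup.mem_zpowers_iff.1 hm
        have hN : σ ∈ Subgroup.normalizer (T : Set G) :=
          Subgroup.mem_normalizer_fintype fun z hz => by
            rw [hσR z (hT hz)]; exact inv_mem hz
        exact (Subgroup.mem_normalizer_iff.1 (zpow_mem hN k) b).1 hb
      · obtain ⟨k, hk⟩ := Subgroup.mem_zpowers_iff.1 hm
        have hN : σ ∈ Subgroup.normalizer (T : Set G) :=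
          Subgroup.mem_normalizer_fintype fun z hz => by
            rw [hσR z (hT hz)]; exact inv_mem hz
        have hNτ : τ ∈ Subgroup.normalizer (T : Set G) :=
          Subgroup.mem_normalizer_fintype fun z hz => by
            rw [(hfix z (hT hz)).eq, mul_inv_cancel_right]; exact hz
        have hxN : x ∈ Subgroup.normalizer (T : Set G) := by
          rw [show x = σ ^ k * τ by rw [hk, mul_assoc, D.sqτ, mul_one]]
          exact mul_mem (zpow_mem hN k) hNτ
        exact (Subgroup.mem_normalizer_iff.1 hxN b).1 hb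
    obtain ⟨f, hf, w, hw, hwτ, hfw⟩ :=
      exists_decomp D hτP D.sqτ hτpm ((mem_oddSub D).2 hu)
    have e : c * b * c⁻¹ = f * (w * (x * b * x⁻¹) * w⁻¹) * f⁻¹ := by
      rw [show c = f * w * x by rw [← hfw]; group]
      group
    have h1 := hW w hw hwτ _ hxb
    rw [e, (hFR f hf _ (hT h1)).eq, mul_inv_cancel_right]
    exact h1
  obtain ⟨T, hTdef⟩ : ∃ T, T = coreP σ h p ⊓ (coreP σ h p).map (MulAut.conj d).toMonoidHom :=
    ⟨_, rfl⟩
  have hmemT : ∀ z, z ∈ T ↔ z ∈ coreP σ h p ∧ d⁻¹ * z * d ∈ coreP σ h p := by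
    intro z
    rw [hTdef, Subgroup.mem_inf, Subgroup.mem_map]
    refine and_congr_right fun _ => ⟨?_, fun hz => ⟨_, hz, ?_⟩⟩
    · rintro ⟨b, hb, rfl⟩
      simp only [MulEquiv.coe_toMonoidHom, MulAut.conj_apply]
      convert hb using 1
      group
    · simp only [MulEquiv.coe_toMonoidHom, MulAut.conj_apply]
      group
  have haT : d * a * d⁻¹ ∈ T := by
    refine (hmemT _).2 ⟨?_, by convert ha using 1; group⟩
    obtain ⟨i, hi⟩ := isPGroup_coreP (p := p) ⟨a, ha⟩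
    refine mem_coreP_of_mem_fitSub D hp haF (k := i) ?_
    have : a ^ p ^ i = 1 := congrArg Subtype.val hi
    rw [conj_pow, this, mul_one, mul_inv_cancel]
  have hTW : ∀ w ∈ oddSub σ h, Commute w τ → ∀ b ∈ T, w * b * w⁻¹ ∈ T := by
    intro w hw hwτ b hb
    obtain ⟨hb1, hb2⟩ := (hmemT b).1 hb
    refine (hmemT _).2 ⟨hRC w (commute_J D hw) b hb1, ?_⟩
    rw [show d⁻¹ * (w * b * w⁻¹) * d = (d⁻¹ * w * d) * (d⁻¹ * b * d) * (d⁻¹ * w * d)⁻¹ by group]
    exact hRC _ (commute_J D (hdW' w hw hwτ).1) _ hb2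
  have hTC := hnorm T (fun z hz => ((hmemT z).1 hz).1) hTW
  obtain ⟨T', hT'def⟩ : ∃ T', T' = T.map (MulAut.conj d⁻¹).toMonoidHom := ⟨_, rfl⟩
  have hmemT' : ∀ z, z ∈ T' ↔ d * z * d⁻¹ ∈ T := by
    intro z
    rw [hT'def, Subgroup.mem_map]
    constructor
    · rintro ⟨b, hb, rfl⟩
      simp only [MulEquiv.coe_toMonoidHom, MulAut.conj_apply]
      convert hb using 1
      group
    · intro hz
      refine ⟨_, hz, ?_⟩
      simp only [MulEquiv.coe_toMonoidHom, MulAut.conj_apply]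
      group
  have hT'R : T' ≤ coreP σ h p := fun z hz => by
    have := ((hmemT _).1 ((hmemT' z).1 hz)).2
    convert this using 1
    group
  have hT'C := hnorm T' hT'R fun w hw hwτ b hb => by
    rw [hmemT'] at hb ⊢
    rw [show d * (w * b * w⁻¹) * d⁻¹ = (d * w * d⁻¹) * (d * b * d⁻¹) * (d * w * d⁻¹)⁻¹ by group]
    exact hTW _ (hdW w hw hwτ).1 (hdW w hw hwτ).2 _ hb
  have hT1 : T ≠ ⊥ := fun e => ha1 (by
    rw [e, Subgroup.mem_bot] at haT
    exact conj_eq_one_iff.1 haT)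
  have hTR : T ≤ oddSub σ h := fun z hz => coreP_le ((hmemT z).1 hz).1
  -- `d` normalises the centralizer
  have hσJ : Commute σ (σ ^ h) := (Commute.refl σ).pow_right h
  have hkey : Commute (d * σ * d⁻¹) (σ ^ h) := by
    refine commute_of_normalizes D hmax T hTR hT1 hTC fun z hz => ?_
    have hz' : d⁻¹ * z * d ∈ T' := (hmemT' _).2 (by convert hz using 1; group)
    have := (hmemT' _).1 (hT'C σ hσJ _ hz')
    convert this using 1
    group
  have e := hkey.map (MulAut.conj d⁻¹).toMonoidHom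
  simp only [MulEquiv.coe_toMonoidHom, MulAut.conj_apply, inv_inv] at e
  rw [show d⁻¹ * (d * σ * d⁻¹) * d = σ by group] at e
  have hdτ : d⁻¹ * σ ^ h * d = τ * σ ^ h := by
    have e1 : d * (τ * σ ^ h) * d⁻¹ = σ ^ h := by
      rw [show d * (τ * σ ^ h) * d⁻¹ = d * τ * d⁻¹ * (d * σ ^ h * d⁻¹) by group, hdx, hdJ,
        ← mul_assoc, D.sqτ, one_mul]
    calc d⁻¹ * σ ^ h * d = d⁻¹ * (d * (τ * σ ^ h) * d⁻¹) * d := by rw [e1]
      _ = τ * σ ^ h := by group
  rw [hdτ] at e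
  refine sigma_not_commute D ?_
  have h4 := e.mul_right hσJ
  rwa [mul_assoc, hJ2, mul_one] at h4

/-- Both classes of reflections cannot centralise an `O_p`. -/
theorem no_both [IsSimpleGroup G] (hmax : IsCoatom (Subgroup.centralizer ({σ ^ h} : Set G)))
    (hconjJ : ∀ a : G, a * a = 1 → a ≠ 1 → IsConj (σ ^ h) a)
    (hτpm : ActsPM σ h τ) (hστpm : ActsPM σ h (σ * τ)) {p q : ℕ} (hp : p.Prime) (hq : q.Prime)
    (hR : coreP σ h p ≠ ⊥) (hfix : ∀ a ∈ coreP σ h p, Commute τ a)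
    (hQ : coreP σ h q ≠ ⊥) (hfixQ : ∀ a ∈ coreP σ h q, Commute (σ * τ) a) : False := by
  classical
  obtain ⟨-, hσR, hinvR, hFR⟩ := fixed_step D hmax hconjJ hτpm hστpm hp hR hfix
  obtain ⟨hJ2, hJ1, hJc⟩ := D.central_involution
  obtain ⟨hτP, hτσ⟩ := tau_mem D
  obtain ⟨hsP, hsσ⟩ := tau_mem (swap_gens D)
  obtain ⟨d, hdx, hdJ, hdW, hdW'⟩ := exists_moving D hconjJ hτP hτσ
  obtain ⟨d', hdx', hdJ', hdV, hdV'⟩ := exists_moving (swap_gens D) hconjJ hsP hsσ
  have hσJ : Commute σ (σ ^ h) := (Commute.refl σ).pow_right h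
  have hpq : p ≠ q := by
    rintro rfl
    obtain ⟨a, ha, ha1⟩ := exists_ne_one_of_ne_bot D hR
    exact ha1 (eq_one_of_inverted D (coreP_le ha) (hfixQ a ha) (hinvR a ha))
  -- an element of `R` commuting with `Q' = d' Q d'⁻¹` is trivial
  have hCR : ∀ a ∈ coreP σ h p, (∀ b ∈ coreP σ h q, Commute a (d' * b * d'⁻¹)) → a = 1 := by
    intro a ha hcm
    refine eq_one_of_inverted D (coreP_le ha) ?_ (hinvR a ha)
    have hn : Commute (d'⁻¹ * a * d') (σ ^ h) := by
      refine commute_of_normalizes D hmax _ coreP_le hQ (fun c hc b hb => conj_coreP D hc hb)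
        fun b hb => ?_
      rw [show d'⁻¹ * a * d' * b * (d'⁻¹ * a * d')⁻¹ = d'⁻¹ * (a * (d' * b * d'⁻¹) * a⁻¹) * d' by
        group, (hcm b hb).eq, mul_inv_cancel_right,
        show d'⁻¹ * (d' * b * d'⁻¹) * d' = b by group]
      exact hb
    have e := hn.map (MulAut.conj d').toMonoidHom
    simp only [MulEquiv.coe_toMonoidHom, MulAut.conj_apply] at e
    rw [hdJ', show d' * (d'⁻¹ * a * d') * d'⁻¹ = a by group] at e
    have h4 := e.mul_right (commute_J D (coreP_le ha))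
    rw [mul_assoc, hJ2, mul_one] at h4
    exact h4.symm
  -- a nontrivial element `σ r σ⁻¹ r⁻¹` of `R`
  obtain ⟨a, ha, hamove⟩ : ∃ a ∈ coreP σ h p, ¬ Commute σ (d * a * d⁻¹) := by
    by_contra hno
    simp only [not_exists, not_and, not_not] at hno
    have hn : Commute (d⁻¹ * σ * d) (σ ^ h) := by
      refine commute_of_normalizes D hmax _ coreP_le hR (fun c hc b hb => conj_coreP D hc hb)
        fun b hb => ?_
      rw [show d⁻¹ * σ * d * b * (d⁻¹ * σ * d)⁻¹ = d⁻¹ * (σ * (d * b * d⁻¹) * σ⁻¹) * d by group,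
        (hno b hb).eq, mul_inv_cancel_right, show d⁻¹ * (d * b * d⁻¹) * d = b by group]
      exact hb
    have e := hn.map (MulAut.conj d).toMonoidHom
    simp only [MulEquiv.coe_toMonoidHom, MulAut.conj_apply] at e
    rw [hdJ, show d * (d⁻¹ * σ * d) * d⁻¹ = σ by group] at e
    refine sigma_not_commute D ?_
    have h4 := e.mul_right hσJ
    rwa [mul_assoc, hJ2, mul_one] at h4
  obtain ⟨hrU, hrτ⟩ := hdW a (coreP_le ha) (hfix a ha).symm
  obtain ⟨r, hr⟩ : ∃ r, r = d * a * d⁻¹ := ⟨_, rfl⟩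
  rw [← hr] at hrU hrτ
  -- members of `d' Q d'⁻¹` centralise `d R d⁻¹` modulo the Fitting subgroup
  have hkey : ∀ b ∈ coreP σ h q, ∀ f ∈ fitSub σ h, ∀ w ∈ oddSub σ h, Commute w τ →
      d' * b * d'⁻¹ = f * w → ∀ z ∈ coreP σ h p, Commute w (d * z * d⁻¹) := by
    intro b hb f hf w hw hwτ hfw z hz
    obtain ⟨Q', hQ'⟩ : ∃ Q', Q' = (coreP σ h q).map (MulAut.conj d').toMonoidHom := ⟨_, rfl⟩
    have hmQ : ∀ v, v ∈ Q' ↔ ∃ c ∈ coreP σ h q, d' * c * d'⁻¹ = v := fun v => by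
      rw [hQ', Subgroup.mem_map]; rfl
    have hQU : Q' ≤ oddSub σ h := fun v hv => by
      obtain ⟨c, hc, rfl⟩ := (hmQ v).1 hv
      exact (hdV c (coreP_le hc) (hfixQ c hc).symm).1
    have hQN : Q' ≤ Subgroup.normalizer (fitSub σ h : Set G) := fun v hv =>
      Subgroup.mem_normalizer_fintype fun e he => conj_fitSub D (commute_J D (hQU hv)) he
    have hmem : ∀ v, v ∈ fitSub σ h ⊔ Q' → ∃ e ∈ fitSub σ h, ∃ c ∈ Q', v = e * c := by
      intro v hv
      rw [← SetLike.mem_coe, Subgroup.coe_mul_of_right_le_normalizer_left _ _ hQN] at hv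
      obtain ⟨e, he, c, hc, rfl⟩ := hv
      exact ⟨e, he, c, hc, rfl⟩
    -- `F Q'` is normalised by the odd part
    have hnorm : ∀ g ∈ oddSub σ h, ∀ v ∈ fitSub σ h ⊔ Q', g * v * g⁻¹ ∈ fitSub σ h ⊔ Q' := by
      intro g hg v hv
      obtain ⟨e₁, he₁, w₁, hw₁, hw₁τ, rfl⟩ :=
        exists_decomp (swap_gens D) hsP (swap_gens D).sqτ hστpm hg
      obtain ⟨e, he, c, hc, rfl⟩ := hmem v hv
      obtain ⟨c₀, hc₀, rfl⟩ := (hmQ c).1 hc
      have hgJ : Commute (e₁ * w₁) (σ ^ h) := commute_J D hg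
      have hwc : w₁ * (d' * c₀ * d'⁻¹) * w₁⁻¹ ∈ Q' := by
        refine (hmQ _).2 ⟨_, conj_coreP D (commute_J D (hdV' w₁ hw₁ hw₁τ).1) hc₀, ?_⟩
        group
      rw [show e₁ * w₁ * (e * (d' * c₀ * d'⁻¹)) * (e₁ * w₁)⁻¹ =
        (e₁ * w₁ * e * (e₁ * w₁)⁻¹) * (e₁ * (w₁ * (d' * c₀ * d'⁻¹) * w₁⁻¹) * e₁⁻¹) by group]
      exact mul_mem (le_sup_left (b := Q') (conj_fitSub D hgJ he))
        (mul_mem (mul_mem (le_sup_left (b := Q') he₁) (le_sup_right (a := fitSub σ h) hwc))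
          (inv_mem (le_sup_left (b := Q') he₁)))
    have hwS : w ∈ fitSub σ h ⊔ Q' := by
      rw [show w = f⁻¹ * (d' * b * d'⁻¹) by rw [hfw]; group]
      exact mul_mem (le_sup_left (b := Q') (inv_mem hf))
        (le_sup_right (a := fitSub σ h) ((hmQ _).2 ⟨b, hb, rfl⟩))
    obtain ⟨hvU, hvτ⟩ := hdW z (coreP_le hz) (hfix z hz).symm
    obtain ⟨v, hv⟩ : ∃ v, v = d * z * d⁻¹ := ⟨_, rfl⟩
    rw [← hv] at hvU hvτ ⊢
    obtain ⟨e, he⟩ : ∃ e, e = w * v * w⁻¹ * v⁻¹ := ⟨_, rfl⟩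
    have heS : e ∈ fitSub σ h ⊔ Q' := by
      rw [he, show w * v * w⁻¹ * v⁻¹ = w * (v * w⁻¹ * v⁻¹) by group]
      exact mul_mem hwS (hnorm v hvU _ (inv_mem hwS))
    -- `e` is in `d R d⁻¹`
    obtain ⟨z', hz', hez⟩ : ∃ z' ∈ coreP σ h p, e = d * z' * d⁻¹ := by
      refine ⟨d⁻¹ * w * d * z * (d⁻¹ * w * d)⁻¹ * z⁻¹,
        mul_mem (conj_coreP D (commute_J D (hdW' w hw hwτ).1) hz) (inv_mem hz), ?_⟩
      rw [he, hv]
      group
    obtain ⟨i, hi⟩ := isPGroup_coreP (p := p) ⟨z', hz'⟩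
    have hzi : z' ^ p ^ i = 1 := congrArg Subtype.val hi
    have hei : e ^ p ^ i = 1 := by rw [hez, conj_pow, hzi, mul_one, mul_inv_cancel]
    obtain ⟨e₂, he₂, c, hc, hec⟩ := hmem e heS
    have hcJ := commute_J D (hQU hc)
    obtain ⟨c₀, hc₀, hcc⟩ := (hmQ c).1 hc
    obtain ⟨j, hj⟩ := isPGroup_coreP (p := q) ⟨c₀, hc₀⟩
    have hcj : c ^ q ^ j = 1 := by
      rw [← hcc, conj_pow, show c₀ ^ q ^ j = 1 from congrArg Subtype.val hj, mul_one, mul_inv_cancel]
    -- a power of `e` prime to `p` is in the Fitting subgroup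
    have heF : e ^ q ^ j ∈ fitSub σ h := by
      obtain ⟨e', he', hpow⟩ := pow_of_product (X := fitSub σ h) (c⁻¹ * e₂ * c) c
        (by have := conj_fitSub D hcJ.inv_left he₂; rwa [inv_inv] at this)
        (fun x hx => conj_fitSub D hcJ hx) (q ^ j)
      rw [hec, show e₂ * c = c * (c⁻¹ * e₂ * c) by group, hpow, hcj, mul_one]
      exact he'
    have heF' : e ∈ fitSub σ h := by
      obtain ⟨k, -, hk⟩ := (Nat.dvd_prime_pow hp).1 (orderOf_dvd_of_pow_eq_one hei)
      have hco : Nat.Coprime (q ^ j) (orderOf e) :=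
        hk ▸ Nat.coprime_pow_primes j k hq hp (Ne.symm hpq)
      obtain ⟨m, hm⟩ := exists_pow_eq_self_of_coprime hco
      rw [← hm]
      exact pow_mem heF m
    have hz'1 : z' = 1 := moved_inf D hmax hτpm hp hfix hσR hFR hdx hdJ hdW hdW' hz' (hez ▸ heF')
    rw [hez, hz'1, mul_one, mul_inv_cancel] at he
    exact mul_inv_eq_iff_eq_mul.1 (mul_inv_eq_one.1 he.symm)
  -- the element
  obtain ⟨g, hg⟩ : ∃ g, g = σ * r * σ⁻¹ * r⁻¹ := ⟨_, rfl⟩
  have hστσ : σ * τ * σ⁻¹ = σ ^ 2 * τ := by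
    have := D.conj_pow_reflection 0 1
    simpa using this
  have hh : h = 2 := (fixed_step D hmax hconjJ hτpm hστpm hp hR hfix).1
  have hσ2 : σ ^ 2 = σ ^ h := by rw [hh]
  have hfitσ : ∀ y ∈ oddSub σ h, Commute y τ → σ * y * σ⁻¹ * y⁻¹ ∈ fitSub σ h := by
    intro y hy hyτ
    have h2 := diff_mem (swap_gens D) hsP (swap_gens D).sqτ hστpm hy
    have e : σ * y * σ⁻¹ * y⁻¹ = (y * (σ * τ) * y⁻¹ * (σ * τ)⁻¹)⁻¹ := by
      rw [show (y * (σ * τ) * y⁻¹ * (σ * τ)⁻¹)⁻¹ = σ * (τ * y * τ⁻¹) * σ⁻¹ * y⁻¹ by group,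
        hyτ.symm.eq, mul_inv_cancel_right]
    rw [e]
    exact inv_mem h2
  have hgF : g ∈ fitSub σ h := hg ▸ hfitσ r hrU hrτ
  have hgR : g ∈ coreP σ h p := by
    obtain ⟨Rc, hRc⟩ : ∃ Rc, Rc = (coreP σ h p).map (MulAut.conj d).toMonoidHom := ⟨_, rfl⟩
    obtain ⟨Rs, hRs⟩ : ∃ Rs, Rs = Rc.map (MulAut.conj σ).toMonoidHom := ⟨_, rfl⟩
    have hnS : Rc ≤ Subgroup.normalizer (Rs : Set G) := by
      intro v hv
      refine Subgroup.mem_normalizer_fintype fun z hz => ?_
      rw [SetLike.mem_coe] at hz ⊢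
      rw [hRc] at hv
      obtain ⟨v', hv', rfl⟩ := hv
      obtain ⟨hvU, hvτ⟩ := hdW v' (coreP_le hv') (hfix v' hv').symm
      obtain ⟨v, hvd⟩ : ∃ v, v = d * v' * d⁻¹ := ⟨_, rfl⟩
      simp only [MulEquiv.coe_toMonoidHom, MulAut.conj_apply]
      rw [← hvd] at hvU hvτ ⊢
      have hu1 : σ⁻¹ * v * σ ∈ oddSub σ h := by
        have := conj_oddSub D hσJ.inv_left hvU
        rwa [inv_inv] at this
      have hu2 : Commute (σ⁻¹ * v * σ) τ := by
        have h3 : Commute v (σ * τ * σ⁻¹) := by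
          rw [hστσ, hσ2]; exact (commute_J D hvU).mul_right hvτ
        have := h3.map (MulAut.conj σ⁻¹).toMonoidHom
        simp only [MulEquiv.coe_toMonoidHom, MulAut.conj_apply, inv_inv] at this
        rwa [show σ⁻¹ * (σ * τ * σ⁻¹) * σ = τ by group] at this
      rw [hRs, hRc] at hz ⊢
      obtain ⟨z, hz, rfl⟩ := hz
      obtain ⟨z, hz', rfl⟩ := hz
      refine ⟨_, ⟨_, conj_coreP D (commute_J D (hdW' _ hu1 hu2).1) hz', rfl⟩, ?_⟩
      simp only [MulEquiv.coe_toMonoidHom, MulAut.conj_apply]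
      group
    have h1 : IsPGroup p Rc := hRc ▸ (isPGroup_coreP).map _
    have hpS : IsPGroup p ↥(Rc ⊔ Rs) := h1.to_sup_of_normal_right' (hRs ▸ h1.map _) hnS
    have hrm : r ∈ Rc := hRc ▸ ⟨a, ha, hr.symm⟩
    obtain ⟨i, hi⟩ := hpS ⟨g, hg ▸ mul_mem (le_sup_right (a := Rc) (hRs ▸ ⟨r, hrm, rfl⟩))
      (inv_mem (le_sup_left (b := Rs) hrm))⟩
    exact mem_coreP_of_mem_fitSub D hp hgF (k := i) (congrArg Subtype.val hi)
  have hcross : ∀ b ∈ coreP σ h q, Commute g (d' * b * d'⁻¹) := by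
    intro b hb
    obtain ⟨hqU, -⟩ := hdV b (coreP_le hb) (hfixQ b hb).symm
    obtain ⟨f, hf, w, hw, hwτ, hfw⟩ := exists_decomp D hτP D.sqτ hτpm hqU
    have hσw : σ⁻¹ * w * σ ∈ oddSub σ h := by
      have := conj_oddSub D hσJ.inv_left hw
      rwa [inv_inv] at this
    have hσwτ : Commute (σ⁻¹ * w * σ) τ := by
      have h3 : Commute w (σ * τ * σ⁻¹) := by
        rw [hστσ, hσ2]; exact (commute_J D hw).mul_right hwτ
      have := h3.map (MulAut.conj σ⁻¹).toMonoidHom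
      simp only [MulEquiv.coe_toMonoidHom, MulAut.conj_apply, inv_inv] at this
      rwa [show σ⁻¹ * (σ * τ * σ⁻¹) * σ = τ by group] at this
    have hwr : Commute w r := hr ▸ hkey b hb f hf w hw hwτ hfw a ha
    obtain ⟨k, hk⟩ : ∃ k, k = σ⁻¹ * w * σ * w⁻¹ := ⟨_, rfl⟩
    have hkF : k ∈ fitSub σ h := by
      have := hfitσ _ hσw hσwτ
      rw [show σ * (σ⁻¹ * w * σ) * σ⁻¹ * (σ⁻¹ * w * σ)⁻¹ = k⁻¹ by rw [hk]; group] at this
      simpa using inv_mem this
    have hkτ : Commute k τ := hk ▸ hσwτ.mul_left hwτ.inv_left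
    -- the moved `O_p` commutes with the fixed points in the Fitting subgroup
    have hkr : Commute k r := by
      obtain ⟨e, he⟩ : ∃ e, e = k * r * k⁻¹ * r⁻¹ := ⟨_, rfl⟩
      have he1 : e ∈ fitSub σ h := by
        rw [he, show k * r * k⁻¹ * r⁻¹ = k * (r * k⁻¹ * r⁻¹) by group]
        exact mul_mem hkF (conj_fitSub D (commute_J D hrU) (inv_mem hkF))
      obtain ⟨z', hz', hez⟩ : ∃ z' ∈ coreP σ h p, e = d * z' * d⁻¹ := by
        refine ⟨d⁻¹ * k * d * a * (d⁻¹ * k * d)⁻¹ * a⁻¹, mul_mem (conj_coreP D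
          (commute_J D (hdW' k (fitSub_le hkF) hkτ).1) ha) (inv_mem ha), ?_⟩
        rw [he, hr]
        group
      have hz'1 : z' = 1 := moved_inf D hmax hτpm hp hfix hσR hFR hdx hdJ hdW hdW' hz' (hez ▸ he1)
      rw [hez, hz'1, mul_one, mul_inv_cancel] at he
      exact mul_inv_eq_iff_eq_mul.1 (mul_inv_eq_one.1 he.symm)
    have hws : Commute (σ⁻¹ * w * σ) r := by
      rw [show σ⁻¹ * w * σ = k * w by rw [hk]; group]
      exact hkr.mul_left hwr
    have hwσr : Commute w (σ * r * σ⁻¹) := by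
      have := hws.map (MulAut.conj σ).toMonoidHom
      simp only [MulEquiv.coe_toMonoidHom, MulAut.conj_apply] at this
      rwa [show σ * (σ⁻¹ * w * σ) * σ⁻¹ = w by group] at this
    have hgw : Commute g w := hg ▸ (hwσr.mul_right hwr.inv_right).symm
    rw [hfw]
    refine (Commute.mul_right ?_ hgw)
    -- the Fitting subgroup centralises `R`
    exact (hFR f hf g hgR).symm
  have hg1 := hCR g hgR hcross
  rw [hg] at hg1
  refine hamove ?_
  rw [← hr]
  exact mul_inv_eq_iff_eq_mul.1 (mul_inv_eq_one.1 hg1)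

/-- The fixed points of a reflection against the Fitting subgroup. -/
theorem card_oddFix {x : G} (hx : x ∈ (P : Subgroup G)) (hx2 : x * x = 1) (hpm : ActsPM σ h x) :
    (oddFix σ h x).card = Nat.card ↥(fitSub σ h ⊓ Subgroup.centralizer ({x} : Set G)) *
      (fitSub σ h).relIndex (oddSub σ h) := by
  classical
  have e1 : (oddFix σ h x).card =
      Nat.card ↥(oddSub σ h ⊓ Subgroup.centralizer ({x} : Set G)) := by
    rw [← Nat.card_eq_finsetCard]
    refine Nat.card_congr (Equiv.subtypeEquivRight fun y => ?_)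
    rw [mem_oddFix, Subgroup.mem_inf, mem_oddSub D, Subgroup.mem_centralizer_singleton_iff]
    rfl
  set W := oddSub σ h ⊓ Subgroup.centralizer ({x} : Set G) with hW
  have hWN : W ≤ Subgroup.normalizer (fitSub σ h : Set G) := fun w hw =>
    Subgroup.mem_normalizer_fintype fun e he => conj_fitSub D (commute_J D hw.1) he
  have htop : fitSub σ h ⊔ W = oddSub σ h := by
    refine le_antisymm (sup_le fitSub_le inf_le_left) fun y hy => ?_
    obtain ⟨f, hf, w, hw, hwx, rfl⟩ := exists_decomp D hx hx2 hpm hy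
    exact mul_mem (le_sup_left (b := W) hf) (le_sup_right (a := fitSub σ h)
      ⟨hw, Subgroup.mem_centralizer_singleton_iff.2 hwx.eq⟩)
  have e2 : (fitSub σ h).relIndex (oddSub σ h) = (fitSub σ h).relIndex W := by
    have hn : ((fitSub σ h).subgroupOf (oddSub σ h)).Normal := ⟨fun f hf u => by
      rw [Subgroup.mem_subgroupOf] at hf ⊢
      exact conj_fitSub D (commute_J D u.2) hf⟩
    have hK := Subgroup.relIndex_sup_right (K := (fitSub σ h).subgroupOf (oddSub σ h))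
      (W.subgroupOf (oddSub σ h))
    rw [← Subgroup.subgroupOf_sup inf_le_left fitSub_le, sup_comm W, htop,
      Subgroup.relIndex_subgroupOf le_rfl, Subgroup.relIndex_subgroupOf inf_le_left] at hK
    exact hK
  rw [e1, e2, ← Subgroup.inf_relIndex_right]
  have e3 : fitSub σ h ⊓ W = fitSub σ h ⊓ Subgroup.centralizer ({x} : Set G) := by
    rw [hW, ← inf_assoc, inf_of_le_left fitSub_le]
  rw [← e3, Cfsg.Lib.Core.card_mul_relIndex inf_le_right]

/-- The values at the singular sections. -/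
theorem value_section {M : Ideal AlgInt} (hM : IsPModular 2 M) (co : Companion M P σ τ h) {y : G}
    (hyo : Odd (orderOf y)) (hyσ : Commute y σ) {s : G} (hs : s ∈ Subgroup.zpowers σ) (hs1 : s ≠ 1) :
    (co.χ₁ : G → ℂ) (y * s) = co.δ₁ := by
  obtain ⟨k, rfl⟩ := Subgroup.mem_zpowers_iff.1 hs
  have hys : Commute (σ ^ k) y := (hyσ.zpow_right k).symm
  rw [← hys.eq, principal_value_of_complement hM (D.exists_order (D.zpowers_le hs))
    (D.complement (D.zpowers_le hs) hs1) co.mem_block hys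
    (fun hd => by obtain ⟨c, hc⟩ := hyo; omega)]
  obtain ⟨l, hl⟩ := (IsOfFinOrder.mem_powers_iff_mem_zpowers (isOfFinOrder_of_finite σ)).2 hs
  have hl' : σ ^ (l % (2 * h)) = σ ^ k := by rw [← D.orderσ, pow_mod_orderOf]; exact hl
  rw [← hl']
  refine co.value _ (Nat.pos_of_ne_zero fun e => hs1 ?_) (Nat.mod_lt _ (by have := D.two_le; omega))
  rw [← hl', e, pow_zero]

/-- A reflection centralises no nontrivial `O_p`. -/
theorem no_fixed [IsSimpleGroup G]
    (hmax : IsCoatom (Subgroup.centralizer ({σ ^ h} : Set G)))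
    (hconjJ : ∀ a : G, a * a = 1 → a ≠ 1 → IsConj (σ ^ h) a)
    (hτpm : ActsPM σ h τ) (hστpm : ActsPM σ h (σ * τ)) {p : ℕ} (hp : p.Prime)
    (hR : coreP σ h p ≠ ⊥) (hfix : ∀ a ∈ coreP σ h p, Commute τ a) : False := by
  classical
  obtain ⟨hh, hσR, hinvR, hFR⟩ := fixed_step D hmax hconjJ hτpm hστpm hp hR hfix
  obtain ⟨hJ2, hJ1, hJc⟩ := D.central_involution
  obtain ⟨hτP, hτσ⟩ := tau_mem D
  obtain ⟨d, hdx, hdJ, hdW, hdW'⟩ := exists_moving D hconjJ hτP hτσ
  -- the second reflection inverts the Fitting subgroup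
  have hinv : ∀ q : ℕ, q.Prime → ∀ a ∈ coreP σ h q, σ * τ * a * (σ * τ)⁻¹ = a⁻¹ := by
    intro q hq a ha
    by_cases hQ : coreP σ h q = ⊥
    · rw [hQ, Subgroup.mem_bot] at ha
      simp [ha]
    rcases hστpm q hq with hb | hb
    · exact (no_both D hmax hconjJ hτpm hστpm hp hq hR hfix hQ hb).elim
    · exact hb a ha
  have hinvF := inverts_fitSub D hinv
  -- some `O_q` is inverted by `τ`
  obtain ⟨q, hq, hQ, hQinv⟩ : ∃ q, q.Prime ∧ coreP σ h q ≠ ⊥ ∧
      ∀ a ∈ coreP σ h q, τ * a * τ⁻¹ = a⁻¹ := by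
    by_contra hno
    simp only [not_exists, not_and] at hno
    have hall : ∀ y ∈ oddSub σ h, Commute τ y := by
      refine commute_oddSub D hτP (commute_fitSub D fun q hq a ha => ?_)
      by_cases hQ : coreP σ h q = ⊥
      · rw [hQ, Subgroup.mem_bot] at ha
        exact ha ▸ Commute.one_right τ
      · exact (hτpm q hq).resolve_right (hno q hq hQ) a ha
    have hU1 : oddSub σ h ≠ ⊥ := fun e => hR (le_bot_iff.1 (e ▸ coreP_le))
    have hc := commute_of_normalizes D hmax (oddSub σ h) le_rfl hU1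
      (fun c hc y hy => conj_oddSub D hc hy) fun y hy => (hdW y hy (hall y hy).symm).1
    rw [hc.eq, mul_inv_cancel_right] at hdJ
    exact hτσ (by
      have h1 : τ = 1 := mul_eq_right.1 hdJ.symm
      rw [h1]; exact one_mem _)
  -- the ratio
  obtain ⟨hM⟩ : Nonempty {M : Ideal AlgInt // IsPModular 2 M} := by
    obtain ⟨M, hM⟩ := exists_isPModular Nat.prime_two
    exact ⟨⟨M, hM⟩⟩
  obtain ⟨M, hM⟩ := hM
  obtain ⟨co⟩ := exists_companion hM D hconjJ
  have hW2 : Nat.card ↥(fitSub σ h ⊓ Subgroup.centralizer ({σ * τ} : Set G)) = 1 := by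
    refine Subgroup.card_eq_one.2 ((Subgroup.eq_bot_iff_forall _).2 fun f hf => ?_)
    exact eq_one_of_inverted D (fitSub_le hf.1)
      (show Commute f (σ * τ) from Subgroup.mem_centralizer_singleton_iff.1 hf.2).symm (hinvF f hf.1)
  have hW1 := card_oddFix D hτP D.sqτ hτpm
  have hW2' := card_oddFix D (swap_gens D).memτ (swap_gens D).sqτ hστpm
  rw [hW2, one_mul] at hW2'
  have hodd : Odd (Nat.card ↥(fitSub σ h ⊓ Subgroup.centralizer ({τ} : Set G))) := by
    refine Nat.not_even_iff_odd.1 fun hev => ?_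
    obtain ⟨y, hy⟩ := exists_prime_orderOf_dvd_card' 2 (even_iff_two_dvd.1 hev)
    have := odd_orderOf D (fitSub_le y.2.1)
    rw [Subgroup.orderOf_coe, hy] at this
    exact absurd this (by decide)
  obtain ⟨c, hc⟩ := hodd
  have hc1 : 1 ≤ c := by
    by_contra hlt
    obtain ⟨a, ha, ha1⟩ := exists_ne_one_of_ne_bot D hR
    have hb := Subgroup.card_eq_one.1
      (show Nat.card ↥(fitSub σ h ⊓ Subgroup.centralizer ({τ} : Set G)) = 1 by omega)
    exact ha1 (Subgroup.mem_bot.1 (hb ▸ ⟨coreP_le_fitSub hp ha,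
      Subgroup.mem_centralizer_singleton_iff.2 (hfix a ha).symm.eq⟩))
  have hX : co.X = -15 ∨ co.X = -7 := by
    rcases co.ratio D (Or.inl ⟨rfl, rfl⟩) hc1 (by rw [hW1, hW2', hc]) with ⟨-, e⟩ | ⟨-, e⟩
    exacts [Or.inl e, Or.inr e]
  -- an element of the moved `O_p` acting nontrivially on `O_q`
  obtain ⟨a, ha, y₀, hy₀, hmove⟩ : ∃ a ∈ coreP σ h p, ∃ y ∈ coreP σ h q,
      ¬ Commute (d * a * d⁻¹) y := by
    by_contra hno
    simp only [not_exists, not_and, not_not] at hno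
    obtain ⟨y, hy, hy1⟩ := exists_ne_one_of_ne_bot D hQ
    have hn : Commute (d⁻¹ * y * d) (σ ^ h) := by
      refine commute_of_normalizes D hmax _ coreP_le hR (fun c hc b hb => conj_coreP D hc hb)
        fun b hb => ?_
      rw [show d⁻¹ * y * d * b * (d⁻¹ * y * d)⁻¹ = d⁻¹ * (y * (d * b * d⁻¹) * y⁻¹) * d by group,
        (hno b hb y hy).symm.eq, mul_inv_cancel_right, show d⁻¹ * (d * b * d⁻¹) * d = b by group]
      exact hb
    have e := hn.map (MulAut.conj d).toMonoidHom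
    simp only [MulEquiv.coe_toMonoidHom, MulAut.conj_apply] at e
    rw [hdJ, show d * (d⁻¹ * y * d) * d⁻¹ = y by group] at e
    have h4 := e.mul_right (commute_J D (coreP_le hy))
    rw [mul_assoc, hJ2, mul_one] at h4
    exact hy1 (eq_one_of_inverted D (coreP_le hy) h4.symm (hQinv y hy))
  obtain ⟨hrU, -⟩ := hdW a (coreP_le ha) (hfix a ha).symm
  have hQσ : ∀ y ∈ coreP σ h q, Commute y σ := by
    intro y hy
    have e := hinv q hq y hy
    rw [show σ * τ * y * (σ * τ)⁻¹ = σ * (τ * y * τ⁻¹) * σ⁻¹ by group, hQinv y hy] at e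
    have h1 := congrArg (·⁻¹) e
    simp only [mul_inv_rev, inv_inv, ← mul_assoc] at h1
    exact ((mul_inv_eq_iff_eq_mul.1 h1).symm : y * σ = σ * y)
  have hker : ∀ g : G, (co.χ₁ : G → ℂ) g = (co.χ₁ : G → ℂ) 1 → g = 1 := by
    intro g hg
    haveI := Char.charKer_normal co.χ₁.2.isCharacter
    rcases IsSimpleGroup.eq_bot_or_eq_top_of_normal (Char.charKer co.χ₁.2.isCharacter) inferInstance
      with e | e
    · exact Subgroup.mem_bot.1 (e ▸ hg)
    · exfalso
      have hlt : 1 < 2 * h := by omega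
      have h1 : (co.χ₁ : G → ℂ) (σ ^ 1) = (co.χ₁ : G → ℂ) 1 :=
        (e ▸ Subgroup.mem_top (σ ^ 1) : σ ^ 1 ∈ Char.charKer co.χ₁.2.isCharacter)
      rw [co.value 1 one_pos hlt, Block.apply_one_eq_charDegree] at h1
      have h2 : co.δ₁ = (charDegree (co.χ₁ : G → ℂ) : ℤ) := by exact_mod_cast h1
      have := co.degX
      rcases co.hδ₁ with r | r <;> rw [r] at h2 this <;> omega
  have hbound := degree_ge co.χ₁ (h := h) (by omega) D.orderσ (co.δ₁ : ℂ) (coreP σ h q) hQσ hQinv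
    (fun y hy => odd_orderOf D (coreP_le hy))
    (fun y hy s hs hs1 => value_section D hM co (odd_orderOf D (coreP_le hy)) (hQσ y hy) hs hs1)
    hker (odd_orderOf D hrU) (fun y hy => conj_coreP D (commute_J D hrU) hy) hy₀ hmove
  have := co.degX
  rcases co.hδ₁ with r | r <;> rw [r] at this <;> omega

/-- The frame statement. -/
theorem false_of_dichotomy [IsSimpleGroup G] (hna : ¬∀ a b : G, a * b = b * a)
    (hmax : IsCoatom (Subgroup.centralizer ({σ ^ h} : Set G)))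
    (hconjJ : ∀ a : G, a * a = 1 → a ≠ 1 → IsConj (σ ^ h) a)
    (hτpm : ActsPM σ h τ) (hστpm : ActsPM σ h (σ * τ))
    {i : ℕ} {w : G} (hw : w ∈ oddSub σ h) (hw1 : w ≠ 1) (hwi : Commute w (σ ^ i * τ)) : False := by
  classical
  have key : ∀ x, x ∈ ({τ, σ * τ} : Set G) →
      ∀ p : ℕ, p.Prime → ∀ a ∈ coreP σ h p, x * a * x⁻¹ = a⁻¹ := by
    intro x hx p hp a ha
    by_cases hR : coreP σ h p = ⊥
    · rw [hR, Subgroup.mem_bot] at ha
      simp [ha]
    simp only [Set.mem_insert_iff, Set.mem_singleton_iff] at hx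
    rcases hx with rfl | rfl
    · rcases hτpm p hp with hb | hb
      · exact (no_fixed D hmax hconjJ hτpm hστpm hp hR hb).elim
      · exact hb a ha
    · rcases hστpm p hp with hb | hb
      · refine (no_fixed (swap_gens D) hmax hconjJ hστpm ?_ hp hR hb).elim
        -- `σ (σ τ)` is conjugate to `τ`
        intro q hq
        have e : σ * (σ * τ) = σ * τ * σ⁻¹ := by
          have := D.conj_pow_reflection 0 1
          simp only [pow_zero, one_mul, pow_one, zero_add, mul_one] at this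
          rw [this, pow_two, mul_assoc]
        have hσJ : Commute σ (σ ^ h) := (Commute.refl σ).pow_right h
        have hm : ∀ a ∈ coreP σ h q, σ⁻¹ * a * σ ∈ coreP σ h q := fun a ha => by
          have := conj_coreP D hσJ.inv_left ha
          rwa [inv_inv] at this
        rcases hτpm q hq with hc | hc
        · refine Or.inl fun a ha => ?_
          have := (hc _ (hm a ha)).map (MulAut.conj σ).toMonoidHom
          simp only [MulEquiv.coe_toMonoidHom, MulAut.conj_apply] at this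
          rw [show σ * (σ⁻¹ * a * σ) * σ⁻¹ = a by group, ← e] at this
          exact this
        · refine Or.inr fun a ha => ?_
          rw [e, show σ * τ * σ⁻¹ * a * (σ * τ * σ⁻¹)⁻¹ =
            σ * (τ * (σ⁻¹ * a * σ) * τ⁻¹) * σ⁻¹ by group, hc _ (hm a ha)]
          group
      · exact hb a ha
  have hτF := inverts_fitSub D (key τ (Set.mem_insert _ _))
  have hστF := inverts_fitSub D (key (σ * τ) (Set.mem_insert_of_mem _ rfl))
  -- a member of `U` outside the Fitting subgroup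
  by_cases hwF : w ∈ fitSub σ h
  · have hstep : σ * w * σ⁻¹ = w := by
      have e := hτF _ (inv_mem hwF)
      rw [inv_inv] at e
      calc σ * w * σ⁻¹ = σ * τ * w⁻¹ * (σ * τ)⁻¹ := by
            conv_lhs => rw [← e]
            group
        _ = w := by rw [hστF _ (inv_mem hwF), inv_inv]
    have hσw : Commute σ w := mul_inv_eq_iff_eq_mul.1 hstep
    have hτw : Commute τ w := by
      have := (hσw.symm.pow_right i).inv_right.mul_right hwi
      rw [inv_mul_cancel_left] at this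
      exact this.symm
    exact hw1 (eq_one_of_inverted D (fitSub_le hwF) hτw (hτF w hwF))
  · exact caseA D hna hconjJ (fitSub σ h) (fun a ha => (mem_oddSub D).1 (fitSub_le ha))
      (fun c hc a ha => conj_fitSub D hc ha) hτF hστF
      (fun y hy hy' => mem_fitSub_of_commute D ((mem_oddSub D).2 hy) hy')
      ((mem_oddSub D).1 hw) hwF

end Cfsg.Lib.GW.CMax

namespace Cfsg.Lib.GW

open Subgroup
open Cfsg.Lib.Block
open Cfsg.Lib.Block.DihSylow (oddPart mem_oddPart)

universe u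

/-- **C-maximal case, from the dichotomy on the Fitting subgroup.** -/
theorem cmax_false_of_dichotomy {G : Type u} [Group G] [Finite G] (hG : GWMin G)
    (h8 : 8 ∣ Nat.card G) (hV : ¬ KleinSelfCentralizing G) {t : G} (ht : orderOf t = 2)
    (hC : IsCoatom (Subgroup.centralizer ({t} : Set G)))
    (hdich : ∀ u : G, orderOf u = 2 → Commute u t → u ≠ t → ∀ p : ℕ, p.Prime →
      (∀ x ∈ (Cfsg.pCore p ↥(coreC t)).map (coreC t).subtype, Commute u x) ∨
      (∀ x ∈ (Cfsg.pCore p ↥(coreC t)).map (coreC t).subtype, u * x * u⁻¹ = x⁻¹)) : False := by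
  classical
  haveI := Fintype.ofFinite G
  haveI : Fact (Nat.Prime 2) := ⟨Nat.prime_two⟩
  haveI := hG.isSimple
  obtain ⟨S, htS, htZ⟩ := hG.exists_sylow_central ht
  -- the frame
  obtain ⟨m, hm, e⟩ := hG.sylow S
  have h8S : 8 ∣ Nat.card (S : Subgroup G) :=
    S.pow_dvd_card_of_pow_dvd_card (n := 3) (by simpa using h8)
  have hcS : Nat.card (S : Subgroup G) = 2 * m :=
    (Nat.card_congr e.some.toEquiv).trans DihedralGroup.nat_card
  obtain ⟨k, hk⟩ := S.2.exists_card_eq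
  have hk3 : 3 ≤ k := by
    by_contra hlt
    have h1 := Nat.le_of_dvd (by rw [hk]; positivity) h8S
    have h2 := Nat.pow_le_pow_right two_pos (show k ≤ 2 by omega)
    rw [hk] at h1
    omega
  have hmk : m = 2 ^ (k - 1) := by
    have h1 : 2 ^ k = 2 * 2 ^ (k - 1) := by rw [← pow_succ']; congr 1; omega
    omega
  subst hmk
  obtain ⟨σ, τ, g⟩ := exists_gens hk3 e
  have D : DihSylow S σ τ (2 ^ (k - 2)) := g.toDihSylow
  generalize 2 ^ (k - 2) = h at D
  have hJ : σ ^ h = t := (eq_central_of_commute D htS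
    (by rw [← pow_two, ← ht, pow_orderOf_eq_one]) (Cfsg.Lib.Invol.ne_one ht)
    (show t * σ = σ * t from (htZ σ D.memσ).symm)).symm
  subst hJ
  have hna : ¬∀ a b : G, a * b = b * a := fun hc => hG.nonab ⟨⟨hc⟩⟩
  have hconjJ : ∀ a : G, a * a = 1 → a ≠ 1 → IsConj (σ ^ h) a := fun a ha ha1 =>
    hG.oneClass _ a ht (orderOf_eq_prime (by rw [pow_two, ha]) ha1)
  -- the odd core of the centralizer
  have hcore : coreC (σ ^ h) = CMax.oddSub σ h := by
    refine le_antisymm (fun y hy => (CMax.mem_oddSub D).2 (mem_oddPart.2 ⟨commute_of_mem_coreC hy, ?_⟩))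
      fun y hy => ?_
    · have := (odd_card_coreC (σ ^ h)).of_dvd_nat (orderOf_dvd_natCard ⟨y, hy⟩)
      rwa [Subgroup.orderOf_mk] at this
    · set C := centralizer ({σ ^ h} : Set G) with hCdef
      have hle : CMax.oddSub σ h ≤ C := fun z hz =>
        mem_centralizer_singleton_iff.2 (CMax.commute_J D hz).eq
      haveI : ((CMax.oddSub σ h).subgroupOf C).Normal := ⟨fun z hz c => by
        rw [mem_subgroupOf] at hz ⊢
        exact CMax.conj_oddSub D (mem_centralizer_singleton_iff.1 c.2) hz⟩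
      have hodd : Odd (Nat.card ((CMax.oddSub σ h).subgroupOf C)) := by
        refine Nat.not_even_iff_odd.1 fun hev => ?_
        obtain ⟨z, hz⟩ := exists_prime_orderOf_dvd_card' 2 (even_iff_two_dvd.1 hev)
        have := CMax.odd_orderOf D (mem_subgroupOf.1 z.2)
        rw [Subgroup.orderOf_coe, Subgroup.orderOf_coe, hz] at this
        exact absurd this (by decide)
      exact ⟨⟨y, hle hy⟩, Cfsg.Lib.ZStar.le_oddCore inferInstance hodd
        (mem_subgroupOf.2 hy), rfl⟩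
  rw [hcore] at hdich
  -- the reflections
  have hpm : ∀ x ∈ (S : Subgroup G), x ∉ zpowers σ → CMax.ActsPM σ h x := by
    intro x hx hx'
    obtain ⟨h1, h2, h3⟩ := CMax.reflection_mem D hx hx'
    exact fun p hp => hdich x (orderOf_eq_prime (by rw [pow_two, h1]) h2)
      (D.central_involution.2.2 x hx) h3 p hp
  -- a nontrivial fixed point
  obtain ⟨V, hVK, w, hwV, hw1, hwo⟩ := exists_odd_centralizing hG.twoCycDih hV
  haveI := hVK
  obtain ⟨a, haV, b, hbV, ha1, hb1, hab⟩ : ∃ a ∈ V, ∃ b ∈ V, a ≠ 1 ∧ b ≠ 1 ∧ a ≠ b := by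
    by_contra hno
    simp only [not_exists, not_and, not_not] at hno
    obtain ⟨a, ha, ha1⟩ := (bot_or_exists_ne_one V).resolve_left fun e' => by
      have := IsKleinFour.card_four (G := V)
      rw [e', Subgroup.card_bot] at this
      omega
    have hle : V ≤ zpowers a := fun b hb => by
      by_cases hb1 : b = 1
      · exact hb1 ▸ one_mem _
      · exact hno a ha b hb ha1 hb1 ▸ mem_zpowers a
    haveI : IsCyclic V := isCyclic_of_injective (inclusion hle) (inclusion_injective hle)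
    exact IsKleinFour.not_isCyclic (G := V) inferInstance
  obtain ⟨c, hc⟩ := isConj_iff.1 (hconjJ a (Cfsg.Lib.Invol.klein_mul_self haV) ha1).symm
  have hwa : Commute w a := (mem_centralizer_iff.1 hwV a haV).symm
  have hwb : Commute w b := (mem_centralizer_iff.1 hwV b hbV).symm
  have hbt : Commute (c * b * c⁻¹) (σ ^ h) := by
    have := (show Commute b a from Cfsg.Lib.Invol.klein_comm hbV haV).map (MulAut.conj c).toMonoidHom
    simp only [MulEquiv.coe_toMonoidHom, MulAut.conj_apply] at this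
    rwa [hc] at this
  obtain ⟨c', hc', hc'P⟩ := exists_conj_mem D (a := c * b * c⁻¹) (by
    rw [show c * b * c⁻¹ * (c * b * c⁻¹) = c * (b * b) * c⁻¹ by group,
      Cfsg.Lib.Invol.klein_mul_self hbV]
    group) hbt
  obtain ⟨g, hgdef⟩ : ∃ g, g = c' * c := ⟨_, rfl⟩
  have hga : g * a * g⁻¹ = σ ^ h := by
    rw [hgdef, show c' * c * a * (c' * c)⁻¹ = c' * (c * a * c⁻¹) * c'⁻¹ by group, hc, hc'.eq,
      mul_inv_cancel_right]
  have hgb : g * b * g⁻¹ = c' * (c * b * c⁻¹) * c'⁻¹ := by rw [hgdef]; group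
  have hnot : g * b * g⁻¹ ∉ zpowers σ := by
    intro hm'
    rcases D.eq_central_of_sq hm' (by
      rw [show g * b * g⁻¹ * (g * b * g⁻¹) = g * (b * b) * g⁻¹ by group,
        Cfsg.Lib.Invol.klein_mul_self hbV]
      group) with e' | e'
    · exact hb1 (conj_eq_one_iff.1 e')
    · exact hab (mul_left_cancel (mul_right_cancel (hga.trans e'.symm)))
  obtain ⟨i, -, hi⟩ := D.reflection_iff.1 ⟨hgb ▸ hc'P, hnot⟩
  have hwJ : Commute (g * w * g⁻¹) (σ ^ h) := by
    have := hwa.map (MulAut.conj g).toMonoidHom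
    simp only [MulEquiv.coe_toMonoidHom, MulAut.conj_apply] at this
    rwa [hga] at this
  have hwi : Commute (g * w * g⁻¹) (σ ^ i * τ) := by
    have := hwb.map (MulAut.conj g).toMonoidHom
    simp only [MulEquiv.coe_toMonoidHom, MulAut.conj_apply] at this
    rwa [hi] at this
  refine CMax.false_of_dichotomy D hna hC hconjJ (hpm τ D.memτ (CMax.tau_mem D).2)
    (hpm _ (CMax.swap_gens D).memτ (CMax.tau_mem (CMax.swap_gens D)).2)
    ((CMax.mem_oddSub D).2 (mem_oddPart.2 ⟨hwJ, ?_⟩))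
    (fun e' => hw1 (conj_eq_one_iff.1 e')) hwi
  rw [show g * w * g⁻¹ = MulAut.conj g w from (MulAut.conj_apply g w).symm, MulEquiv.orderOf_eq]
  exact hwo

end Cfsg.Lib.GW
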