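import Cfsg.Agent.Lib.GW.CMax.Dichotomy
import Cfsg.Agent.Lib.GW.CMax.Finish

/-!
# The maximal centralizer without components over the normalizers

If no maximal subgroup over `N(C_R(u))`, `R = O_p(C(t))`, has a component, `C(t)` is not maximal.
-/

set_option autoImplicit false
set_option linter.unusedSectionVars false

namespace Cfsg.Lib.GW

open Subgroup
open Cfsg.Agent.S1312 (Op op_le le_op)

universe u

/-- **C-maximal case without components.** -/
theorem cmax_false_of_noComponent {G : Type u} [Group G] [Finite G] (hG : GWMin G)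
    (h8 : 8 ∣ Nat.card G) (hV : ¬ KleinSelfCentralizing G) {t : G} (ht : orderOf t = 2)
    (hC : IsCoatom (centralizer ({t} : Set G)))
    (hnl : ∀ u : G, orderOf u = 2 → Commute t u → u ≠ t → ∀ p : ℕ, p.Prime → p ≠ 2 →
      CMax.NoComponentOver t u p) : False := by
  classical
  haveI := Fintype.ofFinite G
  refine cmax_false_of_dichotomy hG h8 hV ht hC fun u hu huc hne p hp => ?_
  haveI : Fact p.Prime := ⟨hp⟩
  by_cases hp2 : p = 2
  · subst hp2
    left
    intro x hx
    obtain ⟨k, hk⟩ := ((Cfsg.Lib.Core.pCore_isPGroup 2 ↥(coreC t)).map (coreC t).subtype) ⟨x, hx⟩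
    have h1 : x ^ 2 ^ k = 1 := congrArg Subtype.val hk
    have h2 : Odd (orderOf x) := by
      have h3 := (odd_card_coreC t).of_dvd_nat
        (orderOf_dvd_natCard (⟨x, map_subtype_le _ hx⟩ : coreC t))
      rwa [Subgroup.orderOf_mk] at h3
    rw [orderOf_eq_one_iff.1 (Nat.eq_one_of_dvd_coprimes
      ((Nat.coprime_two_right.2 h2).pow_right k) (dvd_refl _) (orderOf_dvd_of_pow_eq_one h1))]
    exact Commute.one_right u
  have hsub : (Cfsg.pCore p ↥(coreC t)).map (coreC t).subtype ≤
      Op p (centralizer ({t} : Set G)) := by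
    refine le_op ((map_subtype_le _).trans (coreC_le t)) (fun c hc => ?_)
      ((Cfsg.Lib.Core.pCore_isPGroup p _).map _)
    refine mem_normalizer_fintype fun x hx => ?_
    refine CMax.conj_mem_map_char (fun a ha => ?_) _ hx
    obtain ⟨b, hb, rfl⟩ := ha
    exact ⟨⟨c, hc⟩ * b * ⟨c, hc⟩⁻¹, Normal.conj_mem inferInstance b hb _, rfl⟩
  have hui : u⁻¹ = u := inv_eq_of_mul_eq_one_right (by rw [← pow_two, ← hu, pow_orderOf_eq_one])
  rcases CMax.centralizes_or_inverts hG h8 ht hu hne huc.symm hC hp2
      (hnl u hu huc.symm hne p hp hp2) with h | h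
  · exact Or.inl fun x hx => h x (hsub hx)
  · exact Or.inr fun x hx => by rw [hui]; exact h x (hsub hx)

end Cfsg.Lib.GW
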