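import Cfsg.Agent.Lib.GW.CMax.MixedEnd
import Cfsg.Agent.Lib.GW.CMax.Glue
import Cfsg.Agent.Lib.GW.CaseTwoParts

/-!
# The centralizer of an involution is not maximal

A reflection moving `Z = Ω₁ Z(O_r(U))` inverts it, by the mixed case; so, given the reduction for a
reflection moving and fixing in `O_p(U)`, no maximal subgroup over `N(C_R(u))` has a component.
-/

set_option autoImplicit false
set_option linter.unusedSectionVars false
set_option linter.style.haveILetI false

namespace Cfsg.Lib.GW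

open Subgroup
open Cfsg.Lib.Block

universe u

namespace CMax

/-- The reduction for a reflection moving and fixing in `O_p(U)`, every moving reflection inverting
`Ω₁ Z(O_r(U))`. -/
def Reduction : Prop :=
  ∀ (G : Type u) [Group G] [Fintype G] [Fact (Nat.Prime 2)], GWMin G → 8 ∣ Nat.card G →
    ∀ (P : Sylow 2 G) (σ τ : G) (h : ℕ), DihSylow P σ τ h →
      IsCoatom (centralizer ({σ ^ h} : Set G)) →
      (∀ a : G, a * a = 1 → a ≠ 1 → IsConj (σ ^ h) a) → (¬ ∀ a b : G, a * b = b * a) →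
      ∀ p : ℕ, p.Prime → p ≠ 2 → (∃ a ∈ coreP σ h p, ¬ Commute τ a) →
        (∃ a ∈ coreP σ h p, a ≠ 1 ∧ Commute τ a) →
        (∀ r : ℕ, r.Prime → r ≠ 2 → ∀ x ∈ (P : Subgroup G), x ∉ zpowers σ →
          (∃ a ∈ coreP σ h r, ¬ Commute x a) → ∀ z ∈ omegaZ σ h r, x * z * x = z⁻¹) → False

variable {G : Type u} [Group G] [Fintype G] [Fact (Nat.Prime 2)] {P : Sylow 2 G} {σ τ : G} {h : ℕ}

/-- A reflection moving `O_p(U)` inverts `Ω₁ Z(O_p(U))`. -/
theorem inverts_omegaZ (hG : GWMin G) (h8 : 8 ∣ Nat.card G) (D : DihSylow P σ τ h)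
    (hmax : IsCoatom (centralizer ({σ ^ h} : Set G)))
    (hconjJ : ∀ a : G, a * a = 1 → a ≠ 1 → IsConj (σ ^ h) a) {p : ℕ} (hp : p.Prime) (hp2 : p ≠ 2)
    (hmove : ∃ a ∈ coreP σ h p, ¬ Commute τ a) {z : G} (hz : z ∈ omegaZ σ h p) :
    τ * z * τ = z⁻¹ := by
  refine inverts_of_fixed_trivial D.sqτ (fun r hr => ?_) (fun r hr hc => ?_) hz
  · have := conj_omegaZ D (D.central_involution.2.2 τ D.memτ) hr
    rwa [D.τ_inv] at this
  by_contra hr1
  by_cases hall : ∀ a ∈ omegaZ σ h p, Commute τ a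
  · exact no_normal_fixed D hG h8 hmax hp hp2 hmove omegaZ_le
      (fun e => hr1 (mem_bot.1 (e ▸ hr))) hall fun c hc a ha => conj_omegaZ D hc ha
  · push Not at hall
    exact mixed_false hG h8 D hmax hconjJ hp hp2 ⟨r, hr, hr1, hc.symm⟩ hall

end CMax

/-- A frame at an involution. -/
theorem GWMin.exists_frame_at {G : Type u} [Group G] [Fintype G] [Fact (Nat.Prime 2)] (hG : GWMin G)
    (h8 : 8 ∣ Nat.card G) {t : G} (ht : orderOf t = 2) :
    ∃ (S : Sylow 2 G) (σ τ : G) (h : ℕ), DihSylow S σ τ h ∧ σ ^ h = t := by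
  obtain ⟨S, htS, htZ⟩ := hG.exists_sylow_central ht
  obtain ⟨m, hm, e⟩ := hG.sylow S
  have h8S : 8 ∣ Nat.card (S : Subgroup G) :=
    S.pow_dvd_card_of_pow_dvd_card (n := 3) (by simpa using h8)
  have hcS : Nat.card (S : Subgroup G) = 2 * m :=
    (Nat.card_congr e.some.toEquiv).trans DihedralGroup.nat_card
  obtain ⟨k, hk⟩ := S.2.exists_card_eq
  have hk3 : 3 ≤ k := by
    by_contra hlt
    have h1 := Nat.le_of_dvd (by rw [hk]; positivity) h8S
    have h2 := Nat.pow_le_pow_right two_pos (show k ≤ 2 by omega)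
    rw [hk] at h1
    omega
  have hmk : m = 2 ^ (k - 1) := by
    have h1 : 2 ^ k = 2 * 2 ^ (k - 1) := by rw [← pow_succ']; congr 1; omega
    omega
  subst hmk
  obtain ⟨σ, τ, g⟩ := exists_gens hk3 e
  exact ⟨S, σ, τ, _, g.toDihSylow, (eq_central_of_commute g.toDihSylow htS
    (by rw [← pow_two, ← ht, pow_orderOf_eq_one]) (Cfsg.Lib.Invol.ne_one ht)
    (show t * σ = σ * t from (htZ σ g.toDihSylow.memσ).symm)).symm⟩

/-- **The centralizer of an involution is not maximal**, from the reduction. -/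
theorem noMaxCentralizer_of_reduction (hR : CMax.Reduction.{u}) (G : Type u) [Group G] [Finite G]
    (hG : GWMin G) (h8 : 8 ∣ Nat.card G) (hV : ¬ KleinSelfCentralizing G) : NoMaxCentralizer G := by
  intro t ht hC
  refine cmax_false_of_noComponent hG h8 hV ht hC fun u hu htu hut p hp hp2 => ?_
  haveI := Fintype.ofFinite G
  haveI : Fact (Nat.Prime 2) := ⟨Nat.prime_two⟩
  haveI := hG.isSimple
  obtain ⟨S, σ, τ, h, D, rfl⟩ := hG.exists_frame_at h8 ht
  have hconjJ : ∀ a : G, a * a = 1 → a ≠ 1 → IsConj (σ ^ h) a := fun a ha ha1 =>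
    hG.oneClass _ a ht (orderOf_eq_prime (by rw [pow_two, ha]) ha1)
  intro hA1 N hN hAN
  rw [← CMax.coreP_eq_op D hp hp2] at hA1 hAN
  by_cases hall : ∀ a ∈ CMax.coreP σ h p, Commute u a
  · have e : N = centralizer ({σ ^ h} : Set G) := by
      have hle : centralizer ({σ ^ h} : Set G) ≤ N := by
        refine le_trans ?_ hAN
        rw [inf_of_le_left (fun a ha => mem_centralizer_singleton_iff.2 (hall a ha).symm.eq)]
        exact fun c hc => mem_normalizer_fintype fun a ha =>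
          CMax.conj_coreP D (mem_centralizer_singleton_iff.1 hc) ha
      rcases eq_or_lt_of_le hle with e' | e'
      · exact e'.symm
      · exact absurd (hC.2 N e') hN.1
    subst e
    exact CMax.layer_centralizer D hG
  exfalso
  push Not at hall
  obtain ⟨a, ha, hna⟩ := hall
  obtain ⟨b, ⟨hb, hbu⟩, hb1⟩ := (bot_or_exists_ne_one _).resolve_left hA1
  obtain ⟨g, hgJ, hgP⟩ := exists_conj_mem D (a := u)
    (by rw [← pow_two, ← hu, pow_orderOf_eq_one]) htu.symm
  have hgu : g * u * g⁻¹ ∉ zpowers σ := by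
    intro hm
    rcases D.eq_central_of_sq hm (by
      rw [show g * u * g⁻¹ * (g * u * g⁻¹) = g * (u * u) * g⁻¹ by group,
        Cfsg.Lib.Invol.inv_mul_self hu, mul_one, mul_inv_cancel]) with e | e
    · exact Cfsg.Lib.Invol.ne_one hu (conj_eq_one_iff.1 e)
    · refine hut ?_
      calc u = g⁻¹ * (g * u * g⁻¹) * g := by group
        _ = σ ^ h := by rw [e, mul_assoc, ← hgJ.eq, inv_mul_cancel_left]
  refine hR G hG h8 S σ (g * u * g⁻¹) h (CMax.frame_at D hgP hgu) hC hconjJ
    (fun hc => hG.nonab ⟨⟨hc⟩⟩) p hp hp2 ⟨g * a * g⁻¹, CMax.conj_coreP D hgJ ha, fun e => hna ?_⟩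
    ⟨g * b * g⁻¹, CMax.conj_coreP D hgJ hb, fun e => hb1 (conj_eq_one_iff.1 e), ?_⟩
    fun r hr hr2 x hx hx' hmove z hz =>
      CMax.inverts_omegaZ hG h8 (CMax.frame_at D hx hx') hC hconjJ hr hr2 hmove hz
  · have := e.map (MulAut.conj g⁻¹).toMonoidHom
    simpa [mul_assoc] using this
  · exact ((show Commute b u from mem_centralizer_singleton_iff.1 hbu).symm.map
      (MulAut.conj g).toMonoidHom)

end Cfsg.Lib.GW
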