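import Cfsg.Agent.Lib.GW.ArithTwo

/-!
# The index of the centralizer against the fixed points, all companion degrees at least twelve

With `δ = ((W₀ - W₁) / (W₀ + W₁)) ^ 2` the product equation reads
`a b (δ (X - 1) ^ 2 + 4 X) = X (X + 1) ^ 2`, so large degrees bound `δ` and with it
`(W₀ + W₁) ^ 2 X (X + 1) ≤ 17 W_i ^ 2 (X - 1) ^ 2`.
-/

set_option autoImplicit false
set_option linter.unusedSectionVars false

namespace Cfsg.Lib.GW

open Cfsg Cfsg.Lib.Block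
open Cfsg.Lib.Block.DihSylow (oddPart oddFix)

universe u

namespace CMax

/-- From a bound on the square of the difference to one on the smaller summand. -/
theorem part_ge {U V p q : ℤ} (hU : 0 < U) (hV : 0 < V) (hp : 0 ≤ p) (hpq : p ≤ q)
    (h : q ^ 2 * (U - V) ^ 2 ≤ p ^ 2 * (U + V) ^ 2) :
    (q - p) ^ 2 * (U + V) ^ 2 ≤ 4 * q ^ 2 * U ^ 2 := by
  have h1 : |q * (U - V)| ≤ p * (U + V) :=
    abs_le_of_sq_le_sq (by linarith [mul_pow q (U - V) 2, mul_pow p (U + V) 2])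
      (mul_nonneg hp (by omega))
  rw [abs_le] at h1
  have h2 : (q - p) * (U + V) ≤ 2 * q * U := by linarith [h1.1]
  have h3 : 0 ≤ (q - p) * (U + V) := mul_nonneg (by omega) (by omega)
  linarith [mul_le_mul h2 h2 h3 (h3.trans h2)]

/-- The bound for a positive signed degree. -/
theorem ratio_pos {X a b U V D S : ℤ} (hU : 0 < U) (hV : 0 < V) (h4 : (4 : ℤ) ∣ X - 1)
    (hD : D = (U - V) ^ 2) (hS : S = (U + V) ^ 2)
    (hsum : a + b = -(X + 1)) (hX : 12 ≤ X) (ha : 12 ≤ |a|) (hb : 12 ≤ |b|)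
    (e : a * b * (D * (X - 1) ^ 2 + 4 * X * S) = X * (X + 1) ^ 2 * S) :
    S * (X * (X + 1)) ≤ 17 * U ^ 2 * (X - 1) ^ 2 := by
  obtain ⟨d, hd⟩ := h4
  have hS0 : 0 < S := hS ▸ pow_pos (by omega) 2
  have hD0 : 0 ≤ D := hD ▸ sq_nonneg _
  have hbr : 0 < D * (X - 1) ^ 2 + 4 * X * S :=
    add_pos_of_nonneg_of_pos (mul_nonneg hD0 (sq_nonneg _)) (mul_pos (by omega) hS0)
  have hrhs : 0 < X * (X + 1) ^ 2 * S :=
    mul_pos (mul_pos (by omega) (pow_pos (by omega) 2)) hS0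
  have hab : 0 < a * b := pos_of_mul_pos_left (e ▸ hrhs) hbr.le
  have hneg : a ≤ -12 ∧ b ≤ -12 := by
    rcases le_abs.1 ha with h1 | h1 <;> rcases le_abs.1 hb with h2 | h2
    · omega
    · nlinarith
    · nlinarith
    · omega
  have hX25 : 25 ≤ X := by omega
  have hlow : 12 * (X - 11) ≤ a * b := by
    linarith [mul_nonneg (show (0 : ℤ) ≤ -a - 12 by omega) (show (0 : ℤ) ≤ -b - 12 by omega)]
  have h1 : 12 * (X - 11) * (D * (X - 1) ^ 2 + 4 * X * S) ≤ X * (X + 1) ^ 2 * S :=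
    (mul_le_mul_of_nonneg_right hlow hbr.le).trans_eq e
  have hpoly : 3 * X * (X + 1) ^ 2 - 144 * X * (X - 11) ≤ 4 * (X - 1) ^ 2 * (X - 11) := by
    linarith [mul_nonneg (mul_self_nonneg X) (show (0 : ℤ) ≤ X - 25 by omega),
      mul_nonneg (show (0 : ℤ) ≤ X by omega) (show (0 : ℤ) ≤ X - 25 by omega)]
  have hp2 := mul_le_mul_of_nonneg_right hpoly hS0.le
  have h2 : 4 * (X - 1) ^ 2 * (X - 11) * (9 * D) ≤ 4 * (X - 1) ^ 2 * (X - 11) * S := by linarith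
  have h9 : 9 * D ≤ S := le_of_mul_le_mul_left h2
    (mul_pos (mul_pos (by norm_num) (pow_pos (by omega) 2)) (by omega))
  have hpart := part_ge hU hV (p := 1) (q := 3) (by norm_num) (by norm_num)
    (by rw [← hD, ← hS]; linarith)
  rw [← hS] at hpart
  have hX2 : 36 * (X * (X + 1)) ≤ 68 * (X - 1) ^ 2 := by
    linarith [mul_nonneg (show (0 : ℤ) ≤ X by omega) (show (0 : ℤ) ≤ X - 25 by omega)]
  linarith [mul_le_mul_of_nonneg_left hX2 hS0.le, mul_le_mul_of_nonneg_right hpart (sq_nonneg (X - 1))]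

/-- The bound for a negative signed degree. -/
theorem ratio_neg {Y a b U V D S : ℤ} (hU : 0 < U) (hV : 0 < V) (h4 : (4 : ℤ) ∣ -Y - 1)
    (hD : D = (U - V) ^ 2) (hS : S = (U + V) ^ 2)
    (hsum : a + b = Y - 1) (hY : 12 ≤ Y) (ha : 12 ≤ |a|) (hb : 12 ≤ |b|)
    (e : a * b * (D * (Y + 1) ^ 2 - 4 * Y * S) = -(Y * (Y - 1) ^ 2 * S)) :
    S * (Y * (Y - 1)) ≤ 17 * U ^ 2 * (Y + 1) ^ 2 := by
  obtain ⟨d, hd⟩ := h4
  have hY15 : 15 ≤ Y := by omega
  have hS0 : 0 < S := hS ▸ pow_pos (by omega) 2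
  have hD0 : 0 ≤ D := hD ▸ sq_nonneg _
  obtain ⟨R, hR⟩ : ∃ R, R = D * (Y + 1) ^ 2 - 4 * Y * S := ⟨_, rfl⟩
  rw [← hR] at e
  have hrhs : 0 < Y * (Y - 1) ^ 2 * S :=
    mul_pos (mul_pos (by omega) (pow_pos (by omega) 2)) hS0
  have hD2 : 4 * D ≤ S ∨ (Y = 15 ∧ 10000 * D ≤ 2809 * S) := by
    rcases lt_trichotomy (a * b) 0 with hab | hab | hab
    · have hlow : 12 * (Y + 11) ≤ -(a * b) := by
        rcases le_abs.1 ha with h1 | h1 <;> rcases le_abs.1 hb with h2 | h2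
        · nlinarith
        · nlinarith [mul_nonneg (show (0 : ℤ) ≤ a - (Y + 11) by omega)
            (show (0 : ℤ) ≤ -b - 12 by omega)]
        · nlinarith [mul_nonneg (show (0 : ℤ) ≤ b - (Y + 11) by omega)
            (show (0 : ℤ) ≤ -a - 12 by omega)]
        · nlinarith
      have hR0 : 0 < R := by
        by_contra hle
        have := mul_nonneg_of_nonpos_of_nonpos hab.le (not_lt.1 hle)
        omega
      have h1 : 12 * (Y + 11) * R ≤ Y * (Y - 1) ^ 2 * S :=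
        (mul_le_mul_of_nonneg_right hlow hR0.le).trans_eq (by linarith)
      rw [hR] at h1
      rcases (show Y = 15 ∨ 19 ≤ Y by omega) with rfl | hY19
      · refine Or.inr ⟨rfl, ?_⟩
        norm_num at h1
        omega
      · left
        have hpoly : Y * (Y - 1) ^ 2 + 48 * Y * (Y + 11) ≤ 3 * (Y + 1) ^ 2 * (Y + 11) := by
          linarith [mul_nonneg (mul_self_nonneg Y) (show (0 : ℤ) ≤ Y - 19 by omega),
            mul_nonneg (show (0 : ℤ) ≤ Y by omega) (show (0 : ℤ) ≤ Y - 19 by omega)]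
        have hp2 := mul_le_mul_of_nonneg_right hpoly hS0.le
        have h2 : 3 * (Y + 1) ^ 2 * (Y + 11) * (4 * D) ≤ 3 * (Y + 1) ^ 2 * (Y + 11) * S := by
          linarith
        exact le_of_mul_le_mul_left h2
          (mul_pos (mul_pos (by norm_num) (pow_pos (by omega) 2)) (by omega))
    · rw [hab, zero_mul] at e; omega
    · left
      have hR0 : R < 0 := by
        by_contra hle
        have := mul_nonneg hab.le (not_lt.1 hle)
        omega
      have hY2 : 16 * Y ≤ (Y + 1) ^ 2 := by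
        linarith [mul_nonneg (show (0 : ℤ) ≤ Y by omega) (show (0 : ℤ) ≤ Y - 15 by omega)]
      have h2 : (Y + 1) ^ 2 * (4 * D) ≤ (Y + 1) ^ 2 * S := by
        linarith [mul_le_mul_of_nonneg_right hY2 hS0.le]
      exact le_of_mul_le_mul_left h2 (pow_pos (by omega) 2)
  rcases hD2 with h4' | ⟨rfl, h15⟩
  · have hpart := part_ge hU hV (p := 1) (q := 2) (by norm_num) (by norm_num)
      (by rw [← hD, ← hS]; linarith)
    rw [← hS] at hpart
    have hfac : Y * (Y - 1) ≤ (Y + 1) ^ 2 := by linarith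
    have hU2 : 0 ≤ U ^ 2 * (Y + 1) ^ 2 := mul_nonneg (sq_nonneg _) (sq_nonneg _)
    linarith [mul_le_mul_of_nonneg_left hfac hS0.le, mul_le_mul_of_nonneg_right hpart
      (sq_nonneg (Y + 1))]
  · have hpart := part_ge hU hV (p := 53) (q := 100) (by norm_num) (by norm_num)
      (by rw [← hD, ← hS]; linarith)
    rw [← hS] at hpart
    norm_num at hpart ⊢
    linarith [sq_nonneg U]

/-- The bound, for integers. -/
theorem ratio_bound {X a b U V : ℤ} (hU : 0 < U) (hV : 0 < V) (h4 : (4 : ℤ) ∣ X - 1)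
    (hsum : a + b = -(X + 1)) (hX : 12 ≤ |X|) (ha : 12 ≤ |a|) (hb : 12 ≤ |b|)
    (hprod : a * b * ((U - V) ^ 2 * (X + 1) ^ 2 + 16 * X * U * V) =
      X * (X + 1) ^ 2 * (U + V) ^ 2) :
    (U + V) ^ 2 * (X * (X + 1)) ≤ 17 * U ^ 2 * (X - 1) ^ 2 := by
  rcases le_abs.1 hX with hXp | hXn
  · exact ratio_pos hU hV h4 rfl rfl hsum hXp ha hb (by linear_combination hprod)
  · obtain ⟨Y, rfl⟩ : ∃ Y, X = -Y := ⟨-X, by ring⟩
    have := ratio_neg hU hV h4 rfl rfl (by omega) (by omega) ha hb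
      (show a * b * ((U - V) ^ 2 * (Y + 1) ^ 2 - 4 * Y * (U + V) ^ 2) =
        -(Y * (Y - 1) ^ 2 * (U + V) ^ 2) by linear_combination hprod)
    linarith

end CMax

namespace Companion

variable {G : Type u} [Group G] [Fintype G] {M : Ideal AlgInt}
variable {P : Sylow 2 G} {σ τ : G} {h : ℕ} [Fact (Nat.Prime 2)] (D : DihSylow P σ τ h)
  (co : Companion M P σ τ h)

include D

/-- The ratio bound for both fixed point orders. -/
theorem ratio_bound (hX : 12 ≤ |co.X|) (ha : 12 ≤ |co.a|) (hb : 12 ≤ |co.b|) :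
    (((oddFix σ h τ).card : ℤ) + (oddFix σ h (σ * τ)).card) ^ 2 * (co.X * (co.X + 1)) ≤
        17 * ((oddFix σ h τ).card : ℤ) ^ 2 * (co.X - 1) ^ 2 ∧
      (((oddFix σ h τ).card : ℤ) + (oddFix σ h (σ * τ)).card) ^ 2 * (co.X * (co.X + 1)) ≤
        17 * ((oddFix σ h (σ * τ)).card : ℤ) ^ 2 * (co.X - 1) ^ 2 := by
  have hp := co.product D
  have h0 : 0 < ((oddFix σ h τ).card : ℤ) := by have := oddFix_ne_zero D τ; omega
  have h1 : 0 < ((oddFix σ h (σ * τ)).card : ℤ) := by have := oddFix_ne_zero D (σ * τ); omega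
  refine ⟨CMax.ratio_bound h0 h1 (co.four_dvd D) co.sum_eq hX ha hb (by linear_combination hp), ?_⟩
  rw [add_comm ((oddFix σ h τ).card : ℤ)]
  exact CMax.ratio_bound h1 h0 (co.four_dvd D) co.sum_eq hX ha hb (by linear_combination hp)

/-- The index of the centralizer. -/
theorem index_bound (hX : 12 ≤ |co.X|) (ha : 12 ≤ |co.a|) (hb : 12 ≤ |co.b|) :
    (Subgroup.centralizer ({σ ^ h} : Set G)).index * (oddFix σ h τ).card ^ 2 ≤
        34 * h ^ 2 * (oddPart σ h).card ^ 2 ∧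
      (Subgroup.centralizer ({σ ^ h} : Set G)).index * (oddFix σ h (σ * τ)).card ^ 2 ≤
        34 * h ^ 2 * (oddPart σ h).card ^ 2 := by
  obtain ⟨r0, r1⟩ := co.ratio_bound D hX ha hb
  have hof := co.order_formula D
  have hC := D.oddPart_spec.2.2.2.2.2.2
  have hidx := (Subgroup.centralizer ({σ ^ h} : Set G)).card_mul_index
  rw [hC] at hidx
  rw [← hidx] at hof
  push_cast at hof
  obtain ⟨I, hI⟩ : ∃ I, I = (Subgroup.centralizer ({σ ^ h} : Set G)).index := ⟨_, rfl⟩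
  obtain ⟨U, hU⟩ : ∃ U, U = (oddPart σ h).card := ⟨_, rfl⟩
  obtain ⟨A, hA⟩ : ∃ A, A = (oddFix σ h τ).card := ⟨_, rfl⟩
  obtain ⟨B, hB⟩ : ∃ B, B = (oddFix σ h (σ * τ)).card := ⟨_, rfl⟩
  rw [← hI, ← hU, ← hA, ← hB] at hof
  rw [← hA, ← hB] at r0 r1
  rw [← hI, ← hU, ← hA, ← hB]
  have hA0 : (A : ℚ) ≠ 0 := by rw [hA]; exact_mod_cast oddFix_ne_zero D τ
  have hB0 : (B : ℚ) ≠ 0 := by rw [hB]; exact_mod_cast oddFix_ne_zero D (σ * τ)
  have hh : (0 : ℚ) < h := Nat.cast_pos.2 (by have := D.two_le; omega)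
  have hU0 : (0 : ℚ) < U := by
    rw [hU]
    exact Nat.cast_pos.2 (Finset.card_pos.2 ⟨1, D.oddPart_spec.1⟩)
  have hX1 : (0 : ℚ) < ((co.X : ℚ) - 1) ^ 2 :=
    sq_pos_of_ne_zero (sub_ne_zero.2 (by exact_mod_cast co.X_ne_one D))
  have key : (I : ℚ) * ((co.X : ℚ) - 1) ^ 2 * ((A : ℚ) ^ 2 * (B : ℚ) ^ 2) =
      2 * (h : ℚ) ^ 2 * (U : ℚ) ^ 2 * ((((A : ℚ) + B) ^ 2) * ((co.X : ℚ) * ((co.X : ℚ) + 1))) := by
    field_simp at hof ⊢
    linear_combination hof / 4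
  have r0' : ((A : ℚ) + B) ^ 2 * ((co.X : ℚ) * ((co.X : ℚ) + 1)) ≤
      17 * (A : ℚ) ^ 2 * ((co.X : ℚ) - 1) ^ 2 := by exact_mod_cast r0
  have r1' : ((A : ℚ) + B) ^ 2 * ((co.X : ℚ) * ((co.X : ℚ) + 1)) ≤
      17 * (B : ℚ) ^ 2 * ((co.X : ℚ) - 1) ^ 2 := by exact_mod_cast r1
  have hk : (0 : ℚ) ≤ 2 * (h : ℚ) ^ 2 * (U : ℚ) ^ 2 := by positivity
  constructor
  · have e := key.trans_le (mul_le_mul_of_nonneg_left r1' hk)
    have h2 : (I : ℚ) * A ^ 2 * (((co.X : ℚ) - 1) ^ 2 * B ^ 2) ≤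
        34 * h ^ 2 * U ^ 2 * (((co.X : ℚ) - 1) ^ 2 * B ^ 2) := by linarith
    have h3 := le_of_mul_le_mul_right h2 (mul_pos hX1 (sq_pos_of_ne_zero hB0))
    exact_mod_cast h3
  · have e := key.trans_le (mul_le_mul_of_nonneg_left r0' hk)
    have h2 : (I : ℚ) * B ^ 2 * (((co.X : ℚ) - 1) ^ 2 * A ^ 2) ≤
        34 * h ^ 2 * U ^ 2 * (((co.X : ℚ) - 1) ^ 2 * A ^ 2) := by linarith
    have h3 := le_of_mul_le_mul_right h2 (mul_pos hX1 (sq_pos_of_ne_zero hA0))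
    exact_mod_cast h3

end Companion

end Cfsg.Lib.GW
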