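import Cfsg.Agent.Lib.GW.CMax.ReduceAbelian
import Cfsg.Agent.Lib.GW.CMax.NoMax
import Cfsg.Agent.Lib.GW.CMax.DegreeLow
import Cfsg.Agent.Lib.GW.CMax.RatioBound

/-!
# The reduction

`στ` fixes or inverts `a`.  If it fixes it, both classes of reflections have as many fixed points and
`σ` is inner in the component; otherwise `στ` has `p` fixed points, `σ²` is inner, and the companion
degrees bound the ratio of the two fixed point orders by three.  Either way the count is impossible.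
-/

set_option autoImplicit false
set_option linter.unusedSectionVars false
set_option linter.style.haveILetI false
set_option maxHeartbeats 800000

namespace Cfsg.Lib.GW.CMax

open Cfsg Cfsg.Lib.Block
open Cfsg.Lib.Block.DihSylow (oddPart oddFix mem_oddPart mem_oddFix)

universe u

variable {G : Type u} [Group G] [Fintype G] [Fact (Nat.Prime 2)]
variable {P : Sylow 2 G} {σ τ : G} {h p : ℕ} {N : Subgroup G} {c : Comp N} {a : G}

/-- The fixed point ratio is at most three. -/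
theorem ratio_le_three {X r : ℤ} (hX : 12 ≤ |X|) (_hr : 1 ≤ r)
    (hb : (r + 1) ^ 2 * (X * (X + 1)) ≤ 17 * (X - 1) ^ 2) : r ≤ 3 := by
  by_contra hlt
  have h25 : (25 : ℤ) ≤ (r + 1) ^ 2 := by
    have := pow_le_pow_left₀ (by norm_num) (show (5 : ℤ) ≤ r + 1 by omega) 2
    linarith
  have hpos : 0 ≤ X * (X + 1) := by
    rcases le_abs.1 hX with h | h
    · exact mul_nonneg (by omega) (by omega)
    · exact mul_nonneg_of_nonpos_of_nonpos (by omega) (by omega)
  have h2 := (mul_le_mul_of_nonneg_right h25 hpos).trans hb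
  rcases le_abs.1 hX with h | h
  · nlinarith [mul_self_nonneg (X - 12)]
  · nlinarith [mul_nonneg (show (0 : ℤ) ≤ -X - 12 by omega) (show (0 : ℤ) ≤ -X - 12 by omega)]

namespace LineCtx

variable (k : LineCtx P σ τ h p c a)

include k

/-- The rotation centralizes `Z`. -/
theorem sigma_omega {z : G} (hz : z ∈ omegaZ σ h p) : σ * z * σ⁻¹ = z := by
  have D := k.red.frame
  obtain ⟨hsP, hsσ⟩ := rotation_facts D
  have hxi : (σ * τ)⁻¹ = σ * τ := inv_eq_of_mul_eq_one_right (reflection_mem D hsP hsσ).1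
  calc σ * z * σ⁻¹ = σ * (τ * z⁻¹ * τ) * σ⁻¹ := by rw [k.red.tau_inv_omega (inv_mem hz), inv_inv]
    _ = σ * τ * z⁻¹ * (σ * τ)⁻¹ := by rw [_root_.mul_inv_rev, D.τ_inv]; group
    _ = z := by
        rw [hxi, (k.red.at_reflection hsP hsσ).tau_inv_omega (inv_mem hz), inv_inv]

/-- `στ` centralizes or inverts `a`. -/
theorem rot_cases : Commute a (σ * τ) ∨ σ * τ * a * (σ * τ) = a⁻¹ := by
  have D := k.red.frame
  obtain ⟨hsP, hsσ⟩ := rotation_facts D
  have hx2 := (reflection_mem D hsP hsσ).1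
  refine (k.refl_cases hsP hsσ).imp (fun he => ?_) id
  have hxi : (σ * τ)⁻¹ = σ * τ := inv_eq_of_mul_eq_one_right hx2
  obtain ⟨e, he'⟩ : ∃ e, e = σ * τ * a * (σ * τ) * a⁻¹ := ⟨_, rfl⟩
  rw [← he'] at he
  have hσa : σ * a * σ⁻¹ = e * a := by
    calc σ * a * σ⁻¹ = σ * (τ * a * τ) * σ⁻¹ := by
          rw [InvAct.conj_of_commute D.sqτ k.afix]
      _ = σ * τ * a * (σ * τ)⁻¹ := by rw [_root_.mul_inv_rev, D.τ_inv]; group
      _ = e * a := by rw [hxi, he', inv_mul_cancel_right]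
  obtain ⟨m, hm⟩ := D.exists_order (u := σ) D.memσ
  have h1 := pow_conj_comm hσa (mul_inv_eq_iff_eq_mul.1 (k.sigma_omega he)) (orderOf σ)
  rw [pow_orderOf_eq_one, one_mul, inv_one, mul_one, hm, right_eq_mul] at h1
  have he1 : e = 1 := eq_one_of_two_pow D (omegaZ_le.trans coreP_le he) h1
  have hfix : σ * τ * a * (σ * τ) = a := mul_inv_eq_one.1 (he'.symm.trans he1)
  show a * (σ * τ) = σ * τ * a
  calc a * (σ * τ) = σ * τ * a * (σ * τ) * (σ * τ) := by rw [hfix]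
    _ = σ * τ * a := by rw [mul_assoc, hx2, mul_one]

theorem card_oddPart : (oddPart σ h).card = Nat.card (oddSub σ h) := by
  classical
  rw [Nat.card_eq_fintype_card, Fintype.card_subtype]
  congr 1
  ext y
  simp [mem_oddSub k.red.frame]

omit k in
theorem card_oddFix_at {x : G} (k : LineCtx P σ τ h p c a) (hx : x ∈ (P : Subgroup G))
    (hx' : x ∉ Subgroup.zpowers σ) : (oddFix σ h x).card = Nat.card (fixR σ x h p) := by
  rw [PlaneCtx.card_oddFix (frame_at k.red.frame hx hx')]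
  refine congrArg (fun H : Subgroup G => Nat.card H) (le_antisymm (fun u hu => ?_) fun u hu => ?_)
  · exact k.fixed_mem_fixR hx hx' hu.1 (Subgroup.mem_centralizer_singleton_iff.1 hu.2)
  · exact ⟨coreP_le (mem_fixR.1 hu).1,
      Subgroup.mem_centralizer_singleton_iff.2 (mem_fixR.1 hu).2.eq⟩

/-- An inverting reflection has `p` fixed points. -/
theorem card_fixR_inverted {x : G} (hx : x ∈ (P : Subgroup G)) (hx' : x ∉ Subgroup.zpowers σ)
    (hxa : x * a * x = a⁻¹) : Nat.card (fixR σ x h p) = p := by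
  classical
  have D := k.red.frame
  haveI : Fact p.Prime := ⟨k.red.prime⟩
  have r' := k.red.at_reflection hx hx'
  obtain ⟨hx2, -, -⟩ := reflection_mem D hx hx'
  have hxJ := D.central_involution.2.2 x hx
  have hxi : x⁻¹ = x := inv_eq_of_mul_eq_one_right hx2
  -- the commutator with `a` is equivariant
  have heq : ∀ {u}, u ∈ oddSub σ h → x * u * x * a * (x * u * x)⁻¹ * a⁻¹ = u * a * u⁻¹ * a⁻¹ := by
    intro u hu
    have hd := k.comm_omega hu
    rw [show x * u * x * a * (x * u * x)⁻¹ * a⁻¹ = x * u * (x * a * x⁻¹) * u⁻¹ * x⁻¹ * a⁻¹ by group,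
      hxi, hxa, show x * u * a⁻¹ * u⁻¹ * x * a⁻¹ = x * (u * a * u⁻¹ * a⁻¹ * a)⁻¹ * (x * a⁻¹) by group,
      show (u * a * u⁻¹ * a⁻¹ * a)⁻¹ = (u * a * u⁻¹ * a⁻¹)⁻¹ * a⁻¹ by
        rw [_root_.mul_inv_rev (u * a * u⁻¹ * a⁻¹), ((k.omega_commute_a hd).inv_inv).eq],
      show x * ((u * a * u⁻¹ * a⁻¹)⁻¹ * a⁻¹) * (x * a⁻¹) =
        x * (u * a * u⁻¹ * a⁻¹)⁻¹ * x⁻¹ * (x * a⁻¹ * x⁻¹) * (x * x) * a⁻¹ by group,
      show x * a⁻¹ * x⁻¹ = (x * a * x⁻¹)⁻¹ by group, hxi, hxa, inv_inv, hx2, mul_one,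
      r'.tau_inv_omega (inv_mem hd), inv_inv, mul_inv_cancel_right]
  -- a fixed point not centralizing `a`
  obtain ⟨r₁, hr₁, hz₁⟩ := k.exists_noncomm
  obtain ⟨w, hw, i, hi, hwx, hii, hwi⟩ := InvAct.exists_split
    ((odd_card_oddSub D).of_dvd_nat (Subgroup.card_dvd_of_le coreP_le)) hx2
    (Subgroup.mem_normalizer_fintype fun y hy => conj_coreP D hxJ hy) hr₁
  have hwa : ¬ Commute w a := by
    intro hwa
    refine hz₁ ?_
    have hdi := k.comm_omega (coreP_le hi)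
    have h1 := heq (coreP_le hi)
    rw [hii] at h1
    have h2 := k.comm_mul (inv_mem (coreP_le hi)) (coreP_le hi)
    rw [h1, inv_mul_cancel, one_mul, inv_one, mul_one, mul_inv_cancel, eq_comm, ← pow_two] at h2
    have hd1 : i * a * i⁻¹ * a⁻¹ = 1 :=
      eq_one_of_two_pow D (omegaZ_le.trans coreP_le hdi) (k := 1) (by rw [pow_one]; exact h2)
    have hia : Commute i a := mul_inv_eq_iff_eq_mul.1 (mul_inv_eq_one.1 hd1)
    rw [hwi, (hwa.mul_left hia).symm.eq, mul_inv_cancel_right, mul_inv_cancel]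
  have hwF : w ∈ fixR σ x h p := mem_fixR.2 ⟨hw, hwx⟩
  -- the others meet `C_R(a)` trivially
  have hz₀ : a * w * a⁻¹ * w⁻¹ ≠ 1 := fun e =>
    hwa (mul_inv_eq_iff_eq_mul.1 (mul_inv_eq_one.1 e) : Commute a w).symm
  have hinj : ∀ y ∈ fixR σ x h p, Commute y a → y = 1 := by
    intro y hy hya
    refine r'.eq_one_of_normal_fixed (X := centA σ h p a ⊓ Subgroup.centralizer ({x} : Set G))
      (inf_le_left.trans inf_le_left) ?_
      (fun y hy => Subgroup.mem_centralizer_singleton_iff.1 hy.2)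
      ⟨mem_centA.2 ⟨(mem_fixR.1 hy).1, hya⟩,
        Subgroup.mem_centralizer_singleton_iff.2 (mem_fixR.1 hy).2.eq⟩
    rintro b hb y ⟨hyC, hyx⟩
    obtain ⟨n, hn⟩ := k.decompose hw hz₀ hb
    have hyx' : Commute y x := Subgroup.mem_centralizer_singleton_iff.1 hyx
    rw [show b * y * b⁻¹ = w ^ n * ((w ^ n)⁻¹ * b * y * ((w ^ n)⁻¹ * b)⁻¹) * (w ^ n)⁻¹ by group,
      (k.centA_comm hn hyC).eq, mul_inv_cancel_right]
    exact ⟨k.centA_normal (pow_mem hw n) hyC, Subgroup.mem_centralizer_singleton_iff.2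
      (((hwx.pow_left n).mul_left hyx').mul_left (hwx.pow_left n).inv_left).eq⟩
  let f : fixR σ x h p →* omegaZ σ h p :=
    MonoidHom.mk' (fun u => ⟨(u : G) * a * (u : G)⁻¹ * a⁻¹, k.comm_omega (coreP_le (mem_fixR.1 u.2).1)⟩)
      fun u v => Subtype.ext (k.comm_mul (coreP_le (mem_fixR.1 u.2).1) (coreP_le (mem_fixR.1 v.2).1))
  have hfi : Function.Injective f := (injective_iff_map_eq_one f).2 fun u hu => Subtype.ext
    (hinj u u.2 (mul_inv_eq_iff_eq_mul.1 (mul_inv_eq_one.1 (congrArg Subtype.val hu))))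
  haveI : Fact (Nat.Prime (Nat.card ↥(omegaZ σ h p))) := ⟨k.card_omega.symm ▸ k.red.prime⟩
  rcases Subgroup.eq_bot_or_eq_top_of_prime_card f.range with hb | ht
  · have h1 : f ⟨w, hwF⟩ ∈ f.range := MonoidHom.mem_range.2 ⟨_, rfl⟩
    rw [hb, Subgroup.mem_bot] at h1
    exact absurd (mul_inv_eq_iff_eq_mul.1 (mul_inv_eq_one.1 (congrArg Subtype.val h1))) hwa
  · rw [Nat.card_congr (MonoidHom.ofInjective hfi).toEquiv, ht, Subgroup.card_top, k.card_omega]

/-- The count, from the ratio of the fixed point orders. -/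
theorem finish_of_ratio {I : Ideal AlgInt} (co : Companion I P σ τ h) {l M : ℕ}
    (hk : σ ^ 2 ^ l ∈ c.sub)
    (hW : (oddFix σ h τ).card + (oddFix σ h (σ * τ)).card = 2 * M * (oddFix σ h (σ * τ)).card)
    (hM : 2 * M ≤ p + 1) (hlM : 2 ^ l * M ≤ p + 1) (h11 : p = 11 → 2 ^ l * M < 8) : False := by
  classical
  have D := k.red.frame
  haveI := k.red.gw.isSimple
  obtain ⟨hτ2, hτ1, hτJ'⟩ := reflection_mem D k.red.tau.1 k.red.tau.2
  obtain ⟨z, hz, hz1⟩ := k.red.exists_z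
  have hzN : z ∈ N := k.mem_of_commute' (k.omega_commute_a hz)
  obtain ⟨T, hT⟩ : ∃ T, T = oddSub σ h ⊓ c.sub := ⟨_, rfl⟩
  have hZT : omegaZ σ h p ≤ T := fun y hy => hT ▸ k.torus_iff.2
    ⟨⟨omegaZ_le.trans coreP_le hy, k.mem_of_commute' (k.omega_commute_a hy)⟩, k.red.tau_inv_omega hy⟩
  obtain ⟨t, ht⟩ : p ∣ Nat.card T := k.card_omega ▸ Subgroup.card_dvd_of_le hZT
  obtain ⟨q, d, v, j, hq, hv, hj, hvj, hqc, hjl, hdvd⟩ := torus_count D c k.memJ k.memτ hτ2 hτ1 hτJ'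
    k.red.tauJ ⟨omegaZ_le.trans coreP_le hz, hzN⟩ hz1 (k.red.tau_inv_omega hz) k.psl k.red.prime
    k.red.ne_two (T := T) (H := fixR σ τ h p) (fun s => hT ▸ k.torus_iff) ht
    (fun w hw => ⟨coreP_le (mem_fixR.1 hw).1, k.mem_of_commute' (k.fixR_commute_a hw)⟩)
    (fun w hw => (mem_fixR.1 hw).2) rfl hk
  obtain ⟨W, hWdef⟩ : ∃ W, W = Nat.card (fixR σ τ h p) := ⟨_, rfl⟩
  have ho : (oddPart σ h).card = p ^ 2 * t * 1 * W := by
    rw [k.card_oddPart, k.card_oddSub, ← hT, ht, ← hWdef]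
    ring
  have hW0 : (oddFix σ h τ).card = W := hWdef ▸ k.card_oddFix_at k.red.tau.1 k.red.tau.2
  have h3 : 3 ≤ p := by
    have := k.red.prime.two_le
    have := k.red.ne_two
    omega
  have hjM : j * M ≤ 2 ^ l * M := Nat.mul_le_mul_right M hjl
  refine reduced_end D co k.red.max k.red.prime h3 ho (n := 1) (M := M) ?_ (one_dvd _) hM
    (fun r hr hrt x hx hx' => k.torus_move hr (hT ▸ ht ▸ hrt) hx hx') hq hv hj hvj hqc (hjM.trans hlM)
    (fun e => by have := h11 e; omega) (hWdef ▸ hdvd)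
  rw [hW0] at hW ⊢
  rw [hW, ho]
  ring

/-- The two cases. -/
theorem finish : False := by
  classical
  have D := k.red.frame
  haveI := k.red.gw.isSimple
  haveI : Fact p.Prime := ⟨k.red.prime⟩
  obtain ⟨hsP, hsσ⟩ := rotation_facts D
  obtain ⟨I, hI⟩ := exists_isPModular Nat.prime_two
  obtain ⟨co⟩ := exists_companion hI D k.red.conjJ
  have h3 : 3 ≤ p := by
    have := k.red.prime.two_le
    have := k.red.ne_two
    omega
  have hcN : ∀ g, Commute g a → g ∈ N := fun g hg => k.mem_of_commute' hg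
  rcases k.rot_cases with hax | hxa
  · -- `στ` fixes `a`
    have r' := k.red.at_reflection hsP hsσ
    obtain ⟨-, hs⟩ := r'.mem_sub_over k.amemR hax c hcN
    have k' : LineCtx P σ (σ * τ) h p c a := ⟨r', k.amem, k.ane, hax, k.memJ, hs, k.memN⟩
    have hWW : Nat.card (fixR σ τ h p) = Nat.card (fixR σ (σ * τ) h p) :=
      Nat.eq_of_mul_eq_mul_right Nat.card_pos
        (Nat.eq_of_mul_eq_mul_left k.red.prime.pos (k.card_oddSub.symm.trans k'.card_oddSub))
    refine k.finish_of_ratio co (l := 0) (M := 1) ?_ ?_ (by omega) (by omega) (by omega)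
    · rw [pow_zero, pow_one, show σ = σ * τ * τ by rw [mul_assoc, D.sqτ, mul_one]]
      exact mul_mem hs k.memτ
    · rw [k.card_oddFix_at k.red.tau.1 k.red.tau.2, k.card_oddFix_at hsP hsσ, hWW]
      omega
  -- `στ` inverts `a`
  have hxi : (σ * τ)⁻¹ = σ * τ := inv_eq_of_mul_eq_one_right (reflection_mem D hsP hsσ).1
  have hσa : σ * a * σ⁻¹ = a⁻¹ := by
    calc σ * a * σ⁻¹ = σ * (τ * a * τ) * σ⁻¹ := by rw [InvAct.conj_of_commute D.sqτ k.afix]
      _ = σ * τ * a * (σ * τ)⁻¹ := by rw [_root_.mul_inv_rev, D.τ_inv]; group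
      _ = a⁻¹ := by rw [hxi, hxa]
  have hσσ : Commute (σ * σ) a := by
    refine mul_inv_eq_iff_eq_mul.1 ?_
    rw [show σ * σ * a * (σ * σ)⁻¹ = σ * (σ * a * σ⁻¹) * σ⁻¹ by group, hσa, ← conj_inv, hσa, inv_inv]
  -- `σ²` is inner
  have hs2P : σ * σ * τ ∈ (P : Subgroup G) := mul_mem (mul_mem D.memσ D.memσ) D.memτ
  have hs2σ : σ * σ * τ ∉ Subgroup.zpowers σ := fun hm => k.red.tau.2
    ((Subgroup.mul_mem_cancel_left _ (mul_mem (Subgroup.mem_zpowers σ) (Subgroup.mem_zpowers σ))).1 hm)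
  obtain ⟨-, hs2⟩ := (k.red.at_reflection hs2P hs2σ).mem_sub_over k.amemR
    (hσσ.symm.mul_right k.afix) c hcN
  have hk1 : σ ^ 2 ^ 1 ∈ c.sub := by
    rw [pow_one, pow_two, show σ * σ = σ * σ * τ * τ by rw [mul_assoc _ τ τ, D.sqτ, mul_one]]
    exact mul_mem hs2 k.memτ
  -- the fixed points
  have hW1 : (oddFix σ h (σ * τ)).card = p := by
    rw [k.card_oddFix_at hsP hsσ, k.card_fixR_inverted hsP hsσ hxa]
  obtain ⟨i, hi⟩ : ∃ i, Nat.card (fixR σ τ h p) = p ^ i :=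
    IsPGroup.iff_card.1 ((isPGroup_coreP (p := p)).to_le inf_le_left)
  obtain ⟨i', rfl⟩ : ∃ i', i = i' + 1 := by
    refine Nat.exists_eq_succ_of_ne_zero ?_
    rintro rfl
    have h2 : fixR σ τ h p = ⊥ := Subgroup.card_eq_one.1 (by rw [hi, pow_zero])
    exact k.ane (Subgroup.mem_bot.1 (h2 ▸ mem_fixR.2 ⟨k.amemR, k.afix⟩))
  have hW0 : (oddFix σ h τ).card = p ^ i' * p := by
    rw [k.card_oddFix_at k.red.tau.1 k.red.tau.2, hi, pow_succ]
  -- the degrees
  obtain ⟨r₀, hr₀, hz₀⟩ := k.exists_noncomm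
  have hEU : omegaE σ h p ≤ oddSub σ h := fun y hy =>
    coreP_le ((mem_omegaE k.red.prime k.red.ne_two).1 hy).1
  obtain ⟨dX, da, db⟩ := companion_degrees D hI co (omegaE σ h p)
    (fun y hy y' hy' => by
      obtain ⟨m, z, hz, rfl⟩ := k.omegaE_form hy
      refine ((k.commute_omegaE hy').pow_left m).mul_left ?_
      exact hz.2.2 y' ((mem_omegaE k.red.prime k.red.ne_two).1 hy').1)
    hEU (fun u hu y hy => k.red.conj_omegaE (commute_J D hu) hy)
    (fun y hy => by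
      obtain ⟨m, z, hz, rfl⟩ := k.omegaE_form hy
      have hz' : Commute σ z := mul_inv_eq_iff_eq_mul.1 (k.sigma_omega hz)
      exact (hσσ.pow_right m).mul_right (hz'.mul_left hz'))
    ⟨r₀, coreP_le hr₀, a, k.amem, fun hc => hz₀ (by
      rw [hc.symm.eq, mul_inv_cancel_right, mul_inv_cancel])⟩
    (Or.inr fun y hy => by
      obtain ⟨m, z, hz, rfl⟩ := k.omegaE_form hy
      rw [show σ * τ * (a ^ m * z) * (σ * τ)⁻¹ =
        σ * τ * a ^ m * (σ * τ)⁻¹ * (σ * τ * z * (σ * τ)⁻¹) by group, ← conj_pow, hxi, hxa,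
        (k.red.at_reflection hsP hsσ).tau_inv_omega hz, inv_pow, _root_.mul_inv_rev,
        ((k.omega_commute_a hz).pow_right m).inv_inv.eq])
  obtain ⟨-, hb⟩ := co.ratio_bound D dX da db
  rw [hW0, hW1] at hb
  obtain ⟨r, hr⟩ : ∃ r, r = p ^ i' := ⟨_, rfl⟩
  rw [← hr] at hb hW0
  push_cast at hb
  have hp0 : (0 : ℤ) < (p : ℤ) ^ 2 := pow_pos (by exact_mod_cast k.red.prime.pos) 2
  have hr1 : 1 ≤ r := hr ▸ Nat.one_le_pow _ _ k.red.prime.pos
  have hr3 : r ≤ 3 := by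
    have := ratio_le_three (r := (r : ℤ)) dX (by exact_mod_cast hr1)
      (le_of_mul_le_mul_left (by linear_combination hb) hp0)
    exact_mod_cast this
  have hcases : r = 1 ∨ (r = 3 ∧ p = 3) := by
    rcases i' with _ | n
    · exact Or.inl (hr.trans (pow_zero p))
    · refine Or.inr ?_
      have := Nat.le_of_dvd (by omega) (hr ▸ dvd_pow_self p (Nat.succ_ne_zero n) : p ∣ r)
      omega
  rcases hcases with e | ⟨e, ep⟩
  · refine k.finish_of_ratio co hk1 (M := 1) ?_ (by omega) (by omega) (by omega)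
    rw [hW0, hW1, e]
    omega
  · refine k.finish_of_ratio co hk1 (M := 2) ?_ (by omega) (by omega) (by omega)
    rw [hW0, hW1, e]
    omega

end LineCtx

/-- **The reduction.** -/
theorem reduction : Reduction.{u} := by
  intro G _ _ _ hG h8 P σ τ h D hmax hconjJ hna p hp hp2 hmove hfix hinv
  have r : RedCtx P σ τ h p := ⟨D, hG, h8, hmax, hconjJ, hna, hp, hp2, hmove, hfix, hinv⟩
  obtain ⟨x, hx, hx', a, ha, ha1, hax⟩ := r.exists_fixed
  obtain ⟨N, c, k⟩ := (r.at_reflection hx hx').exists_line ha ha1 hax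
  exact k.finish

end Cfsg.Lib.GW.CMax
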