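import Cfsg.Agent.Lib.GW.CMax.Fix
import Cfsg.Agent.Lib.GW.DGroupDihedral

/-!
# Gorenstein–Walter, a maximal centralizer: a component `A₇`

In `A₇` an element of odd order commuting with an involution fixes the four points moved by it, so
it commutes with a three-cycle on them.  Hence no nonidentity element of the odd part inside a
component `A₇` through `J` spans a normal subgroup of the maximal centralizer.
-/

set_option autoImplicit false
set_option linter.unusedSectionVars false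

namespace Cfsg.Lib.GW.CMax

open Cfsg Cfsg.Lib.Block

universe u

theorem alt_pairs_exponent :
    ∀ f : Fin 4 → Fin 4, (∀ i j, f i = f j → i = j) →
      (∀ i, f (![1, 0, 3, 2] i) = ![1, 0, 3, 2] (f i)) → ∀ i, f (f (f (f i))) = i := by
  decide +kernel

/-- An element of odd order commuting with `(0 1)(2 3)` fixes the four points moved by it. -/
theorem alt_seven_fix {x : Equiv.Perm (Fin 7)} (hx : Odd (orderOf x))
    (hc : Commute x (Equiv.swap 0 1 * Equiv.swap 2 3)) :
    ∀ i : Fin 7, (i : ℕ) < 4 → x i = i := by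
  set a : Equiv.Perm (Fin 7) := Equiv.swap 0 1 * Equiv.swap 2 3 with ha
  have hmoved : ∀ i, a i ≠ i ↔ (i : ℕ) < 4 := by decide
  have hS : ∀ i : Fin 7, (i : ℕ) < 4 → ((x i : Fin 7) : ℕ) < 4 := by
    intro i hi
    rw [← hmoved] at hi ⊢
    intro e
    refine hi (x.injective ?_)
    have := congrArg (fun p : Equiv.Perm (Fin 7) => p i) hc.eq
    simp only [Equiv.Perm.mul_apply] at this
    rw [this, e]
  let f : Fin 4 → Fin 4 := fun i =>
    ⟨(x ⟨i, by omega⟩ : Fin 7), hS ⟨i, by omega⟩ i.2⟩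
  have hf : ∀ i j, f i = f j → i = j := by
    intro i j e
    have h' : ((x ⟨i, by omega⟩ : Fin 7) : ℕ) = (x ⟨j, by omega⟩ : Fin 7) := congrArg (fun z : Fin 4 => (z : ℕ)) e
    have := x.injective (Fin.ext h')
    exact Fin.ext (congrArg Fin.val this :)
  have hlift : ∀ i : Fin 4, ((![1, 0, 3, 2] i : Fin 4) : ℕ) = (a ⟨i, by omega⟩ : Fin 7) := by decide
  have hfa : ∀ i, f (![1, 0, 3, 2] i) = ![1, 0, 3, 2] (f i) := by
    intro i
    apply Fin.ext
    show ((x ⟨((![1, 0, 3, 2] i : Fin 4) : ℕ), _⟩ : Fin 7) : ℕ) = _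
    rw [hlift (f i)]
    have := congrArg (fun p : Equiv.Perm (Fin 7) => ((p ⟨i, by omega⟩ : Fin 7) : ℕ)) hc.eq
    simp only [Equiv.Perm.mul_apply] at this
    convert this using 2
    exact congrArg x (Fin.ext (hlift i))
  have h4 : ∀ i : Fin 7, (i : ℕ) < 4 → (x ^ 4) i = i := by
    intro i hi
    have := congrArg Fin.val (alt_pairs_exponent f hf hfa ⟨i, hi⟩)
    apply Fin.ext
    simpa [f, pow_succ, pow_zero] using this
  have hfix : ∀ i : Fin 7, (i : ℕ) < 4 → x i = i := by
    intro i hi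
    rcases eq_or_ne x 1 with rfl | hx1
    · rfl
    obtain ⟨j, -, hj⟩ := Nat.exists_mul_mod_eq_one_of_coprime (k := orderOf x) (n := 4)
      (((Nat.coprime_two_left.2 hx).pow_left 2 :)) (by
        have := orderOf_pos x
        have : orderOf x ≠ 1 := fun e => hx1 (orderOf_eq_one_iff.1 e)
        omega)
    have e : x = (x ^ 4) ^ j := by
      rw [← pow_mul, ← Nat.mod_add_div (4 * j) (orderOf x), pow_add, pow_mul, pow_orderOf_eq_one,
        one_pow, mul_one, hj, pow_one]
    rw [e]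
    exact Equiv.Perm.pow_apply_eq_self_of_apply_eq_self (h4 i hi) j
  exact hfix

/-- An element of odd order commuting with `(0 1)(2 3)` commutes with `(0 1 2)`. -/
theorem alt_seven_commute {x : Equiv.Perm (Fin 7)} (hx : Odd (orderOf x))
    (hc : Commute x (Equiv.swap 0 1 * Equiv.swap 2 3)) :
    Commute x (Equiv.swap (0 : Fin 7) 1 * Equiv.swap 1 2) := by
  have hfix := alt_seven_fix hx hc
  refine Equiv.Perm.Disjoint.commute fun i => ?_
  by_cases hi : (i : ℕ) < 4
  · exact Or.inl (hfix i hi)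
  · right
    revert hi
    revert i
    decide

variable {G : Type u} [Group G] [Fintype G] [Fact (Nat.Prime 2)] {P : Sylow 2 G} {σ τ : G} {h : ℕ}
  (D : DihSylow P σ τ h)

include D

/-- A component `A₇` meets the odd part in no normal cyclic subgroup of the maximal centralizer. -/
theorem alt_component_false [IsSimpleGroup G]
    (hmax : IsCoatom (Subgroup.centralizer ({σ ^ h} : Set G))) {L : Subgroup G}
    (e : L ≃* alternatingGroup (Fin 7)) (hJL : σ ^ h ∈ L) {x : G} (hxL : x ∈ L)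
    (hxU : x ∈ oddSub σ h) (hx1 : x ≠ 1)
    (hnorm : ∀ c, Commute c (σ ^ h) → c * x * c⁻¹ ∈ Subgroup.zpowers x) : False := by
  obtain ⟨hJ2, hJ1, -⟩ := D.central_involution
  set a : alternatingGroup (Fin 7) :=
    ⟨Equiv.swap 0 1 * Equiv.swap 2 3, Equiv.Perm.mem_alternatingGroup.2 (by decide)⟩
  obtain ⟨g, hg⟩ := isConj_iff.1 (DGroup.alt_seven_conj (x := e ⟨σ ^ h, hJL⟩) (y := a)
    (by rw [e.orderOf_eq, Subgroup.orderOf_mk]; exact orderOf_eq_prime (by rw [pow_two, hJ2]) hJ1)
    (orderOf_eq_prime (by decide) (by decide)))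
  let φ : L ≃* alternatingGroup (Fin 7) := e.trans (MulAut.conj g)
  have hφJ : φ ⟨σ ^ h, hJL⟩ = a := hg
  set b : alternatingGroup (Fin 7) :=
    ⟨Equiv.swap 0 1 * Equiv.swap 1 2, Equiv.Perm.mem_alternatingGroup.2 (by decide)⟩
  have hxJ : Commute (⟨x, hxL⟩ : L) ⟨σ ^ h, hJL⟩ := Subtype.ext (commute_J D hxU).eq
  have hb : Commute (φ ⟨x, hxL⟩) b := by
    have h1 : Commute (φ ⟨x, hxL⟩) a := hφJ ▸ hxJ.map φ.toMonoidHom
    refine Subtype.ext (alt_seven_commute ?_ (congrArg Subtype.val h1.eq)).eq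
    rw [Subgroup.orderOf_coe, φ.orderOf_eq, Subgroup.orderOf_mk]
    exact odd_orderOf D hxU
  obtain ⟨y, hy⟩ : ∃ y : L, φ y = b := φ.surjective b
  have hyx : Commute (y : G) x := by
    have : Commute y ⟨x, hxL⟩ := φ.injective (by rw [map_mul, map_mul, hy, hb.eq])
    exact congrArg Subtype.val this.eq
  have hyJ : Commute (y : G) (σ ^ h) := by
    refine commute_of_normalizes D hmax (Subgroup.zpowers x) (Subgroup.zpowers_le.2 hxU)
      (fun e0 => hx1 (Subgroup.zpowers_eq_bot.1 e0)) (fun c hc z hz => ?_) fun z hz => ?_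
    · obtain ⟨k, rfl⟩ := Subgroup.mem_zpowers_iff.1 hz
      rw [← conj_zpow]
      exact zpow_mem (hnorm c hc) k
    · obtain ⟨k, rfl⟩ := Subgroup.mem_zpowers_iff.1 hz
      rw [(hyx.zpow_right k).eq, mul_inv_cancel_right]
      exact zpow_mem (Subgroup.mem_zpowers x) k
  have : Commute y ⟨σ ^ h, hJL⟩ := Subtype.ext hyJ.eq
  have hab := (this.map φ.toMonoidHom).eq
  simp only [MulEquiv.coe_toMonoidHom, hy, hφJ] at hab
  exact absurd hab (by decide)

end Cfsg.Lib.GW.CMax
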