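import Cfsg.Agent.Lib.GW.CMax.Diag
import Cfsg.Agent.Lib.GW.CMax.ComponentAlt
import Cfsg.Agent.Lib.GW.DGroupDihedral
import Cfsg.Agent.Lib.GW.Klein.Torus
import Cfsg.Agent.Lib.GW.InvAct

/-!
# Almost simple groups with dihedral Sylow 2-subgroups: the centralizer of an involution

The facts used for a component over the normalizer of a subgroup of the odd part: `E ≅ PSL₂(q)` or
`A₇` is the socle, `j` an involution of `E`.
-/

set_option autoImplicit false
set_option linter.unusedSectionVars false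
set_option linter.style.haveILetI false

namespace Cfsg.Lib.GW.CMax

open Subgroup Matrix Cfsg.Lib.Linear.AutPSL Cfsg.Lib.Linear.Descent
open scoped commutatorElement

universe u

variable {X : Type u} [Group X] [Finite X]

/-- An almost simple group with socle `E`. -/
structure Almost (E : Subgroup X) : Prop where
  normal : E.Normal
  cent : centralizer (E : Set X) = ⊥
  gw : IsGW ↥E
  idx : ¬ 4 ∣ E.index
  cycDih : TwoCycDih X

/-- The socle is `PSL₂(q)`. -/
def PSLType (E : Subgroup X) : Prop :=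
  ∃ (F : Type) (_ : Field F) (_ : Fintype F), Odd (Fintype.card F) ∧ 3 < Fintype.card F ∧
    Nonempty (E ≃* Matrix.ProjectiveSpecialLinearGroup (Fin 2) F)

theorem sq_ne_one_of_odd {e : X} (he : Odd (orderOf e)) (h1 : e ≠ 1) : e * e ≠ 1 := fun h =>
  h1 (orderOf_eq_one_iff.1 (Nat.eq_one_of_dvd_coprimes (Nat.coprime_two_right.2 he) (dvd_refl _)
    (orderOf_dvd_of_pow_eq_one (by rw [pow_two, h]))))

theorem exists_two_pow_dvd {g : X} : ∃ a o : ℕ, Odd o ∧ orderOf g = 2 ^ a * o := by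
  obtain ⟨a, o, ho, he⟩ := Nat.exists_eq_two_pow_mul_odd (orderOf_pos g).ne'
  exact ⟨a, o, ho, he⟩

/-- An element of odd order centralizes a 2-element with pairwise commuting conjugates, not an
involution, in a group with cyclic or dihedral 2-subgroups. -/
theorem commute_two_element (hD : TwoCycDih X) {y k : X} (hy : Odd (orderOf y)) {a : ℕ}
    (hk : k ^ 2 ^ a = 1) (hkk : k * k ≠ 1)
    (hc : ∀ i : ℕ, Commute k (y ^ i * k * (y ^ i)⁻¹)) : Commute y k := by
  let S : Set X := Set.range fun i : ℕ => y ^ i * k * (y ^ i)⁻¹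
  have hS : ∀ u ∈ S, ∀ v ∈ S, u * v = v * u := by
    have hstep : ∀ i j : ℕ, i ≤ j → Commute (y ^ i * k * (y ^ i)⁻¹) (y ^ j * k * (y ^ j)⁻¹) := by
      intro i j hij
      obtain ⟨d, rfl⟩ := Nat.exists_eq_add_of_le hij
      have := (hc d).map (MulAut.conj (y ^ i)).toMonoidHom
      simp only [MulEquiv.coe_toMonoidHom, MulAut.conj_apply] at this
      rwa [show y ^ i * (y ^ d * k * (y ^ d)⁻¹) * (y ^ i)⁻¹ = y ^ (i + d) * k * (y ^ (i + d))⁻¹ by
        rw [pow_add]; group] at this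
    rintro _ ⟨i, rfl⟩ _ ⟨j, rfl⟩
    rcases le_total i j with h | h
    · exact hstep i j h
    · exact (hstep j i h).symm
  haveI := Subgroup.isMulCommutative_closure hS
  set Q := closure S with hQ
  have hcomm : ∀ u v : Q, Commute u v := fun u v => (inferInstance : IsMulCommutative Q).is_comm.comm u v
  have hpow : ∀ u : Q, u ^ 2 ^ a = 1 := by
    rintro ⟨u, hu⟩
    refine Subtype.ext ?_
    show u ^ 2 ^ a = 1
    induction hu using closure_induction with
    | mem u hu =>
      obtain ⟨i, rfl⟩ := hu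
      rw [conj_pow, hk, mul_one, mul_inv_cancel]
    | one => exact one_pow _
    | mul u v hu hv hu2 hv2 =>
      rw [Commute.mul_pow (congrArg Subtype.val (hcomm ⟨u, hu⟩ ⟨v, hv⟩)), hu2, hv2, one_mul]
    | inv u _ hu2 => rw [inv_pow, hu2, inv_one]
  have hQ2 : IsPGroup 2 Q := fun u => ⟨a, hpow u⟩
  obtain ⟨R, hR, -, hout⟩ := hD Q hQ2
  have hkQ : k ∈ Q := subset_closure ⟨0, by simp⟩
  let k' : Q := ⟨k, hkQ⟩
  have hk' : k' * k' ≠ 1 := fun h => hkk (congrArg Subtype.val h)
  have htop : ∀ g : Q, g ∈ R := by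
    intro g
    by_contra hg
    have h1 := CycDih.inverts hout hg (CycDih.mem_of_sq_ne hout hk')
    rw [(hcomm g k').eq, mul_inv_cancel_right] at h1
    exact hk' (mul_eq_one_iff_eq_inv.2 h1)
  haveI : IsCyclic Q := by
    haveI := hR
    exact isCyclic_of_surjective R.subtype fun g => ⟨⟨g, htop g⟩, rfl⟩
  obtain ⟨g, hg⟩ := IsCyclic.exists_generator (α := Q)
  obtain ⟨b, hb⟩ := IsPGroup.iff_orderOf.1 hQ2 g
  rw [← orderOf_coe] at hb
  have hgy : y * (g : X) * y⁻¹ ∈ zpowers (g : X) := by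
    have hmem : y * (g : X) * y⁻¹ ∈ Q := by
      have hmap : Q ≤ Q.comap (MulAut.conj y).toMonoidHom := (closure_le _).2 (by
        rintro _ ⟨i, rfl⟩
        show y * (y ^ i * k * (y ^ i)⁻¹) * y⁻¹ ∈ Q
        exact subset_closure ⟨i + 1, by simp only [pow_succ']; group⟩)
      exact hmap g.2
    obtain ⟨m, hm⟩ := mem_zpowers_iff.1 (hg ⟨_, hmem⟩)
    exact mem_zpowers_iff.2 ⟨m, congrArg Subtype.val hm⟩
  have hyg := Cfsg.Lib.Block.commute_of_odd_cyclic hb hy hgy
  obtain ⟨m, hm⟩ := mem_zpowers_iff.1 (hg k')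
  rw [show k = ((g : X)) ^ m from (congrArg Subtype.val hm).symm]
  exact hyg.zpow_right m

/-- The involution `(0 1)(2 3)` of `A₇`. -/
def altInvol : alternatingGroup (Fin 7) :=
  ⟨Equiv.swap 0 1 * Equiv.swap 2 3, Equiv.Perm.mem_alternatingGroup.2 (by decide)⟩

/-- The three-cycle `(4 5 6)` of `A₇`. -/
def altCycle : alternatingGroup (Fin 7) :=
  ⟨Equiv.swap 4 5 * Equiv.swap 5 6, Equiv.Perm.mem_alternatingGroup.2 (by decide)⟩

theorem orderOf_altInvol : orderOf altInvol = 2 := orderOf_eq_prime (by decide) (by decide)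

theorem altCycle_pow : altCycle ^ 3 = 1 := by decide

theorem three_maps : ∀ f : Fin 3 → Fin 3, (∀ i j, f i = f j → i = j) →
    ((∀ i, f (f i) = i) → ∀ i, f i = i) → (∀ i, f i = i) ∨ (∀ i, f i = i + 1) ∨ ∀ i, f i = i + 2 := by
  decide

theorem mem_altCycle {u : alternatingGroup (Fin 7)} (huo : Odd (orderOf u))
    (huc : Commute u altInvol) : u ∈ zpowers altCycle := by
  have hu : Odd (orderOf (u : Equiv.Perm (Fin 7))) := by rwa [Subgroup.orderOf_coe]
  have hfix := alt_seven_fix hu (congrArg Subtype.val huc.eq)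
  have hcov : ∀ i : Fin 7, (i : ℕ) < 4 ∨ ∃ j : Fin 3, (Fin.natAdd 4 j : Fin 7) = i := by decide
  have hup : ∀ j : Fin 3, ¬ ((Fin.natAdd 4 j : Fin 7) : ℕ) < 4 := by decide
  have hinj : ∀ i j : Fin 3, (Fin.natAdd 4 i : Fin 7) = Fin.natAdd 4 j → i = j := by decide
  have hS : ∀ i : Fin 3, ∃ j : Fin 3,
      (Fin.natAdd 4 j : Fin 7) = (u : Equiv.Perm (Fin 7)) (Fin.natAdd 4 i) := by
    intro i
    refine (hcov _).resolve_left fun hlt => hup i ?_
    rwa [(u : Equiv.Perm (Fin 7)).injective (hfix _ hlt)] at hlt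
  choose f hval using hS
  have hall : ∀ c : Equiv.Perm (Fin 7), (∀ i : Fin 7, (i : ℕ) < 4 → c i = i) →
      (∀ i : Fin 3, c (Fin.natAdd 4 i) = Fin.natAdd 4 (f i)) → (u : Equiv.Perm (Fin 7)) = c := by
    intro c h1 h2
    refine Equiv.ext fun i => ?_
    rcases hcov i with h | ⟨j, rfl⟩
    · rw [hfix i h, h1 i h]
    · exact (hval j).symm.trans (h2 j).symm
  rcases three_maps f (fun i j h => hinj i j
      ((u : Equiv.Perm (Fin 7)).injective (by rw [← hval, ← hval, h])))
    (fun hff => by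
      have h2 : (u : Equiv.Perm (Fin 7)) * (u : Equiv.Perm (Fin 7)) = 1 := by
        refine Equiv.ext fun i => ?_
        rw [Equiv.Perm.mul_apply, Equiv.Perm.one_apply]
        rcases hcov i with h | ⟨j, rfl⟩
        · rw [hfix i h, hfix i h]
        · rw [← hval, ← hval, hff]
      have h1 : (u : Equiv.Perm (Fin 7)) = 1 := by
        by_contra hne
        exact sq_ne_one_of_odd hu hne h2
      intro i
      have := hval i
      rw [h1, Equiv.Perm.one_apply] at this
      exact hinj _ _ this)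
    with h | h | h
  · rw [Subtype.ext (hall 1 (fun _ _ => rfl) fun i => by rw [h]; rfl) (a1 := u) (a2 := 1)]
    exact one_mem _
  · rw [Subtype.ext (hall (altCycle : Equiv.Perm (Fin 7)) (by decide) fun i => by
      rw [h]; revert i; decide) (a1 := u) (a2 := altCycle)]
    exact mem_zpowers _
  · rw [Subtype.ext (hall ((altCycle ^ 2 : alternatingGroup (Fin 7)) : Equiv.Perm (Fin 7)) (by decide)
      fun i => by rw [h]; revert i; decide) (a1 := u) (a2 := altCycle ^ 2)]
    exact pow_mem (mem_zpowers _) 2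

namespace Almost

variable {E : Subgroup X} (a : Almost E)
include a

theorem cases : PSLType E ∨ (E = ⊤ ∧ Nonempty (E ≃* alternatingGroup (Fin 7))) := by
  haveI := a.normal
  rcases a.gw with h | ⟨⟨e⟩⟩
  · exact Or.inl h
  · exact Or.inr ⟨DGroup.eq_top_of_alt_seven a.cycDih E a.cent e, ⟨e⟩⟩

/-- The square of an element of order four lies in the socle. -/
theorem inner_sq {ρ : X} (h4 : ρ ^ 4 = 1) : ρ * ρ ∈ E := by
  haveI := a.normal
  obtain ⟨y, hy⟩ : ∃ y : X ⧸ E, y = QuotientGroup.mk' E ρ := ⟨_, rfl⟩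
  refine (QuotientGroup.eq_one_iff _).1 ?_
  show QuotientGroup.mk' E (ρ * ρ) = 1
  rw [map_mul, ← hy, ← pow_two]
  obtain ⟨k, hk, hke⟩ := (Nat.dvd_prime_pow Nat.prime_two).1
    (show orderOf y ∣ 2 ^ 2 from orderOf_dvd_of_pow_eq_one (by
      rw [hy, ← map_pow, show 2 ^ 2 = 4 from rfl, h4, map_one]))
  refine orderOf_dvd_iff_pow_eq_one.1 ?_
  rw [hke]
  refine (pow_dvd_pow 2 ?_).trans (pow_one 2).dvd
  by_contra hk1
  refine a.idx ((show 4 ∣ orderOf y from ?_).trans (orderOf_dvd_natCard y))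
  rw [hke]
  exact (show (4 : ℕ) = 2 ^ 2 by norm_num) ▸ pow_dvd_pow 2 (by omega)

/-- Inverted elements of odd order are inner. -/
theorem inverted_mem {w x : X} (hw : w * w = 1) (hx : Odd (orderOf x)) (hinv : w * x * w = x⁻¹) :
    x ∈ E := by
  haveI := a.normal
  rcases a.cases with ⟨F, i, i', hodd, -, ⟨e⟩⟩ | ⟨htop, -⟩
  · exact Diag.mem_of_inverted e a.cent hodd hw hx hinv
  · exact htop ▸ mem_top x

/-- Perfect subgroups are inner. -/
theorem perfect_le {H : Subgroup X} (hH : ⁅H, H⁆ = H) : H ≤ E := by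
  haveI := a.normal
  rcases a.cases with ⟨F, i, i', hodd, -, ⟨e⟩⟩ | ⟨htop, -⟩
  swap
  · exact le_top.trans htop.ge
  haveI := PGL.diag_normal e
  have hd : H ≤ PGL.diag e := by
    rw [← hH]
    exact (commutator_mono le_top le_top).trans
      ((_root_.commutator_def X).symm.le.trans (PGL.commutator_le_diag e))
  intro x hx
  rw [← hH] at hx
  refine (commutator_le.2 fun g hg g' hg' => ?_) hx
  haveI hn : (E.subgroupOf (PGL.diag e)).Normal := inferInstance
  have h2 := PGL.relIndex_diag_le e hodd a.cent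
  have hab : Commute (QuotientGroup.mk' (E.subgroupOf (PGL.diag e)) ⟨g, hd hg⟩)
      (QuotientGroup.mk' (E.subgroupOf (PGL.diag e)) ⟨g', hd hg'⟩) := by
    have hle : Nat.card (↥(PGL.diag e) ⧸ E.subgroupOf (PGL.diag e)) ≤ 2 := by
      rw [← index_eq_card]; exact h2
    rcases (show Nat.card (↥(PGL.diag e) ⧸ E.subgroupOf (PGL.diag e)) = 1 ∨
        Nat.card (↥(PGL.diag e) ⧸ E.subgroupOf (PGL.diag e)) = 2 by
      have := Nat.card_pos (α := ↥(PGL.diag e) ⧸ E.subgroupOf (PGL.diag e)); omega) with h1 | h1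
    · haveI := (Nat.card_eq_one_iff_unique.1 h1).1
      exact Subsingleton.elim _ _
    · haveI : Fact (Nat.Prime 2) := ⟨Nat.prime_two⟩
      haveI := isCyclic_of_prime_card (p := 2) h1
      exact IsCyclic.commGroup.mul_comm _ _
  rw [← commutatorElement_eq_one_iff_commute, ← map_commutatorElement] at hab
  exact mem_subgroupOf.1 ((QuotientGroup.eq_one_iff _).1 hab)

/-- Two elements of odd order centralizing an involution of the socle generate a cyclic group. -/
theorem cyclic_pair {j b c : X} (hj : orderOf j = 2) (hjE : j ∈ E) (hb : b ∈ E) (hc : c ∈ E)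
    (hbo : Odd (orderOf b)) (hco : Odd (orderOf c)) (hbj : Commute b j) (hcj : Commute c j) :
    ∃ g : X, b ∈ zpowers g ∧ c ∈ zpowers g := by
  haveI := a.normal
  by_cases hb1 : b = 1
  · exact ⟨c, hb1 ▸ one_mem _, mem_zpowers c⟩
  by_cases hc1 : c = 1
  · exact ⟨b, mem_zpowers b, hc1 ▸ one_mem _⟩
  rcases a.gw with ⟨F, i, i', hodd, -, ⟨e⟩⟩ | ⟨⟨e⟩⟩
  · obtain ⟨V, hVE, hV⟩ := exists_klein (Nat.odd_iff.1 hodd) E e
    haveI := hV
    obtain ⟨v, hv, hv1, hvj⟩ : ∃ v, v ∈ V ∧ v ≠ 1 ∧ v ≠ j := by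
      by_contra hno
      push Not at hno
      have hle : V ≤ zpowers j := fun v hv => by
        by_cases hv1 : v = 1
        · exact hv1 ▸ one_mem _
        · exact hno v hv hv1 ▸ mem_zpowers j
      have := card_le_of_le hle
      rw [IsKleinFour.card_four, Nat.card_zpowers, hj] at this
      omega
    obtain ⟨d, hd⟩ := Cfsg.Lib.Dickson.exists_conj_involution (Nat.odd_iff.1 hodd)
      (x := e ⟨v, hVE hv⟩) (y := e ⟨j, hjE⟩)
      (by rw [← map_pow, show (⟨v, hVE hv⟩ : E) ^ 2 = 1 from Subtype.ext (by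
        rw [SubmonoidClass.coe_pow, pow_two]; exact Cfsg.Lib.Invol.klein_mul_self hv), map_one])
      (fun h => hv1 (congrArg Subtype.val (e.map_eq_one_iff.1 h)))
      (by rw [← map_pow, show (⟨j, hjE⟩ : E) ^ 2 = 1 from Subtype.ext (by
        rw [SubmonoidClass.coe_pow, ← hj]; exact pow_orderOf_eq_one j), map_one])
      (fun h => Cfsg.Lib.Invol.ne_one hj (congrArg Subtype.val (e.map_eq_one_iff.1 h)))
    have hcon : ∀ (u : X) (hu : u ∈ E), orderOf u = 2 → orderOf (e ⟨u, hu⟩) = 2 := fun u hu h => by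
      rw [e.orderOf_eq, Subgroup.orderOf_mk, h]
    -- another involution commuting with `j`
    obtain ⟨w, hw, hwv⟩ : ∃ w, w ∈ V ∧ w ≠ v ∧ w ≠ 1 := by
      by_contra hno
      push Not at hno
      have hle : V ≤ zpowers v := fun u hu => by
        by_cases hu1 : u = v
        · exact hu1 ▸ mem_zpowers v
        · exact hno u hu hu1 ▸ one_mem _
      have h1 := card_le_of_le hle
      have h2 : orderOf v ≤ 2 := orderOf_le_of_pow_eq_one two_pos (by
        rw [pow_two]; exact Cfsg.Lib.Invol.klein_mul_self hv)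
      rw [IsKleinFour.card_four, Nat.card_zpowers] at h1
      omega
    have hwo : orderOf w = 2 := orderOf_eq_prime (by rw [pow_two]; exact Cfsg.Lib.Invol.klein_mul_self hw)
      hwv.2
    have hsq : ∀ (u : X) (hu : u ∈ E), Odd (orderOf u) → u ≠ 1 → e ⟨u, hu⟩ * e ⟨u, hu⟩ ≠ 1 :=
      fun u hu huo hu1 h => sq_ne_one_of_odd huo hu1 (by
        rw [← map_mul] at h; exact congrArg Subtype.val (e.map_eq_one_iff.1 h))
    have hcyc := psl_torus (Nat.odd_iff.1 hodd) (x := e ⟨j, hjE⟩) (t := d⁻¹ * e ⟨w, hVE hw⟩ * d)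
      (hcon j hjE hj) (by
        rw [show d⁻¹ * e ⟨w, hVE hw⟩ * d = MulAut.conj d⁻¹ (e ⟨w, hVE hw⟩) by
          rw [MulAut.conj_apply, inv_inv], MulEquiv.orderOf_eq, hcon w (hVE hw) hwo])
      (fun h => hwv.1 (congrArg Subtype.val (e.injective (mul_left_cancel (mul_right_cancel
        (h.trans hd.symm))))))
      (by
        rw [← hd]
        have h := ((show Commute (⟨w, hVE hw⟩ : E) ⟨v, hVE hv⟩ from
          Subtype.ext (Cfsg.Lib.Invol.klein_comm hw hv)).map e.toMonoidHom).map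
            (MulAut.conj d⁻¹).toMonoidHom
        simp only [MulEquiv.coe_toMonoidHom, MulAut.conj_apply, inv_inv] at h
        exact h)
      (a := e ⟨b, hb⟩) (b := e ⟨c, hc⟩)
      ((show Commute (⟨b, hb⟩ : E) ⟨j, hjE⟩ from Subtype.ext hbj.eq).map e.toMonoidHom)
      ((show Commute (⟨c, hc⟩ : E) ⟨j, hjE⟩ from Subtype.ext hcj.eq).map e.toMonoidHom)
      (hsq b hb hbo hb1) (hsq c hc hco hc1)
    obtain ⟨g, hg⟩ := hcyc.exists_generator
    have back : ∀ (u : X) (hu : u ∈ E), e ⟨u, hu⟩ ∈ ({e ⟨b, hb⟩, e ⟨c, hc⟩} : Set _) →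
        u ∈ zpowers ((e.symm g.1 : E) : X) := by
      intro u hu hmem
      obtain ⟨m, hm⟩ := mem_zpowers_iff.1 (hg ⟨_, subset_closure hmem⟩)
      refine mem_zpowers_iff.2 ⟨m, ?_⟩
      have h' : e.symm g.1 ^ m = ⟨u, hu⟩ := by
        rw [← map_zpow, ← SubgroupClass.coe_zpow, hm, e.symm_apply_apply]
      rw [← SubgroupClass.coe_zpow, h']
    exact ⟨_, back b hb (Or.inl rfl), back c hc (Or.inr rfl)⟩
  · obtain ⟨d, hd⟩ := isConj_iff.1 (DGroup.alt_seven_conj
      (x := e ⟨j, hjE⟩) (y := altInvol) (by rw [e.orderOf_eq, Subgroup.orderOf_mk, hj]) orderOf_altInvol)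
    have key : ∀ (u : X) (hu : u ∈ E), Odd (orderOf u) → Commute u j →
        e ⟨u, hu⟩ ∈ (zpowers altCycle).map (MulAut.conj d⁻¹).toMonoidHom := by
      intro u hu huo huj
      refine ⟨d * e ⟨u, hu⟩ * d⁻¹, mem_altCycle ?_ ?_, by simp [mul_assoc]⟩
      · rw [← MulAut.conj_apply, MulEquiv.orderOf_eq, e.orderOf_eq, Subgroup.orderOf_mk]
        exact huo
      · rw [← hd]
        exact (((show Commute (⟨u, hu⟩ : E) ⟨j, hjE⟩ from Subtype.ext huj.eq).map
          e.toMonoidHom).map (MulAut.conj d).toMonoidHom)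
    refine ⟨((e.symm (d⁻¹ * altCycle * d) : E) : X), ?_, ?_⟩
    · obtain ⟨g, hg, hge⟩ := key b hb hbo hbj
      obtain ⟨m, rfl⟩ := mem_zpowers_iff.1 hg
      refine mem_zpowers_iff.2 ⟨m, ?_⟩
      rw [map_zpow, MulEquiv.coe_toMonoidHom, MulAut.conj_apply, inv_inv] at hge
      rw [← SubgroupClass.coe_zpow, ← map_zpow, hge, e.symm_apply_apply]
    · obtain ⟨g, hg, hge⟩ := key c hc hco hcj
      obtain ⟨m, rfl⟩ := mem_zpowers_iff.1 hg
      refine mem_zpowers_iff.2 ⟨m, ?_⟩
      rw [map_zpow, MulEquiv.coe_toMonoidHom, MulAut.conj_apply, inv_inv] at hge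
      rw [← SubgroupClass.coe_zpow, ← map_zpow, hge, e.symm_apply_apply]

/-- An element of odd order of the socle commutes with at most one involution. -/
theorem unique (hp : PSLType E) {z u v : X} (hz : z ∈ E) (hzz : z * z ≠ 1) (hu : u * u = 1)
    (hu1 : u ≠ 1) (hv : v * v = 1) (hv1 : v ≠ 1) (h : Commute u z) (h' : Commute v z) : u = v := by
  haveI := a.normal
  obtain ⟨F, i, i', hodd, -, ⟨e⟩⟩ := hp
  exact Diag.involution_unique e a.cent hodd (PGL.involution_mem_diag e hodd a.cent a.cycDih hu)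
    (PGL.involution_mem_diag e hodd a.cent a.cycDih hv) (PGL.le_diag e hz) hu hu1 hv hv1 hzz h h'

/-- In `A₇` the centralizer of an involution has no element of order prime to six. -/
theorem alt_three (hA : Nonempty (E ≃* alternatingGroup (Fin 7))) {j : X} (hj : orderOf j = 2)
    (hjE : j ∈ E) :
    ∃ g ∈ E, g ^ 3 = 1 ∧ ∀ u ∈ E, Odd (orderOf u) → Commute u j → u ∈ zpowers g := by
  obtain ⟨e⟩ := hA
  obtain ⟨d, hd⟩ := isConj_iff.1 (DGroup.alt_seven_conj
    (x := e ⟨j, hjE⟩) (y := altInvol) (by rw [e.orderOf_eq, Subgroup.orderOf_mk, hj]) orderOf_altInvol)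
  refine ⟨(e.symm (d⁻¹ * altCycle * d) : E), SetLike.coe_mem _, ?_, fun u hu huo huj => ?_⟩
  · rw [← SubmonoidClass.coe_pow, ← map_pow,
      show d⁻¹ * altCycle * d = d⁻¹ * altCycle * d⁻¹⁻¹ by rw [inv_inv], conj_pow, altCycle_pow,
      mul_one, inv_inv, inv_mul_cancel, map_one, OneMemClass.coe_one]
  · obtain ⟨m, hm⟩ := mem_zpowers_iff.1 (mem_altCycle (u := d * e ⟨u, hu⟩ * d⁻¹)
      (by rw [← MulAut.conj_apply, MulEquiv.orderOf_eq, e.orderOf_eq, Subgroup.orderOf_mk]; exact huo)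
      (by
        rw [← hd]
        exact (((show Commute (⟨u, hu⟩ : E) ⟨j, hjE⟩ from Subtype.ext huj.eq).map
          e.toMonoidHom).map (MulAut.conj d).toMonoidHom)))
    refine mem_zpowers_iff.2 ⟨m, ?_⟩
    rw [← SubgroupClass.coe_zpow, ← map_zpow,
      show d⁻¹ * altCycle * d = d⁻¹ * altCycle * d⁻¹⁻¹ by rw [inv_inv], conj_zpow, hm,
      show d⁻¹ * (d * e ⟨u, hu⟩ * d⁻¹) * d⁻¹⁻¹ = e ⟨u, hu⟩ by group, e.symm_apply_apply]

/-- Nothing of odd order in the socle centralizes `j` and `x`. -/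
theorem fixed_eq_one {j x e : X} (hj : orderOf j = 2) (hjE : j ∈ E) (hx : x * x = 1) (hx1 : x ≠ 1)
    (hxj : x ≠ j) (hA : PSLType E ∨ ∃ t ∈ E, Odd (orderOf t) ∧ t ≠ 1 ∧ Commute t j ∧ x * t * x = t⁻¹)
    (he : e ∈ E) (heo : Odd (orderOf e)) (hej : Commute e j) (hex : Commute e x) : e = 1 := by
  by_contra he1
  rcases a.cases with hp | ⟨-, hA7⟩
  · exact hxj (a.unique hp he (sq_ne_one_of_odd heo he1) hx hx1 (Cfsg.Lib.Invol.inv_mul_self hj)
      (Cfsg.Lib.Invol.ne_one hj) hex.symm hej.symm)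
  rcases hA with hp | ⟨t, htE, hto, ht1, htj, hti⟩
  · exact hxj (a.unique hp he (sq_ne_one_of_odd heo he1) hx hx1 (Cfsg.Lib.Invol.inv_mul_self hj)
      (Cfsg.Lib.Invol.ne_one hj) hex.symm hej.symm)
  obtain ⟨g, -, hg3, hg⟩ := a.alt_three hA7 hj hjE
  obtain ⟨m, hm⟩ := mem_zpowers_iff.1 (hg t htE hto htj)
  obtain ⟨n, hn⟩ := mem_zpowers_iff.1 (hg e he heo hej)
  have ho : orderOf g = 3 := orderOf_eq_prime hg3 fun h => he1 (by rw [← hn, h, _root_.one_zpow])
  have hte : t ∈ zpowers e := by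
    have h3 : zpowers e = zpowers g := by
      refine eq_of_le_of_card_ge (zpowers_le.2 (hn ▸ zpow_mem (mem_zpowers g) n)) ?_
      rw [Nat.card_zpowers, Nat.card_zpowers, ho]
      have h3 : orderOf e ∣ 3 := orderOf_dvd_of_pow_eq_one (by
        rw [← hn, ← zpow_natCast, zpow_comm, zpow_natCast, hg3, _root_.one_zpow])
      rcases (Nat.dvd_prime Nat.prime_three).1 h3 with h | h
      · exact absurd (orderOf_eq_one_iff.1 h) he1
      · exact h.ge
    rw [h3, ← hm]
    exact zpow_mem (mem_zpowers g) m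
  obtain ⟨k, rfl⟩ := mem_zpowers_iff.1 hte
  exact ht1 (InvAct.eq_one_of_commute_inverted hto hx (hex.zpow_left k) hti)

/-- An element of odd order centralizing `j`, `x` and the elements of odd order of `C_E(j)` is
trivial. -/
theorem centralizing_eq_one {j x y : X} (hj : orderOf j = 2) (hjE : j ∈ E) (hx : x * x = 1)
    (hx1 : x ≠ 1) (hxj : x ≠ j)
    (hA : PSLType E ∨ ∃ t ∈ E, Odd (orderOf t) ∧ t ≠ 1 ∧ Commute t j ∧ x * t * x = t⁻¹)
    (hy : Odd (orderOf y)) (hyj : Commute y j) (hyx : Commute y x)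
    (hyE : ∀ e ∈ E, Odd (orderOf e) → Commute e j → Commute y e) : y = 1 := by
  haveI := a.normal
  refine a.fixed_eq_one hj hjE hx hx1 hxj hA ?_ hy hyj hyx
  rcases a.cases with ⟨F, i, i', hodd, h3, ⟨e₀⟩⟩ | ⟨htop, -⟩
  swap
  · exact htop ▸ mem_top y
  have hjj := Cfsg.Lib.Invol.inv_mul_self hj
  have hj1 := Cfsg.Lib.Invol.ne_one hj
  -- coordinates in which `j` is standard
  obtain ⟨c, hc⟩ := Cfsg.Lib.Dickson.exists_conj_stdInvol (Nat.odd_iff.1 hodd) (x := e₀ ⟨j, hjE⟩)
    (by rw [← map_pow, show (⟨j, hjE⟩ : E) ^ 2 = 1 from Subtype.ext (by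
      rw [SubmonoidClass.coe_pow, ← hj]; exact pow_orderOf_eq_one j), map_one])
    (fun h => hj1 (congrArg Subtype.val (e₀.map_eq_one_iff.1 h)))
  let e : E ≃* Matrix.ProjectiveSpecialLinearGroup (Fin 2) F := e₀.trans (MulAut.conj c⁻¹)
  have hej : e ⟨j, hjE⟩ = QuotientGroup.mk (Cfsg.Lib.Dickson.stdInvol F) := by
    rw [← hc]
    show MulAut.conj c⁻¹ (e₀ ⟨j, hjE⟩) = _
    rw [MulAut.conj_apply, inv_inv]
  haveI := PGL.diag_normal e
  -- `y` commutes with the circle
  have hcirc : ∀ m ∈ E, Commute m j → m * m ≠ 1 → Commute y m := by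
    intro m hm hmj hmm
    obtain ⟨s, o, ho, hord⟩ := exists_two_pow_dvd (g := m)
    -- odd part and 2-part
    have hcop : (2 ^ s).Coprime o := (Nat.coprime_two_left.2 ho).pow_left s
    obtain ⟨u, w, huw⟩ : ∃ u w : ℕ, m = (m ^ 2 ^ s) ^ u * (m ^ o) ^ w := by
      rcases Nat.eq_or_lt_of_le (show 1 ≤ o from ho.pos) with h1 | h1
      · exact ⟨0, 1, by rw [← h1, pow_zero, one_mul, pow_one, pow_one]⟩
      obtain ⟨u, -, hu⟩ := Nat.exists_mul_mod_eq_one_of_coprime hcop h1
      obtain ⟨q, hq⟩ : ∃ q, 2 ^ s * u = o * q + 1 := ⟨2 ^ s * u / o, by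
        rw [← hu, Nat.div_add_mod]⟩
      refine ⟨u, (2 ^ s - 1) * q, ?_⟩
      rw [← pow_mul, ← pow_mul, ← pow_add, hq]
      have h2 : o * q + 1 + o * ((2 ^ s - 1) * q) = orderOf m * q + 1 := by
        obtain ⟨S, hS⟩ : ∃ S, 2 ^ s = S + 1 := ⟨2 ^ s - 1, by have := Nat.one_le_two_pow (n := s); omega⟩
        rw [hord, hS, Nat.add_sub_cancel]
        ring
      rw [h2, pow_succ, pow_mul, pow_orderOf_eq_one, one_pow, one_mul]
    rw [huw]
    refine ((hyE _ (pow_mem hm _) ?_ (hmj.pow_left _)).pow_right u).mul_right (Commute.pow_right ?_ w)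
    · rw [orderOf_pow_of_dvd (by positivity) (hord ▸ dvd_mul_right _ _), hord,
        Nat.mul_div_cancel_left _ (by positivity)]
      exact ho
    set k := m ^ o with hk
    have hk2 : k ^ 2 ^ s = 1 := by rw [hk, ← pow_mul, mul_comm, ← hord, pow_orderOf_eq_one]
    by_cases hkk : k * k = 1
    · by_cases hk1 : k = 1
      · rw [hk1]; exact Commute.one_right y
      · rw [a.unique ⟨F, i, i', hodd, h3, ⟨e⟩⟩ hm hmm hkk hk1 hjj hj1 ((Commute.refl m).pow_left o)
          hmj.symm]
        exact hyj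
    refine commute_two_element a.cycDih hy hk2 hkk fun n => ?_
    refine Diag.commute_of_commute_involution e a.cent hodd (a := j) (PGL.le_diag e hjE)
      (PGL.le_diag e (pow_mem hm o))
      ((PGL.diag_normal e).conj_mem _ (PGL.le_diag e (pow_mem hm o)) _) hjj hj1 hkk ?_
      (hmj.pow_left o).symm ?_
    · rw [show y ^ n * k * (y ^ n)⁻¹ * (y ^ n * k * (y ^ n)⁻¹) = y ^ n * (k * k) * (y ^ n)⁻¹ by group]
      exact fun h => hkk (conj_eq_one_iff.1 h)
    · exact (((hyj.pow_left n).symm.mul_right (hmj.pow_left o).symm).mul_right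
        (hyj.pow_left n).symm.inv_right)
  -- the field part of `y`
  obtain ⟨A, φ, hA'⟩ := PGL.exists_decomp_two (PGL.autHom e y)
  have hφo : Odd (orderOf φ) := by
    refine hy.of_dvd_nat (orderOf_dvd_of_pow_eq_one ?_)
    have h1 : (innd A * fld φ : MulAut (Matrix.ProjectiveSpecialLinearGroup (Fin 2) F)) ^ orderOf y = 1 := by
      rw [← hA', ← map_pow, pow_orderOf_eq_one, map_one]
    rw [innd_fld_pow] at h1
    exact fld_eq_of_eq (n := 2) (g := tw φ A (orderOf y)) (g' := 1) (σ := φ ^ orderOf y) (σ' := 1)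
      le_rfl (by rw [h1, map_one, map_one, mul_one])
  have hφ1 : φ = 1 := Diag.fld_trivial hodd hφo fun p q hpq => by
    let M : Matrix.SpecialLinearGroup (Fin 2) F :=
      ⟨!![p, -q; q, p], by rw [Matrix.det_fin_two_of]; linear_combination hpq⟩
    let m : E := e.symm (QuotientGroup.mk M)
    have hem : e m = QuotientGroup.mk M := e.apply_symm_apply _
    have hmj : Commute (m : X) j := by
      have h1 : M * Cfsg.Lib.Dickson.stdInvol F = Cfsg.Lib.Dickson.stdInvol F * M := by
        apply Subtype.ext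
        show !![p, -q; q, p] * !![0, -1; 1, 0] = !![0, -1; 1, 0] * !![p, -q; q, p]
        ext k l
        fin_cases k <;> fin_cases l <;> simp
      have h2 : e m * e ⟨j, hjE⟩ = e ⟨j, hjE⟩ * e m := by
        rw [hem, hej, ← QuotientGroup.mk_mul, h1, QuotientGroup.mk_mul]
      rw [← map_mul, ← map_mul] at h2
      exact congrArg Subtype.val (e.injective h2)
    by_cases hmm : (m : X) * m = 1
    · have h1 : (QuotientGroup.mk (M * M) : Matrix.ProjectiveSpecialLinearGroup (Fin 2) F) = 1 := by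
        rw [QuotientGroup.mk_mul, ← hem, ← map_mul, show m * m = 1 from Subtype.ext hmm, map_one]
      rw [QuotientGroup.eq_one_iff, Matrix.SpecialLinearGroup.mem_center_iff] at h1
      obtain ⟨r, -, hr⟩ := h1
      have h01 := congrFun (congrFun hr 0) 1
      rw [Matrix.SpecialLinearGroup.coe_mul] at h01
      simp [M, Matrix.mul_apply, Fin.sum_univ_two] at h01
      have h2 := Diag.two_ne_zero' hodd
      rcases mul_eq_zero.1 (show (2 * q) * p = 0 by linear_combination h01) with h' | h'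
      · have hq := (mul_eq_zero.1 h').resolve_left h2
        rw [show p * p = 1 by rw [hq] at hpq; linear_combination hpq, map_one]
      · simp [h']
    · have hcm : PGL.autHom e y * PGL.autHom e m = PGL.autHom e m * PGL.autHom e y := by
        rw [← map_mul, ← map_mul, (hcirc m m.2 hmj hmm).eq]
      have hmi : PGL.autHom e m = innd (SpecialLinearGroup.toGL M) := by
        rw [PGL.autHom_mem e m.2, show e ⟨(m : X), m.2⟩ = QuotientGroup.mk M from hem, conj_mk]
      rw [hA', hmi, mul_assoc, fld_mul_innd', ← mul_assoc, ← mul_assoc, ← map_mul, ← map_mul] at hcm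
      obtain ⟨r, hr⟩ := (innd_eq_innd le_rfl).1 (mul_right_cancel hcm)
      have hr' : A.val * (sm φ (SpecialLinearGroup.toGL M)).val = (r : F) • (M.1 * A.val) := by
        rw [← Units.val_mul, hr, Units.val_mul, sc_val, Units.val_mul, Matrix.smul_mul, Matrix.one_mul]
        rfl
      obtain ⟨N, hN⟩ : ∃ N : Matrix (Fin 2) (Fin 2) F, N = (sm φ (SpecialLinearGroup.toGL M)).val :=
        ⟨_, rfl⟩
      have hN' : N = !![φ p, -φ q; φ q, φ p] := by
        rw [hN]
        ext k l
        fin_cases k <;> fin_cases l <;> simp [M, Matrix.SpecialLinearGroup.toGL]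
      rw [← hN] at hr'
      have hN1 : N = (r : F) • ((A⁻¹).val * M.1 * A.val) := by
        rw [Matrix.mul_assoc, ← Matrix.mul_smul, ← hr', ← Matrix.mul_assoc, Units.inv_mul,
          Matrix.one_mul]
      have hdet := congrArg Matrix.det hN1
      have htr := congrArg Matrix.trace hN1
      rw [Matrix.det_smul, Fintype.card_fin, Matrix.det_mul, Matrix.det_mul, M.2, mul_one,
        ← Matrix.det_mul, Units.inv_mul, Matrix.det_one, mul_one, hN', Matrix.det_fin_two_of] at hdet
      rw [Matrix.trace_smul, Matrix.trace_mul_cycle, Units.mul_inv, Matrix.one_mul, hN',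
        Matrix.trace_fin_two_of, show M.1 = !![p, -q; q, p] from rfl, Matrix.trace_fin_two_of,
        smul_eq_mul] at htr
      have hone : φ p * φ p + φ q * φ q = 1 := by rw [← map_mul, ← map_mul, ← map_add, hpq, map_one]
      have hrr : (r : F) * r = 1 := by linear_combination -hdet + hone
      have h2 : φ p = r * p := mul_left_cancel₀ (Diag.two_ne_zero' hodd) (by linear_combination htr)
      rw [map_mul, h2]
      linear_combination p * p * hrr
  refine Diag.mem_of_odd_diag e a.cent hodd ⟨A, ?_⟩ hy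
  rw [hA', hφ1, map_one, mul_one]

/-- An outer involution `x` centralizing `j` comes with an inner one which every element of odd
order centralizing `j` and `x` centralizes. -/
theorem exists_inner {j x : X} (hj : orderOf j = 2) (hjE : j ∈ E) (hx : x * x = 1) (hxE : x ∉ E)
    (hxj : Commute x j) :
    ∃ v ∈ E, v * v = 1 ∧ v ≠ 1 ∧ v ≠ j ∧ Commute v j ∧
      ∀ y : X, Odd (orderOf y) → Commute y j → Commute y x → Commute y v := by
  haveI := a.normal
  haveI : Fact (Nat.Prime 2) := ⟨Nat.prime_two⟩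
  have hjj := Cfsg.Lib.Invol.inv_mul_self hj
  have hj1 := Cfsg.Lib.Invol.ne_one hj
  have hx1 : x ≠ 1 := fun h => hxE (h ▸ one_mem E)
  rcases a.cases with ⟨F, i, i', hodd, -, ⟨e⟩⟩ | ⟨htop, -⟩
  swap
  · exact absurd (htop ▸ mem_top x) hxE
  haveI := PGL.diag_normal e
  -- some inner involution commuting with `j`
  obtain ⟨w, hwE, hww, hw1, hwj, hwc⟩ : ∃ w ∈ E, w * w = 1 ∧ w ≠ 1 ∧ w ≠ j ∧ Commute w j := by
    obtain ⟨V, hVE, hV⟩ := exists_klein (Nat.odd_iff.1 hodd) E e
    haveI := hV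
    obtain ⟨v, hv, hv1⟩ : ∃ v ∈ V, v ≠ 1 := by
      by_contra hno
      push Not at hno
      have hle : V ≤ ⊥ := fun v hv => mem_bot.2 (hno v hv)
      have := card_le_of_le hle
      rw [IsKleinFour.card_four, Subgroup.card_bot] at this
      omega
    obtain ⟨w, hw, hwv, hw1⟩ : ∃ w ∈ V, w ≠ v ∧ w ≠ 1 := by
      by_contra hno
      push Not at hno
      have hle : V ≤ zpowers v := fun u hu => by
        by_cases hu1 : u = v
        · exact hu1 ▸ mem_zpowers v
        · exact hno u hu hu1 ▸ one_mem _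
      have h1 := card_le_of_le hle
      have h2 : orderOf v ≤ 2 := orderOf_le_of_pow_eq_one two_pos (by
        rw [pow_two]; exact Cfsg.Lib.Invol.klein_mul_self hv)
      rw [IsKleinFour.card_four, Nat.card_zpowers] at h1
      omega
    obtain ⟨d, hd⟩ := Cfsg.Lib.Dickson.exists_conj_involution (Nat.odd_iff.1 hodd)
      (x := e ⟨v, hVE hv⟩) (y := e ⟨j, hjE⟩)
      (by rw [← map_pow, show (⟨v, hVE hv⟩ : E) ^ 2 = 1 from Subtype.ext (by
        rw [SubmonoidClass.coe_pow, pow_two]; exact Cfsg.Lib.Invol.klein_mul_self hv), map_one])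
      (fun h => hv1 (congrArg Subtype.val (e.map_eq_one_iff.1 h)))
      (by rw [← map_pow, show (⟨j, hjE⟩ : E) ^ 2 = 1 from Subtype.ext (by
        rw [SubmonoidClass.coe_pow, ← hj]; exact pow_orderOf_eq_one j), map_one])
      (fun h => hj1 (congrArg Subtype.val (e.map_eq_one_iff.1 h)))
    obtain ⟨b, hb⟩ : ∃ b : E, b = (e.symm d)⁻¹ := ⟨_, rfl⟩
    have hd' : b * ⟨v, hVE hv⟩ * b⁻¹ = ⟨j, hjE⟩ := e.injective (by
      rw [hb, inv_inv, map_mul, map_mul, map_inv, e.apply_symm_apply]; exact hd)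
    have hdj : (b : X) * v * (b : X)⁻¹ = j := congrArg Subtype.val hd'
    refine ⟨b * w * (b : X)⁻¹, mul_mem (mul_mem b.2 (hVE hw)) (inv_mem b.2), ?_, ?_, ?_, ?_⟩
    · rw [show (b : X) * w * (b : X)⁻¹ * (b * w * (b : X)⁻¹) = b * (w * w) * (b : X)⁻¹ by group,
        Cfsg.Lib.Invol.klein_mul_self hw, mul_one, mul_inv_cancel]
    · exact fun h => hw1 (conj_eq_one_iff.1 h)
    · exact fun h => hwv (mul_left_cancel (mul_right_cancel (h.trans hdj.symm)))
    · rw [← hdj]
      exact (show Commute w v from Cfsg.Lib.Invol.klein_comm hw hv).map (MulAut.conj (b : X)).toMonoidHom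
  -- move it to make a 2-element with `x`
  obtain ⟨s, o, ho, hord⟩ := exists_two_pow_dvd (g := x * w)
  obtain ⟨l, hl⟩ := ho
  set k := (x * w) ^ o with hk
  set v := x * k with hv
  have hxwj : Commute (x * w) j := hxj.mul_left hwc
  have hvconj : v = (w * x) ^ l * w * ((w * x) ^ l)⁻¹ := by
    have hinv : ((w * x) ^ l)⁻¹ = (x * w) ^ l := by
      rw [← inv_pow, _root_.mul_inv_rev, inv_eq_of_mul_eq_one_right hww, inv_eq_of_mul_eq_one_right hx]
    rw [hinv, hv, hk, hl, show 2 * l + 1 = (l + 1) + l by omega, pow_add, ← mul_assoc]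
    congr 1
    have h1 : ∀ n : ℕ, x * (x * w) ^ (n + 1) = (w * x) ^ n * w := by
      intro n
      induction n with
      | zero => rw [pow_one, pow_zero, one_mul, ← mul_assoc, hx, one_mul]
      | succ n ih =>
        rw [pow_succ (x * w) (n + 1), ← mul_assoc, ih, pow_succ (w * x) n]
        simp only [mul_assoc]
    exact h1 l
  have hvE : v ∈ E := hvconj ▸ Normal.conj_mem a.normal w hwE _
  have hvv : v * v = 1 := by
    rw [hvconj, show (w * x) ^ l * w * ((w * x) ^ l)⁻¹ * ((w * x) ^ l * w * ((w * x) ^ l)⁻¹) =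
      (w * x) ^ l * (w * w) * ((w * x) ^ l)⁻¹ by group, hww, mul_one, mul_inv_cancel]
  have hv1 : v ≠ 1 := fun h => hw1 (conj_eq_one_iff.1 (hvconj ▸ h))
  have hvj : v ≠ j := fun h => hwj (by
    have hcj : Commute ((w * x) ^ l) j := (hwc.mul_left hxj).pow_left l
    have h' : (w * x) ^ l * w * ((w * x) ^ l)⁻¹ = (w * x) ^ l * j * ((w * x) ^ l)⁻¹ := by
      rw [← hvconj, h, hcj.eq, mul_inv_cancel_right]
    exact mul_left_cancel (mul_right_cancel h'))
  have hvc : Commute v j := hxj.mul_left (hxwj.pow_left o)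
  refine ⟨v, hvE, hvv, hv1, hvj, hvc, fun y hy hyj hyx => hyx.mul_right ?_⟩
  -- the 2-element
  have hk2 : k ^ 2 ^ s = 1 := by rw [hk, ← pow_mul, mul_comm, ← hord, pow_orderOf_eq_one]
  have hkk : k * k ≠ 1 := by
    intro hkk
    -- otherwise an elementary group of order eight
    have hxk : x * v = k := by rw [hv, ← mul_assoc, hx, one_mul]
    have hxv : Commute x v := by
      show x * v = v * x
      have h1 : (x * v)⁻¹ = x * v := inv_eq_of_mul_eq_one_right (by rw [hxk, hkk])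
      rw [_root_.mul_inv_rev, inv_eq_of_mul_eq_one_right hvv, inv_eq_of_mul_eq_one_right hx] at h1
      exact h1.symm
    have hS : ∀ u ∈ ({x, v, j} : Set X), ∀ u' ∈ ({x, v, j} : Set X), u * u' = u' * u := by
      rintro u (rfl | rfl | rfl) u' (rfl | rfl | rfl)
      all_goals first
        | rfl | exact hxv.eq | exact hxv.eq.symm | exact hxj.eq | exact hxj.eq.symm
        | exact hvc.eq | exact hvc.eq.symm
    haveI := Subgroup.isMulCommutative_closure hS
    set Q := closure ({x, v, j} : Set X) with hQ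
    have hsq : ∀ u ∈ Q, u * u = 1 := by
      intro u hu
      induction hu using closure_induction with
      | mem u hu => rcases hu with rfl | rfl | rfl <;> assumption
      | one => exact one_mul 1
      | mul u u' hu hu' h1 h2 =>
        have hc : u * u' = u' * u := congrArg Subtype.val
          ((inferInstance : IsMulCommutative Q).is_comm.comm ⟨u, hu⟩ ⟨u', hu'⟩)
        calc u * u' * (u * u') = u * (u' * u) * u' := by group
          _ = u * (u * u') * u' := by rw [hc]
          _ = (u * u) * (u' * u') := by group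
          _ = 1 := by rw [h1, h2, one_mul]
      | inv u _ h1 => rw [← _root_.mul_inv_rev, h1, inv_one]
    have hp : IsPGroup 2 Q := fun u => ⟨1, Subtype.ext (by rw [pow_one, pow_two]; exact hsq u u.2)⟩
    have h4 := PGL.card_le_four_of_cycDih (a.cycDih Q hp) fun u => Subtype.ext (hsq u u.2)
    have mx : x ∈ Q := subset_closure (by simp)
    have mv : v ∈ Q := subset_closure (by simp)
    have mj : j ∈ Q := subset_closure (by simp)
    haveI := Fintype.ofFinite Q
    classical
    let five : Finset Q := {1, ⟨x, mx⟩, ⟨v, mv⟩, ⟨j, mj⟩, ⟨x * v, mul_mem mx mv⟩}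
    have hfive : five.card = 5 := by
      have n1 : x * v ∉ E := fun h => hxE ((mul_mem_cancel_right hvE).1 h)
      simp only [five]
      rw [Finset.card_insert_of_notMem, Finset.card_insert_of_notMem, Finset.card_insert_of_notMem,
        Finset.card_insert_of_notMem, Finset.card_singleton]
      all_goals simp only [Finset.mem_insert, Finset.mem_singleton, Subtype.ext_iff, OneMemClass.coe_one,
        not_or]
      · exact fun h => n1 (h ▸ hjE)
      · exact ⟨hvj, fun h => n1 (h ▸ hvE)⟩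
      · exact ⟨fun h => hxE (h ▸ hvE), fun h => hxE (h ▸ hjE), fun h => hv1 (left_eq_mul.1 h)⟩
      · exact ⟨fun h => hx1 h.symm, fun h => hv1 h.symm, fun h => hj1 h.symm, fun h => n1 (h ▸ one_mem E)⟩
    have := five.card_le_univ
    rw [hfive, ← Nat.card_eq_fintype_card] at this
    omega
  refine commute_two_element a.cycDih hy hk2 hkk fun n => ?_
  have hkd : k ∈ PGL.diag e := pow_mem (mul_mem (PGL.involution_mem_diag e hodd a.cent a.cycDih hx)
    (PGL.le_diag e hwE)) o
  refine Diag.commute_of_commute_involution e a.cent hodd (a := j) (PGL.le_diag e hjE) hkd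
    ((PGL.diag_normal e).conj_mem _ hkd _) hjj hj1 hkk ?_ (hxwj.pow_left o).symm ?_
  · rw [show y ^ n * k * (y ^ n)⁻¹ * (y ^ n * k * (y ^ n)⁻¹) = y ^ n * (k * k) * (y ^ n)⁻¹ by group]
    exact fun h => hkk (conj_eq_one_iff.1 h)
  · exact (((hyj.pow_left n).symm.mul_right (hxwj.pow_left o).symm).mul_right
      (hyj.pow_left n).symm.inv_right)

end Almost

end Cfsg.Lib.GW.CMax
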