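import Cfsg.Agent.Lib.GW.CMax.Almost

/-!
# A field automorphism of `r`-power order fixing the `r`-th powers on the circle is trivial

An element of `r`-power order of an almost simple group with socle `PSL₂(q)` or `A₇` which commutes
with two involutions and with the `r`-th powers of the elements of odd order of `C_E(j)` is trivial:
otherwise `q - 2 ≤ r (K + 1)` with `q = K ^ d`, `r ≤ d`.
-/

set_option autoImplicit false
set_option linter.unusedSectionVars false
set_option linter.style.haveILetI false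

namespace Cfsg.Lib.GW.CMax

open Subgroup Matrix Cfsg.Lib.Linear.AutPSL Cfsg.Lib.Linear.Descent
open scoped commutatorElement

universe u

namespace Diag

variable {F : Type} [Field F]

/-- The circle is closed under powers. -/
theorem circ_pow {p q : F} (h : p * p + q * q = 1) (n : ℕ) :
    ∃ p' q' : F, (!![p, -q; q, p] : Matrix (Fin 2) (Fin 2) F) ^ n = !![p', -q'; q', p'] ∧
      p' * p' + q' * q' = 1 := by
  induction n with
  | zero => exact ⟨1, 0, by ext i j; fin_cases i <;> fin_cases j <;> simp, by ring⟩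
  | succ n ih =>
    obtain ⟨a, b, hM, hab⟩ := ih
    refine ⟨a * p - b * q, b * p + a * q, ?_, ?_⟩
    · rw [pow_succ, hM]
      ext i j
      fin_cases i <;> fin_cases j <;> simp [Matrix.mul_apply, Fin.sum_univ_two] <;> ring
    · linear_combination (p * p + q * q) * hab + h

/-- In a closure the points of the circle are units of norm one. -/
theorem circ_val {p q : F} {Ω : Type*} [CommRing Ω] (ι : F →+* Ω) {z : Ω} (hz : z * z = -1) (n : ℕ)
    (a b : F) (hM : (!![p, -q; q, p] : Matrix (Fin 2) (Fin 2) F) ^ n = !![a, -b; b, a]) :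
    (ι p + ι q * z) ^ n = ι a + ι b * z := by
  induction n generalizing a b with
  | zero =>
    have h0 := congrFun (congrFun hM 0) 0
    have h1 := congrFun (congrFun hM 1) 0
    simp at h0 h1
    simp [← h0, ← h1]
  | succ n ih =>
    rw [pow_succ] at hM ⊢
    obtain ⟨a', ha'⟩ : ∃ a', a' = ((!![p, -q; q, p] : Matrix (Fin 2) (Fin 2) F) ^ n) 0 0 := ⟨_, rfl⟩
    obtain ⟨b', hb'⟩ : ∃ b', b' = ((!![p, -q; q, p] : Matrix (Fin 2) (Fin 2) F) ^ n) 1 0 := ⟨_, rfl⟩
    have hshape : (!![p, -q; q, p] : Matrix (Fin 2) (Fin 2) F) ^ n = !![a', -b'; b', a'] := by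
      clear ih hM
      induction n generalizing a' b' with
      | zero => subst ha' hb'; ext i j; fin_cases i <;> fin_cases j <;> simp
      | succ n ih =>
        have e := ih _ rfl _ rfl
        rw [pow_succ, e] at ha' hb' ⊢
        simp [Matrix.mul_apply, Fin.sum_univ_two] at ha' hb'
        ext i j
        fin_cases i <;> fin_cases j <;> simp [Matrix.mul_apply, Fin.sum_univ_two, ha', hb']; ring
    have h0 := congrFun (congrFun hM 0) 0
    have h1 := congrFun (congrFun hM 1) 0
    rw [hshape] at h0 h1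
    simp [Matrix.mul_apply, Fin.sum_univ_two] at h0 h1
    rw [ih a' b' hshape, ← h0, ← h1]
    simp only [map_add, map_mul, map_neg]
    linear_combination ι b' * ι q * hz

/-- The bound of the count. -/
theorem field_ineq {p K : ℕ} (hp : 3 ≤ p) (hK : 3 ≤ K) : p * (K + 1) + 2 < K ^ p := by
  have h3 : ∀ n, 2 ≤ n → 3 * (n + 1) ≤ 3 ^ n := by
    intro n hn
    induction n, hn using Nat.le_induction with
    | base => norm_num
    | succ n hn ih => rw [pow_succ]; omega
  have h4 : K * (3 * p) ≤ K ^ p := by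
    obtain ⟨n, rfl⟩ : ∃ n, p = n + 1 := ⟨p - 1, by omega⟩
    rw [pow_succ, mul_comm (K ^ n)]
    exact Nat.mul_le_mul_left _ ((h3 n (by omega)).trans (Nat.pow_le_pow_left hK n))
  nlinarith

/-- A field automorphism of `p`-power order fixing the squares of the `p`-th powers on the circle is
trivial. -/
theorem fld_trivial_pow [Fintype F] (hodd : Odd (Fintype.card F)) {p k : ℕ} (hp : p.Prime)
    (hp2 : p ≠ 2) {σ : F ≃+* F} (hσ : σ ^ p ^ k = 1)
    (h : ∀ a b : F, a * a + b * b = 1 →
      σ (((!![a, -b; b, a] : Matrix (Fin 2) (Fin 2) F) ^ p) 0 0 *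
          ((!![a, -b; b, a] : Matrix (Fin 2) (Fin 2) F) ^ p) 0 0) =
        ((!![a, -b; b, a] : Matrix (Fin 2) (Fin 2) F) ^ p) 0 0 *
          ((!![a, -b; b, a] : Matrix (Fin 2) (Fin 2) F) ^ p) 0 0) : σ = 1 := by
  classical
  by_contra hne
  haveI : Finite (F ≃+* F) :=
    Finite.of_injective (fun τ : F ≃+* F => (τ : F → F)) DFunLike.coe_injective
  have h2 := two_ne_zero' hodd
  have hp3 : 3 ≤ p := by have := hp.two_le; omega
  obtain ⟨j, hjk, hj⟩ := (Nat.dvd_prime_pow hp).1 (orderOf_dvd_of_pow_eq_one hσ)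
  have hj0 : 0 < j := Nat.pos_of_ne_zero fun e => hne (orderOf_eq_one_iff.1 (by rw [hj, e, pow_zero]))
  have hσodd : Odd (orderOf σ) := by
    rw [hj]; exact (hp.odd_of_ne_two hp2).pow
  have hk := card_fixedF_pow σ
  haveI : Finite (F ≃+* F) :=
    Finite.of_injective (fun τ : F ≃+* F => (τ : F → F)) DFunLike.coe_injective
  haveI : Finite (fixedF σ) := inferInstance
  set K := Nat.card (fixedF σ) with hKdef
  have hK1 : 2 ≤ K := Finite.one_lt_card
  obtain ⟨m, hm⟩ := id hodd
  have hK3 : 3 ≤ K := by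
    by_contra hlt
    have e : K = 2 := by omega
    rw [e] at hk
    have := (dvd_pow_self 2 (orderOf_pos σ).ne').trans hk.dvd
    omega
  -- fixing a square means fixing
  have hfixsq : ∀ w : F, σ (w * w) = w * w → σ w = w := by
    intro w hw
    rw [map_mul] at hw
    rcases mul_self_eq_mul_self_iff.1 hw with e | e
    · exact e
    · obtain ⟨l, hl⟩ := hσodd
      have h2' : (σ ^ 2) w = w := by
        show σ (σ w) = w
        rw [e, map_neg, e, neg_neg]
      have hl' : ∀ n : ℕ, ((σ ^ 2) ^ n) w = w := by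
        intro n
        induction n with
        | zero => rfl
        | succ n ih => rw [pow_succ]; show ((σ ^ 2) ^ n) ((σ ^ 2) w) = w; rw [h2', ih]
      have e1 : (σ ^ orderOf σ) w = w := by rw [pow_orderOf_eq_one]; rfl
      rw [hl, pow_succ, pow_mul] at e1
      change ((σ ^ 2) ^ l) (σ w) = w at e1
      rw [e, map_neg, hl' l] at e1
      rw [e, e1]
  obtain ⟨z, hz⟩ := IsAlgClosed.exists_pow_nat_eq (k := AlgebraicClosure F) (-1) (two_pos)
  rw [pow_two] at hz
  let ι := algebraMap F (AlgebraicClosure F)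
  have hι := ι.injective
  let pa : F → F := fun t => (1 - t * t) / (1 + t * t)
  let pb : F → F := fun t => 2 * t / (1 + t * t)
  let zp : F → AlgebraicClosure F := fun t => ι (pa t) + ι (pb t) * z
  let T : Finset F := Finset.univ.filter fun t => 1 + t * t ≠ 0
  have hT : Fintype.card F ≤ T.card + 2 := by
    have hbad : (Finset.univ.filter fun t : F => ¬ 1 + t * t ≠ 0).card ≤ 2 := by
      by_cases hex : ∃ t : F, 1 + t * t = 0
      · obtain ⟨t₀, ht₀⟩ := hex
        refine (Finset.card_le_card (t := {t₀, -t₀}) fun t ht => ?_).trans Finset.card_le_two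
        simp only [Finset.mem_filter, Finset.mem_univ, true_and, not_not] at ht
        rcases mul_self_eq_mul_self_iff.1 (show t * t = t₀ * t₀ by linear_combination ht - ht₀) with h' | h' <;>
          simp [h']
      · rw [Finset.filter_false_of_mem fun t _ h' => hex ⟨t, not_not.1 h'⟩]
        simp
    have := Finset.card_filter_add_card_filter_not (s := (Finset.univ : Finset F))
      (fun t => 1 + t * t ≠ 0)
    rw [Finset.card_univ] at this
    show Fintype.card F ≤ (Finset.univ.filter fun t : F => 1 + t * t ≠ 0).card + 2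
    omega
  have hcirc : ∀ t ∈ T, pa t * pa t + pb t * pb t = 1 := by
    intro t ht
    simp only [T, Finset.mem_filter, Finset.mem_univ, true_and] at ht
    simp only [pa, pb]
    rw [div_mul_div_comm, div_mul_div_comm, ← add_div, div_eq_one_iff_eq (mul_ne_zero ht ht)]
    ring
  -- the real part and the parameter are determined by the point
  have hinj : ∀ a b a' b' : F, a * a + b * b = 1 → a' * a' + b' * b' = 1 →
      ι a + ι b * z = ι a' + ι b' * z → a = a' ∧ b = b' := by
    intro a b a' b' e1 e1' e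
    have c1 := congrArg ι e1
    have c2 := congrArg ι e1'
    simp only [map_add, map_mul, map_one] at c1 c2
    have f1 : (ι a + ι b * z) * (ι a - ι b * z) = 1 := by linear_combination c1 - ι b * ι b * hz
    have f2 : (ι a' + ι b' * z) * (ι a' - ι b' * z) = 1 := by linear_combination c2 - ι b' * ι b' * hz
    have hne0 : ι a + ι b * z ≠ 0 := left_ne_zero_of_mul (f1 ▸ one_ne_zero)
    have e' : ι a - ι b * z = ι a' - ι b' * z := mul_left_cancel₀ hne0 (by rw [f1]; rw [e]; exact f2.symm)
    have h2K : (2 : AlgebraicClosure F) ≠ 0 := by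
      rw [← map_ofNat ι 2]; exact fun hh => h2 (hι (hh.trans (map_zero ι).symm))
    have ha : a = a' := hι (mul_left_cancel₀ h2K (by linear_combination e + e'))
    refine ⟨ha, hι ?_⟩
    have hz0 : z ≠ 0 := fun hh => by rw [hh, mul_zero] at hz; exact one_ne_zero (neg_eq_zero.1 hz.symm)
    subst ha
    exact mul_right_cancel₀ hz0 (add_left_cancel e)
  have hzinj : ∀ t ∈ T, ∀ t' ∈ T, zp t = zp t' → t = t' := by
    intro t ht t' ht' e
    obtain ⟨e1, e2⟩ := hinj _ _ _ _ (hcirc t ht) (hcirc t' ht') e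
    simp only [T, Finset.mem_filter, Finset.mem_univ, true_and] at ht ht'
    have g : ∀ s : F, 1 + s * s ≠ 0 → pb s = s * (1 + pa s) := by
      intro s hs
      simp only [pa, pb]
      rw [one_add_div hs]
      ring
    have g1 : ∀ s : F, 1 + s * s ≠ 0 → 1 + pa s ≠ 0 := by
      intro s hs h0
      simp only [pa] at h0
      rw [one_add_div hs, div_eq_zero_iff] at h0
      exact h2 (by linear_combination h0.resolve_right hs)
    refine mul_right_cancel₀ (g1 t ht) ?_
    rw [← g t ht, e2, g t' ht', e1]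
  -- the fixed parameters
  let S : Finset F := Finset.univ.filter fun w => σ w = w
  have hS : S.card = K := by
    rw [hKdef, ← Fintype.card_subtype, ← Nat.card_eq_fintype_card]
    exact Nat.card_congr (Equiv.subtypeEquivRight fun w => mem_fixedF.symm)
  let I : Finset (AlgebraicClosure F) := insert (-1) (S.image zp)
  have hI : I.card ≤ K + 1 :=
    (Finset.card_insert_le _ _).trans (Nat.add_le_add_right (Finset.card_image_le.trans_eq hS) 1)
  have hmaps : ∀ t ∈ T, zp t ^ p ∈ I := by
    intro t ht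
    obtain ⟨a, b, hM, hab⟩ := circ_pow (hcirc t ht) p
    have hv : zp t ^ p = ι a + ι b * z := circ_val ι hz p a b hM
    have ha := h _ _ (hcirc t ht)
    rw [hM, show (!![a, -b; b, a] : Matrix (Fin 2) (Fin 2) F) 0 0 = a from rfl] at ha
    have ha1 := hfixsq a ha
    have hb1 := hfixsq b (by
      rw [show b * b = 1 - a * a by linear_combination hab, map_sub, map_one, ha])
    rw [hv]
    by_cases hneg : 1 + a = 0
    · have hb0 : b = 0 := mul_self_eq_zero.1 (by linear_combination hab - (a - 1) * hneg)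
      refine Finset.mem_insert.2 (Or.inl ?_)
      rw [hb0, show a = -1 by linear_combination hneg, map_neg, map_one, map_zero, zero_mul, add_zero]
    · refine Finset.mem_insert.2 (Or.inr (Finset.mem_image.2 ⟨b / (1 + a), Finset.mem_filter.2
        ⟨Finset.mem_univ _, by rw [map_div₀, map_add, map_one, ha1, hb1]⟩, ?_⟩))
      have hs : 1 + b / (1 + a) * (b / (1 + a)) = 2 / (1 + a) := by
        field_simp
        linear_combination hab
      simp only [zp, pa, pb]
      rw [hs, show 1 - b / (1 + a) * (b / (1 + a)) = 2 * a / (1 + a) by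
        field_simp; linear_combination -hab]
      congr 2
      · congr 1; field_simp
      · congr 1; field_simp
  have hfib : ∀ w ∈ I, (T.filter fun t => zp t ^ p = w).card ≤ p := by
    intro w _
    rw [← Finset.card_image_of_injOn (f := zp) (fun t ht t' ht' e =>
      hzinj t (Finset.mem_filter.1 ht).1 t' (Finset.mem_filter.1 ht').1 e)]
    refine (Finset.card_le_card (t := (Polynomial.nthRoots p w).toFinset) fun v hv => ?_).trans
      ((Multiset.toFinset_card_le _).trans (Polynomial.card_nthRoots p w))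
    obtain ⟨t, ht, rfl⟩ := Finset.mem_image.1 hv
    rw [Multiset.mem_toFinset, Polynomial.mem_nthRoots hp.pos]
    exact (Finset.mem_filter.1 ht).2
  have hbig : T.card ≤ p * (K + 1) :=
    (Finset.card_le_mul_card_image_of_maps_to hmaps p hfib).trans (Nat.mul_le_mul_left _ hI)
  have hq : K ^ p ≤ Fintype.card F := hk ▸ Nat.pow_le_pow_right (by omega) (by
    rw [hj]
    exact Nat.le_self_pow hj0.ne' p)
  have := field_ineq hp3 hK3
  omega

end Diag

variable {X : Type u} [Group X] [Finite X]

namespace Almost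

variable {E : Subgroup X} (a : Almost E)
include a

/-- An element of `r`-power order centralizing `j`, `x` and the `r`-th powers of the elements of odd
order of `C_E(j)` is trivial. -/
theorem centralizing_eq_one_pow {r k : ℕ} (hr : r.Prime) (hr2 : r ≠ 2) {j x y : X} (hj : orderOf j = 2) (hjE : j ∈ E) (hx : x * x = 1)
    (hx1 : x ≠ 1) (hxj : x ≠ j)
    (hA : PSLType E ∨ ∃ t ∈ E, Odd (orderOf t) ∧ t ≠ 1 ∧ Commute t j ∧ x * t * x = t⁻¹)
    (hy : Odd (orderOf y)) (hyj : Commute y j) (hyx : Commute y x)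
    (hyr : y ^ r ^ k = 1)
    (hyE : ∀ e ∈ E, Odd (orderOf e) → Commute e j → Commute y (e ^ r)) : y = 1 := by
  haveI := a.normal
  refine a.fixed_eq_one hj hjE hx hx1 hxj hA ?_ hy hyj hyx
  rcases a.cases with ⟨F, i, i', hodd, h3, ⟨e₀⟩⟩ | ⟨htop, -⟩
  swap
  · exact htop ▸ mem_top y
  have hjj := Cfsg.Lib.Invol.inv_mul_self hj
  have hj1 := Cfsg.Lib.Invol.ne_one hj
  -- coordinates in which `j` is standard
  obtain ⟨c, hc⟩ := Cfsg.Lib.Dickson.exists_conj_stdInvol (Nat.odd_iff.1 hodd) (x := e₀ ⟨j, hjE⟩)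
    (by rw [← map_pow, show (⟨j, hjE⟩ : E) ^ 2 = 1 from Subtype.ext (by
      rw [SubmonoidClass.coe_pow, ← hj]; exact pow_orderOf_eq_one j), map_one])
    (fun h => hj1 (congrArg Subtype.val (e₀.map_eq_one_iff.1 h)))
  let e : E ≃* Matrix.ProjectiveSpecialLinearGroup (Fin 2) F := e₀.trans (MulAut.conj c⁻¹)
  have hej : e ⟨j, hjE⟩ = QuotientGroup.mk (Cfsg.Lib.Dickson.stdInvol F) := by
    rw [← hc]
    show MulAut.conj c⁻¹ (e₀ ⟨j, hjE⟩) = _
    rw [MulAut.conj_apply, inv_inv]
  haveI := PGL.diag_normal e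
  -- `y` commutes with the circle
  have hcirc : ∀ m ∈ E, Commute m j → m * m ≠ 1 → Commute y (m ^ r) := by
    intro m hm hmj hmm
    obtain ⟨s, o, ho, hord⟩ := exists_two_pow_dvd (g := m)
    -- odd part and 2-part
    have hcop : (2 ^ s).Coprime o := (Nat.coprime_two_left.2 ho).pow_left s
    obtain ⟨u, w, huw⟩ : ∃ u w : ℕ, m = (m ^ 2 ^ s) ^ u * (m ^ o) ^ w := by
      rcases Nat.eq_or_lt_of_le (show 1 ≤ o from ho.pos) with h1 | h1
      · exact ⟨0, 1, by rw [← h1, pow_zero, one_mul, pow_one, pow_one]⟩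
      obtain ⟨u, -, hu⟩ := Nat.exists_mul_mod_eq_one_of_coprime hcop h1
      obtain ⟨q, hq⟩ : ∃ q, 2 ^ s * u = o * q + 1 := ⟨2 ^ s * u / o, by
        rw [← hu, Nat.div_add_mod]⟩
      refine ⟨u, (2 ^ s - 1) * q, ?_⟩
      rw [← pow_mul, ← pow_mul, ← pow_add, hq]
      have h2 : o * q + 1 + o * ((2 ^ s - 1) * q) = orderOf m * q + 1 := by
        obtain ⟨S, hS⟩ : ∃ S, 2 ^ s = S + 1 := ⟨2 ^ s - 1, by have := Nat.one_le_two_pow (n := s); omega⟩
        rw [hord, hS, Nat.add_sub_cancel]
        ring
      rw [h2, pow_succ, pow_mul, pow_orderOf_eq_one, one_pow, one_mul]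
    rw [huw, ((((Commute.refl m).pow_pow (2 ^ s) o).pow_pow u w)).mul_pow, ← pow_mul _ u r, mul_comm u r,
      pow_mul, ← pow_mul _ w r]
    refine ((hyE _ (pow_mem hm _) ?_ (hmj.pow_left _)).pow_right u).mul_right (Commute.pow_right ?_ _)
    · rw [orderOf_pow_of_dvd (by positivity) (hord ▸ dvd_mul_right _ _), hord,
        Nat.mul_div_cancel_left _ (by positivity)]
      exact ho
    set k := m ^ o with hk
    have hk2 : k ^ 2 ^ s = 1 := by rw [hk, ← pow_mul, mul_comm, ← hord, pow_orderOf_eq_one]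
    by_cases hkk : k * k = 1
    · by_cases hk1 : k = 1
      · rw [hk1]; exact Commute.one_right y
      · rw [a.unique ⟨F, i, i', hodd, h3, ⟨e⟩⟩ hm hmm hkk hk1 hjj hj1 ((Commute.refl m).pow_left o)
          hmj.symm]
        exact hyj
    refine commute_two_element a.cycDih hy hk2 hkk fun n => ?_
    refine Diag.commute_of_commute_involution e a.cent hodd (a := j) (PGL.le_diag e hjE)
      (PGL.le_diag e (pow_mem hm o))
      ((PGL.diag_normal e).conj_mem _ (PGL.le_diag e (pow_mem hm o)) _) hjj hj1 hkk ?_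
      (hmj.pow_left o).symm ?_
    · rw [show y ^ n * k * (y ^ n)⁻¹ * (y ^ n * k * (y ^ n)⁻¹) = y ^ n * (k * k) * (y ^ n)⁻¹ by group]
      exact fun h => hkk (conj_eq_one_iff.1 h)
    · exact (((hyj.pow_left n).symm.mul_right (hmj.pow_left o).symm).mul_right
        (hyj.pow_left n).symm.inv_right)
  -- the field part of `y`
  obtain ⟨A, φ, hA'⟩ := PGL.exists_decomp_two (PGL.autHom e y)
  have hφo : Odd (orderOf φ) := by
    refine hy.of_dvd_nat (orderOf_dvd_of_pow_eq_one ?_)
    have h1 : (innd A * fld φ : MulAut (Matrix.ProjectiveSpecialLinearGroup (Fin 2) F)) ^ orderOf y = 1 := by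
      rw [← hA', ← map_pow, pow_orderOf_eq_one, map_one]
    rw [innd_fld_pow] at h1
    exact fld_eq_of_eq (n := 2) (g := tw φ A (orderOf y)) (g' := 1) (σ := φ ^ orderOf y) (σ' := 1)
      le_rfl (by rw [h1, map_one, map_one, mul_one])
  have hφr : φ ^ r ^ k = 1 := by
    have h1 : (innd A * fld φ : MulAut (Matrix.ProjectiveSpecialLinearGroup (Fin 2) F)) ^ r ^ k = 1 := by
      rw [← hA', ← map_pow, hyr, map_one]
    rw [innd_fld_pow] at h1
    exact fld_eq_of_eq (n := 2) (g := tw φ A (r ^ k)) (g' := 1) (σ := φ ^ r ^ k) (σ' := 1)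
      le_rfl (by rw [h1, map_one, map_one, mul_one])
  have hφ1 : φ = 1 := Diag.fld_trivial_pow hodd hr hr2 hφr fun p₀ q₀ hpq₀ => by
    obtain ⟨p, q, hM, hpq⟩ := Diag.circ_pow hpq₀ r
    rw [hM, show (!![p, -q; q, p] : Matrix (Fin 2) (Fin 2) F) 0 0 = p from rfl]
    let M₀ : Matrix.SpecialLinearGroup (Fin 2) F :=
      ⟨!![p₀, -q₀; q₀, p₀], by rw [Matrix.det_fin_two_of]; linear_combination hpq₀⟩
    let M : Matrix.SpecialLinearGroup (Fin 2) F :=
      ⟨!![p, -q; q, p], by rw [Matrix.det_fin_two_of]; linear_combination hpq⟩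
    have hMM : M₀ ^ r = M := Subtype.ext (by rw [Matrix.SpecialLinearGroup.coe_pow]; exact hM)
    let m₀ : E := e.symm (QuotientGroup.mk M₀)
    let m : E := e.symm (QuotientGroup.mk M)
    have hm₀m : (m₀ : X) ^ r = m := by
      rw [← SubmonoidClass.coe_pow, ← map_pow, ← QuotientGroup.mk_pow, hMM]
    have hem : e m = QuotientGroup.mk M := e.apply_symm_apply _
    have hmj : Commute (m₀ : X) j := by
      have h1 : M₀ * Cfsg.Lib.Dickson.stdInvol F = Cfsg.Lib.Dickson.stdInvol F * M₀ := by
        apply Subtype.ext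
        show !![p₀, -q₀; q₀, p₀] * !![0, -1; 1, 0] = !![0, -1; 1, 0] * !![p₀, -q₀; q₀, p₀]
        ext k l
        fin_cases k <;> fin_cases l <;> simp
      have h2 : e m₀ * e ⟨j, hjE⟩ = e ⟨j, hjE⟩ * e m₀ := by
        rw [show e m₀ = QuotientGroup.mk M₀ from e.apply_symm_apply _, hej, ← QuotientGroup.mk_mul, h1,
          QuotientGroup.mk_mul]
      rw [← map_mul, ← map_mul] at h2
      exact congrArg Subtype.val (e.injective h2)
    by_cases hmm : (m : X) * m = 1
    · have h1 : (QuotientGroup.mk (M * M) : Matrix.ProjectiveSpecialLinearGroup (Fin 2) F) = 1 := by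
        rw [QuotientGroup.mk_mul, ← hem, ← map_mul, show m * m = 1 from Subtype.ext hmm, map_one]
      rw [QuotientGroup.eq_one_iff, Matrix.SpecialLinearGroup.mem_center_iff] at h1
      obtain ⟨r, -, hr⟩ := h1
      have h01 := congrFun (congrFun hr 0) 1
      rw [Matrix.SpecialLinearGroup.coe_mul] at h01
      simp [M, Matrix.mul_apply, Fin.sum_univ_two] at h01
      have h2 := Diag.two_ne_zero' hodd
      rcases mul_eq_zero.1 (show (2 * q) * p = 0 by linear_combination h01) with h' | h'
      · have hq := (mul_eq_zero.1 h').resolve_left h2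
        rw [show p * p = 1 by rw [hq] at hpq; linear_combination hpq, map_one]
      · simp [h']
    · have hcm : PGL.autHom e y * PGL.autHom e m = PGL.autHom e m * PGL.autHom e y := by
        rw [← map_mul, ← map_mul, ((hm₀m ▸ hcirc m₀ m₀.2 hmj fun h => hmm (by
          rw [← hm₀m, ← ((Commute.refl (m₀ : X))).mul_pow, h, one_pow]) : Commute y (m : X))).eq]
      have hmi : PGL.autHom e m = innd (SpecialLinearGroup.toGL M) := by
        rw [PGL.autHom_mem e m.2, show e ⟨(m : X), m.2⟩ = QuotientGroup.mk M from hem, conj_mk]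
      rw [hA', hmi, mul_assoc, fld_mul_innd', ← mul_assoc, ← mul_assoc, ← map_mul, ← map_mul] at hcm
      obtain ⟨r, hr⟩ := (innd_eq_innd le_rfl).1 (mul_right_cancel hcm)
      have hr' : A.val * (sm φ (SpecialLinearGroup.toGL M)).val = (r : F) • (M.1 * A.val) := by
        rw [← Units.val_mul, hr, Units.val_mul, sc_val, Units.val_mul, Matrix.smul_mul, Matrix.one_mul]
        rfl
      obtain ⟨N, hN⟩ : ∃ N : Matrix (Fin 2) (Fin 2) F, N = (sm φ (SpecialLinearGroup.toGL M)).val :=
        ⟨_, rfl⟩
      have hN' : N = !![φ p, -φ q; φ q, φ p] := by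
        rw [hN]
        ext k l
        fin_cases k <;> fin_cases l <;> simp [M, Matrix.SpecialLinearGroup.toGL]
      rw [← hN] at hr'
      have hN1 : N = (r : F) • ((A⁻¹).val * M.1 * A.val) := by
        rw [Matrix.mul_assoc, ← Matrix.mul_smul, ← hr', ← Matrix.mul_assoc, Units.inv_mul,
          Matrix.one_mul]
      have hdet := congrArg Matrix.det hN1
      have htr := congrArg Matrix.trace hN1
      rw [Matrix.det_smul, Fintype.card_fin, Matrix.det_mul, Matrix.det_mul, M.2, mul_one,
        ← Matrix.det_mul, Units.inv_mul, Matrix.det_one, mul_one, hN', Matrix.det_fin_two_of] at hdet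
      rw [Matrix.trace_smul, Matrix.trace_mul_cycle, Units.mul_inv, Matrix.one_mul, hN',
        Matrix.trace_fin_two_of, show M.1 = !![p, -q; q, p] from rfl, Matrix.trace_fin_two_of,
        smul_eq_mul] at htr
      have hone : φ p * φ p + φ q * φ q = 1 := by rw [← map_mul, ← map_mul, ← map_add, hpq, map_one]
      have hrr : (r : F) * r = 1 := by linear_combination -hdet + hone
      have h2 : φ p = r * p := mul_left_cancel₀ (Diag.two_ne_zero' hodd) (by linear_combination htr)
      rw [map_mul, h2]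
      linear_combination p * p * hrr
  refine Diag.mem_of_odd_diag e a.cent hodd ⟨A, ?_⟩ hy
  rw [hA', hφ1, map_one, mul_one]

end Almost

end Cfsg.Lib.GW.CMax
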