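import Cfsg.Agent.Lib.GW.CMax.NStruct
import Cfsg.Agent.Lib.GW.CMax.FieldFix

/-!
# The odd part seen in a component through the central involution

`N` has a component containing `J` and the involution `x`, and `x` inverts some nonidentity element of
`N ∩ U`.  The elements of `N ∩ U` inverted by `x` behave like a cyclic group, and an element of
`r`-power order commuting with `x` centralizes the component as soon as its commutators with them are
`r`-elements.
-/

set_option autoImplicit false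
set_option linter.unusedSectionVars false
set_option linter.style.haveILetI false

namespace Cfsg.Lib.GW.CMax

open Cfsg Cfsg.Lib.Block
open Subgroup

universe u

/-- The geometric sums modulo a square. -/
theorem geom_mod_sq {r t : ℕ} (S : ℕ → ℕ) (h0 : S 0 = 0)
    (hS : ∀ j, S (j + 1) = 1 + (1 + r * t) * S j) (j : ℕ) :
    ((S j : ℕ) : ZMod (r ^ 2)) = (j : ZMod (r ^ 2)) + (r : ZMod (r ^ 2)) * t * (j.choose 2 : ℕ) := by
  have hr : (r : ZMod (r ^ 2)) * r = 0 := by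
    rw [← Nat.cast_mul, ← pow_two, ZMod.natCast_self]
  induction j with
  | zero => simp [h0]
  | succ j ih =>
    rw [hS, Nat.cast_add, Nat.cast_mul, ih, Nat.choose_succ_succ j 1, Nat.choose_one_right]
    push_cast
    linear_combination (t : ZMod (r ^ 2)) * t * (j.choose 2 : ℕ) * hr

/-- The geometric sum of `r` powers of a residue congruent to one is `r` modulo `r²`. -/
theorem not_sq_dvd_geom {r m : ℕ} (hr : r.Prime) (hr2 : r ≠ 2) (hm : m % r = 1) (S : ℕ → ℕ)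
    (h0 : S 0 = 0) (hS : ∀ j, S (j + 1) = 1 + m * S j) : ¬ r ^ 2 ∣ S r := by
  intro hd
  have hm' : m = 1 + r * (m / r) := by have := Nat.mod_add_div m r; omega
  rw [hm'] at hS
  have e := geom_mod_sq S h0 hS r
  rw [(ZMod.natCast_eq_zero_iff _ _).2 hd] at e
  obtain ⟨c, hc⟩ := hr.dvd_choose_self (by norm_num : (2 : ℕ) ≠ 0)
    (by have := hr.two_le; omega : 2 < r)
  rw [hc, Nat.cast_mul, show (r : ZMod (r ^ 2)) + r * (m / r : ℕ) * (r * (c : ZMod (r ^ 2))) =
    r + (r * r) * ((m / r : ℕ) * c) by ring, ← Nat.cast_mul r r, ← pow_two, ZMod.natCast_self,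
    zero_mul, add_zero, eq_comm, ZMod.natCast_eq_zero_iff] at e
  have := Nat.le_of_dvd hr.pos e
  nlinarith [hr.two_le]

section

variable {G : Type u} [Group G] [Fintype G] [Fact (Nat.Prime 2)] {P : Sylow 2 G} {σ τ : G} {h : ℕ}
  (D : DihSylow P σ τ h) {N : Subgroup G} (c : Comp N) {x : G}
  (hJ : σ ^ h ∈ c.sub) (hx : x ∈ c.sub) (hx2 : x * x = 1) (hxJ : Commute x (σ ^ h))
  (hxne : x ≠ 1) (hxneJ : x ≠ σ ^ h)
  (hwit : ∃ i ∈ oddSub σ h, i ∈ N ∧ x * i * x = i⁻¹ ∧ i ≠ 1)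

include D hJ hx hx2 hxJ hxne hxneJ hwit

theorem cc_orderOf_J : orderOf (σ ^ h) = 2 :=
  Cfsg.Lib.Invol.orderOf_eq_two_of D.central_involution.2.1 D.central_involution.1

theorem cc_witness : PSLType c.E ∨ ∃ t ∈ c.E, Odd (orderOf t) ∧ t ≠ 1 ∧
    Commute t (QuotientGroup.mk' _ ⟨σ ^ h, c.sub_le hJ⟩) ∧
    QuotientGroup.mk' _ ⟨x, c.sub_le hx⟩ * t * QuotientGroup.mk' _ ⟨x, c.sub_le hx⟩ = t⁻¹ := by
  obtain ⟨f, hf, hfN, hfi, hf1⟩ := hwit
  refine Or.inr ⟨QuotientGroup.mk' _ ⟨f, hfN⟩, c.inner_of_mem_sub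
    (c.inverted_mem hx hx2 hfN (odd_orderOf D hf) hfi),
    Comp.odd_orderOf_image _ (odd_orderOf D hf),
    c.inverted_image_ne_one hx hx2 hfN (odd_orderOf D hf) hfi hf1,
    Comp.image_commute _ _ (commute_J D hf), ?_⟩
  rw [← map_mul, ← map_mul, ← map_inv]
  exact congrArg _ (Subtype.ext hfi)

theorem cc_image_ne : (QuotientGroup.mk' (Cfsg.oddCore ↥N) ⟨x, c.sub_le hx⟩) ≠
    QuotientGroup.mk' _ ⟨σ ^ h, c.sub_le hJ⟩ := fun e =>
  hxneJ (Comp.eq_of_image_eq _ _ hx2 D.central_involution.1 hxJ e)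

theorem cc_x_order : orderOf x = 2 := Cfsg.Lib.Invol.orderOf_eq_two_of hxne hx2

/-- An element of odd order of the socle centralizing `J` and `x` is trivial. -/
theorem cc_fixed_image {s : G} (hs : s ∈ N) (hsE : c.Inner ⟨s, hs⟩) (hso : Odd (orderOf s))
    (hsJ : Commute s (σ ^ h)) (hsx : Commute s x) :
    QuotientGroup.mk' (Cfsg.oddCore ↥N) ⟨s, hs⟩ = 1 :=
  c.almost.fixed_eq_one (Comp.orderOf_image _ (cc_orderOf_J D c hJ hx hx2 hxJ hxne hxneJ hwit))
    (c.inner_of_mem_sub hJ)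
    (by rw [← map_mul, show (⟨x, c.sub_le hx⟩ : N) * ⟨x, c.sub_le hx⟩ = 1 from Subtype.ext hx2,
      map_one])
    (Comp.image_ne_one _ (cc_x_order D c hJ hx hx2 hxJ hxne hxneJ hwit))
    (cc_image_ne D c hJ hx hx2 hxJ hxne hxneJ hwit)
    (cc_witness D c hJ hx hx2 hxJ hxne hxneJ hwit) hsE (Comp.odd_orderOf_image _ hso)
    (Comp.image_commute _ _ hsJ) (Comp.image_commute _ _ hsx)

/-- Elements of odd order of the centralizer of `J` in the socle come from inverted elements. -/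
theorem cc_lift {e : ↥N ⧸ Cfsg.oddCore ↥N} (he : e ∈ c.E) (heo : Odd (orderOf e))
    (hec : Commute e (QuotientGroup.mk' _ ⟨σ ^ h, c.sub_le hJ⟩)) :
    ∃ i, ∃ hi : i ∈ N, i ∈ oddSub σ h ∧ x * i * x = i⁻¹ ∧
      QuotientGroup.mk' _ ⟨i, hi⟩ = e := by
  classical
  set φ := QuotientGroup.mk' (Cfsg.oddCore ↥N) with hφ
  have hJo := cc_orderOf_J D c hJ hx hx2 hxJ hxne hxneJ hwit
  have hlift := DGroup.centralizer_lift (Cfsg.oddCore ↥N) Cfsg.Lib.ZStar.odd_card_oddCore
    (j := (⟨σ ^ h, c.sub_le hJ⟩ : N)) (by rw [Subgroup.orderOf_mk]; exact hJo)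
  have hmem : e ∈ centralizer ({φ ⟨σ ^ h, c.sub_le hJ⟩} : Set (↥N ⧸ Cfsg.oddCore ↥N)) :=
    mem_centralizer_singleton_iff.2 hec.eq
  rw [hlift] at hmem
  obtain ⟨n, hn, hne⟩ := hmem
  obtain ⟨a, o, ho, hord⟩ := exists_two_pow_dvd (g := n)
  have hdvd : orderOf e ∣ o :=
    ((Nat.coprime_two_right.2 heo).pow_right a).dvd_of_dvd_mul_left
      (hord ▸ hne ▸ orderOf_map_dvd φ n)
  have hco : (2 ^ a).Coprime (orderOf e) := (Nat.coprime_two_left.2 heo).pow_left a
  obtain ⟨m, hm⟩ := exists_pow_eq_self_of_coprime hco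
  obtain ⟨s, hs⟩ : ∃ s : N, s = (n ^ 2 ^ a) ^ m := ⟨_, rfl⟩
  have hφs : φ s = e := by rw [hs, map_pow, map_pow, hne, hm]
  have hnJ : Commute (n : G) (σ ^ h) := congrArg Subtype.val (mem_centralizer_singleton_iff.1 hn)
  have hsJ : Commute (s : G) (σ ^ h) := by
    rw [hs, SubmonoidClass.coe_pow, SubmonoidClass.coe_pow]
    exact (hnJ.pow_left _).pow_left _
  have hso : Odd (orderOf (s : G)) := by
    rw [Subgroup.orderOf_coe, hs]
    refine ho.of_dvd_nat ((orderOf_pow_dvd m).trans ?_)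
    rw [orderOf_pow_of_dvd (by positivity) (hord ▸ dvd_mul_right _ _), hord,
      Nat.mul_div_cancel_left _ (by positivity)]
  have hsU : (s : G) ∈ oddSub σ h ⊓ N :=
    ⟨(mem_oddSub D).2 (DihSylow.mem_oddPart.2 ⟨hsJ, hso⟩), s.2⟩
  have hUN : Odd (Nat.card ↥(oddSub σ h ⊓ N)) :=
    (odd_card_oddSub D).of_dvd_nat (card_dvd_of_le inf_le_left)
  have hxn : x ∈ normalizer ((oddSub σ h ⊓ N : Subgroup G) : Set G) :=
    mem_normalizer_fintype fun y (hy : y ∈ oddSub σ h ⊓ N) =>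
      (show x * y * x⁻¹ ∈ oddSub σ h ⊓ N from
        ⟨conj_oddSub D hxJ hy.1, N.mul_mem (N.mul_mem (c.sub_le hx) hy.2) (N.inv_mem (c.sub_le hx))⟩)
  obtain ⟨u, hu, i, hi, hux, hix, hsui⟩ := InvAct.exists_split hUN hx2 hxn hsU
  have hiE : φ ⟨i, hi.2⟩ ∈ c.E :=
    c.inner_of_mem_sub (c.inverted_mem hx hx2 hi.2 (odd_orderOf D hi.1) hix)
  have hue : φ ⟨u, hu.2⟩ = e * (φ ⟨i, hi.2⟩)⁻¹ := by
    rw [eq_mul_inv_iff_mul_eq, ← map_mul, ← hφs]
    exact congrArg φ (Subtype.ext hsui.symm)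
  have hu1 : φ ⟨u, hu.2⟩ = 1 := cc_fixed_image D c hJ hx hx2 hxJ hxne hxneJ hwit hu.2
    (by rw [Comp.Inner, ← hφ, hue]; exact mul_mem he (inv_mem hiE)) (odd_orderOf D hu.1)
    (commute_J D hu.1) hux
  refine ⟨i, hi.2, hi.1, hix, ?_⟩
  rw [hu1, eq_comm, mul_inv_eq_one] at hue
  exact hue.symm

/-- Inverted elements commute. -/
theorem cc_commute {i i' : G} (hi : i ∈ oddSub σ h) (hiN : i ∈ N) (hix : x * i * x = i⁻¹)
    (hi' : i' ∈ oddSub σ h) (hiN' : i' ∈ N) (hix' : x * i' * x = i'⁻¹) : Commute i i' :=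
  c.inverted_commute hJ (cc_orderOf_J D c hJ hx hx2 hxJ hxne hxneJ hwit) hx hx2 hiN hiN'
    (odd_orderOf D hi) (odd_orderOf D hi') (commute_J D hi) (commute_J D hi') hix hix'

/-- An inverted element is a power of any inverted element of a multiple order. -/
theorem cc_mem_zpowers {i i' : G} (hi : i ∈ oddSub σ h) (hiN : i ∈ N) (hix : x * i * x = i⁻¹)
    (hi' : i' ∈ oddSub σ h) (hiN' : i' ∈ N) (hix' : x * i' * x = i'⁻¹)
    (hd : orderOf i' ∣ orderOf i) : i' ∈ zpowers i := by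
  classical
  set φ := QuotientGroup.mk' (Cfsg.oddCore ↥N) with hφ
  have hker : ∀ v ∈ oddSub σ h, ∀ hv : v ∈ N, x * v * x = v⁻¹ → φ ⟨v, hv⟩ = 1 → v = 1 :=
    fun v hvU hv hvi he => by
      by_contra h1
      exact c.inverted_image_ne_one hx hx2 hv (odd_orderOf D hvU) hvi h1 he
  have hpi : ∀ k : ℕ, x * i ^ k * x = (i ^ k)⁻¹ := by
    intro k
    induction k with
    | zero => simp [hx2]
    | succ k ihk => rw [pow_succ, InvAct.conj_mul hx2, ihk, hix, ← mul_inv_rev, ← pow_succ', ← pow_succ]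
  have hord : orderOf (φ ⟨i, hiN⟩) = orderOf i := by
    refine Nat.dvd_antisymm ((orderOf_map_dvd _ _).trans (by rw [Subgroup.orderOf_mk])) ?_
    refine orderOf_dvd_of_pow_eq_one (hker _ (pow_mem hi _) (pow_mem hiN _) (hpi _) ?_)
    rw [← pow_orderOf_eq_one (φ ⟨i, hiN⟩), ← map_pow]
    rfl
  obtain ⟨g, hg, hg'⟩ := c.almost.cyclic_pair
    (Comp.orderOf_image _ (cc_orderOf_J D c hJ hx hx2 hxJ hxne hxneJ hwit))
    (c.inner_of_mem_sub hJ)
    (c.inner_of_mem_sub (c.inverted_mem hx hx2 hiN (odd_orderOf D hi) hix))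
    (c.inner_of_mem_sub (c.inverted_mem hx hx2 hiN' (odd_orderOf D hi') hix'))
    (Comp.odd_orderOf_image _ (odd_orderOf D hi)) (Comp.odd_orderOf_image _ (odd_orderOf D hi'))
    (Comp.image_commute _ _ (commute_J D hi)) (Comp.image_commute _ _ (commute_J D hi'))
  have hmem : φ ⟨i', hiN'⟩ ∈ zpowers (φ ⟨i, hiN⟩) := by
    haveI : Fintype (↥(zpowers g)) := Fintype.ofFinite _
    obtain ⟨n, hn⟩ : ∃ n, n = orderOf i := ⟨_, rfl⟩
    have hn0 : 0 < n := hn ▸ orderOf_pos i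
    have hsub : (Finset.univ.filter fun z : zpowers g =>
        (z : ↥N ⧸ Cfsg.oddCore ↥N) ∈ zpowers (φ ⟨i, hiN⟩)) ⊆
        Finset.univ.filter fun z => z ^ n = 1 := fun z hz => by
      obtain ⟨k, hk⟩ := mem_zpowers_iff.1 (Finset.mem_filter.1 hz).2
      refine Finset.mem_filter.2 ⟨Finset.mem_univ _, Subtype.ext ?_⟩
      rw [SubmonoidClass.coe_pow, ← hk, ← zpow_natCast, zpow_comm, zpow_natCast, hn, ← hord,
        pow_orderOf_eq_one, one_zpow]
      rfl
    have heq := Finset.eq_of_subset_of_card_le hsub (by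
      refine (IsCyclic.card_pow_eq_one_le hn0).trans (le_of_eq ?_)
      rw [hn, ← hord, ← Nat.card_zpowers, ← Fintype.card_subtype, ← Nat.card_eq_fintype_card]
      exact Nat.card_congr (Equiv.subtypeSubtypeEquivSubtype (fun {z} hz =>
        (zpowers_le.2 hg) hz)).symm)
    suffices hz : (⟨φ ⟨i', hiN'⟩, hg'⟩ : zpowers g) ∈ Finset.univ.filter fun z => z ^ n = 1 by
      rw [← heq] at hz
      exact (Finset.mem_filter.1 hz).2
    refine Finset.mem_filter.2 ⟨Finset.mem_univ _, Subtype.ext ?_⟩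
    rw [SubmonoidClass.coe_pow, ← map_pow, show (⟨i', hiN'⟩ : N) ^ n = 1 from Subtype.ext (by
      rw [SubmonoidClass.coe_pow]; exact orderOf_dvd_iff_pow_eq_one.1 (hn ▸ hd)), map_one]
    rfl
  obtain ⟨k, hk⟩ := (isOfFinOrder_of_finite _).mem_powers_iff_mem_zpowers.2 hmem
  have hc : Commute (i ^ k) i' :=
    (cc_commute D c hJ hx hx2 hxJ hxne hxneJ hwit hi hiN hix hi' hiN' hix').pow_left k
  have := hker (i' * (i ^ k)⁻¹) (mul_mem hi' (inv_mem (pow_mem hi k)))
    (mul_mem hiN' (inv_mem (pow_mem hiN k)))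
    (by rw [InvAct.conj_mul hx2, hix', InvAct.conj_inv hx2, hpi, inv_inv, mul_inv_rev, inv_inv]
        exact hc.inv_right.eq.symm)
    (by
      rw [show (⟨i' * (i ^ k)⁻¹, mul_mem hiN' (inv_mem (pow_mem hiN k))⟩ : N) =
        ⟨i', hiN'⟩ * ((⟨i, hiN⟩ : N) ^ k)⁻¹ from Subtype.ext (by simp), map_mul, map_inv, map_pow]
      exact mul_inv_eq_one.2 hk.symm)
  rw [mul_inv_eq_one] at this
  exact this ▸ pow_mem (mem_zpowers i) k

/-- Inverted elements of prime order generate one subgroup. -/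
theorem cc_prime {q : ℕ} (hq : q.Prime) {i i' : G} (hi : i ∈ oddSub σ h) (hiN : i ∈ N)
    (hix : x * i * x = i⁻¹) (hi1 : i ≠ 1) (hiq : i ^ q = 1)
    (hi' : i' ∈ oddSub σ h) (hiN' : i' ∈ N) (hix' : x * i' * x = i'⁻¹) (hiq' : i' ^ q = 1) :
    i' ∈ zpowers i := by
  haveI : Fact q.Prime := ⟨hq⟩
  refine cc_mem_zpowers D c hJ hx hx2 hxJ hxne hxneJ hwit hi hiN hix hi' hiN' hix' ?_
  rw [orderOf_eq_prime hiq hi1]
  exact orderOf_dvd_of_pow_eq_one hiq'

/-- **The field lemma.** An element of `r`-power order commuting with `J` and `x` whose commutators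
with the inverted elements are `r`-elements centralizes the component. -/
theorem cc_centralize {r : ℕ} (hr : r.Prime) (hr2 : r ≠ 2) :
    ∀ (k : ℕ) (y : G), y ∈ oddSub σ h → y ∈ N → Commute y x → y ^ r ^ k = 1 →
      (∀ i ∈ oddSub σ h, i ∈ N → x * i * x = i⁻¹ → ∃ n : ℕ, (i⁻¹ * (y * i * y⁻¹)) ^ r ^ n = 1) →
      ∀ l ∈ c.sub, Commute l y := by
  haveI : Fact r.Prime := ⟨hr⟩
  intro k
  induction k with
  | zero =>
    intro y _ _ _ h1 _ l _
    rw [pow_zero, pow_one] at h1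
    exact h1 ▸ Commute.one_right l
  | succ k ih =>
    intro y hy hyN hyx hyk hcom
    have hprop : ∀ i ∈ oddSub σ h, i ∈ N → x * i * x = i⁻¹ → ∀ j : ℕ,
        (y ^ j * i * (y ^ j)⁻¹ ∈ oddSub σ h ∧ y ^ j * i * (y ^ j)⁻¹ ∈ N ∧
          x * (y ^ j * i * (y ^ j)⁻¹) * x = (y ^ j * i * (y ^ j)⁻¹)⁻¹) := by
      intro i hi hiN hix j
      have hc : Commute (y ^ j) x := hyx.pow_left j
      refine ⟨mul_mem (mul_mem (pow_mem hy j) hi) (inv_mem (pow_mem hy j)),
        mul_mem (mul_mem (pow_mem hyN j) hiN) (inv_mem (pow_mem hyN j)), ?_⟩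
      rw [InvAct.conj_mul hx2, InvAct.conj_mul hx2, InvAct.conj_inv hx2,
        InvAct.conj_of_commute hx2 hc, hix]
      group
    -- the commutators of the powers
    have hpow : ∀ i ∈ oddSub σ h, i ∈ N → x * i * x = i⁻¹ → ∀ j : ℕ,
        ∃ n : ℕ, (i⁻¹ * (y ^ j * i * (y ^ j)⁻¹)) ^ r ^ n = 1 := by
      intro i hi hiN hix j
      induction j with
      | zero => exact ⟨0, by simp⟩
      | succ j ihj =>
        obtain ⟨n, hn⟩ := ihj
        obtain ⟨pU, pN, pI⟩ := hprop i hi hiN hix j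
        obtain ⟨n', hn'⟩ := hcom _ pU pN pI
        have e : i⁻¹ * (y ^ (j + 1) * i * (y ^ (j + 1))⁻¹) = i⁻¹ * (y ^ j * i * (y ^ j)⁻¹) *
            ((y ^ j * i * (y ^ j)⁻¹)⁻¹ * (y * (y ^ j * i * (y ^ j)⁻¹) * y⁻¹)) := by
          rw [pow_succ']; group
        obtain ⟨qU, qN, qI⟩ := hprop _ pU pN pI 1
        rw [pow_one] at qU qN qI
        have hc : Commute (i⁻¹ * (y ^ j * i * (y ^ j)⁻¹))
            ((y ^ j * i * (y ^ j)⁻¹)⁻¹ * (y * (y ^ j * i * (y ^ j)⁻¹) * y⁻¹)) := by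
          have a1 := cc_commute D c hJ hx hx2 hxJ hxne hxneJ hwit hi hiN hix pU pN pI
          have a2 := cc_commute D c hJ hx hx2 hxJ hxne hxneJ hwit hi hiN hix qU qN qI
          have a3 := cc_commute D c hJ hx hx2 hxJ hxne hxneJ hwit pU pN pI qU qN qI
          exact (((a1.inv_inv).mul_right a2.inv_left)).mul_left
            (((Commute.refl _).inv_right).mul_right a3)
        refine ⟨n + n', ?_⟩
        rw [e, hc.mul_pow, pow_add, pow_mul, hn, one_pow, one_mul, mul_comm, pow_mul, hn', one_pow]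
    -- the power of `y`
    have hyr := ih (y ^ r) (pow_mem hy r) (pow_mem hyN r) (hyx.pow_left r)
      (by rw [← pow_mul, ← pow_succ', hyk]) fun i hi hiN hix => hpow i hi hiN hix r
    -- the commutators have order dividing `r`
    have hkey : ∀ i ∈ oddSub σ h, i ∈ N → x * i * x = i⁻¹ → Commute y (i ^ r) := by
      intro i hi hiN hix
      obtain ⟨pU, pN, pI⟩ := hprop i hi hiN hix 1
      rw [pow_one] at pU pN pI
      have a1 := cc_commute D c hJ hx hx2 hxJ hxne hxneJ hwit hi hiN hix pU pN pI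
      obtain ⟨u, hu⟩ : ∃ u, u = i⁻¹ * (y * i * y⁻¹) := ⟨_, rfl⟩
      have huU : u ∈ oddSub σ h := hu ▸ mul_mem (inv_mem hi) pU
      have huN : u ∈ N := hu ▸ mul_mem (inv_mem hiN) pN
      have huI : x * u * x = u⁻¹ := by
        rw [hu, InvAct.conj_mul hx2, InvAct.conj_inv hx2, hix, pI, inv_inv, mul_inv_rev i⁻¹, inv_inv]
        exact a1.inv_right.eq
      obtain ⟨qU, qN, qI⟩ := hprop u huU huN huI 1
      rw [pow_one] at qU qN qI
      obtain ⟨m, hm⟩ : ∃ m : ℕ, u ^ m = y * u * y⁻¹ :=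
        (isOfFinOrder_of_finite u).mem_powers_iff_mem_zpowers.2
          (cc_mem_zpowers D c hJ hx hx2 hxJ hxne hxneJ hwit huU huN huI qU qN qI
            (orderOf_dvd_of_pow_eq_one (by rw [conj_pow, pow_orderOf_eq_one, mul_one, mul_inv_cancel])))
      have hiu : y * i * y⁻¹ = i * u := by rw [hu, mul_inv_cancel_left]
      obtain ⟨S, hS⟩ : ∃ S : ℕ → ℕ, S = fun j => Nat.rec 0 (fun _ s => 1 + m * s) j := ⟨_, rfl⟩
      have hS0 : S 0 = 0 := by subst hS; rfl
      have hSs : ∀ j, S (j + 1) = 1 + m * S j := fun j => by subst hS; rfl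
      have hconj : ∀ j : ℕ, y ^ j * i * (y ^ j)⁻¹ = i * u ^ S j := by
        intro j
        induction j with
        | zero => simp [hS0]
        | succ j ihj =>
          calc y ^ (j + 1) * i * (y ^ (j + 1))⁻¹ = y * (y ^ j * i * (y ^ j)⁻¹) * y⁻¹ := by
                rw [pow_succ']; group
            _ = y * i * y⁻¹ * (y * u * y⁻¹) ^ S j := by rw [ihj, conj_pow]; group
            _ = i * u ^ S (j + 1) := by rw [hiu, ← hm, hSs, pow_add, pow_one, pow_mul, mul_assoc]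
      have hum : ∀ j : ℕ, y ^ j * u * (y ^ j)⁻¹ = u ^ m ^ j := by
        intro j
        induction j with
        | zero => simp
        | succ j ihj =>
          calc y ^ (j + 1) * u * (y ^ (j + 1))⁻¹ = y * (y ^ j * u * (y ^ j)⁻¹) * y⁻¹ := by
                rw [pow_succ']; group
            _ = (y * u * y⁻¹) ^ m ^ j := by rw [ihj, conj_pow]
            _ = u ^ m ^ (j + 1) := by rw [← hm, ← pow_mul, pow_succ']
      have hisub := c.inverted_mem hx hx2 hiN (odd_orderOf D hi) hix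
      have husub := c.inverted_mem hx hx2 huN (odd_orderOf D huU) huI
      have h1 : u ^ S r = 1 := by
        have e := hconj r
        rw [(hyr i hisub).eq.symm, mul_inv_cancel_right] at e
        exact left_eq_mul.1 e
      have h2 : u ^ m ^ r = u := by
        rw [← hum r, (hyr u husub).eq.symm, mul_inv_cancel_right]
      obtain ⟨n, hn⟩ := hcom i hi hiN hix
      rw [← hu] at hn
      obtain ⟨n₀, -, hn₀⟩ := (Nat.dvd_prime_pow hr).1 (orderOf_dvd_of_pow_eq_one hn)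
      have hur : u ^ r = 1 := by
        rcases Nat.lt_or_ge n₀ 2 with hlt | hge
        · refine orderOf_dvd_iff_pow_eq_one.1 ?_
          rw [hn₀]
          exact (pow_dvd_pow r (by omega : n₀ ≤ 1)).trans (pow_one r).dvd
        · exfalso
          have hS2 : r ^ 2 ∣ S r :=
            ((pow_dvd_pow r hge).trans hn₀.symm.dvd).trans (orderOf_dvd_of_pow_eq_one h1)
          have hm1 : m % r = 1 := by
            have hmm : m ^ r ≡ 1 [MOD r] := by
              have : u ^ m ^ r = u ^ 1 := by rw [h2, pow_one]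
              exact (pow_eq_pow_iff_modEq.1 this).of_dvd
                (hn₀ ▸ dvd_pow_self r (by omega : n₀ ≠ 0))
            have hf : ((m : ZMod r)) ^ r = (m : ZMod r) := ZMod.pow_card _
            have h' : ((m ^ r : ℕ) : ZMod r) = ((1 : ℕ) : ZMod r) := (ZMod.natCast_eq_natCast_iff _ _ _).2 hmm
            rw [Nat.cast_pow, hf, ZMod.natCast_eq_natCast_iff] at h'
            exact Eq.trans h' (Nat.mod_eq_of_lt hr.one_lt)
          exact not_sq_dvd_geom hr hr2 hm1 S hS0 hSs hS2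
      refine mul_inv_eq_iff_eq_mul.1 ?_
      rw [← conj_pow, hiu, (show Commute i u from hu ▸ (Commute.refl i).inv_right.mul_right a1).mul_pow,
        hur, mul_one]
    -- the image
    intro l hl
    refine c.commute_core hl hyN ?_
    refine c.almost.centralizing_eq_one_pow hr hr2 (k := k + 1)
      (Comp.orderOf_image _ (cc_orderOf_J D c hJ hx hx2 hxJ hxne hxneJ hwit)) (c.inner_of_mem_sub hJ)
      (by rw [← map_mul, show (⟨x, c.sub_le hx⟩ : N) * ⟨x, c.sub_le hx⟩ = 1 from Subtype.ext hx2,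
        map_one])
      (Comp.image_ne_one _ (cc_x_order D c hJ hx hx2 hxJ hxne hxneJ hwit))
      (cc_image_ne D c hJ hx hx2 hxJ hxne hxneJ hwit)
      (cc_witness D c hJ hx hx2 hxJ hxne hxneJ hwit)
      (Comp.odd_orderOf_image _ (odd_orderOf D hy)) (Comp.image_commute _ _ (commute_J D hy))
      (Comp.image_commute _ _ hyx)
      (by rw [← map_pow, show (⟨y, hyN⟩ : N) ^ r ^ (k + 1) = 1 from Subtype.ext hyk, map_one]) ?_
    intro e he heo hec
    obtain ⟨i, hiN, hi, hix, rfl⟩ := cc_lift D c hJ hx hx2 hxJ hxne hxneJ hwit he heo hec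
    rw [← map_pow]
    exact Comp.image_commute _ _ (hkey i hi hiN hix)

end

end Cfsg.Lib.GW.CMax
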