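import Cfsg.Agent.Lib.GW.CMax.CountEnd

/-!
# Gorenstein–Walter, a maximal centralizer with a component: the end

`A` is a cyclic subgroup of the odd part `U` of `C(J)` centralised by the Sylow subgroup, `T` is
inverted by `τ`, the conjugates of `A` under `U` lie in `T A` and `L` is the component of `N(A)`.
Two members of `L^G` through `J` have no other common involution, so there are at least
`(M - 1) I` conjugates of `L`, with `I` involutions each and `M ≤ |T|` of them through each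
involution. The order formula bounds the number of involutions by `15 h² (|U|/|A|)²`, and both
together are impossible.
-/

set_option autoImplicit false
set_option linter.unusedSectionVars false
set_option maxHeartbeats 800000

namespace Cfsg.Lib.GW.CMax

open Cfsg Cfsg.Lib.Block
open Cfsg.Lib.Block.DihSylow (oddPart oddFix mem_oddPart mem_oddFix)

universe u

variable {G : Type u} [Group G] [Fintype G]

/-- The data of the component case. -/
structure TorusCtx (σ τ : G) (h : ℕ) (T A L : Subgroup G) (a₀ : G) : Prop where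
  gen : A = Subgroup.zpowers a₀
  le_odd : A ≤ oddSub σ h
  commτ : ∀ a ∈ A, Commute τ a
  commσ : ∀ a ∈ A, Commute σ a
  inv : ∀ x ∈ T, τ * x * τ⁻¹ = x⁻¹
  commTA : ∀ x ∈ T, ∀ a ∈ A, Commute x a
  conjA : ∀ u ∈ oddSub σ h, ∀ a ∈ A, ∃ x ∈ T, ∃ b ∈ A, u * a * u⁻¹ = x * b
  centL : ∀ l ∈ L, ∀ a ∈ A, Commute l a
  memL : σ ^ h ∈ L
  conjL : ∀ s ∈ L, s * s = 1 → s ≠ 1 → ∃ l ∈ L, l * σ ^ h * l⁻¹ = s
  normL : ∀ g : G, (∀ a ∈ A, g * a * g⁻¹ ∈ A) → ∀ l ∈ L, g * l * g⁻¹ ∈ L
  stab : ∀ u ∈ oddSub σ h, (∀ l ∈ L, u * l * u⁻¹ ∈ L) → ∃ x ∈ T, ∃ b ∈ A, u = x * b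
  move : ∃ u ∈ oddSub σ h, ∀ x ∈ T, ∀ b ∈ A, u ≠ x * b
  torus : ∀ x ∈ T, x ≠ 1 → ∀ s ∈ L, s * s = 1 → s ≠ 1 → Commute s x → s = σ ^ h
  count : 3 * h ^ 2 * Nat.card T ^ 2 ≤ Nat.card {s : G // s ∈ L ∧ s * s = 1 ∧ s ≠ 1}

variable {M : Ideal AlgInt} [Fact (Nat.Prime 2)] {P : Sylow 2 G} {σ τ : G} {h : ℕ}
  (D : DihSylow P σ τ h) {T A L : Subgroup G} {a₀ : G} (c : TorusCtx σ τ h T A L a₀)

include D c

namespace TorusCtx

theorem cj_sylow {x : G} (hx : x ∈ (P : Subgroup G)) : cj x L = L := by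
  refine cj_eq_self (c.normL x fun a ha => ?_)
  have hcomm : Commute x a := by
    have hz : ∀ y ∈ Subgroup.zpowers σ, Commute y a := fun y hy => by
      obtain ⟨k, rfl⟩ := Subgroup.mem_zpowers_iff.1 hy
      exact (c.commσ a ha).zpow_left k
    rcases D.cover x hx with hh | hh
    · exact hz x hh
    · have := (hz _ hh).mul_left (c.commτ a ha)
      rwa [mul_assoc, D.sqτ, mul_one] at this
  rw [hcomm.eq, mul_inv_cancel_right]
  exact ha

theorem conjA_eq_one {u a : G} (hu : u ∈ oddSub σ h) (ha : a ∈ A) (hz : u * a * u⁻¹ ∈ T) :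
    a = 1 := by
  obtain ⟨w, hw⟩ : ∃ w, w = u⁻¹ * (τ * u * τ⁻¹) := ⟨_, rfl⟩
  have hwU : w ∈ oddSub σ h :=
    hw ▸ mul_mem (inv_mem hu) (conj_oddSub D (D.central_involution.2.2 τ D.memτ) hu)
  have e : w * a * w⁻¹ = a⁻¹ := by
    have h1 := c.inv _ hz
    calc w * a * w⁻¹ = u⁻¹ * (τ * u * (τ⁻¹ * a * τ) * u⁻¹ * τ⁻¹) * u := by rw [hw]; group
      _ = u⁻¹ * (τ * (u * a * u⁻¹) * τ⁻¹) * u := by
          rw [mul_assoc τ⁻¹ a τ, ← (c.commτ a ha).eq, inv_mul_cancel_left]; group
      _ = a⁻¹ := by rw [h1]; group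
  obtain ⟨k, hk⟩ := odd_orderOf D hwU
  have h2 : Commute (w ^ 2) a := by
    refine mul_inv_eq_iff_eq_mul.1 ?_
    calc w ^ 2 * a * (w ^ 2)⁻¹ = w * (w * a * w⁻¹) * w⁻¹ := by rw [pow_two]; group
      _ = w * a⁻¹ * w⁻¹ := by rw [e]
      _ = a := by rw [← conj_inv, e, inv_inv]
  have hc : Commute w a := by
    have := h2.pow_left (k + 1)
    rwa [← pow_mul, show 2 * (k + 1) = orderOf w + 1 by omega, pow_succ, pow_orderOf_eq_one,
      one_mul] at this
  exact eq_one_of_inverted D (c.le_odd ha) hc e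

/-- Two members through the central involution share no other involution. -/
theorem meet {u s : G} (hne : cj u L ≠ L) (hu : u ∈ oddSub σ h) (hsL : s ∈ L)
    (hsL' : s ∈ cj u L) (h2 : s * s = 1) (h1 : s ≠ 1) : s = σ ^ h := by
  obtain ⟨a, ha, hna⟩ : ∃ a ∈ A, u * a * u⁻¹ ∉ A := by
    by_contra hno
    push Not at hno
    exact hne (cj_eq_self (c.normL u hno))
  obtain ⟨x, hx, b, hb, e⟩ := c.conjA u hu a ha
  have hx1 : x ≠ 1 := fun hx1 => hna (by rw [e, hx1, one_mul]; exact hb)
  refine c.torus x hx hx1 s hsL h2 h1 ?_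
  have hsy : Commute s (u * a * u⁻¹) := by
    have := (c.centL _ (mem_cj.1 hsL') a ha).map (MulAut.conj u).toMonoidHom
    simp only [MulEquiv.coe_toMonoidHom, MulAut.conj_apply] at this
    rwa [show u * (u⁻¹ * s * u) * u⁻¹ = s by group] at this
  have := hsy.mul_right (c.centL s hsL b hb).inv_right
  rwa [e, mul_inv_cancel_right] at this

open Classical in
/-- The members through the central involution are at most `|T|`. -/
theorem card_members :
    (((Finset.univ : Finset G).filter (· ∈ oddSub σ h)).image (cj · L)).card ≤ Nat.card T := by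
  set K := ((Finset.univ : Finset G).filter (· ∈ oddSub σ h)).image (cj · L)
  have key : ∀ N ∈ K, ∃ x : T, ∃ u ∈ oddSub σ h, cj u L = N ∧
      cj u A = Subgroup.zpowers ((x : G) * a₀) := by
    intro N hN
    obtain ⟨u, hu', rfl⟩ := Finset.mem_image.1 hN
    have hu := (Finset.mem_filter.1 hu').2
    choose x hx b hb hxb using fun a : A => c.conjA u hu a a.2
    let f : A → A := fun a => ⟨b a, hb a⟩
    have hinj : Function.Injective f := fun a a' e => by
      have eb : b a = b a' := congrArg Subtype.val e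
      refine Subtype.ext (mul_inv_eq_one.1 (c.conjA_eq_one D hu (mul_mem a.2 (inv_mem a'.2)) ?_))
      rw [show u * ((a : G) * (a' : G)⁻¹) * u⁻¹ = u * a * u⁻¹ * (u * a' * u⁻¹)⁻¹ by group,
        hxb, hxb, eb, mul_inv_rev, ← mul_assoc, mul_inv_cancel_right]
      exact mul_mem (hx a) (inv_mem (hx a'))
    have ha₀ : a₀ ∈ A := c.gen ▸ Subgroup.mem_zpowers a₀
    obtain ⟨a, ha⟩ := (Finite.injective_iff_surjective.1 hinj) ⟨a₀, ha₀⟩
    have hab : b a = a₀ := congrArg Subtype.val ha
    refine ⟨⟨x a, hx a⟩, u, hu, rfl, ?_⟩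
    have e : u * (a : G) * u⁻¹ = x a * a₀ := by rw [hxb, hab]
    refine (Subgroup.eq_of_le_of_card_ge ?_ ?_).symm
    · exact Subgroup.zpowers_le.2 ⟨a, a.2, by simp [e]⟩
    · rw [card_cj, c.gen, Nat.card_zpowers, Nat.card_zpowers]
      refine Nat.le_of_dvd (orderOf_pos _) (orderOf_dvd_of_pow_eq_one ?_)
      refine c.conjA_eq_one D (one_mem _) (pow_mem ha₀ _) ?_
      have hn := pow_orderOf_eq_one (x a * a₀)
      simp only [one_mul, inv_one, mul_one]
      rw [(c.commTA _ (hx a) _ ha₀).mul_pow] at hn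
      rw [eq_inv_of_mul_eq_one_right hn]
      exact inv_mem (pow_mem (hx a) _)
  choose f u hu hN hA using key
  rw [Nat.card_eq_fintype_card, ← Finset.card_univ]
  refine Finset.card_le_card_of_injOn (fun N => if hN' : N ∈ K then f N hN' else 1)
    (fun _ _ => Finset.mem_univ _) ?_
  intro N₁ h1 N₂ h2 e
  rw [Finset.mem_coe] at h1 h2
  simp only [dif_pos h1, dif_pos h2] at e
  have eA : cj (u N₁ h1) A = cj (u N₂ h2) A := by rw [hA, hA, e]
  rw [← hN N₁ h1, ← hN N₂ h2]
  have h3 : cj ((u N₂ h2)⁻¹ * u N₁ h1) A = A := by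
    rw [← cj_cj, eA, cj_cj, inv_mul_cancel, cj_one]
  have h4 : cj ((u N₂ h2)⁻¹ * u N₁ h1) L = L := cj_eq_self (c.normL _ fun a ha => by
    have hm : _ ∈ cj ((u N₂ h2)⁻¹ * u N₁ h1) A := Subgroup.mem_map_of_mem _ ha
    rw [h3] at hm
    simpa [mul_assoc] using hm)
  conv_rhs => rw [← h4, cj_cj, mul_inv_cancel_left]

open Classical in
/-- The odd part is covered by the stabiliser cosets. -/
theorem card_odd_le :
    (oddPart σ h).card ≤ Nat.card T * Nat.card A *
      (((Finset.univ : Finset G).filter (· ∈ oddSub σ h)).image (cj · L)).card := by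
  have e : oddPart σ h = (Finset.univ : Finset G).filter (· ∈ oddSub σ h) := by
    ext y
    simp [mem_oddSub D]
  rw [e]
  refine Finset.card_le_mul_card_image _ _ fun N hN => ?_
  obtain ⟨u, hu', rfl⟩ := Finset.mem_image.1 hN
  have hu := (Finset.mem_filter.1 hu').2
  rw [Nat.card_eq_fintype_card, Nat.card_eq_fintype_card, ← Fintype.card_prod, ← Finset.card_univ]
  refine le_trans (Finset.card_le_card fun v hv => ?_)
    (Finset.card_image_le (f := fun p : T × A => u * ((p.1 : G) * (p.2 : G))))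
  obtain ⟨hv1, hv2⟩ := Finset.mem_filter.1 hv
  have hw : cj (u⁻¹ * v) L = L := by rw [← cj_cj, hv2, cj_cj, inv_mul_cancel, cj_one]
  obtain ⟨x, hx, b, hb, e'⟩ := c.stab (u⁻¹ * v) (mul_mem (inv_mem hu) (Finset.mem_filter.1 hv1).2)
    fun l hl => by
      have hm : _ ∈ cj (u⁻¹ * v) L := Subgroup.mem_map_of_mem _ hl
      rw [hw] at hm
      simpa [mul_assoc] using hm
  refine Finset.mem_image.2 ⟨(⟨x, hx⟩, ⟨b, hb⟩), Finset.mem_univ _, ?_⟩
  show u * (x * b) = v
  rw [← e', mul_inv_cancel_left]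

/-- The data gives the counting hypotheses. -/
theorem countCtx : CountCtx P σ h L where
  memL := c.memL
  conjL := c.conjL
  normP := fun x hx l hl => by
    have hm : _ ∈ cj x L := Subgroup.mem_map_of_mem _ hl
    rw [c.cj_sylow D hx] at hm
    simpa using hm
  meet := fun u hu hne s hs hs' h2 h1 => c.meet D hne hu hs hs' h2 h1

/-- The component case does not occur. -/
theorem false_of_companion (co : Companion M P σ τ h)
    (hconjJ : ∀ a : G, a * a = 1 → a ≠ 1 → IsConj (σ ^ h) a) : False := by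
  classical
  have hle : (members σ h L).card ≤ Nat.card T := c.card_members D
  have hodd : (oddPart σ h).card ≤ Nat.card T * Nat.card A * (members σ h L).card := c.card_odd_le D
  have hW : ∀ x, (∀ b ∈ A, Commute x b) → Nat.card A ≤ (oddFix σ h x).card := by
    intro x hx
    rw [Nat.card_eq_fintype_card, ← Finset.card_univ]
    exact Finset.card_le_card_of_injOn (fun b : A => (b : G))
      (fun b _ => Finset.mem_coe.2
        (mem_oddFix.2 ⟨(mem_oddSub D).1 (c.le_odd b.2), (hx _ b.2).symm⟩))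
      (fun _ _ _ _ e => Subtype.ext e)
  have hbound : ∀ x, (∀ b ∈ A, Commute x b) →
      (oddPart σ h).card ≤ (members σ h L).card * Nat.card T * (oddFix σ h x).card := fun x hx =>
    calc (oddPart σ h).card ≤ Nat.card T * Nat.card A * (members σ h L).card := hodd
      _ = (members σ h L).card * Nat.card T * Nat.card A := by ring
      _ ≤ _ := Nat.mul_le_mul_left _ (hW x hx)
  refine count_end D co (c.countCtx D) hconjJ ?_ hle c.count (hbound τ c.commτ)
    (hbound (σ * τ) fun b hb => (c.commσ b hb).mul_left (c.commτ b hb))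
  obtain ⟨u, hu, hne⟩ := c.move
  refine ⟨u, hu, fun e => ?_⟩
  obtain ⟨x, hx, b, hb, e'⟩ := c.stab u hu fun l hl => by
    have hm : _ ∈ cj u L := Subgroup.mem_map_of_mem _ hl
    rw [e] at hm
    simpa using hm
  exact hne x hx b hb e'

end TorusCtx

/-- The component case is impossible. -/
theorem component_end (hM : IsPModular 2 M)
    (hconjJ : ∀ a : G, a * a = 1 → a ≠ 1 → IsConj (σ ^ h) a) : False := by
  obtain ⟨co⟩ := exists_companion hM D hconjJ
  exact c.false_of_companion D co hconjJ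

end Cfsg.Lib.GW.CMax
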