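import Cfsg.Agent.Lib.GW.CMax.ComponentEnd
import Cfsg.Agent.Lib.GW.ConsumersOvergroup
import Cfsg.Agent.Lib.GW.AlmostSimple
import Cfsg.Agent.Lib.Dickson.OddProduct
import Cfsg.Agent.Lib.Dickson.Overgroups

/-!
# Gorenstein–Walter, a maximal centralizer: the component `PSL₂(q)`

For a component `L` isomorphic to `PSL₂(q)` containing the Sylow subgroup and `T`, the facts about
`L` used by the counting hold: one class of involutions, at most one involution commuting with a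
nonidentity element of odd order, and at least `3 h² |T|²` involutions.  A reflection whose fixed
points in the odd part are exactly `A` lies in `L`.
-/

set_option autoImplicit false
set_option linter.unusedSectionVars false
set_option linter.style.haveILetI false
set_option maxHeartbeats 800000

namespace Cfsg.Lib.GW.CMax

open Cfsg Cfsg.Lib.Block

universe u

variable {G : Type u} [Group G] [Fintype G] [Fact (Nat.Prime 2)] {P : Sylow 2 G} {σ τ : G} {h : ℕ}
  (D : DihSylow P σ τ h)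

include D

/-- A reflection with fixed points exactly `A` lies in the component of the normalizer of `A`. -/
theorem reflection_mem_of_fix (hconjJ : ∀ a : G, a * a = 1 → a ≠ 1 → IsConj (σ ^ h) a)
    {A L : Subgroup G} (hJL : σ ^ h ∈ L) (hA : A ≤ oddSub σ h)
    (hnorm : ∀ g : G, (∀ a ∈ A, g * a * g⁻¹ ∈ A) → ∀ l ∈ L, g * l * g⁻¹ ∈ L)
    {x : G} (hx : x ∈ (P : Subgroup G)) (hx' : x ∉ Subgroup.zpowers σ)
    (hcomm : ∀ a ∈ A, Commute a x) (hfix : ∀ y ∈ oddSub σ h, Commute y x → y ∈ A) : x ∈ L := by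
  obtain ⟨d, -, hdJ, hd, -⟩ := exists_moving D hconjJ hx hx'
  have hm := hnorm d (fun a ha => by
    obtain ⟨h1, h2⟩ := hd a (hA ha) (hcomm a ha)
    exact hfix _ h1 h2) _ hJL
  rw [hdJ] at hm
  exact (Subgroup.mul_mem_cancel_right L hJL).1 hm

/-- The facts about a component `PSL₂(q)`. -/
theorem psl_facts {F : Type} [Field F] [Fintype F] (hodd : Odd (Fintype.card F))
    {T L : Subgroup G} (e : L ≃* Matrix.ProjectiveSpecialLinearGroup (Fin 2) F)
    (hP : (P : Subgroup G) ≤ L) (hTL : T ≤ L) (hT : T ≤ oddSub σ h) :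
    (∀ s ∈ L, s * s = 1 → s ≠ 1 → ∃ l ∈ L, l * σ ^ h * l⁻¹ = s) ∧
      (∀ x ∈ T, x ≠ 1 → ∀ s ∈ L, s * s = 1 → s ≠ 1 → Commute s x → s = σ ^ h) ∧
      3 * h ^ 2 * Nat.card T ^ 2 ≤ Nat.card {s : G // s ∈ L ∧ s * s = 1 ∧ s ≠ 1} := by
  classical
  have hq : Fintype.card F % 2 = 1 := Nat.odd_iff.1 hodd
  obtain ⟨hJ2, hJ1, -⟩ := D.central_involution
  have hJL : σ ^ h ∈ L := hP (D.zpowers_le ⟨h, zpow_natCast σ h⟩)
  have hord : ∀ {s : G} (hs : s ∈ L), s * s = 1 → s ≠ 1 → orderOf (e ⟨s, hs⟩) = 2 := by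
    intro s hs h2 h1
    rw [e.orderOf_eq, Subgroup.orderOf_mk]
    exact orderOf_eq_prime (by rw [pow_two, h2]) h1
  set q := Fintype.card F with hqdef
  set l := Nat.card L with hldef
  have hPL : 4 * h ∣ l := D.card ▸ Subgroup.card_dvd_of_le hP
  have hcard : 2 * l = q * (q ^ 2 - 1) := by
    rw [hldef, Nat.card_congr e.toEquiv]
    exact Cfsg.Lib.Dickson.card_psl_mul hq
  have hh := D.two_le
  have h7 : 7 ≤ q := by
    by_contra hlt
    have h8 : 8 ∣ l := by
      obtain ⟨r, hr⟩ := D.even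
      exact dvd_trans ⟨r, by omega⟩ hPL
    rcases (show q = 1 ∨ q = 3 ∨ q = 5 by omega) with e' | e' | e'
    · exact absurd e' (Fintype.one_lt_card (α := F)).ne'
    · rw [e'] at hcard; omega
    · rw [e'] at hcard; omega
  have hconj : ∀ s ∈ L, s * s = 1 → s ≠ 1 → ∃ l ∈ L, l * σ ^ h * l⁻¹ = s := by
    intro s hs h2 h1
    obtain ⟨g, hg⟩ := isConj_iff.1 (Cfsg.Lib.Dickson.isConj_of_involutions (by omega)
      (hord hJL hJ2 hJ1) (hord hs h2 h1))
    refine ⟨(e.symm g : L), (e.symm g).2, ?_⟩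
    have := congrArg (fun y => ((e.symm y : L) : G)) hg
    simpa using this
  refine ⟨hconj, fun x hx hx1 s hs h2 h1 hc => ?_, ?_⟩
  · have hcJ : Commute (σ ^ h) x := (commute_J D (hT hx)).symm
    have := e.injective (psl_involution_unique hq (y := e ⟨x, hTL hx⟩) (fun he => ?_) (hord hs h2 h1)
      (hord hJL hJ2 hJ1) ((show Commute (⟨s, hs⟩ : L) ⟨x, hTL hx⟩ from Subtype.ext hc.eq).map
        e.toMonoidHom) ((show Commute (⟨_, hJL⟩ : L) ⟨x, hTL hx⟩ from Subtype.ext hcJ.eq).map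
        e.toMonoidHom))
    · exact congrArg Subtype.val this
    · rw [← map_mul, MulEquiv.map_eq_one_iff] at he
      exact hx1 (eq_one_of_two_pow D (hT hx) (k := 1) (by
        rw [pow_one, pow_two]; exact congrArg Subtype.val he))
  -- the number of involutions
  set J : L := ⟨σ ^ h, hJL⟩ with hJdef
  have hcl := Cfsg.Lib.Invol.card_conj_mul_centralizer J
  have hI : Nat.card {s : G // s ∈ L ∧ s * s = 1 ∧ s ≠ 1} = Nat.card {y : L // IsConj J y} := by
    refine Nat.card_congr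
      ⟨fun s => ⟨⟨s.1, s.2.1⟩, ?_⟩, fun y => ⟨(y.1 : G), y.1.2, ?_⟩, fun _ => rfl, fun _ => rfl⟩
    · obtain ⟨l, hl, hls⟩ := hconj s.1 s.2.1 s.2.2.1 s.2.2.2
      exact isConj_iff.2 ⟨⟨l, hl⟩, Subtype.ext hls⟩
    · obtain ⟨g, hg⟩ := isConj_iff.1 y.2
      rw [← hg]
      show (g : G) * σ ^ h * (g : G)⁻¹ * ((g : G) * σ ^ h * (g : G)⁻¹) = 1 ∧
        (g : G) * σ ^ h * (g : G)⁻¹ ≠ 1
      refine ⟨?_, fun e' => hJ1 (conj_eq_one_iff.1 e')⟩
      rw [show (g : G) * σ ^ h * (g : G)⁻¹ * ((g : G) * σ ^ h * (g : G)⁻¹) =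
        (g : G) * (σ ^ h * σ ^ h) * (g : G)⁻¹ by group, hJ2, mul_one, mul_inv_cancel]
  obtain ⟨c, hc⟩ : ∃ c, c = Nat.card (Subgroup.centralizer ({J} : Set L)) := ⟨_, rfl⟩
  have hcq : c ≤ q + 1 := by
    have hce : c = Nat.card (Subgroup.centralizer ({e J} : Set
        (Matrix.ProjectiveSpecialLinearGroup (Fin 2) F))) := by
      rw [hc]
      refine Nat.card_congr (e.toEquiv.subtypeEquiv fun y => ?_)
      simp only [Subgroup.mem_centralizer_singleton_iff]
      show y * J = J * y ↔ e y * e J = e J * e y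
      rw [← map_mul, ← map_mul, e.injective.eq_iff]
    rcases card_centralizer_cases hq h7 (x := e J) (hord hJL hJ2 hJ1) with ⟨-, h'⟩ | ⟨-, h'⟩ <;>
      rw [← hqdef] at h' <;> omega
  have hdvd : 4 * h * Nat.card T ∣ c := by
    have hsub : ∀ H : Subgroup G, H ≤ L → (∀ y ∈ H, Commute y (σ ^ h)) → Nat.card H ∣ c := by
      intro H hHL hH
      rw [hc, ← Nat.card_congr (Subgroup.subgroupOfEquivOfLe hHL).toEquiv]
      refine Subgroup.card_dvd_of_le fun y hy => Subgroup.mem_centralizer_singleton_iff.2 ?_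
      exact Subtype.ext (hH _ hy).eq
    refine Nat.Coprime.mul_dvd_of_dvd_of_dvd ?_
      (D.card ▸ hsub _ hP fun y hy => D.central_involution.2.2 y hy)
      (hsub _ hTL fun y hy => commute_J D (hT hy))
    obtain ⟨k, hk⟩ := P.2.exists_card_eq
    rw [← D.card, hk]
    refine Nat.Coprime.pow_left k (Nat.coprime_two_left.2 (Nat.not_even_iff_odd.1 fun hev => ?_))
    obtain ⟨y, hy⟩ := exists_prime_orderOf_dvd_card' 2 (even_iff_two_dvd.1 hev)
    have := odd_orderOf D (hT y.2)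
    rw [Subgroup.orderOf_coe, hy] at this
    exact absurd this (by decide)
  have hc0 : 0 < c := hc ▸ Nat.card_pos
  obtain ⟨x, hx⟩ : ∃ x, x = h * Nat.card T := ⟨_, rfl⟩
  have hx4 : 4 * x ≤ q + 1 := by
    have := Nat.le_of_dvd hc0 hdvd
    rw [mul_assoc, ← hx] at this
    omega
  obtain ⟨I, hI'⟩ : ∃ I, I = Nat.card {y : L // IsConj J y} := ⟨_, rfl⟩
  rw [← hI', ← hc, ← hldef] at hcl
  rw [hI, ← hI']
  have h2I : q * (q - 1) ≤ 2 * I := by
    refine Nat.le_of_mul_le_mul_right (c := q + 1) ?_ (by omega)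
    calc q * (q - 1) * (q + 1) = q * (q ^ 2 - 1) := by
          rw [show q ^ 2 - 1 = (q + 1) * (q - 1) by rw [← Nat.sq_sub_sq, one_pow]]
          ring
      _ = 2 * (I * c) := by rw [hcl, hcard]
      _ ≤ 2 * I * (q + 1) := by
          rw [← mul_assoc]; exact Nat.mul_le_mul_left _ hcq
  have hx2 : 2 ≤ x := hx ▸ le_trans hh (Nat.le_mul_of_pos_right h Nat.card_pos)
  obtain ⟨r, rfl⟩ : ∃ r, x = r + 2 := ⟨x - 2, by omega⟩
  have h3 : (4 * r + 7) * (4 * r + 6) ≤ q * (q - 1) := Nat.mul_le_mul (by omega) (by omega)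
  have h4 : 2 * (3 * (r + 2) ^ 2) ≤ (4 * r + 7) * (4 * r + 6) := by nlinarith [Nat.zero_le (r * r)]
  calc 3 * h ^ 2 * Nat.card T ^ 2 = 3 * (r + 2) ^ 2 := by rw [hx]; ring
    _ ≤ I := by omega

end Cfsg.Lib.GW.CMax
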