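import Cfsg.Agent.Lib.GW.CMax.Fix
import Cfsg.Agent.Lib.GW.ArithTwo
import Cfsg.Agent.Lib.Invol.BrauerFowler

/-!
# Gorenstein–Walter, a maximal centralizer: counting the conjugates of a component

Two members of `L^G` through `J` have no other common involution, so there are at least
`(M - 1) I` conjugates of `L`, with `I` involutions each and `M ≤ t + 1` of them through each
involution. The order formula bounds the number of involutions by `15 h² (|U|/W)²`, and both
together are impossible.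
-/

set_option autoImplicit false
set_option linter.unusedSectionVars false
set_option maxHeartbeats 800000

namespace Cfsg.Lib.GW.CMax

open Cfsg Cfsg.Lib.Block
open Cfsg.Lib.Block.DihSylow (oddPart oddFix mem_oddPart mem_oddFix)

universe u

variable {G : Type u} [Group G] [Fintype G]

/-- The conjugate of a subgroup. -/
def cj (g : G) (L : Subgroup G) : Subgroup G := L.map (MulAut.conj g).toMonoidHom

theorem mem_cj {g s : G} {L : Subgroup G} : s ∈ cj g L ↔ g⁻¹ * s * g ∈ L := by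
  constructor
  · rintro ⟨l, hl, rfl⟩
    convert (SetLike.mem_coe.1 hl) using 1
    simp [mul_assoc]
  · intro hs
    exact ⟨_, hs, by simp [mul_assoc]⟩

theorem cj_cj (g k : G) (L : Subgroup G) : cj g (cj k L) = cj (g * k) L := by
  ext s
  simp only [mem_cj, mul_inv_rev, mul_assoc]

theorem cj_one (L : Subgroup G) : cj 1 L = L := by
  ext s
  simp [mem_cj]

theorem cj_inj {g : G} {L L' : Subgroup G} (e : cj g L = cj g L') : L = L' := by
  have := congrArg (cj g⁻¹) e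
  rwa [cj_cj, cj_cj, inv_mul_cancel, cj_one, cj_one] at this

theorem card_cj (g : G) (L : Subgroup G) : Nat.card (cj g L) = Nat.card L :=
  Nat.card_congr (Subgroup.equivMapOfInjective L _ (MulAut.conj g).injective).toEquiv.symm

theorem cj_eq_self {g : G} {L : Subgroup G} (hg : ∀ l ∈ L, g * l * g⁻¹ ∈ L) : cj g L = L := by
  refine Subgroup.eq_of_le_of_card_ge ?_ (card_cj g L).ge
  rintro _ ⟨l, hl, rfl⟩
  exact hg l hl

theorem cj_self_of_mem {g : G} {L : Subgroup G} (hg : g ∈ L) : cj g L = L :=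
  cj_eq_self fun _ hl => mul_mem (mul_mem hg hl) (inv_mem hg)

open Classical in
/-- The conjugates of `L` under the odd part. -/
noncomputable def members (σ : G) (h : ℕ) (L : Subgroup G) : Finset (Subgroup G) :=
  ((Finset.univ : Finset G).filter (· ∈ oddSub σ h)).image (cj · L)

theorem mem_members {σ : G} {h : ℕ} {L N : Subgroup G} :
    N ∈ members σ h L ↔ ∃ u ∈ oddSub σ h, cj u L = N := by
  classical
  simp [members]

/-- What the counting uses about `L`. -/
structure CountCtx (P : Sylow 2 G) (σ : G) (h : ℕ) (L : Subgroup G) : Prop where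
  memL : σ ^ h ∈ L
  conjL : ∀ s ∈ L, s * s = 1 → s ≠ 1 → ∃ l ∈ L, l * σ ^ h * l⁻¹ = s
  normP : ∀ x ∈ (P : Subgroup G), ∀ l ∈ L, x * l * x⁻¹ ∈ L
  meet : ∀ u ∈ oddSub σ h, cj u L ≠ L → ∀ s ∈ L, s ∈ cj u L → s * s = 1 → s ≠ 1 → s = σ ^ h

variable {M : Ideal AlgInt} [Fact (Nat.Prime 2)] {P : Sylow 2 G} {σ τ : G} {h : ℕ}
  (D : DihSylow P σ τ h) {L : Subgroup G} (c : CountCtx P σ h L)

include D

theorem odd_card_oddPart : Odd (oddPart σ h).card := by
  classical
  have e : Nat.card (oddSub σ h) = (oddPart σ h).card := by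
    rw [Nat.card_eq_fintype_card, Fintype.card_subtype]
    congr 1
    ext y
    simp [mem_oddSub D]
  rw [← e]
  refine Nat.not_even_iff_odd.1 fun hev => ?_
  obtain ⟨y, hy⟩ := exists_prime_orderOf_dvd_card' 2 (even_iff_two_dvd.1 hev)
  have := odd_orderOf D y.2
  rw [Subgroup.orderOf_coe, hy] at this
  exact absurd this (by decide)

/-- The number of members through the central involution is odd. -/
theorem odd_card_members (L : Subgroup G) : Odd (members σ h L).card := by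
  classical
  refine (odd_card_oddPart D).of_dvd_nat ?_
  have e : oddPart σ h = (Finset.univ : Finset G).filter (· ∈ oddSub σ h) := by
    ext y
    simp [mem_oddSub D]
  rw [e]
  set U := (Finset.univ : Finset G).filter (· ∈ oddSub σ h)
  have hfib : ∀ N ∈ members σ h L,
      (U.filter (cj · L = N)).card = (U.filter (cj · L = L)).card := by
    intro N hN
    obtain ⟨u, hu, rfl⟩ := mem_members.1 hN
    refine Finset.card_bij' (fun v _ => u⁻¹ * v) (fun v _ => u * v) ?_ ?_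
      (fun v _ => mul_inv_cancel_left u v) (fun v _ => inv_mul_cancel_left u v)
    · intro v hv
      simp only [U, Finset.mem_filter, Finset.mem_univ, true_and] at hv ⊢
      exact ⟨mul_mem (inv_mem hu) hv.1, by rw [← cj_cj, hv.2, cj_cj, inv_mul_cancel, cj_one]⟩
    · intro v hv
      simp only [U, Finset.mem_filter, Finset.mem_univ, true_and] at hv ⊢
      exact ⟨mul_mem hu hv.1, by rw [← cj_cj, hv.2]⟩
  have hmaps : ∀ v ∈ U, cj v L ∈ members σ h L := fun v hv =>
    mem_members.2 ⟨v, (Finset.mem_filter.1 hv).2, rfl⟩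
  rw [Finset.card_eq_sum_card_fiberwise hmaps, Finset.sum_congr rfl hfib, Finset.sum_const,
    smul_eq_mul]
  exact dvd_mul_right _ _

/-- The order formula bounds the number of involutions. -/
theorem class_le (co : Companion M P σ τ h) {K : ℕ}
    (h0 : (oddPart σ h).card ≤ K * (oddFix σ h τ).card)
    (h1 : (oddPart σ h).card ≤ K * (oddFix σ h (σ * τ)).card) :
    Nat.card {a : G // IsConj (σ ^ h) a} ≤ 15 * h ^ 2 * K ^ 2 := by
  have hf := co.order_formula D
  obtain ⟨I, hI⟩ : ∃ I, I = Nat.card {a : G // IsConj (σ ^ h) a} := ⟨_, rfl⟩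
  obtain ⟨o, ho⟩ : ∃ o, o = (oddPart σ h).card := ⟨_, rfl⟩
  rw [← Cfsg.Lib.Invol.card_conj_mul_centralizer (σ ^ h), D.oddPart_spec.2.2.2.2.2.2, ← hI, ← ho]
    at hf
  rw [← ho] at h0 h1
  rw [← hI]
  have ho0 : (0 : ℚ) < o := by
    rw [ho]; exact_mod_cast Finset.card_pos.2 ⟨1, D.oddPart_spec.1⟩
  have hh0 : (0 : ℚ) < h := Nat.cast_pos.2 (by have := D.two_le; omega)
  -- the quotient in the degree
  have hq : 8 * ((co.X : ℚ) * (co.X + 1)) ≤ 15 * ((co.X : ℚ) - 1) ^ 2 ∧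
      0 ≤ (co.X : ℚ) * (co.X + 1) := by
    have hz : 8 * (co.X * (co.X + 1)) ≤ 15 * (co.X - 1) ^ 2 ∧ 0 ≤ co.X * (co.X + 1) := by
      obtain ⟨k, hk⟩ := co.four_dvd D
      have := co.X_ne_one D
      have e : co.X = 4 * k + 1 := by omega
      rw [e]
      rcases (show 1 ≤ k ∨ k ≤ -1 by omega) with hk1 | hk1
      · have h7 := mul_nonneg (show (0 : ℤ) ≤ k - 1 by omega) (show (0 : ℤ) ≤ 7 * k + 1 by omega)
        exact ⟨by linarith, mul_nonneg (by omega) (by omega)⟩
      · have h7 := mul_nonneg (show (0 : ℤ) ≤ 1 - k by omega)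
          (show (0 : ℤ) ≤ -(7 * k + 1) by omega)
        exact ⟨by linarith, mul_nonneg_of_nonpos_of_nonpos (by omega) (by omega)⟩
    constructor
    · exact_mod_cast hz.1
    · exact_mod_cast hz.2
  obtain ⟨S, hS⟩ : ∃ S : ℚ,
      S = 1 / ((oddFix σ h τ).card : ℚ) + 1 / ((oddFix σ h (σ * τ)).card : ℚ) := ⟨_, rfl⟩
  rw [← hS] at hf
  have hS0 : 0 ≤ S := hS ▸ by positivity
  have hS2 : S * o ≤ 2 * K := by
    have t : ∀ w : ℕ, o ≤ K * w → 1 / (w : ℚ) * o ≤ K := fun w hw => by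
      have hwq : (o : ℚ) ≤ K * w := by exact_mod_cast hw
      have : (0 : ℚ) < w := by
        rcases eq_or_lt_of_le (Nat.cast_nonneg (α := ℚ) w) with e | e
        · rw [← e, mul_zero] at hwq; linarith
        · exact e
      rw [div_mul_eq_mul_div, one_mul, div_le_iff₀ this]
      exact hwq
    rw [hS, add_mul]
    linarith [t _ h0, t _ h1]
  have hX2 : (0 : ℚ) < ((co.X : ℚ) - 1) ^ 2 := by
    have : (co.X : ℚ) - 1 ≠ 0 := sub_ne_zero.2 (by exact_mod_cast co.X_ne_one D)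
    positivity
  have key : (I : ℚ) * ((co.X : ℚ) - 1) ^ 2 ≤
      (15 * h ^ 2 * K ^ 2) * ((co.X : ℚ) - 1) ^ 2 := by
    push_cast at hf
    have e : (I : ℚ) * ((co.X : ℚ) - 1) ^ 2 =
        2 * h ^ 2 * ((co.X : ℚ) * (co.X + 1)) * (S * o) ^ 2 := by
      refine mul_left_cancel₀ (show (4 * h * o : ℚ) ≠ 0 by positivity) ?_
      linear_combination hf
    calc (I : ℚ) * ((co.X : ℚ) - 1) ^ 2
        = 2 * h ^ 2 * ((co.X : ℚ) * (co.X + 1)) * (S * o) ^ 2 := e
      _ ≤ 2 * h ^ 2 * ((co.X : ℚ) * (co.X + 1)) * (2 * K) ^ 2 :=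
          mul_le_mul_of_nonneg_left (pow_le_pow_left₀ (by positivity) hS2 2)
            (mul_nonneg (by positivity) hq.2)
      _ = h ^ 2 * K ^ 2 * (8 * ((co.X : ℚ) * (co.X + 1))) := by ring
      _ ≤ h ^ 2 * K ^ 2 * (15 * ((co.X : ℚ) - 1) ^ 2) :=
          mul_le_mul_of_nonneg_left hq.1 (by positivity)
      _ = _ := by ring
  exact_mod_cast le_of_mul_le_mul_right key hX2

namespace CountCtx

include c

/-- The members through the central involution are the conjugates under the odd part. -/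
theorem exists_oddSub {g : G} (hg : σ ^ h ∈ cj g L) : ∃ u ∈ oddSub σ h, cj g L = cj u L := by
  obtain ⟨hJ2, hJ1, -⟩ := D.central_involution
  obtain ⟨s, hs⟩ : ∃ s, s = g⁻¹ * σ ^ h * g := ⟨_, rfl⟩
  have hsL : s ∈ L := hs ▸ mem_cj.1 hg
  obtain ⟨l, hl, hls⟩ := c.conjL s hsL
    (by rw [hs, show g⁻¹ * σ ^ h * g * (g⁻¹ * σ ^ h * g) = g⁻¹ * (σ ^ h * σ ^ h) * g by group, hJ2,
      mul_one, inv_mul_cancel])
    (fun e => hJ1 (by
      rw [show σ ^ h = g * s * g⁻¹ by rw [hs]; group, e]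
      group))
  have hgl : Commute (g * l) (σ ^ h) :=
    calc g * l * σ ^ h = g * (l * σ ^ h * l⁻¹) * l := by group
      _ = σ ^ h * (g * l) := by rw [hls, hs]; group
  obtain ⟨x, hx, hu⟩ := D.oddPart_spec.2.2.2.2.1 _ hgl
  refine ⟨_, (mem_oddSub D).2 hu, ?_⟩
  calc cj g L = cj g (cj l L) := by rw [cj_self_of_mem hl]
    _ = cj (g * l * x⁻¹) (cj x L) := by rw [cj_cj, cj_cj, inv_mul_cancel_right]
    _ = cj (g * l * x⁻¹) L := by rw [cj_eq_self (c.normP x hx)]

open Classical in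
/-- The counting inequality. -/
theorem count_le (hconjJ : ∀ a : G, a * a = 1 → a ≠ 1 → IsConj (σ ^ h) a) :
    ((members σ h L).card - 1) *
        Nat.card {s : G // s ∈ L ∧ s * s = 1 ∧ s ≠ 1} ^ 2 ≤
      (members σ h L).card *
        Nat.card {a : G // IsConj (σ ^ h) a} := by
  obtain ⟨hJ2, hJ1, -⟩ := D.central_involution
  set K := members σ h L with hK
  unfold members at hK
  obtain ⟨𝓛, h𝓛⟩ : ∃ 𝓛 : Finset (Subgroup G), 𝓛 = Finset.univ.image fun g : G => cj g L :=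
    ⟨_, rfl⟩
  obtain ⟨Inv, hInv⟩ : ∃ Inv : Finset G, Inv = Finset.univ.filter fun a => a * a = 1 ∧ a ≠ 1 :=
    ⟨_, rfl⟩
  have hI : Nat.card {s : G // s ∈ L ∧ s * s = 1 ∧ s ≠ 1} = (Inv.filter (· ∈ L)).card := by
    rw [Nat.card_eq_fintype_card, Fintype.card_subtype, hInv, Finset.filter_filter]
    congr 1
    ext s
    simp only [Finset.mem_filter, Finset.mem_univ, true_and]
    tauto
  have hcl : Nat.card {a : G // IsConj (σ ^ h) a} = Inv.card := by
    rw [Nat.card_eq_fintype_card, Fintype.card_subtype, hInv]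
    congr 1
    ext a
    simp only [Finset.mem_filter, Finset.mem_univ, true_and]
    refine ⟨fun ha => ?_, fun ha => hconjJ a ha.1 ha.2⟩
    obtain ⟨g, rfl⟩ := isConj_iff.1 ha
    exact ⟨by rw [show g * σ ^ h * g⁻¹ * (g * σ ^ h * g⁻¹) = g * (σ ^ h * σ ^ h) * g⁻¹ by group,
      hJ2, mul_one, mul_inv_cancel], fun e => hJ1 (conj_eq_one_iff.1 e)⟩
  have hmem : ∀ g, cj g L ∈ 𝓛 := fun g => by simp [h𝓛]
  have hJK : 𝓛.filter (σ ^ h ∈ ·) = K := by
    ext N
    simp only [hK, h𝓛, Finset.mem_filter, Finset.mem_image, Finset.mem_univ, true_and]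
    constructor
    · rintro ⟨⟨g, rfl⟩, hg⟩
      obtain ⟨u, hu, e⟩ := c.exists_oddSub D hg
      exact ⟨u, hu, e.symm⟩
    · rintro ⟨u, hu, rfl⟩
      refine ⟨⟨u, rfl⟩, mem_cj.2 ?_⟩
      have := (commute_J D hu).symm
      rw [mul_assoc, this.eq, inv_mul_cancel_left]
      exact c.memL
  -- each involution lies in as many members
  have hdeg : ∀ s ∈ Inv, (𝓛.filter (s ∈ ·)).card = K.card := by
    intro s hs
    rw [hInv, Finset.mem_filter] at hs
    obtain ⟨g, hg⟩ := isConj_iff.1 (hconjJ s hs.2.1 hs.2.2)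
    have e : 𝓛.filter (s ∈ ·) = K.image (cj g) := by
      ext N
      rw [Finset.mem_image, Finset.mem_filter, ← hJK]
      constructor
      · rintro ⟨hN, hsN⟩
        obtain ⟨k, -, rfl⟩ := Finset.mem_image.1 (h𝓛 ▸ hN)
        refine ⟨cj (g⁻¹ * k) L, Finset.mem_filter.2 ⟨hmem _, ?_⟩, by
          rw [cj_cj, mul_inv_cancel_left]⟩
        rw [← cj_cj, mem_cj, inv_inv, hg]
        exact hsN
      · rintro ⟨N', hN', rfl⟩
        obtain ⟨hN', hJ'⟩ := Finset.mem_filter.1 hN'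
        obtain ⟨k, -, rfl⟩ := Finset.mem_image.1 (h𝓛 ▸ hN')
        refine ⟨by rw [cj_cj]; exact hmem _, ?_⟩
        rw [mem_cj, ← hg]
        convert hJ' using 1
        group
    rw [e, Finset.card_image_of_injective _ fun _ _ => cj_inj]
  have hfib : ∀ N ∈ 𝓛, (Inv.filter (· ∈ N)).card = (Inv.filter (· ∈ L)).card := by
    intro N hN
    obtain ⟨g, -, rfl⟩ := Finset.mem_image.1 (h𝓛 ▸ hN)
    have e : Inv.filter (· ∈ cj g L) = (Inv.filter (· ∈ L)).image (fun s => g * s * g⁻¹) := by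
      ext s
      simp only [hInv, Finset.mem_image, Finset.mem_filter, Finset.mem_univ, true_and, mem_cj]
      constructor
      · rintro ⟨⟨h2, h1⟩, hs⟩
        refine ⟨_, ⟨⟨?_, fun e => h1 ?_⟩, hs⟩, by group⟩
        · rw [show g⁻¹ * s * g * (g⁻¹ * s * g) = g⁻¹ * (s * s) * g by group, h2, mul_one,
            inv_mul_cancel]
        · rw [show s = g * (g⁻¹ * s * g) * g⁻¹ by group, e]; group
      · rintro ⟨t, ⟨⟨h2, h1⟩, ht⟩, rfl⟩
        refine ⟨⟨?_, fun e => h1 (conj_eq_one_iff.1 e)⟩, by convert ht using 1; group⟩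
        rw [show g * t * g⁻¹ * (g * t * g⁻¹) = g * (t * t) * g⁻¹ by group, h2, mul_one,
          mul_inv_cancel]
    rw [e, Finset.card_image_of_injective _ fun _ _ e => mul_left_cancel (mul_right_cancel e)]
  have hdouble : 𝓛.card * (Inv.filter (· ∈ L)).card = K.card * Inv.card := by
    have h1 : ∑ N ∈ 𝓛, (Inv.filter (· ∈ N)).card = ∑ s ∈ Inv, (𝓛.filter (s ∈ ·)).card := by
      simp only [Finset.card_filter]
      exact Finset.sum_comm
    rw [Finset.sum_congr rfl hfib, Finset.sum_congr rfl hdeg, Finset.sum_const, Finset.sum_const,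
      smul_eq_mul, smul_eq_mul] at h1
    rw [h1, mul_comm]
  -- many members
  have hcL : ∀ s ∈ Inv.filter (· ∈ L), ∃ l ∈ L, l * σ ^ h * l⁻¹ = s := fun s hs => by
    rw [hInv, Finset.mem_filter, Finset.mem_filter] at hs
    exact c.conjL s hs.2 hs.1.2.1 hs.1.2.2
  choose! l hl hls using hcL
  have hmany : (Inv.filter (· ∈ L)).card * (K.erase L).card ≤ 𝓛.card := by
    rw [← Finset.card_product]
    refine Finset.card_le_card_of_injOn (fun p => cj (l p.1) p.2) (fun p hp => ?_) ?_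
    · have hp2 := (Finset.mem_erase.1 (Finset.mem_product.1 (Finset.mem_coe.1 hp)).2).2
      rw [hK] at hp2
      obtain ⟨u, -, e⟩ := Finset.mem_image.1 hp2
      simp only [← e, cj_cj]
      exact hmem _
    rintro ⟨s, N⟩ hp ⟨s', N'⟩ hp' e
    simp only at e
    rw [Finset.mem_coe, Finset.mem_product] at hp hp'
    obtain ⟨hs, hN⟩ := hp
    obtain ⟨hs', hN'⟩ := hp'
    dsimp only at hs hN hs' hN'
    have es : s' = s := by
      rw [hInv, Finset.mem_filter, Finset.mem_filter] at hs'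
      obtain ⟨⟨-, h2, h1⟩, hs'L⟩ := hs'
      obtain ⟨hne, hNK⟩ := Finset.mem_erase.1 hN
      rw [hK] at hNK
      obtain ⟨u, hu', eu⟩ := Finset.mem_image.1 hNK
      have hu := (Finset.mem_filter.1 hu').2
      obtain ⟨-, hN'K⟩ := Finset.mem_erase.1 hN'
      rw [← hJK, Finset.mem_filter] at hN'K
      have hm : s' ∈ cj (l s) N := by
        have hmm : l s' * σ ^ h * (l s')⁻¹ ∈ cj (l s') N' := Subgroup.mem_map_of_mem _ hN'K.2
        rw [hls s' (by
          rw [hInv, Finset.mem_filter, Finset.mem_filter]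
          exact ⟨⟨Finset.mem_univ _, h2, h1⟩, hs'L⟩)] at hmm
        rw [e]
        exact hmm
      rw [← eu, mem_cj] at hm
      have hlL := hl s hs
      obtain ⟨t, ht⟩ : ∃ t, t = (l s)⁻¹ * s' * l s := ⟨_, rfl⟩
      have hs't : s' = l s * t * (l s)⁻¹ := by rw [ht]; group
      have htJ : t = σ ^ h := by
        refine c.meet _ hu (eu ▸ hne) t (ht ▸ mul_mem (mul_mem (inv_mem hlL) hs'L) hlL) (ht ▸ hm) ?_
          fun e1 => h1 (by rw [hs't, e1]; group)
        rw [ht, show (l s)⁻¹ * s' * l s * ((l s)⁻¹ * s' * l s) = (l s)⁻¹ * (s' * s') * l s by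
          group, h2, mul_one, inv_mul_cancel]
      rw [hs't, htJ, hls s hs]
    subst es
    rw [cj_inj e]
  have hLK : L ∈ K := by
    rw [hK, Finset.mem_image]
    exact ⟨1, Finset.mem_filter.2 ⟨Finset.mem_univ _, one_mem _⟩, cj_one L⟩
  rw [Finset.card_erase_of_mem hLK] at hmany
  rw [hI, hcl, ← hdouble, pow_two]
  calc (K.card - 1) * ((Inv.filter (· ∈ L)).card * (Inv.filter (· ∈ L)).card)
      = (Inv.filter (· ∈ L)).card * (K.card - 1) * (Inv.filter (· ∈ L)).card := by ring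
    _ ≤ 𝓛.card * (Inv.filter (· ∈ L)).card := Nat.mul_le_mul_right _ hmany

end CountCtx

/-- Too few involutions for the conjugates of a component. -/
theorem count_end (co : Companion M P σ τ h) (c : CountCtx P σ h L)
    (hconjJ : ∀ a : G, a * a = 1 → a ≠ 1 → IsConj (σ ^ h) a) {t : ℕ}
    (hmove : ∃ u ∈ oddSub σ h, cj u L ≠ L) (hM : (members σ h L).card ≤ t)
    (hI : 3 * h ^ 2 * t ^ 2 ≤ Nat.card {s : G // s ∈ L ∧ s * s = 1 ∧ s ≠ 1})
    (h0 : (oddPart σ h).card ≤ (members σ h L).card * t * (oddFix σ h τ).card)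
    (h1 : (oddPart σ h).card ≤ (members σ h L).card * t * (oddFix σ h (σ * τ)).card) : False := by
  classical
  have hcnt := c.count_le D hconjJ
  have hcls := class_le D co h0 h1
  have hh := D.two_le
  obtain ⟨m, hm⟩ : ∃ m, m = (members σ h L).card := ⟨_, rfl⟩
  obtain ⟨I, hI'⟩ : ∃ I, I = Nat.card {s : G // s ∈ L ∧ s * s = 1 ∧ s ≠ 1} := ⟨_, rfl⟩
  obtain ⟨J, hJ⟩ : ∃ J, J = Nat.card {a : G // IsConj (σ ^ h) a} := ⟨_, rfl⟩
  have hm2 : 2 ≤ m := by
    obtain ⟨u, hu, hne⟩ := hmove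
    rw [hm]
    exact Finset.one_lt_card.2 ⟨L, mem_members.2 ⟨1, one_mem _, cj_one L⟩, cj u L,
      mem_members.2 ⟨u, hu, rfl⟩, fun e => hne e.symm⟩
  rw [← hm] at hM
  rw [← hm, ← hI', ← hJ] at hcnt
  rw [← hm, ← hJ] at hcls
  rw [← hI'] at hI
  have e3 : (m - 1) * (3 * h ^ 2 * t ^ 2) ^ 2 ≤ m * (15 * h ^ 2 * (m * t) ^ 2) :=
    ((Nat.mul_le_mul_left _ (Nat.pow_le_pow_left hI 2)).trans hcnt).trans
      (Nat.mul_le_mul_left _ hcls)
  have e4 : m * m ≤ t * t := Nat.mul_le_mul hM hM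
  have e5 : m * (9 * (h ^ 4 * t ^ 4)) ≤ m * (30 * (h ^ 2 * t ^ 4)) := by
    calc m * (9 * (h ^ 4 * t ^ 4)) ≤ (2 * (m - 1)) * (9 * (h ^ 4 * t ^ 4)) :=
          Nat.mul_le_mul_right _ (by omega)
      _ = 2 * ((m - 1) * (3 * h ^ 2 * t ^ 2) ^ 2) := by ring
      _ ≤ 2 * (m * (15 * h ^ 2 * (m * t) ^ 2)) := Nat.mul_le_mul_left _ e3
      _ = m * (30 * (h ^ 2 * t ^ 2 * (m * m))) := by ring
      _ ≤ m * (30 * (h ^ 2 * t ^ 2 * (t * t))) :=
          Nat.mul_le_mul_left _ (Nat.mul_le_mul_left _ (Nat.mul_le_mul_left _ e4))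
      _ = m * (30 * (h ^ 2 * t ^ 4)) := by ring
  have e6 := Nat.le_of_mul_le_mul_left e5 (by omega)
  have h4 : 4 ≤ h ^ 2 := Nat.pow_le_pow_left hh 2
  have e7 : 36 * (h ^ 2 * t ^ 4) ≤ 30 * (h ^ 2 * t ^ 4) :=
    calc 36 * (h ^ 2 * t ^ 4) = 9 * (4 * h ^ 2 * t ^ 4) := by ring
      _ ≤ 9 * (h ^ 2 * h ^ 2 * t ^ 4) :=
          Nat.mul_le_mul_left _ (Nat.mul_le_mul_right _ (Nat.mul_le_mul_right _ h4))
      _ = 9 * (h ^ 4 * t ^ 4) := by ring
      _ ≤ _ := e6
  have hpos : 0 < h ^ 2 * t ^ 4 :=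
    Nat.mul_pos (pow_pos (by omega) 2) (pow_pos (by omega) 4)
  omega

end Cfsg.Lib.GW.CMax
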