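import Cfsg.Agent.Lib.GW.CMax.CountEnd
import Cfsg.Agent.Lib.GW.CMax.ComponentAlt
import Cfsg.Agent.Lib.GW.ConsumersOvergroup
import Cfsg.Agent.Lib.Dickson.OddProduct
import Cfsg.Agent.Lib.Dickson.Overgroups

/-!
# Gorenstein–Walter, a maximal centralizer: the count when one reflection is outer on the component

As in `CountEnd`, but only the fixed points of `τ` are bounded from below, the component has at
least `(2 h t - 1)(h t - 1)` involutions and `2 M ≤ t + 1`.  The only case left by the inequality is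
`(M, t, h) = (3, 5, 2)`, closed with a bound for the second reflection.
-/

set_option autoImplicit false
set_option linter.unusedSectionVars false
set_option linter.style.haveILetI false
set_option maxHeartbeats 800000

namespace Cfsg.Lib.GW.CMax

open Cfsg Cfsg.Lib.Block
open Cfsg.Lib.Block.DihSylow (oddPart oddFix mem_oddPart mem_oddFix)

universe u

/-- The inequality of the outer count. -/
theorem outer_ineq {m t h : ℕ} (hm3 : 3 ≤ m) (hmo : Odd m) (hmt : 2 * m ≤ t + 1) (hh : 2 ≤ h)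
    (hhe : Even h) (hexc : ¬ (m = 3 ∧ t = 5 ∧ h = 2)) (hto : Odd t) :
    34 * h ^ 2 * (m * t) ^ 2 * m < (m - 1) * ((2 * h * t - 1) * (h * t - 1)) ^ 2 := by
  obtain ⟨a, ha⟩ := hmo
  obtain ⟨b, hb⟩ := hto
  -- integers
  suffices hz : (34 : ℤ) * h ^ 2 * (m * t) ^ 2 * m < (m - 1) * ((2 * h * t - 1) * (h * t - 1)) ^ 2 by
    have h1 : 1 ≤ 2 * h * t := Nat.mul_pos (by omega) (by omega)
    have h2 : 1 ≤ h * t := Nat.mul_pos (by omega) (by omega)
    zify [show 1 ≤ m by omega, h1, h2]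
    exact hz
  have hm : (3 : ℤ) ≤ m := by exact_mod_cast hm3
  have ht5 : (5 : ℤ) ≤ t := by exact_mod_cast (show 5 ≤ t by omega)
  have hh' : (2 : ℤ) ≤ h := by exact_mod_cast hh
  -- scale by the order of the rotation
  have e1 : (h : ℤ) * (4 * t - 1) ≤ 2 * (2 * h * t - 1) := by linarith
  have e2 : (h : ℤ) * (2 * t - 1) ≤ 2 * (h * t - 1) := by linarith
  have e12 : ((h : ℤ) ^ 2 * ((4 * t - 1) * (2 * t - 1))) ^ 2 ≤
      16 * ((2 * h * t - 1) * (h * t - 1)) ^ 2 := by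
    calc ((h : ℤ) ^ 2 * ((4 * t - 1) * (2 * t - 1))) ^ 2
        = (((h : ℤ) * (4 * t - 1)) * ((h : ℤ) * (2 * t - 1))) ^ 2 := by ring
      _ ≤ ((2 * (2 * (h : ℤ) * t - 1)) * (2 * ((h : ℤ) * t - 1))) ^ 2 := by
          refine pow_le_pow_left₀ (mul_nonneg (mul_nonneg (by omega) (by linarith))
            (mul_nonneg (by omega) (by linarith))) (mul_le_mul e1 e2
            (mul_nonneg (by omega) (by linarith)) ?_) 2
          linarith [mul_nonneg (show (0 : ℤ) ≤ h by omega) (show (0 : ℤ) ≤ 4 * t - 1 by omega)]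
      _ = _ := by ring
  -- the reduced inequality
  suffices hred : (16 * 34 : ℤ) * m ^ 3 * t ^ 2 <
      (m - 1) * h ^ 2 * ((4 * t - 1) * (2 * t - 1)) ^ 2 by
    have hpos : (0 : ℤ) < h ^ 2 := by positivity
    have h1 := mul_lt_mul_of_pos_left hred hpos
    have h2 := mul_le_mul_of_nonneg_left e12 (show (0 : ℤ) ≤ m - 1 by omega)
    linarith
  have hg : (0 : ℤ) ≤ (4 * t - 1) * (2 * t - 1) := mul_nonneg (by omega) (by omega)
  rcases (show m = 3 ∨ 5 ≤ m by omega) with rfl | hm5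
  · rcases (show t = 5 ∨ 7 ≤ t by omega) with rfl | ht7
    · have h4 : (4 : ℤ) ≤ h := by
        obtain ⟨c, hc⟩ := hhe
        have : h ≠ 2 := fun e => hexc ⟨rfl, rfl, e⟩
        exact_mod_cast (show 4 ≤ h by omega)
      have : (16 : ℤ) ≤ h ^ 2 := by
        calc (16 : ℤ) = 4 ^ 2 := by norm_num
          _ ≤ _ := pow_le_pow_left₀ (by norm_num) h4 2
      push_cast
      linarith
    · have h7 : (7 : ℤ) ≤ t := by exact_mod_cast ht7
      have hlin : (43 : ℤ) * t < (4 * t - 1) * (2 * t - 1) := by nlinarith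
      have h4 : (4 : ℤ) ≤ h ^ 2 := by
        calc (4 : ℤ) = 2 ^ 2 := by norm_num
          _ ≤ _ := pow_le_pow_left₀ (by norm_num) hh' 2
      have hsq : ((43 : ℤ) * t) ^ 2 < ((4 * t - 1) * (2 * t - 1)) ^ 2 :=
        pow_lt_pow_left₀ hlin (by omega) two_ne_zero
      have := mul_le_mul_of_nonneg_right h4 (sq_nonneg ((4 * (t : ℤ) - 1) * (2 * t - 1)))
      push_cast
      nlinarith
  · have ht9 : (9 : ℤ) ≤ t := by exact_mod_cast (show 9 ≤ t by omega)
    have hm5' : (5 : ℤ) ≤ m := by exact_mod_cast hm5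
    have hmt' : 2 * (m : ℤ) ≤ t + 1 := by exact_mod_cast hmt
    have h4 : (4 : ℤ) ≤ h ^ 2 := by
      calc (4 : ℤ) = 2 ^ 2 := by norm_num
        _ ≤ _ := pow_le_pow_left₀ (by norm_num) hh' 2
    have hlin : (66 : ℤ) * (t * (t + 1)) ≤ 10 * ((4 * t - 1) * (2 * t - 1)) := by nlinarith
    have hmt2 : (2 * (m : ℤ)) ^ 2 ≤ (t + 1) ^ 2 := pow_le_pow_left₀ (by omega) hmt' 2
    have hsq : ((66 : ℤ) * (t * (t + 1))) ^ 2 ≤ (10 * ((4 * t - 1) * (2 * t - 1))) ^ 2 :=
      pow_le_pow_left₀ (by positivity) hlin 2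
    obtain ⟨g, hgdef⟩ : ∃ g : ℤ, g = ((4 * (t : ℤ) - 1) * (2 * t - 1)) ^ 2 := ⟨_, rfl⟩
    rw [← hgdef]
    have hg0 : 0 ≤ g := hgdef ▸ sq_nonneg _
    have k1 : 4 * (4356 : ℤ) * m ^ 2 * t ^ 2 ≤ 100 * g := by
      rw [hgdef]
      calc 4 * (4356 : ℤ) * m ^ 2 * t ^ 2 = 4356 * ((2 * (m : ℤ)) ^ 2 * t ^ 2) := by ring
        _ ≤ 4356 * (((t : ℤ) + 1) ^ 2 * (t : ℤ) ^ 2) := by
            exact mul_le_mul_of_nonneg_left (mul_le_mul_of_nonneg_right hmt2 (sq_nonneg _))
              (by norm_num)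
        _ = ((66 : ℤ) * (t * (t + 1))) ^ 2 := by ring
        _ ≤ _ := hsq
        _ = _ := by ring
    have k2 : 4 * (m : ℤ) * g ≤ 5 * ((m - 1) * g) := by
      have := mul_nonneg (show (0 : ℤ) ≤ m - 5 by omega) hg0
      linarith
    have k3 := mul_le_mul_of_nonneg_left k1 (show (0 : ℤ) ≤ m by omega)
    have k4 := mul_le_mul_of_nonneg_right h4 (mul_nonneg (show (0 : ℤ) ≤ m - 1 by omega) hg0)
    have k5 : (0 : ℤ) < m ^ 3 * t ^ 2 := by positivity
    linarith

variable {G : Type u} [Group G] [Fintype G] {M : Ideal AlgInt} [Fact (Nat.Prime 2)]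
  {P : Sylow 2 G} {σ τ : G} {h : ℕ} (D : DihSylow P σ τ h) {L : Subgroup G}

include D

/-- The exceptional bound. -/
theorem class_le_small (co : Companion M P σ τ h) (hh : h = 2) (hX : co.X ≠ 5)
    (h0 : (oddPart σ h).card ≤ 15 * (oddFix σ h τ).card)
    (h1 : (oddPart σ h).card ≤ 25 * (oddFix σ h (σ * τ)).card) :
    Nat.card {a : G // IsConj (σ ^ h) a} ≤ 18000 := by
  have hf := co.order_formula D
  obtain ⟨I, hI⟩ : ∃ I, I = Nat.card {a : G // IsConj (σ ^ h) a} := ⟨_, rfl⟩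
  obtain ⟨o, ho⟩ : ∃ o, o = (oddPart σ h).card := ⟨_, rfl⟩
  rw [← Cfsg.Lib.Invol.card_conj_mul_centralizer (σ ^ h), D.oddPart_spec.2.2.2.2.2.2, ← hI, ← ho]
    at hf
  rw [← ho] at h0 h1
  rw [← hI]
  have ho0 : (0 : ℚ) < o := by rw [ho]; exact_mod_cast Finset.card_pos.2 ⟨1, D.oddPart_spec.1⟩
  have hh0 : (h : ℚ) = 2 := by exact_mod_cast hh
  obtain ⟨k, hk⟩ := co.four_dvd D
  have hX1 := co.X_ne_one D
  have hz : 32 * (co.X * (co.X + 1)) ≤ 45 * (co.X - 1) ^ 2 ∧ 0 ≤ co.X * (co.X + 1) := by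
    rcases (show 9 ≤ co.X ∨ co.X ≤ -3 by omega) with h' | h'
    · have := mul_nonneg (show (0 : ℤ) ≤ co.X - 9 by omega) (show (0 : ℤ) ≤ 13 * co.X - 5 by omega)
      exact ⟨by linarith, mul_nonneg (by omega) (by omega)⟩
    · have := mul_nonneg (show (0 : ℤ) ≤ 9 - co.X by omega) (show (0 : ℤ) ≤ 5 - 13 * co.X by omega)
      exact ⟨by linarith, mul_nonneg_of_nonpos_of_nonpos (by omega) (by omega)⟩
  have hq1 : (32 : ℚ) * ((co.X : ℚ) * (co.X + 1)) ≤ 45 * ((co.X : ℚ) - 1) ^ 2 := by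
    exact_mod_cast hz.1
  have hq2 : 0 ≤ (co.X : ℚ) * (co.X + 1) := by exact_mod_cast hz.2
  obtain ⟨S, hS⟩ : ∃ S : ℚ,
      S = 1 / ((oddFix σ h τ).card : ℚ) + 1 / ((oddFix σ h (σ * τ)).card : ℚ) := ⟨_, rfl⟩
  rw [← hS] at hf
  have hS0 : 0 ≤ S := hS ▸ by positivity
  have hS2 : S * o ≤ 40 := by
    have t : ∀ K w : ℕ, o ≤ K * w → 1 / (w : ℚ) * o ≤ K := fun K w hw => by
      have hwq : (o : ℚ) ≤ K * w := by exact_mod_cast hw
      have : (0 : ℚ) < w := by
        rcases eq_or_lt_of_le (Nat.cast_nonneg (α := ℚ) w) with e | e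
        · rw [← e, mul_zero] at hwq; linarith
        · exact e
      rw [div_mul_eq_mul_div, one_mul, div_le_iff₀ this]
      exact hwq
    rw [hS, add_mul]
    have a1 := t 15 _ h0
    have a2 := t 25 _ h1
    push_cast at a1 a2
    linarith
  have hX2 : (0 : ℚ) < ((co.X : ℚ) - 1) ^ 2 := by
    have : (co.X : ℚ) - 1 ≠ 0 := sub_ne_zero.2 (by exact_mod_cast hX1)
    positivity
  have key : (I : ℚ) * ((co.X : ℚ) - 1) ^ 2 ≤ 18000 * ((co.X : ℚ) - 1) ^ 2 := by
    push_cast at hf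
    rw [hh0] at hf
    have e : (I : ℚ) * ((co.X : ℚ) - 1) ^ 2 = 8 * ((co.X : ℚ) * (co.X + 1)) * (S * o) ^ 2 := by
      refine mul_left_cancel₀ (show (8 * o : ℚ) ≠ 0 by positivity) ?_
      linear_combination hf
    calc (I : ℚ) * ((co.X : ℚ) - 1) ^ 2 = 8 * ((co.X : ℚ) * (co.X + 1)) * (S * o) ^ 2 := e
      _ ≤ 8 * ((co.X : ℚ) * (co.X + 1)) * 40 ^ 2 :=
          mul_le_mul_of_nonneg_left (pow_le_pow_left₀ (by positivity) hS2 2)
            (mul_nonneg (by norm_num) hq2)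
      _ = 400 * (32 * ((co.X : ℚ) * (co.X + 1))) := by ring
      _ ≤ 400 * (45 * ((co.X : ℚ) - 1) ^ 2) := mul_le_mul_of_nonneg_left hq1 (by norm_num)
      _ = _ := by ring
  exact_mod_cast le_of_mul_le_mul_right key hX2

/-- The outer count. -/
theorem count_outer_end (co : Companion M P σ τ h) (c : CountCtx P σ h L)
    (hconjJ : ∀ a : G, a * a = 1 → a ≠ 1 → IsConj (σ ^ h) a) {t : ℕ} (hto : Odd t)
    (hm3 : 3 ≤ (members σ h L).card) (hmt : 2 * (members σ h L).card ≤ t + 1)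
    (hI : (2 * h * t - 1) * (h * t - 1) ≤ Nat.card {s : G // s ∈ L ∧ s * s = 1 ∧ s ≠ 1})
    (h0 : (oddPart σ h).card ≤ (members σ h L).card * t * (oddFix σ h τ).card)
    (hGC : Nat.card {a : G // IsConj (σ ^ h) a} * (oddFix σ h τ).card ^ 2 ≤
      34 * h ^ 2 * (oddPart σ h).card ^ 2)
    (hexc : (members σ h L).card = 3 → t = 5 → h = 2 →
      co.X ≠ 5 ∧ (oddPart σ h).card ≤ 25 * (oddFix σ h (σ * τ)).card) : False := by
  classical
  have hcnt := c.count_le D hconjJ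
  obtain ⟨m, hm⟩ : ∃ m, m = (members σ h L).card := ⟨_, rfl⟩
  obtain ⟨J, hJ⟩ : ∃ J, J = Nat.card {a : G // IsConj (σ ^ h) a} := ⟨_, rfl⟩
  have hlow : (m - 1) * ((2 * h * t - 1) * (h * t - 1)) ^ 2 ≤ m * J := by
    rw [hm, hJ]
    exact (Nat.mul_le_mul_left _ (Nat.pow_le_pow_left hI 2)).trans hcnt
  by_cases he : m = 3 ∧ t = 5 ∧ h = 2
  · obtain ⟨e1, e2, e3⟩ := he
    obtain ⟨hX, h1⟩ := hexc (hm ▸ e1) e2 e3
    have := class_le_small D co e3 hX (by
      rw [← hm, e1, e2] at h0; exact h0) h1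
    rw [← hJ] at this
    rw [e1, e2, e3] at hlow
    omega
  · have hW : 0 < (oddFix σ h τ).card :=
      Finset.card_pos.2 ⟨1, mem_oddFix.2 ⟨D.oddPart_spec.1, Commute.one_left _⟩⟩
    have hup : J ≤ 34 * h ^ 2 * (m * t) ^ 2 := by
      refine Nat.le_of_mul_le_mul_right (c := (oddFix σ h τ).card ^ 2) ?_ (pow_pos hW 2)
      calc J * (oddFix σ h τ).card ^ 2 ≤ 34 * h ^ 2 * (oddPart σ h).card ^ 2 := hJ ▸ hGC
        _ ≤ 34 * h ^ 2 * (m * t * (oddFix σ h τ).card) ^ 2 :=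
            Nat.mul_le_mul_left _ (Nat.pow_le_pow_left (hm ▸ h0) 2)
        _ = _ := by ring
    have hlt := outer_ineq (hm ▸ hm3) (hm ▸ odd_card_members D L) (hm ▸ hmt) D.two_le D.even he hto
    have := Nat.mul_le_mul_left m hup
    rw [mul_comm m (34 * h ^ 2 * (m * t) ^ 2)] at this
    omega

omit D

section Model

variable {H : Type u} [Group H] [Finite H] {F : Type} [Field F] [Fintype F]

local notation "PSL2" => Matrix.ProjectiveSpecialLinearGroup (Fin 2) F

/-- The involutions of a group with odd central kernel over `PSL₂(q)`. -/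
theorem psl_cover_facts (hodd : Odd (Fintype.card F)) (f : H →* PSL2) (hf : Function.Surjective f)
    (hker : ∀ z, f z = 1 → Odd (orderOf z) ∧ ∀ y, Commute z y) {j : H} (hj : orderOf j = 2)
    {h t : ℕ} (hh : 2 ≤ h) (ht : 5 ≤ t)
    (hdvd : 2 * h * t ∣ Nat.card (Subgroup.centralizer ({f j} : Set PSL2))) :
    (∀ s : H, s * s = 1 → s ≠ 1 → IsConj j s) ∧
      (2 * h * t - 1) * (h * t - 1) ≤ Nat.card {s : H // s * s = 1 ∧ s ≠ 1} := by
  classical
  have hq : Fintype.card F % 2 = 1 := Nat.odd_iff.1 hodd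
  have hj2 := Cfsg.Lib.Invol.inv_mul_self hj
  have hne : ∀ s : H, s * s = 1 → s ≠ 1 → f s ≠ 1 := by
    intro s h2 h1 e
    rcases (Nat.dvd_prime Nat.prime_two).1 (orderOf_dvd_of_pow_eq_one (x := s) (n := 2)
      (by rw [pow_two, h2])) with h' | h'
    · exact h1 (orderOf_eq_one_iff.1 h')
    · exact absurd (h' ▸ (hker s e).1) (by decide)
  have hord : ∀ s : H, s * s = 1 → s ≠ 1 → orderOf (f s) = 2 := fun s h2 h1 =>
    orderOf_eq_prime (by rw [pow_two, ← map_mul, h2, map_one]) (hne s h2 h1)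
  have huniq : ∀ s s' : H, s * s = 1 → s' * s' = 1 → f s = f s' → s = s' := by
    intro s s' h2 h2' e
    obtain ⟨z, hz⟩ : ∃ z, z = s⁻¹ * s' := ⟨_, rfl⟩
    have hfz : f z = 1 := by rw [hz, map_mul, map_inv, e, inv_mul_cancel]
    obtain ⟨hzo, hzc⟩ := hker z hfz
    have hs' : s' = s * z := by rw [hz, mul_inv_cancel_left]
    have hz2 : z * z = 1 := by
      rw [hs'] at h2'
      calc z * z = s * s * (z * z) := by rw [h2, one_mul]
        _ = s * z * (s * z) := by
            rw [mul_assoc, mul_assoc, ← mul_assoc z s, (hzc s).eq, mul_assoc]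
        _ = 1 := h2'
    by_contra hne'
    rcases (Nat.dvd_prime Nat.prime_two).1 (orderOf_dvd_of_pow_eq_one (x := z) (n := 2)
      (by rw [pow_two, hz2])) with h' | h'
    · rw [orderOf_eq_one_iff] at h'
      exact hne' (by rw [hs', h', mul_one])
    · exact absurd (h' ▸ hzo) (by decide)
  set q := Fintype.card F with hqdef
  have hcard : 2 * Nat.card PSL2 = q * (q ^ 2 - 1) := Cfsg.Lib.Dickson.card_psl_mul hq
  obtain ⟨c, hc⟩ : ∃ c, c = Nat.card (Subgroup.centralizer ({f j} : Set PSL2)) := ⟨_, rfl⟩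
  have hj1 : j ≠ 1 := Cfsg.Lib.Invol.ne_one hj
  have h7 : 7 ≤ q := by
    by_contra hlt
    have hdd : 2 * h * t ∣ Nat.card PSL2 := hdvd.trans (Subgroup.card_subgroup_dvd_card _)
    have hle : 20 ≤ 2 * h * t := Nat.mul_le_mul (Nat.mul_le_mul_left 2 hh) ht
    rcases (show q = 1 ∨ q = 3 ∨ q = 5 by omega) with e' | e' | e'
    · exact absurd e' (Fintype.one_lt_card (α := F)).ne'
    · rw [e'] at hcard
      have := Nat.le_of_dvd (by omega) hdd
      omega
    · rw [e'] at hcard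
      have hcl : Nat.card (Subgroup.centralizer ({f j} : Set PSL2)) ≤ 4 := by
        have e60 : Fintype.card F = 5 := e'
        obtain ⟨p, hp'⟩ := CharP.exists F
        haveI : Fact p.Prime := ⟨CharP.char_is_prime F p⟩
        haveI := hp'
        have hp5 : p = 5 := by
          obtain ⟨n, hpp, hn⟩ := FiniteField.card F p
          rw [e60] at hn
          exact ((Nat.prime_dvd_prime_iff_eq hpp (by norm_num)).1
            (hn.symm ▸ dvd_pow_self p n.pos.ne'))
        obtain ⟨k, hk, hk' | ⟨-, hk'⟩⟩ := Cfsg.Lib.Dickson.centralizer_cases p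
          (x := f j) (hne j hj2 hj1) (by rw [hp5, hord j hj2 hj1]; norm_num)
        all_goals rw [e60] at hk; norm_num at hk
        all_goals rcases hk with hk | hk
        all_goals have := Nat.le_of_dvd (by norm_num) hk
        all_goals rw [hk'] at hdvd ⊢
        all_goals have := Nat.pos_of_dvd_of_pos (by assumption : k ∣ _) (by norm_num)
        all_goals have := Nat.le_of_dvd (by omega) hdvd
        all_goals omega
      have := Nat.le_of_dvd Nat.card_pos hdvd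
      omega
  have hconj : ∀ s : H, s * s = 1 → s ≠ 1 → IsConj j s := by
    intro s h2 h1
    obtain ⟨g, hg⟩ := isConj_iff.1 (Cfsg.Lib.Dickson.isConj_of_involutions (by omega)
      (hord j hj2 hj1) (hord s h2 h1))
    obtain ⟨g', rfl⟩ := hf g
    refine isConj_iff.2 ⟨g', huniq _ _ ?_ h2 (by rw [map_mul, map_mul, map_inv, hg])⟩
    rw [show g' * j * g'⁻¹ * (g' * j * g'⁻¹) = g' * (j * j) * g'⁻¹ by group, hj2, mul_one,
      mul_inv_cancel]
  refine ⟨hconj, ?_⟩
  have hcl := Cfsg.Lib.Invol.card_conj_mul_centralizer (f j)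
  obtain ⟨I, hI⟩ : ∃ I, I = Nat.card {y : PSL2 // IsConj (f j) y} := ⟨_, rfl⟩
  have hle : I ≤ Nat.card {s : H // s * s = 1 ∧ s ≠ 1} := by
    rw [hI]
    refine Nat.card_le_card_of_surjective
      (fun s : {s : H // s * s = 1 ∧ s ≠ 1} =>
        (⟨f s, f.map_isConj (hconj s.1 s.2.1 s.2.2)⟩ : {y : PSL2 // IsConj (f j) y})) ?_
    rintro ⟨y, hy⟩
    obtain ⟨g, hg⟩ := isConj_iff.1 hy
    obtain ⟨g', rfl⟩ := hf g
    refine ⟨⟨g' * j * g'⁻¹, ?_, fun e => hj1 (conj_eq_one_iff.1 e)⟩, Subtype.ext ?_⟩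
    · rw [show g' * j * g'⁻¹ * (g' * j * g'⁻¹) = g' * (j * j) * g'⁻¹ by group, hj2, mul_one,
        mul_inv_cancel]
    · simpa using hg
  rw [← hI, ← hc] at hcl
  have hcq : c ≤ q + 1 := by
    rcases card_centralizer_cases hq h7 (hord j hj2 hj1) with ⟨-, h'⟩ | ⟨-, h'⟩ <;>
      rw [← hqdef, ← hc] at h' <;> omega
  have hc0 : 0 < c := hc ▸ Nat.card_pos
  have h2I : q * (q - 1) ≤ 2 * I := by
    refine Nat.le_of_mul_le_mul_right (c := q + 1) ?_ (by omega)
    calc q * (q - 1) * (q + 1) = q * (q ^ 2 - 1) := by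
          rw [show q ^ 2 - 1 = (q + 1) * (q - 1) by rw [← Nat.sq_sub_sq, one_pow]]
          ring
      _ = 2 * (I * c) := by rw [hcl, hcard]
      _ ≤ 2 * I * (q + 1) := by
          rw [← mul_assoc]; exact Nat.mul_le_mul_left _ hcq
  obtain ⟨x, hx⟩ : ∃ x, x = h * t := ⟨_, rfl⟩
  rw [mul_assoc 2 h t, ← hx] at hdvd ⊢
  have hxq : 2 * x ≤ q + 1 := (Nat.le_of_dvd hc0 (hc ▸ hdvd)).trans hcq
  have h3 : (2 * x - 1) * (2 * (x - 1)) ≤ q * (q - 1) := Nat.mul_le_mul (by omega) (by omega)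
  rw [show (2 * x - 1) * (2 * (x - 1)) = 2 * ((2 * x - 1) * (x - 1)) by ring] at h3
  omega

end Model

/-- In `A₇` an odd number dividing the order of the centralizer of an involution divides three. -/
theorem alt_seven_dvd_three {v : alternatingGroup (Fin 7)} (hv : orderOf v = 2) {t : ℕ} (ht : Odd t)
    (hdvd : t ∣ Nat.card (Subgroup.centralizer ({v} : Set (alternatingGroup (Fin 7))))) : t ∣ 3 := by
  classical
  set a : alternatingGroup (Fin 7) :=
    ⟨Equiv.swap 0 1 * Equiv.swap 2 3, Equiv.Perm.mem_alternatingGroup.2 (by decide)⟩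
  obtain ⟨g, hg⟩ := isConj_iff.1 (DGroup.alt_seven_conj (x := v) (y := a) hv
    (orderOf_eq_prime (by decide) (by decide)))
  have hdvd6 : t ∣ 6 := by
    rw [Nat.dvd_iff_prime_pow_dvd_dvd]
    intro p k hp hpk
    haveI : Fact p.Prime := ⟨hp⟩
    obtain ⟨R, hR⟩ := Sylow.exists_subgroup_card_pow_prime p (hpk.trans hdvd)
    rcases Nat.eq_zero_or_pos k with rfl | hk
    · simp
    have hpodd : Odd p := ht.of_dvd_nat ((dvd_pow_self p hk.ne').trans hpk)
    have hfix : ∀ y : R, ∀ i : Fin 7, (i : ℕ) < 4 →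
        (((g * ((y : Subgroup.centralizer ({v} : Set _)) : alternatingGroup (Fin 7)) * g⁻¹ :
          alternatingGroup (Fin 7))) : Equiv.Perm (Fin 7)) i = i := by
      intro y i hi
      obtain ⟨z, hz⟩ : ∃ z : alternatingGroup (Fin 7),
          z = g * ((y : Subgroup.centralizer ({v} : Set _)) : alternatingGroup (Fin 7)) * g⁻¹ :=
        ⟨_, rfl⟩
      rw [← hz]
      have hzo : Odd (orderOf (z : Equiv.Perm (Fin 7))) := by
        rw [Subgroup.orderOf_coe, hz, Cfsg.Lib.Invol.orderOf_conj_eq, Subgroup.orderOf_coe,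
          Subgroup.orderOf_coe]
        exact (hR ▸ (hpodd.pow (n := k))).of_dvd_nat (orderOf_dvd_natCard y)
      have hza : Commute z a := by
        rw [← hg, hz]
        exact ((show Commute ((y : Subgroup.centralizer ({v} : Set _)) : alternatingGroup (Fin 7)) v
          from Subgroup.mem_centralizer_singleton_iff.1
            (y : Subgroup.centralizer ({v} : Set _)).2).map (MulAut.conj g).toMonoidHom)
      exact alt_seven_fix hzo (congrArg Subtype.val hza.eq) i hi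
    let f : R →* Equiv.Perm (Fin 7) :=
      (alternatingGroup (Fin 7)).subtype.comp ((MulAut.conj g).toMonoidHom.comp
        ((Subgroup.centralizer ({v} : Set _)).subtype.comp R.subtype))
    have hfinj : Function.Injective f :=
      (alternatingGroup (Fin 7)).subtype_injective.comp ((MulAut.conj g).injective.comp
        (Subtype.val_injective.comp Subtype.val_injective))
    have hmem : ∀ y, f y ∈ fixingSubgroup (Equiv.Perm (Fin 7)) {i : Fin 7 | (i : ℕ) < 4} := fun y =>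
      (mem_fixingSubgroup_iff _).2 fun i hi => hfix y i hi
    have h6 : Nat.card (fixingSubgroup (Equiv.Perm (Fin 7)) {i : Fin 7 | (i : ℕ) < 4}) = 6 := by
      have e := Nat.card_congr (Equiv.Perm.subtypeEquivSubtypePerm fun i : Fin 7 => ¬ (i : ℕ) < 4)
      rw [Nat.card_perm, Nat.card_eq_fintype_card, Fintype.card_subtype] at e
      rw [show (Finset.univ.filter fun i : Fin 7 => ¬ (i : ℕ) < 4).card = 3 by decide] at e
      rw [show Nat.factorial 3 = 6 from rfl] at e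
      rw [e]
      refine Nat.card_congr (Equiv.subtypeEquivRight fun w => ?_)
      rw [mem_fixingSubgroup_iff]
      simp only [Set.mem_ofPred_eq, not_not, Equiv.Perm.smul_def]
    rw [← hR, ← h6]
    exact Subgroup.card_dvd_of_injective (f.codRestrict _ hmem) (fun x y e =>
      hfinj (show f x = f y from congrArg (fun z : fixingSubgroup (Equiv.Perm (Fin 7))
        {i : Fin 7 | (i : ℕ) < 4} => (z : Equiv.Perm (Fin 7))) e))
  obtain ⟨b, rfl⟩ := ht
  have := Nat.le_of_dvd (by norm_num) hdvd6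
  have : b ≤ 2 := by omega
  interval_cases b <;> simp_all

end Cfsg.Lib.GW.CMax
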