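import Cfsg.Agent.Lib.GW.PGL
import Cfsg.Agent.Lib.GW.AlmostSimple
import Cfsg.Agent.Lib.GW.ConsumersOvergroup

/-!
# Almost simple groups over `PSL₂(q)`: elements commuting with an involution

`X` has a normal subgroup `E ≅ PSL₂(q)`, `q` odd, with trivial centralizer; `diag` is the subgroup
of inner-diagonal elements. Two elements of `diag` which are not involutions and commute with one
involution of `diag` commute; an element of `diag` which is no involution commutes with at most one
involution of `diag`; elements of odd order inverted by an involution lie in `E`; a field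
automorphism of odd order fixing the squares on the circle is trivial.
-/

set_option autoImplicit false
set_option linter.unusedSectionVars false
set_option linter.style.haveILetI false

namespace Cfsg.Lib.GW.CMax.Diag

open Subgroup Matrix Cfsg.Lib.Linear.AutPSL Cfsg.Lib.Linear.Descent

universe u

section Matrices

variable {F : Type*} [Field F]

local notation "M2" => Matrix (Fin 2) (Fin 2) F

theorem mul_apply_two (A B : M2) (i j : Fin 2) : (A * B) i j = A i 0 * B 0 j + A i 1 * B 1 j := by
  rw [Matrix.mul_apply, Fin.sum_univ_two]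

/-- Two matrices commuting with a nonscalar one commute. -/
theorem commute_of_commute {N Y Y' : M2} (hN : N 0 1 ≠ 0 ∨ N 1 0 ≠ 0 ∨ N 0 0 ≠ N 1 1)
    (h : N * Y = Y * N) (h' : N * Y' = Y' * N) : Y * Y' = Y' * Y := by
  have e00 := congrFun (congrFun h 0) 0
  have e01 := congrFun (congrFun h 0) 1
  have e10 := congrFun (congrFun h 1) 0
  have f00 := congrFun (congrFun h' 0) 0
  have f01 := congrFun (congrFun h' 0) 1
  have f10 := congrFun (congrFun h' 1) 0
  simp only [mul_apply_two] at e00 e01 e10 f00 f01 f10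
  -- the three minors of the two triples of coordinates
  have k1 : Y 0 1 * Y' 1 0 = Y' 0 1 * Y 1 0 := by
    rcases hN with c | c | c
    · refine mul_left_cancel₀ c ?_
      linear_combination Y 0 1 * f00 - Y' 0 1 * e00
    · refine mul_left_cancel₀ c ?_
      linear_combination Y 1 0 * f00 - Y' 1 0 * e00
    · have d := sub_ne_zero.2 c
      refine mul_left_cancel₀ (mul_ne_zero d d) ?_
      linear_combination (N 0 0 - N 1 1) * Y' 1 0 * e01 - N 0 1 * (Y 0 0 - Y 1 1) * f10 -
        (N 0 0 - N 1 1) * Y 1 0 * f01 + N 0 1 * (Y' 0 0 - Y' 1 1) * e10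
  have k2 : Y 0 1 * (Y' 0 0 - Y' 1 1) = Y' 0 1 * (Y 0 0 - Y 1 1) := by
    rcases hN with c | c | c
    · refine mul_left_cancel₀ c ?_
      linear_combination -(Y 0 1) * f01 + Y' 0 1 * e01
    · refine mul_left_cancel₀ (mul_ne_zero c c) ?_
      linear_combination -(N 1 0 * (Y' 0 0 - Y' 1 1)) * e00 + N 0 1 * Y 1 0 * f10 +
        (N 1 0 * (Y 0 0 - Y 1 1)) * f00 - N 0 1 * Y' 1 0 * e10
    · refine mul_left_cancel₀ (sub_ne_zero.2 c) ?_
      linear_combination (Y' 0 0 - Y' 1 1) * e01 - (Y 0 0 - Y 1 1) * f01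
  have k3 : Y 1 0 * (Y' 0 0 - Y' 1 1) = Y' 1 0 * (Y 0 0 - Y 1 1) := by
    rcases hN with c | c | c
    · refine mul_left_cancel₀ (mul_ne_zero c c) ?_
      linear_combination (N 0 1 * (Y' 0 0 - Y' 1 1)) * e00 - N 1 0 * Y 0 1 * f01 -
        (N 0 1 * (Y 0 0 - Y 1 1)) * f00 + N 1 0 * Y' 0 1 * e01
    · refine mul_left_cancel₀ c ?_
      linear_combination Y 1 0 * f10 - Y' 1 0 * e10
    · refine mul_left_cancel₀ (sub_ne_zero.2 c) ?_
      linear_combination -(Y' 0 0 - Y' 1 1) * e10 + (Y 0 0 - Y 1 1) * f10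
  ext i j
  fin_cases i <;> fin_cases j <;> simp [mul_apply_two]
  · linear_combination k1
  · linear_combination -k2
  · linear_combination k3
  · linear_combination -k1

theorem exists_entry {N : M2} (h : ∀ r : F, N ≠ scalar (Fin 2) r) :
    N 0 1 ≠ 0 ∨ N 1 0 ≠ 0 ∨ N 0 0 ≠ N 1 1 := by
  by_contra hc
  push Not at hc
  obtain ⟨c1, c2, c3⟩ := hc
  refine h (N 0 0) (Matrix.ext fun i j => ?_)
  fin_cases i <;> fin_cases j <;> simp [c1, c2, c3]

theorem sq_eq_scalar {N : M2} (h : N 1 1 = -N 0 0) :
    N * N = scalar (Fin 2) (N 0 0 * N 0 0 + N 0 1 * N 1 0) := by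
  ext i j
  fin_cases i <;> fin_cases j <;> simp [mul_apply_two, h] <;> ring

theorem trace_zero_of_sq {N : M2} (hN : N 0 1 ≠ 0 ∨ N 1 0 ≠ 0 ∨ N 0 0 ≠ N 1 1) {r : F}
    (h : N * N = scalar (Fin 2) r) : N 1 1 = -N 0 0 := by
  have e00 := congrFun (congrFun h 0) 0
  have e01 := congrFun (congrFun h 0) 1
  have e10 := congrFun (congrFun h 1) 0
  have e11 := congrFun (congrFun h 1) 1
  simp [mul_apply_two] at e00 e01 e10 e11
  by_contra hne
  have hs : N 0 0 + N 1 1 ≠ 0 := fun e => hne (by linear_combination e)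
  rcases hN with c | c | c
  · exact mul_ne_zero hs c (by linear_combination e01)
  · exact mul_ne_zero hs c (by linear_combination e10)
  · exact mul_ne_zero hs (sub_ne_zero.2 c) (by linear_combination e00 - e11)

/-- Two commuting trace zero nonscalar matrices are proportional. -/
theorem proportional {A B : M2} (hA : A 1 1 = -A 0 0) (hB : B 1 1 = -B 0 0) (h2 : (2 : F) ≠ 0)
    (hA' : A 0 1 ≠ 0 ∨ A 1 0 ≠ 0 ∨ A 0 0 ≠ A 1 1) (h : A * B = B * A) : ∃ r : F, B = r • A := by
  have e00 := congrFun (congrFun h 0) 0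
  have e01 := congrFun (congrFun h 0) 1
  have e10 := congrFun (congrFun h 1) 0
  simp only [mul_apply_two, hA, hB] at e00 e01 e10
  have k2 : A 0 0 * B 0 1 = B 0 0 * A 0 1 := by
    refine mul_left_cancel₀ h2 ?_
    linear_combination e01
  have k3 : A 0 0 * B 1 0 = B 0 0 * A 1 0 := by
    refine mul_left_cancel₀ h2 ?_
    linear_combination -e10
  have k1 : A 0 1 * B 1 0 = B 0 1 * A 1 0 := by linear_combination e00
  by_cases ha : A 0 0 = 0
  · rw [ha, zero_mul] at k2 k3
    rcases hA' with c | c | c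
    · have hb := (mul_eq_zero.1 k2.symm).resolve_right c
      refine ⟨B 0 1 / A 0 1, Matrix.ext fun i j => ?_⟩
      fin_cases i <;> fin_cases j <;> simp [ha, hA, hB, hb]
      · field_simp
      · field_simp; linear_combination k1
    · have hb := (mul_eq_zero.1 k3.symm).resolve_right c
      refine ⟨B 1 0 / A 1 0, Matrix.ext fun i j => ?_⟩
      fin_cases i <;> fin_cases j <;> simp [ha, hA, hB, hb]
      · field_simp; linear_combination -k1
      · field_simp
    · rw [hA, ha, neg_zero] at c
      exact absurd rfl c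
  · refine ⟨B 0 0 / A 0 0, Matrix.ext fun i j => ?_⟩
    fin_cases i <;> fin_cases j <;> simp [hA, hB]
    · field_simp
    · field_simp; linear_combination k2
    · field_simp; linear_combination k3
    · field_simp

end Matrices

section Fields

variable {F : Type} [Field F] [Fintype F]

theorem two_ne_zero' (hodd : Odd (Fintype.card F)) : (2 : F) ≠ 0 :=
  Cfsg.Lib.Dickson.two_ne_zero_of_odd (Nat.odd_iff.1 hodd)

/-- A field automorphism fixing traces up to sign on the centralizer of an involution is trivial. -/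
theorem fld_trivial (hodd : Odd (Fintype.card F)) {σ : F ≃+* F} (hσ : Odd (orderOf σ))
    (h : ∀ a b : F, a * a + b * b = 1 → σ (a * a) = a * a) : σ = 1 := by
  classical
  by_contra hne
  have h2 := two_ne_zero' hodd
  set r := orderOf σ with hr
  have hr3 : 3 ≤ r := by
    obtain ⟨k, hk⟩ := hσ
    have : r ≠ 1 := fun h => hne (orderOf_eq_one_iff.1 h)
    omega
  have hk := card_fixedF_pow σ
  rw [← hr] at hk
  haveI : Finite (fixedF σ) := inferInstance
  set K := Nat.card (fixedF σ) with hKdef
  have hK1 : 2 ≤ K := Finite.one_lt_card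
  -- the points of the circle
  let g : F → F := fun t => ((1 - t * t) / (1 + t * t)) * ((1 - t * t) / (1 + t * t))
  let T : Finset F := Finset.univ.filter fun t => 1 + t * t ≠ 0
  have hT : Fintype.card F ≤ T.card + 2 := by
    have hbad : (Finset.univ.filter fun t : F => ¬ 1 + t * t ≠ 0).card ≤ 2 := by
      by_cases hex : ∃ t : F, 1 + t * t = 0
      · obtain ⟨t₀, ht₀⟩ := hex
        refine (Finset.card_le_card (t := {t₀, -t₀}) fun t ht => ?_).trans Finset.card_le_two
        simp only [Finset.mem_filter, Finset.mem_univ, true_and, not_not] at ht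
        rcases mul_self_eq_mul_self_iff.1 (show t * t = t₀ * t₀ by linear_combination ht - ht₀) with h' | h' <;>
          simp [h']
      · rw [Finset.filter_false_of_mem fun t _ h' => hex ⟨t, not_not.1 h'⟩]
        simp
    have := Finset.card_filter_add_card_filter_not (s := (Finset.univ : Finset F))
      (fun t => 1 + t * t ≠ 0)
    rw [Finset.card_univ] at this
    show Fintype.card F ≤ (Finset.univ.filter fun t : F => 1 + t * t ≠ 0).card + 2
    omega
  let S : Finset F := Finset.univ.filter fun w => σ w = w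
  have hS : S.card = K := by
    rw [hKdef, ← Fintype.card_subtype, ← Nat.card_eq_fintype_card]
    exact Nat.card_congr (Equiv.subtypeEquivRight fun w => mem_fixedF.symm)
  have hmaps : ∀ t ∈ T, g t ∈ S := by
    intro t ht
    simp only [T, Finset.mem_filter, Finset.mem_univ, true_and] at ht
    refine Finset.mem_filter.2 ⟨Finset.mem_univ _, h _ (2 * t / (1 + t * t)) ?_⟩
    rw [div_mul_div_comm, div_mul_div_comm, ← add_div, div_eq_one_iff_eq (mul_ne_zero ht ht)]
    ring
  have hfib : ∀ w ∈ S, (T.filter fun t => g t = w).card ≤ 4 := by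
    intro w _
    rcases (T.filter fun t => g t = w).eq_empty_or_nonempty with he | ⟨t₀, ht₀⟩
    · simp [he]
    simp only [Finset.mem_filter, T, Finset.mem_univ, true_and] at ht₀
    obtain ⟨h₀, hg₀⟩ := ht₀
    have key : ∀ t, 1 + t * t ≠ 0 → g t = w →
        t * t = t₀ * t₀ ∨ (t * t) * (t₀ * t₀) = 1 := by
      intro t ht hg
      rcases mul_self_eq_mul_self_iff.1 (hg.trans hg₀.symm) with h' | h'
      · left
        rw [div_eq_div_iff ht h₀] at h'
        refine mul_left_cancel₀ h2 ?_
        linear_combination -h'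
      · right
        rw [← neg_div, div_eq_div_iff ht h₀] at h'
        refine mul_left_cancel₀ h2 ?_
        linear_combination -h'
    by_cases hz : t₀ * t₀ = 0
    · refine (Finset.card_le_card (t := ({t₀} : Finset F)) fun t ht => ?_).trans (by simp)
      simp only [Finset.mem_filter, T, Finset.mem_univ, true_and] at ht
      rcases key t ht.1 ht.2 with h' | h'
      · rw [hz] at h'
        simp [mul_self_eq_zero.1 h', mul_self_eq_zero.1 hz]
      · rw [hz, mul_zero] at h'
        exact absurd h' zero_ne_one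
    have ht0 : t₀ ≠ 0 := fun h' => hz (by rw [h', mul_zero])
    refine (Finset.card_le_card (t := ({t₀, -t₀, t₀⁻¹, -t₀⁻¹} : Finset F)) fun t ht => ?_).trans ?_
    · simp only [Finset.mem_filter, T, Finset.mem_univ, true_and] at ht
      rcases key t ht.1 ht.2 with h' | h'
      · rcases mul_self_eq_mul_self_iff.1 h' with h'' | h'' <;> simp [h'']
      · rcases mul_self_eq_one_iff.1 (show (t * t₀) * (t * t₀) = 1 by linear_combination h') with h'' | h''
        · simp [eq_inv_of_mul_eq_one_left h'']
        · have : (-t) * t₀ = 1 := by rw [neg_mul, h'', neg_neg]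
          simp [neg_eq_iff_eq_neg.1 (eq_inv_of_mul_eq_one_left this)]
    · exact Finset.card_le_four
  have hbig : T.card ≤ 4 * K := hS ▸ Finset.card_le_mul_card_image_of_maps_to hmaps 4 hfib
  have h3 : K ^ 3 ≤ Fintype.card F := hk ▸ Nat.pow_le_pow_right (by omega) hr3
  obtain ⟨m, hm⟩ := hodd
  have hKodd : K % 2 = 1 := by
    by_contra hev
    have h2K : 2 ∣ K := Nat.dvd_of_mod_eq_zero (by omega)
    have := hk ▸ h2K.trans (dvd_pow_self K (by omega : r ≠ 0))
    omega
  have h9 : 9 * K ≤ K ^ 3 := by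
    have : 3 * 3 ≤ K * K := Nat.mul_le_mul (by omega) (by omega)
    calc 9 * K ≤ K * K * K := Nat.mul_le_mul_right _ this
      _ = K ^ 3 := by ring
  omega

end Fields

variable {X : Type u} [Group X] [Finite X] {F : Type} [Field F] [Fintype F] {E : Subgroup X} [E.Normal]

local notation "PSL2" => Matrix.ProjectiveSpecialLinearGroup (Fin 2) F

variable (e : ↥E ≃* Matrix.ProjectiveSpecialLinearGroup (Fin 2) F) (hC : centralizer (E : Set X) = ⊥)

include e hC

theorem not_scalar {a : X} (ha : a ≠ 1) {A : GL (Fin 2) F} (hA : innd A = PGL.autHom e a) (r : F) :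
    A.val ≠ scalar (Fin 2) r := fun he =>
  ha (PGL.autHom_injective e hC (by rw [← hA, map_one, innd_scalar ⟨r, he.symm⟩]))

theorem eq_of_smul {a b : X} {A B : GL (Fin 2) F} (hA : innd A = PGL.autHom e a)
    (hB : innd B = PGL.autHom e b) {r : F} (h : B.val = r • A.val) : a = b := by
  refine PGL.autHom_injective e hC ?_
  have hr : r ≠ 0 := fun h0 => by
    have h1 := Units.mul_inv B
    rw [h, h0, zero_smul, Matrix.zero_mul] at h1
    exact zero_ne_one (α := F) (by simpa using congrFun (congrFun h1 0) 0)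
  have : B = sc (Units.mk0 r hr) * A := Units.ext (by
    rw [Units.val_mul, sc_val, h, Units.val_mk0, Matrix.smul_mul, Matrix.one_mul])
  rw [← hA, ← hB, this, map_mul, innd_sc, one_mul]

theorem sq_scalar {a : X} (ha : a * a = 1) {A : GL (Fin 2) F} (hA : innd A = PGL.autHom e a) :
    ∃ r : F, A.val * A.val = scalar (Fin 2) r := by
  have h : (innd (A * A) : MulAut PSL2) = 1 := by rw [map_mul, hA, ← map_mul, ha, map_one]
  obtain ⟨r, hr⟩ := innd_eq_one h
  exact ⟨r, by rw [← Units.val_mul, ← hr]⟩

/-- Commuting elements of `diag`, one of them of order different from two, commute as matrices. -/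
theorem matrix_commute (hodd : Odd (Fintype.card F)) {a y : X} (ha : a * a = 1) (hy : y * y ≠ 1)
    (hay : Commute a y) {A Y : GL (Fin 2) F} (hA : innd A = PGL.autHom e a)
    (hY : innd Y = PGL.autHom e y) : A.val * Y.val = Y.val * A.val := by
  by_cases ha1 : a = 1
  · subst ha1
    rw [map_one] at hA
    obtain ⟨r, hr⟩ := innd_eq_one hA
    rw [← hr]
    exact (scalar_commute r (Commute.all r) Y.val).eq
  have h1 : (innd (A * Y) : MulAut PSL2) = innd (Y * A) := by
    rw [map_mul, map_mul, hA, hY, ← map_mul, ← map_mul, hay.eq]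
  obtain ⟨c, hc⟩ := (innd_eq_innd le_rfl).1 h1
  have hc' : A.val * Y.val = (c : F) • (Y.val * A.val) := by
    rw [← Units.val_mul, hc, Units.val_mul, sc_val, Units.val_mul, Matrix.smul_mul, Matrix.one_mul]
  obtain ⟨r, hr⟩ := sq_scalar e hC ha hA
  have hr0 : r ≠ 0 := fun h0 => by
    have h2 : A.val * A.val * ((A⁻¹).val * (A⁻¹).val) = 1 := by
      rw [Matrix.mul_assoc, ← Matrix.mul_assoc A.val (A⁻¹).val, Units.mul_inv, Matrix.one_mul,
        Units.mul_inv]
    rw [hr, h0, map_zero, Matrix.zero_mul] at h2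
    exact zero_ne_one (α := F) (by simpa using congrFun (congrFun h2 0) 0)
  have h3 : A.val * (A.val * Y.val) = ((c : F) * c) • (Y.val * (A.val * A.val)) := by
    rw [hc', Matrix.mul_smul, ← Matrix.mul_assoc, hc', Matrix.smul_mul, smul_smul, Matrix.mul_assoc]
  have hY0 : ∃ i j, Y.val i j ≠ 0 := by
    by_contra hne
    push Not at hne
    have h4 := Units.mul_inv Y
    rw [show Y.val = 0 from Matrix.ext hne, Matrix.zero_mul] at h4
    exact zero_ne_one (α := F) (by simpa using congrFun (congrFun h4 0) 0)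
  have hcc : (c : F) * c = 1 := by
    obtain ⟨i, j, hij⟩ := hY0
    have h5 := congrFun (congrFun h3 i) j
    rw [← Matrix.mul_assoc, hr] at h5
    simp [Matrix.scalar_apply, Matrix.diagonal_mul, Matrix.mul_diagonal] at h5
    refine mul_left_cancel₀ (mul_ne_zero hr0 hij) ?_
    linear_combination -h5
  rcases mul_self_eq_one_iff.1 hcc with hc1 | hc1
  · rwa [hc1, one_smul] at hc'
  exfalso
  rw [hc1, neg_one_smul] at hc'
  refine hy (PGL.autHom_injective e hC ?_)
  have ht : Y.val 1 1 = -Y.val 0 0 := by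
    have e00 := congrFun (congrFun hc' 0) 0
    have e01 := congrFun (congrFun hc' 0) 1
    have e10 := congrFun (congrFun hc' 1) 0
    have e11 := congrFun (congrFun hc' 1) 1
    simp only [mul_apply_two, Matrix.neg_apply] at e00 e01 e10 e11
    by_contra hne
    have hs : Y.val 0 0 + Y.val 1 1 ≠ 0 := fun h => hne (by linear_combination h)
    have h2 := two_ne_zero' hodd
    have s0 : A.val 0 1 = 0 ∧ A.val 1 0 = 0 → False := by
      rintro ⟨z1, z2⟩
      rw [z1, z2] at e00 e11
      have hA' := exists_entry (not_scalar e hC ha1 hA)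
      have hrA := congrFun (congrFun hr 0) 0
      have hrA' := congrFun (congrFun hr 1) 1
      simp [mul_apply_two, z1, z2] at hrA hrA'
      have hy0 : Y.val 0 0 = 0 := (mul_eq_zero.1 (show 2 * A.val 0 0 * Y.val 0 0 = 0 by
        linear_combination e00)).resolve_left (mul_ne_zero h2 fun h => hr0 (by rw [← hrA, h, mul_zero]))
      have hy1 : Y.val 1 1 = 0 := (mul_eq_zero.1 (show 2 * A.val 1 1 * Y.val 1 1 = 0 by
        linear_combination e11)).resolve_left (mul_ne_zero h2 fun h => hr0 (by rw [← hrA', h, mul_zero]))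
      exact hs (by rw [hy0, hy1, add_zero])
    have hA11 := trace_zero_of_sq (exists_entry (not_scalar e hC ha1 hA)) hr
    rw [hA11] at e01 e10
    exact s0 ⟨(mul_eq_zero.1 (show A.val 0 1 * (Y.val 0 0 + Y.val 1 1) = 0 by
        linear_combination e01)).resolve_right hs,
      (mul_eq_zero.1 (show A.val 1 0 * (Y.val 0 0 + Y.val 1 1) = 0 by
        linear_combination e10)).resolve_right hs⟩
  rw [map_mul, ← hY, ← map_mul, map_one]
  exact innd_scalar ⟨_, by rw [Units.val_mul]; exact (sq_eq_scalar ht).symm⟩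

/-- Elements of `diag` which are no involutions and commute with one involution commute. -/
theorem commute_of_commute_involution (hodd : Odd (Fintype.card F)) {a y y' : X}
    (had : a ∈ PGL.diag e) (hyd : y ∈ PGL.diag e) (hy'd : y' ∈ PGL.diag e) (ha : a * a = 1)
    (ha1 : a ≠ 1) (hy : y * y ≠ 1) (hy' : y' * y' ≠ 1) (h : Commute a y) (h' : Commute a y') :
    Commute y y' := by
  obtain ⟨A, hA⟩ := had
  obtain ⟨Y, hY⟩ := hyd
  obtain ⟨Y', hY'⟩ := hy'd
  have hc := commute_of_commute (exists_entry (not_scalar e hC ha1 hA))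
    (matrix_commute e hC hodd ha hy h hA hY) (matrix_commute e hC hodd ha hy' h' hA hY')
  refine PGL.autHom_injective e hC ?_
  rw [map_mul, map_mul, ← hY, ← hY', ← map_mul, ← map_mul]
  exact congrArg innd (Units.ext hc)

/-- An element of `diag` which is no involution commutes with at most one involution of `diag`. -/
theorem involution_unique (hodd : Odd (Fintype.card F)) {a b y : X}
    (had : a ∈ PGL.diag e) (hbd : b ∈ PGL.diag e) (hyd : y ∈ PGL.diag e) (ha : a * a = 1)
    (ha1 : a ≠ 1) (hb : b * b = 1) (hb1 : b ≠ 1) (hy : y * y ≠ 1) (h : Commute a y)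
    (h' : Commute b y) : a = b := by
  obtain ⟨A, hA⟩ := had
  obtain ⟨B, hB⟩ := hbd
  obtain ⟨Y, hY⟩ := hyd
  have hY1 : y ≠ 1 := fun h => hy (by rw [h, one_mul])
  have hAY := matrix_commute e hC hodd ha hy h hA hY
  have hBY := matrix_commute e hC hodd hb hy h' hB hY
  have hc := commute_of_commute (exists_entry (not_scalar e hC hY1 hY)) hAY.symm hBY.symm
  obtain ⟨r, hr⟩ := sq_scalar e hC ha hA
  obtain ⟨r', hr'⟩ := sq_scalar e hC hb hB
  have hAe := exists_entry (not_scalar e hC ha1 hA)
  obtain ⟨k, hk⟩ := proportional (trace_zero_of_sq hAe hr)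
    (trace_zero_of_sq (exists_entry (not_scalar e hC hb1 hB)) hr') (two_ne_zero' hodd) hAe hc
  exact eq_of_smul e hC hA hB hk

/-- Elements of odd order of `diag` lie in `E`. -/
theorem mem_of_odd_diag (hodd : Odd (Fintype.card F)) {x : X} (hxd : x ∈ PGL.diag e)
    (hx : Odd (orderOf x)) : x ∈ E := by
  haveI : (E.subgroupOf (PGL.diag e)).Normal := inferInstance
  have h2 := PGL.relIndex_diag_le e hodd hC
  have h : orderOf (QuotientGroup.mk' (E.subgroupOf (PGL.diag e)) ⟨x, hxd⟩) = 1 := by
    have h3 : orderOf (QuotientGroup.mk' (E.subgroupOf (PGL.diag e)) ⟨x, hxd⟩) ≤ 2 :=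
      (Nat.le_of_dvd Nat.card_pos (orderOf_dvd_natCard _)).trans (by rw [← index_eq_card]; exact h2)
    have h4 : Odd (orderOf (QuotientGroup.mk' (E.subgroupOf (PGL.diag e)) ⟨x, hxd⟩)) :=
      hx.of_dvd_nat ((orderOf_map_dvd _ _).trans (by rw [Subgroup.orderOf_mk]))
    obtain ⟨k, hk⟩ := h4
    omega
  exact mem_subgroupOf.1 ((QuotientGroup.eq_one_iff _).1 (orderOf_eq_one_iff.1 h))

/-- An element of odd order inverted by an element of `X` lies in `E`. -/
theorem mem_of_inverted (hodd : Odd (Fintype.card F)) {w x : X} (hw : w * w = 1)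
    (hx : Odd (orderOf x)) (hinv : w * x * w = x⁻¹) : x ∈ E := by
  refine mem_of_odd_diag e hC hodd ?_ hx
  haveI := PGL.diag_normal e
  rw [← QuotientGroup.eq_one_iff, ← orderOf_eq_one_iff]
  refine Nat.eq_one_of_dvd_coprimes (Nat.coprime_two_right.2 hx)
    (orderOf_map_dvd (QuotientGroup.mk' (PGL.diag e)) x) (orderOf_dvd_of_pow_eq_one ?_)
  rw [pow_two, ← QuotientGroup.mk_mul, QuotientGroup.eq_one_iff]
  refine PGL.commutator_le_diag e ?_
  have h : x * x = x * w * x⁻¹ * w⁻¹ := by
    rw [inv_eq_of_mul_eq_one_right hw, mul_assoc, mul_assoc, ← mul_assoc w, ← hinv]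
    simp only [← mul_assoc, hw, one_mul]
    rw [mul_assoc (x * x), hw, mul_one]
  rw [h, ← commutatorElement_def]
  exact Subgroup.commutator_mem_commutator (mem_top x) (mem_top w)

end Cfsg.Lib.GW.CMax.Diag
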