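import Cfsg.Agent.Lib.GW.OddMaxBender
import Cfsg.Agent.Lib.Coprime.PGroupAction

/-!
# Gorenstein–Walter, a maximal centralizer: each part of the Fitting subgroup is fixed or inverted

`C = C(t)` is maximal and `u` is an involution of `C` other than `t`.  If the maximal subgroups over
the normalizer of `C_R(u)`, `R = O_p(C)`, have no component, `u` centralizes or inverts `R`.
-/

set_option autoImplicit false
set_option linter.unusedSectionVars false
set_option linter.style.haveILetI false

namespace Cfsg.Lib.GW.CMax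

open Subgroup
open Cfsg.Agent.S1312 (Op op_le op_isPGroup le_normalizer_op op_commute)
open Cfsg.Lib.Sig.BenderPair (mem_op_of_fitting op_le_fitting inf_eq_bot op_le_left)

universe u

variable {G : Type u} [Group G] [Finite G]

/-- The hypothesis excluding components over the normalizer of `C_R(u)`. -/
def NoComponentOver (t u : G) (p : ℕ) : Prop :=
  Op p (centralizer ({t} : Set G)) ⊓ centralizer ({u} : Set G) ≠ ⊥ →
    ∀ N : Subgroup G, IsCoatom N →
      normalizer ((Op p (centralizer ({t} : Set G)) ⊓ centralizer ({u} : Set G) : Subgroup G) : Set G) ≤ N →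
        Cfsg.layer ↥N = ⊥

theorem centralizer_conj (a h : G) :
    (centralizer ({a} : Set G)).map (MulAut.conj h).toMonoidHom = centralizer ({h * a * h⁻¹} : Set G) := by
  ext x
  simp only [mem_map, MulEquiv.coe_toMonoidHom, MulAut.conj_apply, mem_centralizer_singleton_iff]
  constructor
  · rintro ⟨y, hy, rfl⟩
    calc h * y * h⁻¹ * (h * a * h⁻¹) = h * (y * a) * h⁻¹ := by group
      _ = h * (a * y) * h⁻¹ := by rw [hy]
      _ = _ := by group
  · intro hx
    refine ⟨h⁻¹ * x * h, ?_, by group⟩
    calc h⁻¹ * x * h * a = h⁻¹ * (x * (h * a * h⁻¹)) * h := by group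
      _ = h⁻¹ * (h * a * h⁻¹ * x) * h := by rw [hx]
      _ = _ := by group

/-- A maximal subgroup without components over the normalizer of a nontrivial subgroup of `R`
centralized by `u` forces `u` to centralize `R`. -/
theorem centralizes_of_componentless (hG : GWMin G) (h8 : 8 ∣ Nat.card G) {t u : G}
    (ht : orderOf t = 2) (hu : orderOf u = 2) (hne : u ≠ t) (hc : Commute t u)
    (hC : IsCoatom (centralizer ({t} : Set G))) {p : ℕ} [Fact p.Prime] (hp : p ≠ 2)
    {A : Subgroup G} (hAR : A ≤ Op p (centralizer ({t} : Set G))) (hA1 : A ≠ ⊥)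
    (hAu : ∀ a ∈ A, Commute u a) {N : Subgroup G}
    (hAN : normalizer (A : Set G) ≤ N) (hlN : Cfsg.layer ↥N = ⊥) :
    ∀ x ∈ Op p (centralizer ({t} : Set G)), Commute u x := by
  haveI := hG.isSimple
  haveI h2 : Fact (Nat.Prime 2) := ⟨Nat.prime_two⟩
  have htt := Cfsg.Lib.Invol.inv_mul_self ht
  have huu := Cfsg.Lib.Invol.inv_mul_self hu
  set C := centralizer ({t} : Set G) with hCdef
  have htC : t ∈ C := mem_centralizer_singleton_iff.2 rfl
  have huC : u ∈ C := mem_centralizer_singleton_iff.2 hc.symm.eq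
  have hfix : ∀ x ∈ C, Commute t x := fun x hx => (mem_centralizer_singleton_iff.1 hx).symm
  set R := Op p C with hR
  -- the central involution lies in the two-part
  have ht2 : Op 2 C ≠ ⊥ := by
    have hle : zpowers t ≤ Op 2 C := by
      refine Cfsg.Agent.S1312.le_op (zpowers_le.2 htC) (fun c hc' => ?_)
        (IsPGroup.of_card (n := 1) (by rw [Nat.card_zpowers, ht, pow_one]))
      refine centralizer_le_normalizer _ (mem_centralizer_iff.2 ?_)
      rintro _ ⟨k, rfl⟩
      exact ((hfix c hc').zpow_left k).eq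
    exact fun e => Cfsg.Lib.Invol.ne_one ht (mem_bot.1 (e ▸ hle (mem_zpowers t)))
  have hRne : R ≠ ⊥ := fun e => hA1 (eq_bot_iff.2 (hAR.trans e.le))
  have hcA : ∀ x, (∀ a ∈ A, Commute x a) → x ∈ N := fun x hx =>
    hAN (centralizer_le_normalizer _ (mem_centralizer_iff.2 fun a ha => (hx a ha).symm.eq))
  have htN : t ∈ N := hcA t fun a ha => hfix a (op_le p C (hAR ha))
  have hQF : A ≤ (Cfsg.fittingSubgroup ↥C).map C.subtype := hAR.trans (op_le_fitting C p)
  have hQN : (Cfsg.generalizedFittingSubgroup ↥C).map C.subtype ⊓ normalizer (A : Set G) ≤ N :=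
    inf_le_right.trans hAN
  -- the action of `t` on `F(N)`
  have hact : ∀ q : ℕ, q.Prime → (Op q N ≤ C) ∨ (∀ b ∈ Op q N, t * b * t = b⁻¹) := by
    intro q hq
    haveI : Fact q.Prime := ⟨hq⟩
    by_cases hqC : Op q C = ⊥
    · right
      intro b hb
      have hinf := inf_eq_bot hQF hQN q hqC
      refine inverts_of_fixed_trivial htt (fun r hr => ?_) (fun r hr hr' => ?_) hb
      · simpa [inv_eq_of_mul_eq_one_right htt] using conj_mem_op htN hr
      · have : r ∈ Op q N ⊓ C := ⟨hr, mem_centralizer_singleton_iff.2 hr'.symm.eq⟩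
        rwa [hinf, mem_bot] at this
    · left
      by_cases hqp : q = p
      · subst hqp
        exact op_le_left hC hQF hQN hp hqC ht2
      · exact op_le_left hC hQF hQN hqp hqC hRne
  -- the conjugate of `R` over `C(u)`
  set R' := Op p (centralizer ({u} : Set G)) with hR'
  have hR'p : IsPGroup p R' := op_isPGroup p _
  have htu : t ∈ centralizer ({u} : Set G) := mem_centralizer_singleton_iff.2 hc.eq
  have htR' : ∀ x ∈ R', t * x * t ∈ R' := fun x hx => by
    have h := conj_mem_op htu hx
    rwa [inv_eq_of_mul_eq_one_right htt] at h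
  have hAu' : ∀ a ∈ A, a ∈ centralizer ({u} : Set G) := fun a ha => mem_centralizer_singleton_iff.2 (hAu a ha).symm.eq
  set X := R' ⊓ centralizer (A : Set G) with hX
  have hXt : X ≤ centralizer ({t} : Set G) := by
    refine OddMax.le_of_fixed_inverted htt (fun x hx => ⟨htR' x hx.1, ?_⟩)
      (fun x hx => conj_odd hp hR'p hx.1) (fun x _ h => mem_centralizer_singleton_iff.2 h.symm.eq) ?_
    · refine mem_centralizer_iff.2 fun a ha => ?_
      have h1 : Commute a t := (hfix a (op_le p C (hAR ha))).symm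
      exact ((h1.mul_right (mem_centralizer_iff.1 hx.2 a ha)).mul_right h1).eq
    intro x hx hxi
    have hxN : x ∈ N := hcA x fun a ha => (mem_centralizer_iff.1 hx.2 a ha).symm
    have hxo : Odd (orderOf x) := conj_odd hp hR'p hx.1
    have hxF : x ∈ (Cfsg.fittingSubgroup ↥N).map N.subtype := by
      refine OddMax.mem_fitting_of_commute hlN hxN fun q hq m hm => ?_
      haveI : Fact q.Prime := ⟨hq⟩
      have hm' : x * m * x⁻¹ ∈ Op q N := conj_mem_op hxN hm
      rcases hact q hq with h | h
      · exact commute_of_inverted_fixed htt hxi (hfix m (h hm)) (hfix _ (h hm')) hxo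
      · exact commute_of_inverted_inverted htt hxi (h m hm) (h _ hm') hxo
    obtain ⟨k, hk⟩ := hR'p ⟨x, hx.1⟩
    have hxp : x ∈ Op p N := mem_op_of_fitting hxF ⟨k, congrArg Subtype.val hk⟩
    exact op_le_left hC hQF hQN hp hRne ht2 hxp
  -- `A × ⟨t⟩` acting on `R'`
  have hQcop : (Nat.card (zpowers t)).Coprime p := by
    rw [Nat.card_zpowers, ht]
    exact (Nat.coprime_primes Nat.prime_two Fact.out).2 (Ne.symm hp)
  have hbot := Cfsg.Lib.Coprime.commutator_eq_bot_of_AxB R' A (zpowers t) hR'p
    ((op_isPGroup p C).to_le hAR) hQcop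
    (fun a ha => le_normalizer_op p _ (hAu' a ha))
    (zpowers_le.2 (le_normalizer_op p _ htu))
    (zpowers_le.2 (mem_centralizer_iff.2 fun a ha => (hfix a (op_le p C (hAR ha))).symm.eq))
    (fun x hx => mem_centralizer_iff.2 (by
      rintro _ ⟨k, rfl⟩
      exact ((hfix x (hXt hx)).zpow_left k).eq))
  have hR't : ∀ y ∈ R', Commute t y := fun y hy =>
    (mem_centralizer_iff.1 (commutator_eq_bot_iff_le_centralizer.1 hbot hy) t (mem_zpowers t))
  -- back to `R`
  obtain ⟨g, -, hgt, hgu, -, -⟩ := OddMax.exists_frame hG h8 ht hu hne hc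
  intro x hx
  have hx' : g * x * g⁻¹ ∈ R' := by
    rw [hR', ← hgt, ← centralizer_conj, op_map_conj]
    exact ⟨x, hx, rfl⟩
  have h := fixed_conj (h := g⁻¹) (hR't _ hx')
  rwa [inv_inv, show g⁻¹ * t * g = u by rw [← hgu]; group,
    show g⁻¹ * (g * x * g⁻¹) * g = x by group] at h


/-- Dichotomy. -/
theorem centralizes_or_inverts (hG : GWMin G) (h8 : 8 ∣ Nat.card G) {t u : G} (ht : orderOf t = 2)
    (hu : orderOf u = 2) (hne : u ≠ t) (hc : Commute t u)
    (hC : IsCoatom (centralizer ({t} : Set G))) {p : ℕ} [Fact p.Prime] (hp : p ≠ 2)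
    (hnl : NoComponentOver t u p) :
    (∀ x ∈ Op p (centralizer ({t} : Set G)), Commute u x) ∨
      (∀ x ∈ Op p (centralizer ({t} : Set G)), u * x * u = x⁻¹) := by
  haveI := hG.isSimple
  haveI h2 : Fact (Nat.Prime 2) := ⟨Nat.prime_two⟩
  have htt := Cfsg.Lib.Invol.inv_mul_self ht
  have huu := Cfsg.Lib.Invol.inv_mul_self hu
  set C := centralizer ({t} : Set G) with hCdef
  have htC : t ∈ C := mem_centralizer_singleton_iff.2 rfl
  have huC : u ∈ C := mem_centralizer_singleton_iff.2 hc.symm.eq
  have hfix : ∀ x ∈ C, Commute t x := fun x hx => (mem_centralizer_singleton_iff.1 hx).symm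
  set R := Op p C with hR
  set A := R ⊓ centralizer ({u} : Set G) with hA
  by_cases hA1 : A = ⊥
  · right
    intro x hx
    refine inverts_of_fixed_trivial huu (fun r hr => ?_) (fun r hr hr' => ?_) hx
    · have h := conj_mem_op huC hr
      rwa [inv_eq_of_mul_eq_one_right huu] at h
    · have : r ∈ A := ⟨hr, mem_centralizer_singleton_iff.2 hr'.symm.eq⟩
      rwa [hA1, mem_bot] at this
  refine Or.inl ?_
  obtain ⟨N, hN, hAN⟩ : ∃ N : Subgroup G, IsCoatom N ∧ normalizer (A : Set G) ≤ N := by
    refine (eq_top_or_exists_le_coatom _).resolve_left fun e => ?_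
    rcases IsSimpleGroup.eq_bot_or_eq_top_of_normal A (normalizer_eq_top_iff.1 e) with h' | h'
    · exact hA1 h'
    · exact hC.1 (top_le_iff.1 (h' ▸ inf_le_left.trans (op_le p C)))
  exact centralizes_of_componentless hG h8 ht hu hne hc hC hp inf_le_left hA1
    (fun a ha => (mem_centralizer_singleton_iff.1 ha.2).symm) hAN (hnl hA1 N hN hAN)

end Cfsg.Lib.GW.CMax
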