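import Cfsg.Agent.Lib.GW.CaseA
import Cfsg.Agent.Lib.Core.Layer

/-!
# The odd part of a maximal centralizer of an involution: generalities

`U = oddSub σ h`, `fitSub` its Fitting subgroup and `coreP` its `O_p`, as subgroups of `G`.
Reflections acting on every `O_p` as `±1` centralise `U` modulo the Fitting subgroup.
-/

set_option autoImplicit false
set_option linter.unusedSectionVars false
set_option linter.style.haveILetI false
set_option maxHeartbeats 800000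

namespace Cfsg.Lib.GW.CMax

open Cfsg Cfsg.Lib.Block
open Cfsg.Lib.Block.DihSylow (oddPart mem_oddPart)

universe u

variable {G : Type u} [Group G] [Fintype G]

/-- The odd part as a subgroup. -/
noncomputable def oddSub (σ : G) (h : ℕ) : Subgroup G := Subgroup.closure (oddPart σ h : Set G)

/-- The largest normal `p`-subgroup of the odd part. -/
noncomputable def coreP (σ : G) (h p : ℕ) : Subgroup G :=
  (Cfsg.pCore p (oddSub σ h)).map (oddSub σ h).subtype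

/-- The Fitting subgroup of the odd part. -/
noncomputable def fitSub (σ : G) (h : ℕ) : Subgroup G :=
  (Cfsg.fittingSubgroup (oddSub σ h)).map (oddSub σ h).subtype

/-- `x` centralises or inverts every `O_p` of the odd part. -/
def ActsPM (σ : G) (h : ℕ) (x : G) : Prop :=
  ∀ p : ℕ, p.Prime →
    (∀ a ∈ coreP σ h p, Commute x a) ∨ (∀ a ∈ coreP σ h p, x * a * x⁻¹ = a⁻¹)

theorem fitSub_le {σ : G} {h : ℕ} : fitSub σ h ≤ oddSub σ h := Subgroup.map_subtype_le _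

theorem coreP_le {σ : G} {h p : ℕ} : coreP σ h p ≤ oddSub σ h := Subgroup.map_subtype_le _

theorem isPGroup_coreP {σ : G} {h p : ℕ} : IsPGroup p (coreP σ h p) :=
  (Cfsg.Lib.Core.pCore_isPGroup p _).map _

theorem coreP_le_fitSub {σ : G} {h p : ℕ} (hp : p.Prime) : coreP σ h p ≤ fitSub σ h := by
  haveI : Fact p.Prime := ⟨hp⟩
  exact Subgroup.map_mono (Cfsg.Lib.Core.pCore_le_fittingSubgroup p _)

theorem fitSub_induction {σ : G} {h : ℕ} (T : Subgroup G)
    (hT : ∀ p : ℕ, p.Prime → coreP σ h p ≤ T) : fitSub σ h ≤ T := by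
  rw [fitSub, Cfsg.Lib.Core.fittingSubgroup_eq_iSup_pCore, Subgroup.map_iSup]
  exact iSup_le fun p => hT p p.2

theorem conj_mem_map_char {U : Subgroup G} {c : G} (hc : ∀ a ∈ U, c * a * c⁻¹ ∈ U)
    (T : Subgroup U) [hT : T.Characteristic] {a : G} (ha : a ∈ T.map U.subtype) :
    c * a * c⁻¹ ∈ T.map U.subtype := by
  classical
  have hcN : c ∈ Subgroup.normalizer (U : Set G) := Subgroup.mem_normalizer_fintype hc
  haveI : (U.subgroupOf (Subgroup.normalizer (U : Set G))).Normal := inferInstance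
  obtain ⟨a, ha, rfl⟩ := ha
  let e : U ≃* U :=
    { toFun := fun y => ⟨c * (y : G) * c⁻¹, (Subgroup.mem_normalizer_iff.1 hcN _).1 y.2⟩
      invFun := fun y => ⟨c⁻¹ * (y : G) * c, (Subgroup.mem_normalizer_iff''.1 hcN _).1 y.2⟩
      left_inv := fun y => Subtype.ext (by show c⁻¹ * (c * (y : G) * c⁻¹) * c = y; group)
      right_inv := fun y => Subtype.ext (by show c * (c⁻¹ * (y : G) * c) * c⁻¹ = y; group)
      map_mul' := fun a b => Subtype.ext (by
        show c * ((a : G) * b) * c⁻¹ = c * a * c⁻¹ * (c * b * c⁻¹); group) }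
  have h1 : e a ∈ T := by
    have := hT.fixed e
    rw [← this] at ha
    exact ha
  exact ⟨e a, h1, rfl⟩

variable [Fact (Nat.Prime 2)] {P : Sylow 2 G} {σ τ : G} {h : ℕ} (D : DihSylow P σ τ h)

include D

theorem mem_oddSub {y : G} : y ∈ oddSub σ h ↔ y ∈ oddPart σ h := by
  refine ⟨fun hy => ?_, fun hy => Subgroup.subset_closure hy⟩
  obtain ⟨h1, hmul, hinv, -, -, -, -⟩ := D.oddPart_spec
  refine Subgroup.closure_induction (fun x hx => hx) h1 (fun a b _ _ ha hb => hmul a ha b hb)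
    (fun a _ ha => hinv a ha) hy

theorem commute_J {y : G} (hy : y ∈ oddSub σ h) : Commute y (σ ^ h) :=
  (mem_oddPart.1 ((mem_oddSub D).1 hy)).1

theorem odd_orderOf {y : G} (hy : y ∈ oddSub σ h) : Odd (orderOf y) :=
  (mem_oddPart.1 ((mem_oddSub D).1 hy)).2

theorem eq_one_of_inverted {x y : G} (hy : y ∈ oddSub σ h) (hc : Commute x y)
    (hi : x * y * x⁻¹ = y⁻¹) : y = 1 := by
  rw [hc.eq, mul_inv_cancel_right] at hi
  rcases (Nat.dvd_prime Nat.prime_two).1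
    (orderOf_dvd_of_pow_eq_one (x := y) (n := 2) (by rw [pow_two]; exact mul_eq_one_iff_eq_inv.2 hi))
    with h5 | h5
  · exact orderOf_eq_one_iff.1 h5
  · have := odd_orderOf D hy
    rw [h5] at this
    exact absurd this (by decide)

theorem eq_one_of_two_pow {y : G} (hy : y ∈ oddSub σ h) {k : ℕ} (hk : y ^ (2 ^ k) = 1) : y = 1 :=
  orderOf_eq_one_iff.1 (Nat.eq_one_of_dvd_coprimes
    ((Nat.coprime_two_right.2 (odd_orderOf D hy)).pow_right k) (dvd_refl _)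
    (orderOf_dvd_of_pow_eq_one hk))

theorem conj_oddSub {c y : G} (hc : Commute c (σ ^ h)) (hy : y ∈ oddSub σ h) :
    c * y * c⁻¹ ∈ oddSub σ h :=
  (mem_oddSub D).2 (D.oddPart_spec.2.2.2.1 c hc y ((mem_oddSub D).1 hy))

theorem conj_coreP {p : ℕ} {c a : G} (hc : Commute c (σ ^ h)) (ha : a ∈ coreP σ h p) :
    c * a * c⁻¹ ∈ coreP σ h p :=
  conj_mem_map_char (fun _ hb => conj_oddSub D hc hb) _ ha

theorem conj_fitSub {c a : G} (hc : Commute c (σ ^ h)) (ha : a ∈ fitSub σ h) :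
    c * a * c⁻¹ ∈ fitSub σ h :=
  conj_mem_map_char (fun _ hb => conj_oddSub D hc hb) _ ha

theorem isSolvable_oddSub : Group.IsSolvable (oddSub σ h) := by
  refine Cfsg.Agent.S0205.result (Nat.not_even_iff_odd.1 fun hev => ?_)
  obtain ⟨y, hy⟩ := exists_prime_orderOf_dvd_card' 2 (even_iff_two_dvd.1 hev)
  have := odd_orderOf D y.2
  rw [Subgroup.orderOf_coe, hy] at this
  exact absurd this (by decide)

theorem mem_fitSub_of_commute {y : G} (hy : y ∈ oddSub σ h)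
    (hc : ∀ a ∈ fitSub σ h, Commute y a) : y ∈ fitSub σ h := by
  haveI := isSolvable_oddSub D
  exact ⟨⟨y, hy⟩, Cfsg.Lib.Core.centralizer_fitting_le_of_isSolvable
    (Subgroup.mem_centralizer_iff.2 fun a ha => Subtype.ext (hc a ⟨a, ha, rfl⟩).eq.symm), rfl⟩

theorem mem_coreP_of_mem_fitSub {p : ℕ} (hp : p.Prime) {a : G} (ha : a ∈ fitSub σ h) {k : ℕ}
    (hk : a ^ p ^ k = 1) : a ∈ coreP σ h p := by
  haveI : Fact p.Prime := ⟨hp⟩
  obtain ⟨b, hb, rfl⟩ := ha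
  refine ⟨b, ?_, rfl⟩
  set F := Cfsg.fittingSubgroup (oddSub σ h) with hF
  haveI := Cfsg.Lib.Core.fittingSubgroup_isNilpotent (oddSub σ h)
  haveI : F.Normal := Cfsg.Lib.Core.fittingSubgroup_normal' _
  obtain ⟨R⟩ : Nonempty (Sylow p F) := inferInstance
  have hRn : (R : Subgroup F).Normal :=
    Sylow.normal_of_normalizerCondition Group.normalizerCondition_of_isNilpotent R
  haveI := R.characteristic_of_normal hRn
  have hle := Cfsg.Lib.Core.le_pCore' (p := p)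
    (Cfsg.Lib.Core.normal_map_char_of_normal (R : Subgroup F)) (R.2.map _)
  refine hle ⟨⟨b, hb⟩, ?_, rfl⟩
  have hpg : IsPGroup p (Subgroup.zpowers (⟨b, hb⟩ : F)) := by
    obtain ⟨j, -, hj⟩ := (Nat.dvd_prime_pow hp).1
      (orderOf_dvd_of_pow_eq_one (x := (⟨b, hb⟩ : F)) (Subtype.ext (Subtype.ext (by simpa using hk))))
    exact IsPGroup.of_card (n := j) (by rw [Nat.card_zpowers, hj])
  obtain ⟨R', hR'⟩ := hpg.exists_le_sylow
  have : R' = R := by
    let _ := Sylow.unique_of_normal R hRn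
    exact Subsingleton.elim _ _
  exact this ▸ hR' (Subgroup.mem_zpowers _)

theorem commute_coreP {p q : ℕ} (hp : p.Prime) (hq : q.Prime) (hpq : p ≠ q) {a b : G}
    (ha : a ∈ coreP σ h p) (hb : b ∈ coreP σ h q) : Commute a b := by
  have h1 : a * b * a⁻¹ * b⁻¹ ∈ coreP σ h p := by
    rw [show a * b * a⁻¹ * b⁻¹ = a * (b * a⁻¹ * b⁻¹) by group]
    exact mul_mem ha (conj_coreP D (commute_J D (coreP_le hb)) (inv_mem ha))
  have h2 : a * b * a⁻¹ * b⁻¹ ∈ coreP σ h q :=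
    mul_mem (conj_coreP D (commute_J D (coreP_le ha)) hb) (inv_mem hb)
  obtain ⟨i, hi⟩ := isPGroup_coreP (p := p) ⟨_, h1⟩
  obtain ⟨j, hj⟩ := isPGroup_coreP (p := q) ⟨_, h2⟩
  have e := Nat.eq_one_of_dvd_coprimes (Nat.coprime_pow_primes i j hp hq hpq)
    (orderOf_dvd_of_pow_eq_one (congrArg Subtype.val hi))
    (orderOf_dvd_of_pow_eq_one (congrArg Subtype.val hj))
  exact commutatorElement_eq_one_iff_commute.1 (by
    rw [commutatorElement_def]; exact orderOf_eq_one_iff.1 e)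

theorem commute_fitSub {g : G} (hg : ∀ p : ℕ, p.Prime → ∀ a ∈ coreP σ h p, Commute g a) :
    ∀ a ∈ fitSub σ h, Commute g a := by
  intro a ha
  have := fitSub_induction (Subgroup.centralizer ({g} : Set G)) (fun p hp b hb =>
    Subgroup.mem_centralizer_singleton_iff.2 (hg p hp b hb).symm.eq) ha
  exact (show Commute a g from Subgroup.mem_centralizer_singleton_iff.1 this).symm

/-- An `O_p` inverted by an element is central in the Fitting subgroup. -/
theorem commute_fitSub_of_inverted {p : ℕ} (hp : p.Prime) {g : G}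
    (hg : ∀ a ∈ coreP σ h p, g * a * g⁻¹ = a⁻¹) {a : G} (ha : a ∈ coreP σ h p) :
    ∀ b ∈ fitSub σ h, Commute a b := by
  refine commute_fitSub D fun q hq b hb => ?_
  by_cases hpq : p = q
  · subst hpq
    have e := hg _ (mul_mem ha hb)
    rw [show g * (a * b) * g⁻¹ = (g * a * g⁻¹) * (g * b * g⁻¹) by group, hg _ ha, hg _ hb] at e
    have := congrArg (·⁻¹) e
    simp only [mul_inv_rev, inv_inv] at this
    exact this.symm
  · exact commute_coreP D hp hq hpq ha hb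

theorem inverts_fitSub {g : G} (hg : ∀ p : ℕ, p.Prime → ∀ a ∈ coreP σ h p, g * a * g⁻¹ = a⁻¹) :
    ∀ a ∈ fitSub σ h, g * a * g⁻¹ = a⁻¹ := by
  let T : Subgroup G :=
    { carrier := {a | a ∈ fitSub σ h ∧ (∀ b ∈ fitSub σ h, Commute a b) ∧ g * a * g⁻¹ = a⁻¹}
      one_mem' := ⟨one_mem _, fun b _ => Commute.one_left b, by simp⟩
      mul_mem' := fun {a b} ha hb => ⟨mul_mem ha.1 hb.1,
        fun c hc => (ha.2.1 c hc).mul_left (hb.2.1 c hc), by
          rw [show g * (a * b) * g⁻¹ = (g * a * g⁻¹) * (g * b * g⁻¹) by group, ha.2.2, hb.2.2,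
            (ha.2.1 b hb.1).eq, mul_inv_rev]⟩
      inv_mem' := fun {a} ha => ⟨inv_mem ha.1, fun c hc => (ha.2.1 c hc).inv_left, by
        rw [← conj_inv, ha.2.2]⟩ }
  intro a ha
  have h1 : a ∈ T := fitSub_induction T (fun p hp b hb =>
    show b ∈ fitSub σ h ∧ (∀ c ∈ fitSub σ h, Commute b c) ∧ g * b * g⁻¹ = b⁻¹ from
      ⟨coreP_le_fitSub hp hb, commute_fitSub_of_inverted D hp (hg p hp) hb, hg p hp b hb⟩) ha
  exact h1.2.2

/-- An element of the Sylow subgroup centralising the Fitting subgroup centralises the odd part. -/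
theorem commute_oddSub {x : G} (hx : x ∈ (P : Subgroup G))
    (hfix : ∀ a ∈ fitSub σ h, Commute x a) : ∀ y ∈ oddSub σ h, Commute x y := by
  intro y hy
  have hxJ : Commute x (σ ^ h) := D.central_involution.2.2 x hx
  have hyJ := commute_J D hy
  obtain ⟨d, hd⟩ : ∃ d, d = x * y * x⁻¹ * y⁻¹ := ⟨_, rfl⟩
  have hdU : d ∈ oddSub σ h := hd ▸ mul_mem (conj_oddSub D hxJ hy) (inv_mem hy)
  have hdF : d ∈ fitSub σ h := by
    refine mem_fitSub_of_commute D hdU fun a ha => ?_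
    have hb : y⁻¹ * a * y ∈ fitSub σ h := by
      have := conj_fitSub D hyJ.inv_left ha
      rwa [inv_inv] at this
    show d * a = a * d
    calc d * a = x * y * (x⁻¹ * (y⁻¹ * a * y)) * y⁻¹ := by rw [hd]; group
      _ = x * y * ((y⁻¹ * a * y) * x⁻¹) * y⁻¹ := by rw [(hfix _ hb).inv_left.eq]
      _ = x * a * x⁻¹ * (x * y * x⁻¹ * y⁻¹) := by group
      _ = a * d := by rw [(hfix a ha).eq, mul_inv_cancel_right, hd]
  have hdx : Commute x d := hfix d hdF
  have hit : ∀ k : ℕ, x ^ k * y * (x ^ k)⁻¹ = d ^ k * y := by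
    intro k
    induction k with
    | zero => simp
    | succ k ih =>
      calc x ^ (k + 1) * y * (x ^ (k + 1))⁻¹ = x * (x ^ k * y * (x ^ k)⁻¹) * x⁻¹ := by
            rw [pow_succ']; group
        _ = x * d ^ k * x⁻¹ * (x * y * x⁻¹) := by rw [ih]; group
        _ = d ^ k * (x * y * x⁻¹) := by rw [(hdx.pow_right k).eq, mul_inv_cancel_right]
        _ = d ^ (k + 1) * y := by
            rw [pow_succ, show x * y * x⁻¹ = d * y by rw [hd]; group, mul_assoc]
  obtain ⟨k, hk⟩ := D.exists_order hx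
  have e := hit (2 ^ k)
  rw [← hk, pow_orderOf_eq_one, one_mul, inv_one, mul_one] at e
  have hd1 : d = 1 := eq_one_of_two_pow D hdU (k := k) (hk ▸ mul_eq_right.1 e.symm)
  rw [hd] at hd1
  exact mul_inv_eq_iff_eq_mul.1 (mul_inv_eq_one.1 hd1)

/-- Elements acting as `±1` on every `O_p` centralise the odd part modulo the Fitting subgroup. -/
theorem diff_mem {x : G} (hx : x ∈ (P : Subgroup G)) (hx2 : x * x = 1) (hpm : ActsPM σ h x)
    {y : G} (hy : y ∈ oddSub σ h) : y * x * y⁻¹ * x⁻¹ ∈ fitSub σ h := by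
  have hxJ : Commute x (σ ^ h) := D.central_involution.2.2 x hx
  have hyJ := commute_J D hy
  have hxi : x⁻¹ = x := inv_eq_of_mul_eq_one_right hx2
  obtain ⟨e, he⟩ : ∃ e, e = y * x * y⁻¹ * x⁻¹ := ⟨_, rfl⟩
  rw [← he]
  have heU : e ∈ oddSub σ h := by
    have := mul_mem hy (conj_oddSub D hxJ (inv_mem hy))
    rw [he]
    convert this using 1
    group
  refine mem_fitSub_of_commute D heU (commute_fitSub D fun p hp a ha => ?_)
  obtain ⟨b, hb⟩ : ∃ b, b = y⁻¹ * a * y := ⟨_, rfl⟩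
  have hbm : b ∈ coreP σ h p := by
    have := conj_coreP D hyJ.inv_left ha
    rw [inv_inv, ← hb] at this
    exact this
  have key : e * a * e⁻¹ = a := by
    rcases hpm p hp with hp' | hp'
    · calc e * a * e⁻¹ = y * x * y⁻¹ * (x⁻¹ * a * x) * y * x⁻¹ * y⁻¹ := by rw [he]; group
        _ = y * (x * b * x⁻¹) * y⁻¹ := by
            rw [(hp' a ha).inv_left.eq, inv_mul_cancel_right, hb]; group
        _ = a := by rw [(hp' b hbm).eq, mul_inv_cancel_right, hb]; group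
    · have hxa : x⁻¹ * a * x = a⁻¹ := by
        have := hp' a ha
        rwa [hxi] at this ⊢
      calc e * a * e⁻¹ = y * x * y⁻¹ * (x⁻¹ * a * x) * y * x⁻¹ * y⁻¹ := by rw [he]; group
        _ = y * (x * b⁻¹ * x⁻¹) * y⁻¹ := by rw [hxa, hb]; group
        _ = a := by rw [hp' _ (inv_mem hbm), inv_inv, hb]; group
  exact mul_inv_eq_iff_eq_mul.1 key

/-- The odd part is the product of the Fitting subgroup and the fixed points. -/
theorem exists_decomp {x : G} (hx : x ∈ (P : Subgroup G)) (hx2 : x * x = 1) (hpm : ActsPM σ h x)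
    {y : G} (hy : y ∈ oddSub σ h) :
    ∃ f ∈ fitSub σ h, ∃ w ∈ oddSub σ h, Commute w x ∧ y = f * w := by
  have hxi : x⁻¹ = x := inv_eq_of_mul_eq_one_right hx2
  obtain ⟨d, hd⟩ : ∃ d, d = y * x * y⁻¹ * x⁻¹ := ⟨_, rfl⟩
  have hdF : d ∈ fitSub σ h := hd ▸ diff_mem D hx hx2 hpm hy
  obtain ⟨c, hc⟩ := odd_orderOf D (fitSub_le hdF)
  obtain ⟨f, hf⟩ : ∃ f, f = d ^ (c + 1) := ⟨_, rfl⟩
  have hfF : f ∈ fitSub σ h := hf ▸ pow_mem hdF _
  have hff : f * f = d := by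
    rw [hf, ← pow_add, show c + 1 + (c + 1) = orderOf d + 1 by omega, pow_succ, pow_orderOf_eq_one,
      one_mul]
  have hxd : x * d * x⁻¹ = d⁻¹ := by
    rw [hd, hxi]
    calc x * (y * x * y⁻¹ * x) * x = x * y * x * y⁻¹ * (x * x) := by group
      _ = _ := by rw [hx2, mul_one]; simp [mul_inv_rev, hxi, mul_assoc]
  have hxf : x * f * x⁻¹ = f⁻¹ := by rw [hf, ← conj_pow, hxd, inv_pow]
  refine ⟨f, hfF, f⁻¹ * y, mul_mem (inv_mem (fitSub_le hfF)) hy, ?_, by group⟩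
  have e1 : x * y * x⁻¹ = d⁻¹ * y := by rw [hd]; group
  have e2 : x * (f⁻¹ * y) * x⁻¹ = f⁻¹ * y := by
    calc x * (f⁻¹ * y) * x⁻¹ = (x * f * x⁻¹)⁻¹ * (x * y * x⁻¹) := by group
      _ = f * (d⁻¹ * y) := by rw [hxf, e1, inv_inv]
      _ = f⁻¹ * y := by rw [← hff]; group
  exact (mul_inv_eq_iff_eq_mul.1 e2).symm

theorem reflection_mem {x : G} (hx : x ∈ (P : Subgroup G)) (hx' : x ∉ Subgroup.zpowers σ) :
    x * x = 1 ∧ x ≠ 1 ∧ x ≠ σ ^ h :=
  ⟨D.sq_outside hx hx', fun e => hx' (e ▸ one_mem _), fun e => hx' (e ▸ D.mem_pow h)⟩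

/-- An element moving the central involution which normalises the fixed points of a reflection. -/
theorem exists_moving (hconjJ : ∀ a : G, a * a = 1 → a ≠ 1 → IsConj (σ ^ h) a) {x : G}
    (hx : x ∈ (P : Subgroup G)) (hx' : x ∉ Subgroup.zpowers σ) :
    ∃ d, d * x * d⁻¹ = x ∧ d * σ ^ h * d⁻¹ = x * σ ^ h ∧
      (∀ y ∈ oddSub σ h, Commute y x →
        d * y * d⁻¹ ∈ oddSub σ h ∧ Commute (d * y * d⁻¹) x) ∧
      (∀ y ∈ oddSub σ h, Commute y x →
        d⁻¹ * y * d ∈ oddSub σ h ∧ Commute (d⁻¹ * y * d) x) := by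
  obtain ⟨hJ2, hJ1, hJc⟩ := D.central_involution
  obtain ⟨hx2, hx1, hxJ⟩ := reflection_mem D hx hx'
  obtain ⟨z, hz⟩ := isConj_iff.1 (hconjJ x hx2 hx1)
  have hJx : Commute x (σ ^ h) := hJc x hx
  have ha2 : z⁻¹ * σ ^ h * z * (z⁻¹ * σ ^ h * z) = 1 := by
    rw [show z⁻¹ * σ ^ h * z * (z⁻¹ * σ ^ h * z) = z⁻¹ * (σ ^ h * σ ^ h) * z by group, hJ2]
    group
  have hac : Commute (z⁻¹ * σ ^ h * z) (σ ^ h) := by
    have e := hJx.symm.map (MulAut.conj z⁻¹).toMonoidHom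
    simp only [MulEquiv.coe_toMonoidHom, MulAut.conj_apply, inv_inv] at e
    have e' : z⁻¹ * x * z = σ ^ h := by rw [← hz]; group
    rwa [e'] at e
  obtain ⟨c₀, hc₀, hc₀P⟩ := exists_conj_mem D ha2 hac
  obtain ⟨z₁, hz₁⟩ : ∃ z₁, z₁ = z * c₀⁻¹ := ⟨_, rfl⟩
  obtain ⟨x', hx''⟩ : ∃ x', x' = z₁⁻¹ * σ ^ h * z₁ := ⟨_, rfl⟩
  have hzJ : z₁ * σ ^ h * z₁⁻¹ = x := by
    rw [← hz, hz₁]
    calc z * c₀⁻¹ * σ ^ h * (z * c₀⁻¹)⁻¹ = z * c₀⁻¹ * (σ ^ h * c₀) * z⁻¹ := by group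
      _ = z * σ ^ h * z⁻¹ := by rw [← hc₀.eq]; group
  have hx'P : x' ∈ (P : Subgroup G) := by
    rw [hx'', hz₁]
    convert hc₀P using 1
    group
  have hzx' : z₁ * x' * z₁⁻¹ = σ ^ h := by rw [hx'']; group
  have hx'σ : x' ∉ Subgroup.zpowers σ := by
    intro hm
    have hx'2 : x' * x' = 1 := by
      rw [hx'']
      calc z₁⁻¹ * σ ^ h * z₁ * (z₁⁻¹ * σ ^ h * z₁) = z₁⁻¹ * (σ ^ h * σ ^ h) * z₁ := by group
        _ = 1 := by rw [hJ2]; group
    rcases D.eq_central_of_sq hm hx'2 with e | e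
    · rw [e] at hzx'
      exact hJ1 (by rw [← hzx']; group)
    · rw [e, hzJ] at hzx'
      exact hxJ hzx'
  obtain ⟨i, -, hi⟩ := D.reflection_iff.1 ⟨hx'P, hx'σ⟩
  obtain ⟨m, hm⟩ := D.even
  have hρ : σ ^ m * x' * (σ ^ m)⁻¹ = σ ^ h * x' := by
    rw [hi, D.conj_pow_reflection, ← mul_assoc (σ ^ h), ← pow_add]
    congr 2
    omega
  obtain ⟨d, hd⟩ : ∃ d, d = z₁ * σ ^ m * z₁⁻¹ := ⟨_, rfl⟩
  have hdx : d * x * d⁻¹ = x := by
    rw [hd, ← hzJ]
    calc z₁ * σ ^ m * z₁⁻¹ * (z₁ * σ ^ h * z₁⁻¹) * (z₁ * σ ^ m * z₁⁻¹)⁻¹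
        = z₁ * (σ ^ m * σ ^ h * (σ ^ m)⁻¹) * z₁⁻¹ := by group
      _ = z₁ * σ ^ h * z₁⁻¹ := by
          rw [((Commute.refl σ).pow_pow m h).eq, mul_inv_cancel_right]
  have hdJ : d * σ ^ h * d⁻¹ = x * σ ^ h := by
    have e : x * σ ^ h = z₁ * (σ ^ h * x') * z₁⁻¹ := by
      calc x * σ ^ h = (z₁ * σ ^ h * z₁⁻¹) * (z₁ * x' * z₁⁻¹) := by rw [hzJ, hzx']
        _ = z₁ * (σ ^ h * x') * z₁⁻¹ := by group
    rw [hd, e]
    calc z₁ * σ ^ m * z₁⁻¹ * σ ^ h * (z₁ * σ ^ m * z₁⁻¹)⁻¹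
        = z₁ * (σ ^ m * (z₁⁻¹ * σ ^ h * z₁) * (σ ^ m)⁻¹) * z₁⁻¹ := by group
      _ = z₁ * (σ ^ h * x') * z₁⁻¹ := by rw [← hx'', hρ]
  have hstep : ∀ g : G, g * x * g⁻¹ = x → g * σ ^ h * g⁻¹ = x * σ ^ h →
      ∀ y ∈ oddSub σ h, Commute y x →
        g * y * g⁻¹ ∈ oddSub σ h ∧ Commute (g * y * g⁻¹) x := by
    intro g hgx hgJ y hy hyx
    have e1 : Commute (g * y * g⁻¹) x := by
      have e := hyx.map (MulAut.conj g).toMonoidHom
      simp only [MulEquiv.coe_toMonoidHom, MulAut.conj_apply] at e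
      rwa [hgx] at e
    have e2 : Commute (g * y * g⁻¹) (x * σ ^ h) := by
      have e := (commute_J D hy).map (MulAut.conj g).toMonoidHom
      simp only [MulEquiv.coe_toMonoidHom, MulAut.conj_apply] at e
      rwa [hgJ] at e
    have e3 : Commute (g * y * g⁻¹) (σ ^ h) := by
      have := e1.inv_right.mul_right e2
      rwa [inv_mul_cancel_left] at this
    refine ⟨(mem_oddSub D).2 (mem_oddPart.2 ⟨e3, ?_⟩), e1⟩
    rw [show g * y * g⁻¹ = MulAut.conj g y from (MulAut.conj_apply g y).symm, MulEquiv.orderOf_eq]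
    exact odd_orderOf D hy
  refine ⟨d, hdx, hdJ, hstep d hdx hdJ, fun y hy hyx => ?_⟩
  have hdx' : d⁻¹ * x * d = x :=
    calc d⁻¹ * x * d = d⁻¹ * (d * x * d⁻¹) * d := by rw [hdx]
      _ = x := by group
  have hdJ' : d⁻¹ * σ ^ h * d = x * σ ^ h := by
    have e : d * (x * σ ^ h) * d⁻¹ = σ ^ h := by
      rw [show d * (x * σ ^ h) * d⁻¹ = d * x * d⁻¹ * (d * σ ^ h * d⁻¹) by group, hdx, hdJ,
        ← mul_assoc, hx2, one_mul]
    calc d⁻¹ * σ ^ h * d = d⁻¹ * (d * (x * σ ^ h) * d⁻¹) * d := by rw [e]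
      _ = x * σ ^ h := by group
  have := hstep d⁻¹ (by rwa [inv_inv]) (by rwa [inv_inv]) y hy hyx
  rwa [inv_inv] at this

/-- The normalizer of a nontrivial normal subgroup of the maximal centralizer inside the odd part. -/
theorem commute_of_normalizes [IsSimpleGroup G]
    (hmax : IsCoatom (Subgroup.centralizer ({σ ^ h} : Set G))) (T : Subgroup G)
    (hTU : T ≤ oddSub σ h) (hT1 : T ≠ ⊥)
    (hTC : ∀ c, Commute c (σ ^ h) → ∀ a ∈ T, c * a * c⁻¹ ∈ T) {g : G}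
    (hg : ∀ a ∈ T, g * a * g⁻¹ ∈ T) : Commute g (σ ^ h) := by
  classical
  have hTle : T ≤ Subgroup.centralizer ({σ ^ h} : Set G) := fun a ha =>
    Subgroup.mem_centralizer_singleton_iff.2 (commute_J D (hTU ha)).eq
  have hle : Subgroup.centralizer ({σ ^ h} : Set G) ≤ Subgroup.normalizer (T : Set G) := fun c hc =>
    Subgroup.mem_normalizer_fintype fun a ha =>
      hTC c (Subgroup.mem_centralizer_singleton_iff.1 hc) a ha
  have hgN : g ∈ Subgroup.normalizer (T : Set G) := Subgroup.mem_normalizer_fintype hg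
  rcases hle.eq_or_lt with e | e
  · rw [← e] at hgN
    exact Subgroup.mem_centralizer_singleton_iff.1 hgN
  · exfalso
    haveI : T.Normal := Subgroup.normalizer_eq_top_iff.1 (hmax.2 _ e)
    rcases IsSimpleGroup.eq_bot_or_eq_top_of_normal T inferInstance with e' | e'
    · exact hT1 e'
    · exact hmax.1 (top_le_iff.1 (e' ▸ hTle))

end Cfsg.Lib.GW.CMax
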