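import Cfsg.Agent.Lib.GW.CMax.HeisenbergFit
import Cfsg.Agent.Lib.GW.CMax.CountEnd

/-!
# Gorenstein–Walter, a maximal centralizer: `O_p(U)` of order `p³` does not occur

The local facts: `C_U(τ) = A`, `T ≤ F(U) = R T`, `U / F(U)` permutes the subgroups of order `p²` of
`R = O_p(U)` with two free orbits, and `C_L(J) = P T` gives `q ∓ 1 = 4 h |T|`.
-/

set_option autoImplicit false
set_option linter.unusedSectionVars false
set_option linter.style.haveILetI false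
set_option maxHeartbeats 800000

namespace Cfsg.Lib.GW.CMax

open Cfsg Cfsg.Lib.Block
open Cfsg.Lib.Block.DihSylow (oddPart oddFix mem_oddPart mem_oddFix)

universe u

variable {F : Type} [Field F] [Fintype F]
variable {G : Type u} [Group G] [Fintype G] [Fact (Nat.Prime 2)] {P : Sylow 2 G} {σ τ : G}
  {h p : ℕ} {L : Subgroup G}

theorem midR_le {b : G} : midR σ h p b ≤ coreP σ h p := fun _ hx => (mem_midR.1 hx).1

open Classical in
/-- The subgroups `cj u N`, `u` in the odd part. -/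
noncomputable def orbitR (σ : G) (h : ℕ) (N : Subgroup G) : Finset (Subgroup G) :=
  (oddPart σ h).image (cj · N)

theorem mem_orbitR {N K : Subgroup G} : K ∈ orbitR σ h N ↔ ∃ u ∈ oddPart σ h, cj u N = K := by
  classical
  simp [orbitR]

/-- Disjoint punctured subgroups in a set. -/
theorem card_pieces {Z R : Subgroup G} {a : ℕ} (S : Finset (Subgroup G))
    (hS : ∀ N ∈ S, Z ≤ N ∧ N ≤ R ∧ Nat.card N = a)
    (hd : ∀ N ∈ S, ∀ N' ∈ S, N ≠ N' → ∀ x ∈ N, x ∈ N' → x ∈ Z) :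
    S.card * (a - Nat.card Z) ≤ Nat.card R - Nat.card Z := by
  classical
  let el : Subgroup G → Finset G := fun N => Finset.univ.filter (· ∈ N)
  have hel : ∀ N : Subgroup G, (el N).card = Nat.card N := fun N => by
    rw [Nat.card_eq_fintype_card, Fintype.card_subtype]
  have hdis : ∀ N ∈ S, ∀ N' ∈ S, N ≠ N' → Disjoint (el N \ el Z) (el N' \ el Z) := by
    intro N hN N' hN' hne
    rw [Finset.disjoint_left]
    intro x hx hx'
    simp only [el, Finset.mem_sdiff, Finset.mem_filter, Finset.mem_univ, true_and] at hx hx'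
    exact hx.2 (hd N hN N' hN' hne x hx.1 hx'.1)
  rcases S.eq_empty_or_nonempty with rfl | ⟨N₀, hN₀⟩
  · simp
  have hsub : S.biUnion (fun N => el N \ el Z) ⊆ el R \ el Z := by
    intro x hx
    obtain ⟨N, hN, hxN⟩ := Finset.mem_biUnion.1 hx
    simp only [el, Finset.mem_sdiff, Finset.mem_filter, Finset.mem_univ, true_and] at hxN ⊢
    exact ⟨(hS N hN).2.1 hxN.1, hxN.2⟩
  have h1 := Finset.card_le_card hsub
  rw [Finset.card_biUnion fun N hN N' hN' hne => hdis N hN N' hN' hne] at h1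
  have hZR : el Z ⊆ el R := fun x hx => by
    simp only [el, Finset.mem_filter, Finset.mem_univ, true_and] at hx ⊢
    exact (hS N₀ hN₀).2.1 ((hS N₀ hN₀).1 hx)
  rw [Finset.card_sdiff_of_subset hZR, hel, hel,
    Finset.sum_congr rfl (g := fun _ => a - Nat.card Z) fun N hN => by
      rw [Finset.card_sdiff_of_subset (fun x hx => by
        simp only [el, Finset.mem_filter, Finset.mem_univ, true_and] at hx ⊢
        exact (hS N hN).1 hx), hel, hel, (hS N hN).2.2],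
    Finset.sum_const, smul_eq_mul] at h1
  exact h1

variable (D : DihSylow P σ τ h) (c : HeisCtx P σ τ h p L)

include D c

namespace HeisCtx

variable (hodd : Odd (Fintype.card F)) (e : L ≃* Matrix.ProjectiveSpecialLinearGroup (Fin 2) F)
  [IsSimpleGroup G] (hmax : IsCoatom (Subgroup.centralizer ({σ ^ h} : Set G)))
  (hna : ¬∀ a b : G, a * b = b * a)
  (hconjJ : ∀ a : G, a * a = 1 → a ≠ 1 → IsConj (σ ^ h) a)

include hodd e hmax hna hconjJ

/-- The fixed points of `τ` in the odd part. -/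
theorem fix_eq {w : G} (hw : w ∈ oddSub σ h) (hwτ : Commute w τ) : w ∈ fixR σ τ h p := by
  have h1 := mul_conj_mem D c hodd e hmax hw hna hconjJ
  rw [InvAct.conj_of_commute D.sqτ hwτ] at h1
  have hwF := GW.mem_of_sq_mem (odd_orderOf D hw) h1
  obtain ⟨r, hr, t, ht, rfl⟩ := fit_torus D c hodd e hmax hwF
  obtain ⟨hτm, hτ'⟩ := tau_facts D
  have ht' := torus_inv D c hodd e hτm hτ' ht
  rw [tau_inv D c] at ht'
  have h2 : t * t = r⁻¹ * (τ * r * τ) := by
    have e2 := InvAct.conj_of_commute D.sqτ hwτ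
    rw [InvAct.conj_mul D.sqτ, ht'] at e2
    calc t * t = r⁻¹ * (r * t) * t := by group
      _ = r⁻¹ * (τ * r * τ * t⁻¹) * t := by rw [e2]
      _ = _ := by group
  have htR : t ∈ coreP σ h p := GW.mem_of_sq_mem (odd_orderOf D ht.2)
    (h2 ▸ mul_mem (inv_mem hr) (conj_tau_R D c hr))
  exact mem_fixR.2 ⟨mul_mem hr htR, hwτ⟩

theorem torus_le_fit {t : G} (ht : t ∈ L ⊓ oddSub σ h) : t ∈ fitSub σ h := by
  refine mem_fit_of_pow D c hodd e hmax ht.2 (i := 3)
    (mem_fit_of_commute_R D c hodd e hmax (pow_mem ht.2 _) fun b hb => ?_)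
  obtain ⟨d, hd, -, hk⟩ := exists_step D c hodd e hmax (fun r hr => conj_R D c ht.2 hr)
    (fun a ha => c.cent t ht.1 a ha)
    (fun z hz => torus_comm D c hodd e ht (center_torus D c hodd e hmax hz)) hb
  have hd1 : d ^ p ^ 3 = 1 := c.cardR ▸ congrArg Subtype.val
    (pow_card_eq_one' (x := (⟨d, hd⟩ : coreP σ h p)))
  have := hk (p ^ 3)
  rw [hd1, one_mul] at this
  exact mul_inv_eq_iff_eq_mul.1 this

theorem fixR_le_fit : fixR σ τ h p ≤ fitSub σ h :=
  fun _ ha => coreP_le_fitSub c.prime (mem_fixR.1 ha).1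

theorem mem_fit_of_norm {y : G} (hy : y ∈ oddSub σ h)
    (hn : ∀ a ∈ fixR σ τ h p, y * a * y⁻¹ ∈ fixR σ τ h p) : y ∈ fitSub σ h := by
  obtain ⟨w, hw, i, hi, hwτ, -, rfl⟩ := decomp D c hy hn
  exact mul_mem (fixR_le_fit D c hodd e hmax hna hconjJ (fix_eq D c hodd e hmax hna hconjJ hw hwτ))
    (torus_le_fit D c hodd e hmax hna hconjJ hi)

/-- A subgroup between the centre and `O_p(U)` is normalised by the Fitting subgroup. -/
theorem fit_norm {N : Subgroup G} (hN : N ≤ coreP σ h p) (hZ : centR σ h p ≤ N) {f : G}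
    (hf : f ∈ fitSub σ h) : cj f N = N := by
  refine cj_eq_self fun m hm => ?_
  obtain ⟨r, hr, x, hx, rfl⟩ := fit_central D c hodd e hmax hf
  rw [show r * x * m * (r * x)⁻¹ = r * (x * m * x⁻¹) * r⁻¹ by group,
    (hx m (coreP_le (hN hm))).symm.eq, mul_inv_cancel_right,
    show r * m * r⁻¹ = r * m * r⁻¹ * m⁻¹ * m by group]
  exact mul_mem (hZ (comm_center D c hr (hN hm))) hm

/-- The first line is stabilised only by the Fitting subgroup. -/
theorem stab_fix {a b y : G} (ha : a ∈ fixR σ τ h p) (h1 : a ≠ 1) (hb : b ∈ coreP σ h p)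
    (hbn : b ∉ midR σ h p a) (hy : y ∈ oddSub σ h) (hst : cj y (midR σ h p a) = midR σ h p a) :
    y ∈ fitSub σ h := by
  have haR := (mem_fixR.1 ha).1
  have hm : y * a * y⁻¹ ∈ midR σ h p a := by
    rw [← hst]
    exact mem_cj.2 (by
      rw [show y⁻¹ * (y * a * y⁻¹) * y = a by group]
      exact mem_midR.2 ⟨haR, Commute.refl a⟩)
  obtain ⟨a', ha', z, hz, e'⟩ := mid_fix D c hodd e hmax ha h1 hm
  obtain ⟨hzR, hzc⟩ := mem_centR.1 hz
  have ha'1 : a' ≠ 1 := by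
    intro e1
    rw [e1, one_mul] at e'
    have := center_conj D c (commute_J D hy).inv_left (e' ▸ hz)
    rw [inv_inv, show y⁻¹ * (y * a * y⁻¹) * y = a by group] at this
    exact h1 (fix_center D c hodd e hmax ha this)
  have ha'R := (mem_fixR.1 ha').1
  obtain ⟨w, hw⟩ : ∃ w, w = b * a' * b⁻¹ * a'⁻¹ := ⟨_, rfl⟩
  have hwZ : w ∈ centR σ h p := hw ▸ comm_center D c hb ha'R
  have hw1 : w ≠ 1 := fun e1 => by
    refine hbn (mem_midR.2 ⟨hb, ?_⟩)
    have hc : Commute b a' :=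
      mul_inv_eq_iff_eq_mul.1 (mul_inv_eq_one.1 (hw.symm.trans e1))
    have hcle : a ∈ Subgroup.zpowers a' := by
      rw [eq_one_or_gen D c c.cardA ha' ha'1]; exact ha
    obtain ⟨k, rfl⟩ := Subgroup.mem_zpowers_iff.1 hcle
    exact hc.zpow_right k
  obtain ⟨k, hk⟩ : ∃ k : ℕ, w ^ k = z⁻¹ := by
    have : z⁻¹ ∈ Subgroup.zpowers w := by
      rw [eq_one_or_gen D c (card_center D c) hwZ hw1]; exact inv_mem hz
    exact ((isOfFinOrder_of_finite w).mem_powers_iff_mem_zpowers.2 this)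
  have hpow : ∀ j : ℕ, b ^ j * a' * (b ^ j)⁻¹ = w ^ j * a' := by
    intro j
    induction j with
    | zero => simp
    | succ j ih =>
      have hbw : Commute b w := ((mem_centR.1 hwZ).2 b hb).symm
      calc b ^ (j + 1) * a' * (b ^ (j + 1))⁻¹ = b * (b ^ j * a' * (b ^ j)⁻¹) * b⁻¹ := by
            rw [pow_succ']; group
        _ = b * w ^ j * b⁻¹ * (b * a' * b⁻¹) := by rw [ih]; group
        _ = w ^ j * (b * a' * b⁻¹) := by rw [(hbw.pow_right j).eq, mul_inv_cancel_right]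
        _ = w ^ (j + 1) * a' := by
            rw [pow_succ, show b * a' * b⁻¹ = w * a' by rw [hw]; group, mul_assoc]
  have hbk : b ^ k ∈ coreP σ h p := pow_mem hb k
  have hconj : b ^ k * y * a * (b ^ k * y)⁻¹ = a' := by
    rw [show b ^ k * y * a * (b ^ k * y)⁻¹ = b ^ k * (y * a * y⁻¹) * (b ^ k)⁻¹ by group, e',
      show b ^ k * (a' * z) * (b ^ k)⁻¹ = b ^ k * a' * (b ^ k)⁻¹ * (b ^ k * z * (b ^ k)⁻¹) by group,
      (hzc _ hbk).symm.eq, mul_inv_cancel_right, hpow, hk, (hzc _ ha'R).inv_left.eq,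
      mul_assoc, inv_mul_cancel, mul_one]
  have hF : b ^ k * y ∈ fitSub σ h := by
    refine mem_fit_of_norm D c hodd e hmax hna hconjJ (mul_mem (coreP_le hbk) hy) fun a₁ ha₁ => ?_
    rw [← eq_one_or_gen D c c.cardA ha h1] at ha₁
    obtain ⟨j, rfl⟩ := Subgroup.mem_zpowers_iff.1 ha₁
    rw [← conj_zpow, hconj]
    exact zpow_mem ha' j
  have := mul_mem (inv_mem (coreP_le_fitSub c.prime hbk)) hF
  rwa [inv_mul_cancel_left] at this

/-- An element inverted by `τ` outside the first line. -/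
theorem exists_moved {a : G} (ha : a ∈ fixR σ τ h p) (h1 : a ≠ 1) :
    ∃ b ∈ coreP σ h p, b ∉ midR σ h p a ∧ τ * b * τ = b⁻¹ := by
  have haR := (mem_fixR.1 ha).1
  by_contra hno
  push Not at hno
  refine h1 (fix_center D c hodd e hmax ha (mem_centR.2 ⟨haR, fun y hy => ?_⟩))
  obtain ⟨w, hw, i, hi, hwτ, hii, rfl⟩ := split D c coreP_le (fun r hr => conj_tau_R D c hr) hy
  have hwA : w ∈ Subgroup.zpowers a := by
    rw [eq_one_or_gen D c c.cardA ha h1]; exact mem_fixR.2 ⟨hw, hwτ⟩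
  obtain ⟨k, rfl⟩ := Subgroup.mem_zpowers_iff.1 hwA
  refine ((Commute.refl a).zpow_right k).mul_right ?_
  by_contra hc
  exact hno i hi (fun hm => hc (mem_midR.1 hm).2.symm) hii

/-- Every element of the second line is inverted. -/
theorem moved_inv {a b m : G} (ha : a ∈ fixR σ τ h p) (h1 : a ≠ 1) (hb : b ∈ coreP σ h p)
    (hbn : b ∉ midR σ h p a) (hbi : τ * b * τ = b⁻¹) (hm : m ∈ midR σ h p b) :
    τ * m * τ = m⁻¹ := by
  have hτb : ∀ y ∈ midR σ h p b, τ * y * τ ∈ midR σ h p b := fun y hy => by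
    obtain ⟨hyR, hyb⟩ := mem_midR.1 hy
    refine mem_midR.2 ⟨conj_tau_R D c hyR, ?_⟩
    have := (hyb.inv_right).map (MulAut.conj τ).toMonoidHom
    simp only [MulEquiv.coe_toMonoidHom, MulAut.conj_apply, tau_inv D c] at this
    rwa [InvAct.conj_inv D.sqτ, hbi, inv_inv] at this
  obtain ⟨w, hw, i, -, hwτ, hii, rfl⟩ := split D c (inf_le_left.trans coreP_le) hτb hm
  have hw1 : w = 1 := by
    by_contra hw1
    refine hbn (mem_midR.2 ⟨hb, ?_⟩)
    have hwA : w ∈ fixR σ τ h p := mem_fixR.2 ⟨(mem_midR.1 hw).1, hwτ⟩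
    have : a ∈ Subgroup.zpowers w := by rw [eq_one_or_gen D c c.cardA hwA hw1]; exact ha
    obtain ⟨k, rfl⟩ := Subgroup.mem_zpowers_iff.1 this
    exact (mem_midR.1 hw).2.symm.zpow_right k
  rw [hw1, one_mul]
  exact hii

/-- The second line is stabilised only by the Fitting subgroup. -/
theorem stab_moved {a b y : G} (ha : a ∈ fixR σ τ h p) (h1 : a ≠ 1) (hb : b ∈ coreP σ h p)
    (hbn : b ∉ midR σ h p a) (hbi : τ * b * τ = b⁻¹) (hy : y ∈ oddSub σ h)
    (hst : cj y (midR σ h p b) = midR σ h p b) : y ∈ fitSub σ h := by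
  have haR := (mem_fixR.1 ha).1
  have hbZ : b ∉ centR σ h p := fun hz => hbn (mem_midR.2 ⟨hb, (mem_centR.1 hz).2 a haR⟩)
  have hbM : b ∈ midR σ h p b := mem_midR.2 ⟨hb, Commute.refl b⟩
  have hZM : centR σ h p ≤ midR σ h p b := fun z hz =>
    mem_midR.2 ⟨(mem_centR.1 hz).1, (mem_centR.1 hz).2 b hb⟩
  have hinv := fun m (hm : m ∈ midR σ h p b) => moved_inv D c hodd e hmax hna hconjJ ha h1 hb hbn hbi hm
  obtain ⟨w, hw, i, hi, hwτ, hii, rfl⟩ := split D c le_rfl (fun r hr => conj_tau D c hr) hy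
  have hwA := fix_eq D c hodd e hmax hna hconjJ hw hwτ
  have hwF := fixR_le_fit D c hodd e hmax hna hconjJ hwA
  refine mul_mem hwF ?_
  have hst' : ∀ m ∈ midR σ h p b, i * m * i⁻¹ ∈ midR σ h p b := fun m hm => by
    have hm' : w * i * m * (w * i)⁻¹ ∈ midR σ h p b := by
      rw [← hst]; exact mem_cj.2 (by convert hm using 1; group)
    rw [← fit_norm D c hodd e hmax hna hconjJ midR_le hZM hwF] at hm'
    have := mem_cj.1 hm'
    convert this using 1
    group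
  have hcomm : ∀ m ∈ midR σ h p b, Commute i m := fun m hm =>
    GW.commute_of_inverted_inverted D.sqτ hii (hinv m hm) (hinv _ (hst' m hm)) (odd_orderOf D hi)
  -- the image of `a`
  have hAM : ∀ y ∈ fixR σ τ h p, y ∈ midR σ h p b → y = 1 := fun y hy hy' =>
    eq_one_of_inverted D (fixR_le D c hy) (mem_fixR.1 hy).2.symm (by
      rw [tau_inv D c]; exact hinv y hy')
  have hdec : ∀ r ∈ coreP σ h p, ∃ a' ∈ fixR σ τ h p, ∃ m ∈ midR σ h p b, r = a' * m :=
    fun r hr => exists_prod (fun x hx => (mem_fixR.1 hx).1) midR_le hAM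
      (le_of_eq (by rw [c.cardR, c.cardA, card_mid D c hb hbZ]; ring)) hr
  obtain ⟨a', ha', m, hm, e'⟩ := hdec _ (conj_R D c hi haR)
  obtain ⟨hmR, hmb⟩ := mem_midR.1 hm
  have hz := comm_center D c haR hb
  have e1 : i * (a * b * a⁻¹ * b⁻¹) * i⁻¹ = a * b * a⁻¹ * b⁻¹ := by
    rw [(hcomm _ (hZM hz)).eq, mul_inv_cancel_right]
  have e2 : i * (a * b * a⁻¹ * b⁻¹) * i⁻¹ = a' * b * a'⁻¹ * b⁻¹ := by
    rw [show i * (a * b * a⁻¹ * b⁻¹) * i⁻¹ =
        (i * a * i⁻¹) * (i * b * i⁻¹) * (i * a * i⁻¹)⁻¹ * (i * b * i⁻¹)⁻¹ by group, e',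
      (hcomm b hbM).eq, mul_inv_cancel_right]
    calc a' * m * b * (a' * m)⁻¹ * b⁻¹ = a' * (m * b * m⁻¹) * a'⁻¹ * b⁻¹ := by group
      _ = _ := by rw [hmb.eq, mul_inv_cancel_right]
  rw [e1] at e2
  have haa : a' = a := by
    have e3 : a * b * a⁻¹ = a' * b * a'⁻¹ := mul_right_cancel e2
    have hcb : a⁻¹ * a' ∈ midR σ h p b := mem_midR.2 ⟨mul_mem (inv_mem haR) (mem_fixR.1 ha').1, by
      show a⁻¹ * a' * b = b * (a⁻¹ * a')
      calc a⁻¹ * a' * b = a⁻¹ * (a' * b * a'⁻¹) * a' := by group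
        _ = a⁻¹ * (a * b * a⁻¹) * a' := by rw [e3]
        _ = _ := by group⟩
    exact (inv_mul_eq_one.1 (hAM _ (mul_mem (inv_mem ha) ha') hcb)).symm
  obtain ⟨d, hd⟩ : ∃ d, d = i * a * i⁻¹ * a⁻¹ := ⟨_, rfl⟩
  have hdR : d ∈ coreP σ h p := hd ▸ mul_mem (conj_R D c hi haR) (inv_mem haR)
  have hdM : d ∈ midR σ h p b := by
    have hd2 : d = (a * m * a⁻¹ * m⁻¹) * m := by
      rw [hd, e', haa]; group
    rw [hd2]
    exact mul_mem (hZM (comm_center D c haR hmR)) hm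
  have hpow : ∀ k : ℕ, i ^ k * a * (i ^ k)⁻¹ = d ^ k * a := by
    intro k
    induction k with
    | zero => simp
    | succ k ih =>
      calc i ^ (k + 1) * a * (i ^ (k + 1))⁻¹ = i * (i ^ k * a * (i ^ k)⁻¹) * i⁻¹ := by
            rw [pow_succ']; group
        _ = i * d ^ k * i⁻¹ * (i * a * i⁻¹) := by rw [ih]; group
        _ = d ^ k * (i * a * i⁻¹) := by
            rw [((hcomm d hdM).pow_right k).eq, mul_inv_cancel_right]
        _ = d ^ (k + 1) * a := by
            rw [pow_succ, show i * a * i⁻¹ = d * a by rw [hd]; group, mul_assoc]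
  have hd1 : d ^ p ^ 3 = 1 := c.cardR ▸ congrArg Subtype.val
    (pow_card_eq_one' (x := (⟨d, hdR⟩ : coreP σ h p)))
  have hca : Commute (i ^ p ^ 3) a := by
    have := hpow (p ^ 3)
    rw [hd1, one_mul] at this
    exact mul_inv_eq_iff_eq_mul.1 this
  refine mem_fit_of_pow D c hodd e hmax hi (i := 3)
    (mem_fit_of_commute_R D c hodd e hmax (pow_mem hi _) fun r hr => ?_)
  obtain ⟨a₁, ha₁, m₁, hm₁, rfl⟩ := hdec r hr
  rw [← eq_one_or_gen D c c.cardA ha h1] at ha₁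
  obtain ⟨j, rfl⟩ := Subgroup.mem_zpowers_iff.1 ha₁
  exact (hca.zpow_right j).mul_right ((hcomm m₁ hm₁).pow_left _)

/-- An orbit of a subgroup stabilised only by the Fitting subgroup. -/
theorem card_orbit {N : Subgroup G} (hN : N ≤ coreP σ h p) (hZ : centR σ h p ≤ N)
    (hst : ∀ y ∈ oddSub σ h, cj y N = N → y ∈ fitSub σ h) :
    (oddPart σ h).card = (orbitR σ h N).card * Nat.card (fitSub σ h) := by
  classical
  rw [Finset.card_eq_sum_card_image (cj · N) (oddPart σ h)]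
  refine (Finset.sum_congr rfl (g := fun _ => Nat.card (fitSub σ h)) fun K hK => ?_).trans
    (by rw [Finset.sum_const, smul_eq_mul]; rfl)
  obtain ⟨u, hu', rfl⟩ := Finset.mem_image.1 hK
  have hu := (mem_oddSub D).2 hu'
  rw [Nat.card_eq_fintype_card, ← Finset.card_univ]
  refine (Finset.card_bij (fun (f : fitSub σ h) _ => u * (f : G)) (fun f _ => ?_)
    (fun f₁ _ f₂ _ h' => Subtype.ext (mul_left_cancel (h' : u * (f₁ : G) = u * f₂))) (fun v hv => ?_)).symm
  · refine Finset.mem_filter.2 ⟨(mem_oddSub D).1 (mul_mem hu (fitSub_le f.2)), ?_⟩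
    rw [← cj_cj, fit_norm D c hodd e hmax hna hconjJ hN hZ f.2]
  · obtain ⟨hv1, hv2⟩ := Finset.mem_filter.1 hv
    refine ⟨⟨u⁻¹ * v, hst _ (mul_mem (inv_mem hu) ((mem_oddSub D).2 hv1)) ?_⟩, Finset.mem_univ _,
      mul_inv_cancel_left u v⟩
    rw [← cj_cj, hv2, cj_cj, inv_mul_cancel, cj_one]

/-- The order of the Fitting subgroup. -/
theorem card_fit : Nat.card (fitSub σ h) * p = p ^ 3 * Nat.card (L ⊓ oddSub σ h : Subgroup G) := by
  classical
  let mu : coreP σ h p × (L ⊓ oddSub σ h : Subgroup G) → fitSub σ h := fun q =>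
    ⟨(q.1 : G) * q.2, mul_mem (coreP_le_fitSub c.prime q.1.2)
      (torus_le_fit D c hodd e hmax hna hconjJ q.2.2)⟩
  have hsurj : Function.Surjective mu := fun f => by
    obtain ⟨r, hr, t, ht, e'⟩ := fit_torus D c hodd e hmax f.2
    exact ⟨(⟨r, hr⟩, ⟨t, ht⟩), Subtype.ext e'.symm⟩
  rw [← c.cardR, ← Nat.card_prod, Nat.card_eq_fintype_card (α := coreP σ h p × _),
    ← Finset.card_univ, Finset.card_eq_sum_card_image mu,
    Finset.image_univ_of_surjective hsurj,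
    Finset.sum_congr rfl (g := fun _ => p) fun f _ => ?_, Finset.sum_const, Finset.card_univ,
    smul_eq_mul, Nat.card_eq_fintype_card]
  obtain ⟨⟨r, t⟩, rfl⟩ := hsurj f
  conv_rhs => rw [← card_center D c, Nat.card_eq_fintype_card, ← Finset.card_univ]
  refine (Finset.card_bij (fun (z : centR σ h p) _ =>
    ((⟨(r : G) * (z : G), mul_mem r.2 (mem_centR.1 z.2).1⟩,
      ⟨(z : G)⁻¹ * (t : G), mul_mem (inv_mem (center_torus D c hodd e hmax z.2)) t.2⟩) :
      coreP σ h p × (L ⊓ oddSub σ h : Subgroup G))) (fun z _ => ?_) (fun z _ z' _ h' => ?_)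
    (fun q hq => ?_)).symm
  · refine Finset.mem_filter.2 ⟨Finset.mem_univ _, Subtype.ext ?_⟩
    show (r : G) * z * ((z : G)⁻¹ * t) = r * t
    group
  · exact Subtype.ext (mul_left_cancel (congrArg Subtype.val (Prod.ext_iff.1 h').1))
  · obtain ⟨r', t'⟩ := q
    have e' : (r' : G) * t' = r * t := congrArg Subtype.val (Finset.mem_filter.1 hq).2
    have e2 : (r : G)⁻¹ * r' = t * (t' : G)⁻¹ := by
      rw [eq_mul_inv_iff_mul_eq, mul_assoc, e', inv_mul_cancel_left]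
    refine ⟨⟨(r : G)⁻¹ * r', torus_R D c hodd e hmax (mul_mem (inv_mem r.2) r'.2)
      (e2 ▸ mul_mem t.2 (inv_mem t'.2))⟩, Finset.mem_univ _, Prod.ext (Subtype.ext ?_) (Subtype.ext ?_)⟩
    · exact mul_inv_cancel_left (r : G) r'
    · show ((r : G)⁻¹ * r')⁻¹ * t = t'
      rw [e2]; group

/-- The centralizer of the involution in the component. -/
theorem card_torus_mul :
    Nat.card (Subgroup.centralizer ({(⟨σ ^ h, J_mem D c⟩ : L)} : Set L)) =
      4 * h * Nat.card (L ⊓ oddSub σ h : Subgroup G) := by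
  classical
  obtain ⟨h1, hmul, hinv, -, hdec, huniq, -⟩ := D.oddPart_spec
  obtain ⟨-, -, hJc⟩ := D.central_involution
  rw [← D.card, mul_comm, ← Nat.card_prod]
  let mu : (L ⊓ oddSub σ h : Subgroup G) × (P : Subgroup G) →
      Subgroup.centralizer ({(⟨σ ^ h, J_mem D c⟩ : L)} : Set L) := fun q =>
    ⟨⟨(q.1 : G) * q.2, mul_mem q.1.2.1 (c.le q.2.2)⟩, Subgroup.mem_centralizer_singleton_iff.2
      (Subtype.ext ((commute_J D q.1.2.2).mul_left (hJc _ q.2.2)).eq)⟩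
  refine (Nat.card_eq_of_bijective mu ⟨?_, ?_⟩).symm
  · rintro ⟨t, x⟩ ⟨t', x'⟩ h'
    have e' : (t : G) * x = t' * x' :=
      congrArg (fun q : Subgroup.centralizer _ => ((q : L) : G)) h'
    have hxx : (x : G) = x' := huniq _ x.2 _ x'.2 (by
      have e2 : (x : G) * (x' : G)⁻¹ = (t : G)⁻¹ * t' := by
        rw [mul_inv_eq_iff_eq_mul, mul_assoc, ← e', inv_mul_cancel_left]
      rw [e2]
      exact hmul _ (hinv _ ((mem_oddSub D).1 t.2.2)) _ ((mem_oddSub D).1 t'.2.2))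
    rw [hxx] at e'
    exact Prod.ext (Subtype.ext (mul_right_cancel e')) (Subtype.ext hxx)
  · rintro ⟨⟨l, hl⟩, hlc⟩
    have hlJ : Commute l (σ ^ h) :=
      congrArg Subtype.val (Subgroup.mem_centralizer_singleton_iff.1 hlc)
    obtain ⟨x, hx, hxo⟩ := hdec l hlJ
    refine ⟨(⟨l * x⁻¹, ⟨L.mul_mem hl (L.inv_mem (c.le hx)), (mem_oddSub D).2 hxo⟩⟩, ⟨x, hx⟩), ?_⟩
    exact Subtype.ext (Subtype.ext (inv_mul_cancel_right l x))

end HeisCtx

variable {M : Ideal AlgInt}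

/-- The case `|O_p(U)| = p³` does not occur. -/
theorem heisenberg_false [IsSimpleGroup G] (co : Companion M P σ τ h)
    (hmax : IsCoatom (Subgroup.centralizer ({σ ^ h} : Set G)))
    (hna : ¬∀ a b : G, a * b = b * a)
    (hconjJ : ∀ a : G, a * a = 1 → a ≠ 1 → IsConj (σ ^ h) a) (hodd : Odd (Fintype.card F))
    (e : L ≃* Matrix.ProjectiveSpecialLinearGroup (Fin 2) F) : False := by
  classical
  open HeisCtx in
  obtain ⟨a, ha, h1⟩ := exists_fix D c
  open HeisCtx in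
  obtain ⟨b, hb, hbn, hbi⟩ := exists_moved D c hodd e hmax hna hconjJ ha h1
  have haR := (mem_fixR.1 ha).1
  obtain ⟨T, hT⟩ : ∃ T, T = (L ⊓ oddSub σ h : Subgroup G) := ⟨_, rfl⟩
  have hp := c.prime
  have hp3 : 3 ≤ p := by
    have := hp.two_le
    have := HeisCtx.p_ne_two D c
    omega
  obtain ⟨t, ht⟩ : p ∣ Nat.card T := by
    rw [hT, ← HeisCtx.card_center D c]
    exact Subgroup.card_dvd_of_le fun z hz => HeisCtx.center_torus D c hodd e hmax hz
  have hF : Nat.card (fitSub σ h) = p ^ 3 * t := by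
    have := HeisCtx.card_fit D c hodd e hmax hna hconjJ
    rw [← hT, ht] at this
    exact Nat.eq_of_mul_eq_mul_right hp.pos (this.trans (by ring))
  -- the two orbits
  obtain ⟨M₀, hM₀⟩ : ∃ N, N = midR σ h p a := ⟨_, rfl⟩
  obtain ⟨M₁, hM₁⟩ : ∃ N, N = midR σ h p b := ⟨_, rfl⟩
  have haZ : a ∉ centR σ h p := fun hz => h1 (HeisCtx.fix_center D c hodd e hmax ha hz)
  have hbZ : b ∉ centR σ h p := fun hz => hbn (mem_midR.2 ⟨hb, (mem_centR.1 hz).2 a haR⟩)
  have hZle : ∀ y ∈ coreP σ h p, centR σ h p ≤ midR σ h p y := fun y hy z hz =>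
    mem_midR.2 ⟨(mem_centR.1 hz).1, (mem_centR.1 hz).2 y hy⟩
  have hst₀ : ∀ y ∈ oddSub σ h, cj y M₀ = M₀ → y ∈ fitSub σ h := fun y hy hs =>
    HeisCtx.stab_fix D c hodd e hmax hna hconjJ ha h1 hb hbn hy (hM₀ ▸ hs)
  have hst₁ : ∀ y ∈ oddSub σ h, cj y M₁ = M₁ → y ∈ fitSub σ h := fun y hy hs =>
    HeisCtx.stab_moved D c hodd e hmax hna hconjJ ha h1 hb hbn hbi hy (hM₁ ▸ hs)
  have ho₀ := HeisCtx.card_orbit D c hodd e hmax hna hconjJ (hM₀ ▸ midR_le)
    (hM₀ ▸ hZle a haR) hst₀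
  have ho₁ := HeisCtx.card_orbit D c hodd e hmax hna hconjJ (hM₁ ▸ midR_le)
    (hM₁ ▸ hZle b hb) hst₁
  obtain ⟨m, hm⟩ : ∃ m, m = (orbitR σ h M₀).card := ⟨_, rfl⟩
  have hF0 : 0 < Nat.card (fitSub σ h) := Nat.card_pos
  have hm₁ : (orbitR σ h M₁).card = m :=
    Nat.eq_of_mul_eq_mul_right hF0 (ho₁.symm.trans (ho₀.trans (by rw [hm])))
  have hτc : ∀ y : G, y ∈ coreP σ h p → τ * y * τ ∈ coreP σ h p := fun y hy =>
    HeisCtx.conj_tau_R D c hy
  have hτ₀ : cj τ M₀ = M₀ := cj_eq_self fun y hy => by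
    rw [hM₀] at hy ⊢
    obtain ⟨hyR, hya⟩ := mem_midR.1 hy
    rw [HeisCtx.tau_inv D c]
    refine mem_midR.2 ⟨hτc y hyR, ?_⟩
    have := hya.map (MulAut.conj τ).toMonoidHom
    simp only [MulEquiv.coe_toMonoidHom, MulAut.conj_apply, HeisCtx.tau_inv D c] at this
    rwa [InvAct.conj_of_commute D.sqτ (mem_fixR.1 ha).2] at this
  have hτ₁ : cj τ M₁ = M₁ := cj_eq_self fun y hy => by
    rw [HeisCtx.tau_inv D c, hM₁] at *
    rw [HeisCtx.moved_inv D c hodd e hmax hna hconjJ ha h1 hb hbn hbi hy]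
    exact inv_mem hy
  have hne : M₀ ≠ M₁ := fun e' => hbn (by
    rw [← hM₀, e', hM₁]; exact mem_midR.2 ⟨hb, Commute.refl b⟩)
  have hdis : Disjoint (orbitR σ h M₀) (orbitR σ h M₁) := by
    rw [Finset.disjoint_left]
    intro K hK hK'
    obtain ⟨u, hu, hu'⟩ := mem_orbitR.1 hK
    obtain ⟨v, hv, hv'⟩ := mem_orbitR.1 hK'
    obtain ⟨y, hy⟩ : ∃ y, y = v⁻¹ * u := ⟨_, rfl⟩
    have hyU : y ∈ oddSub σ h := hy ▸ mul_mem (inv_mem ((mem_oddSub D).2 hv)) ((mem_oddSub D).2 hu)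
    have hy01 : cj y M₀ = M₁ := by rw [hy, ← cj_cj, hu', ← hv', cj_cj, inv_mul_cancel, cj_one]
    have hz : cj (τ * y * τ) M₀ = M₁ := by rw [← cj_cj, hτ₀, ← cj_cj, hy01, hτ₁]
    have hw : y⁻¹ * (τ * y * τ) ∈ fitSub σ h :=
      hst₀ _ (mul_mem (inv_mem hyU) (HeisCtx.conj_tau D c hyU))
        (by rw [← cj_cj, hz, ← hy01, cj_cj, inv_mul_cancel, cj_one])
    have hs := HeisCtx.mul_conj_mem D c hodd e hmax hyU hna hconjJ
    have hwc : y * (y⁻¹ * (τ * y * τ)) * y⁻¹ ∈ fitSub σ h := conj_fitSub D (commute_J D hyU) hw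
    have h2 := mul_mem (inv_mem hwc) hs
    rw [show (y * (y⁻¹ * (τ * y * τ)) * y⁻¹)⁻¹ * (y * (τ * y * τ)) =
      y * (τ * y * τ)⁻¹ * y * (τ * y * τ) by group] at h2
    have h3 : y * y ∈ fitSub σ h := by
      have h4 := mul_mem hs (inv_mem hw)
      rwa [show y * (τ * y * τ) * (y⁻¹ * (τ * y * τ))⁻¹ = y * y by group] at h4
    have hyF := GW.mem_of_sq_mem (odd_orderOf D hyU) h3
    exact hne ((HeisCtx.fit_norm D c hodd e hmax hna hconjJ (hM₀ ▸ midR_le)
      (hM₀ ▸ hZle a haR) hyF).symm.trans hy01)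
  have h2m : 2 * m ≤ p + 1 := by
    have hmem : ∀ K ∈ orbitR σ h M₀ ∪ orbitR σ h M₁,
        centR σ h p ≤ K ∧ K ≤ coreP σ h p ∧ Nat.card K = p ^ 2 := by
      intro K hK
      obtain ⟨y, N, hy, hN, rfl⟩ : ∃ y N, y ∈ oddPart σ h ∧
          (∃ x ∈ coreP σ h p, x ∉ centR σ h p ∧ N = midR σ h p x) ∧ cj y N = K := by
        rcases Finset.mem_union.1 hK with hK | hK
        · obtain ⟨y, hy, e'⟩ := mem_orbitR.1 hK
          exact ⟨y, M₀, hy, ⟨a, haR, haZ, hM₀⟩, e'⟩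
        · obtain ⟨y, hy, e'⟩ := mem_orbitR.1 hK
          exact ⟨y, M₁, hy, ⟨b, hb, hbZ, hM₁⟩, e'⟩
      obtain ⟨x, hx, hxZ, rfl⟩ := hN
      have hyJ := (mem_oddPart.1 hy).1
      refine ⟨fun z hz => mem_cj.2 (hZle x hx ?_), fun z hz => ?_,
        (card_cj _ _).trans (HeisCtx.card_mid D c hx hxZ)⟩
      · have := HeisCtx.center_conj D c hyJ.inv_left hz
        rwa [inv_inv] at this
      · have h' : y⁻¹ * z * y ∈ midR σ h p x := mem_cj.1 hz
        have := conj_coreP D hyJ (mem_midR.1 h').1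
        rwa [show y * (y⁻¹ * z * y) * y⁻¹ = z by group] at this
    have hd : ∀ K ∈ orbitR σ h M₀ ∪ orbitR σ h M₁, ∀ K' ∈ orbitR σ h M₀ ∪ orbitR σ h M₁, K ≠ K' →
        ∀ x ∈ K, x ∈ K' → x ∈ centR σ h p := by
      intro K hK K' hK' hne' x hx hx'
      obtain ⟨hZK, -, hcK⟩ := hmem K hK
      obtain ⟨hZK', -, hcK'⟩ := hmem K' hK'
      have hI : centR σ h p ≤ K ⊓ K' := le_inf hZK hZK'
      obtain ⟨j, hj, hjI⟩ := (Nat.dvd_prime_pow hp).1
        (hcK ▸ Subgroup.card_dvd_of_le (inf_le_left : K ⊓ K' ≤ K))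
      have hj1 : j ≤ 1 := by
        by_contra hlt
        have e1 := Subgroup.eq_of_le_of_card_ge (inf_le_left : K ⊓ K' ≤ K)
          (by rw [hjI, hcK, show j = 2 by omega])
        have e2 := Subgroup.eq_of_le_of_card_ge (inf_le_right : K ⊓ K' ≤ K')
          (by rw [hjI, hcK', show j = 2 by omega])
        exact hne' (e1.symm.trans e2)
      have e3 := Subgroup.eq_of_le_of_card_ge hI (by
        rw [hjI, HeisCtx.card_center D c]
        exact (Nat.pow_le_pow_right hp.pos hj1).trans (pow_one p).le)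
      rw [e3]
      exact ⟨hx, hx'⟩
    have h := card_pieces _ hmem hd
    rw [Finset.card_union_of_disjoint hdis, hm₁, ← hm, HeisCtx.card_center D c, c.cardR,
      show p ^ 2 - p = p * (p - 1) by rw [Nat.mul_sub, mul_one, pow_two],
      show p ^ 3 - p = p * (p - 1) * (p + 1) by
        obtain ⟨j, rfl⟩ : ∃ j, p = j + 1 := ⟨p - 1, by omega⟩
        rw [Nat.add_sub_cancel]
        exact Nat.sub_eq_of_eq_add (by ring)] at h
    rw [mul_comm (m + m), two_mul] at *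
    exact Nat.le_of_mul_le_mul_left h (Nat.mul_pos hp.pos (by omega))
  -- the fixed points
  have hfix : ∀ x : G, (∀ y ∈ oddSub σ h, Commute y x ↔ Commute y τ) →
      (oddFix σ h x).card = p := by
    intro x hx
    rw [← c.cardA, Nat.card_eq_fintype_card, Fintype.card_subtype]
    congr 1
    ext y
    simp only [mem_oddFix, Finset.mem_filter, Finset.mem_univ, true_and]
    constructor
    · rintro ⟨hy, hyx⟩
      have hy' := (mem_oddSub D).2 hy
      exact HeisCtx.fix_eq D c hodd e hmax hna hconjJ hy' ((hx y hy').1 hyx)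
    · intro hy
      have hy' := HeisCtx.fixR_le D c hy
      exact ⟨(mem_oddSub D).1 hy', (hx y hy').2 (mem_fixR.1 hy).2⟩
  have hW₁ := hfix (σ * τ) fun y hy => by
    have hσy := (HeisCtx.sigma_odd D c hodd e hmax hy).symm
    refine ⟨fun h' => ?_, fun h' => hσy.mul_right h'⟩
    have := hσy.inv_right.mul_right h'
    rwa [inv_mul_cancel_left] at this
  have hho : (oddPart σ h).card = p ^ 2 * t * m * p := by rw [ho₀, ← hm, hF]; ring
  -- the component
  have hq : Fintype.card F % 2 = 1 := Nat.odd_iff.1 hodd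
  obtain ⟨hJ2, hJ1, -⟩ := D.central_involution
  obtain ⟨hτm, hτ'⟩ := tau_facts D
  obtain ⟨hτ2, hτ1, hτJ⟩ := reflection_mem D hτm hτ'
  have hqc : Fintype.card F = 4 * h * p * t + 1 ∨ Fintype.card F + 1 = 4 * h * p * t := by
    have hJL := HeisCtx.J_mem D c
    have hord : orderOf (e ⟨σ ^ h, hJL⟩) = 2 := by
      rw [e.orderOf_eq, Subgroup.orderOf_mk]
      exact orderOf_eq_prime (by rw [pow_two, hJ2]) hJ1
    have h7 := seven_le D hodd e c.le
    have hce : Nat.card (Subgroup.centralizer ({e ⟨σ ^ h, hJL⟩} : Set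
        (Matrix.ProjectiveSpecialLinearGroup (Fin 2) F))) = 4 * h * p * t := by
      rw [show 4 * h * p * t = 4 * h * (p * t) by ring, ← ht, hT,
        ← HeisCtx.card_torus_mul D c hodd e hmax hna hconjJ]
      refine (Nat.card_congr (e.toEquiv.subtypeEquiv fun y => ?_)).symm
      simp only [Subgroup.mem_centralizer_singleton_iff]
      show y * (⟨σ ^ h, hJL⟩ : L) = ⟨σ ^ h, hJL⟩ * y ↔ e y * e ⟨σ ^ h, hJL⟩ = e ⟨σ ^ h, hJL⟩ * e y
      rw [← map_mul, ← map_mul, e.injective.eq_iff]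
    rcases card_centralizer_cases hq h7 hord with ⟨-, h'⟩ | ⟨-, h'⟩ <;> rw [hce] at h'
    · exact Or.inl (by omega)
    · exact Or.inr h'.symm
  have hdvd : Fintype.card F * p ∣ Nat.card G := by
    rw [← c.cardA]
    exact mul_dvd_of_component hodd e c.cent
      (fun a ha => odd_orderOf D (HeisCtx.fixR_le D c ha)) (HeisCtx.J_mem D c) (HeisCtx.tau_mem D c)
      (orderOf_eq_prime (by rw [pow_two, hJ2]) hJ1) (orderOf_eq_prime (by rw [pow_two, hτ2]) hτ1)
      hτJ.symm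
  refine heisenberg_end D co hmax hp hp3 h2m hho (hfix τ fun _ _ => Iff.rfl) hW₁ ?_
    (FiniteField.isPrimePow_card F) hqc hdvd
  intro r hr hrt x hx hx'
  haveI : Fact r.Prime := ⟨hr⟩
  obtain ⟨z, hz⟩ := exists_prime_orderOf_dvd_card' r (ht ▸ hrt : r ∣ Nat.card T)
  obtain ⟨z₀, hz₀⟩ : ∃ z₀ : G, z₀ = z := ⟨_, rfl⟩
  have hzT : z₀ ∈ L ⊓ oddSub σ h := hz₀ ▸ hT ▸ z.2
  have hzo : orderOf z₀ = r := by rw [hz₀, Subgroup.orderOf_coe, hz]
  refine ⟨z₀, mem_coreP_of_mem_fitSub D hr (HeisCtx.torus_le_fit D c hodd e hmax hna hconjJ hzT)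
    (k := 1) (by rw [pow_one, ← hzo, pow_orderOf_eq_one]), fun hcz => ?_⟩
  have := eq_one_of_inverted D hzT.2 hcz (HeisCtx.torus_inv D c hodd e hx hx' hzT)
  rw [this, orderOf_one] at hzo
  exact hr.one_lt.ne hzo

end Cfsg.Lib.GW.CMax
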