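import Cfsg.Agent.Lib.GW.CMax.HeisenbergEnd
import Cfsg.Agent.Lib.GW.InvAct
import Cfsg.Agent.Lib.GW.CaseA
import Cfsg.Agent.Lib.GW.Klein.Frame
import Cfsg.Agent.Lib.Local.RankTwoAut
import Cfsg.Agent.Lib.GW.ConsumersOvergroup
import Cfsg.Agent.Lib.Dickson.OddProduct

/-!
# Gorenstein–Walter, a maximal centralizer: `O_p(U)` of order `p³`, first facts

`R = O_p(U)` is nonabelian of order `p³`, the fixed points `A` of `τ` in it have order `p` and `L` is a
component `PSL₂(q)` of the centralizer of `A` containing the Sylow subgroup.  Then the torus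
`T = L ∩ U` is abelian and inverted by every reflection, the other parts `O_r(U)` lie in `T` and are
central in `U`, and `σ` centralises `U`.
-/

set_option autoImplicit false
set_option linter.unusedSectionVars false
set_option linter.style.haveILetI false
set_option maxHeartbeats 800000

namespace Cfsg.Lib.GW.CMax

open Cfsg Cfsg.Lib.Block
open Cfsg.Lib.Block.DihSylow (oddPart oddFix mem_oddPart mem_oddFix)

universe u

variable {G : Type u} [Group G] [Fintype G]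

/-- The fixed points of `τ` in `O_p(U)`. -/
noncomputable def fixR (σ τ : G) (h p : ℕ) : Subgroup G :=
  coreP σ h p ⊓ Subgroup.centralizer ({τ} : Set G)

/-- The centre of `O_p(U)`. -/
noncomputable def centR (σ : G) (h p : ℕ) : Subgroup G :=
  (Subgroup.center (coreP σ h p)).map (coreP σ h p).subtype

theorem mem_fixR {σ τ : G} {h p : ℕ} {a : G} :
    a ∈ fixR σ τ h p ↔ a ∈ coreP σ h p ∧ Commute a τ := by
  simp only [fixR, Subgroup.mem_inf, Subgroup.mem_centralizer_singleton_iff, commute_iff_eq]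

theorem mem_centR {σ : G} {h p : ℕ} {z : G} :
    z ∈ centR σ h p ↔ z ∈ coreP σ h p ∧ ∀ b ∈ coreP σ h p, Commute z b := by
  constructor
  · rintro ⟨w, hw, rfl⟩
    exact ⟨w.2, fun b hb => congrArg Subtype.val (Subgroup.mem_center_iff.1 hw ⟨b, hb⟩).symm⟩
  · rintro ⟨hz, hc⟩
    exact ⟨⟨z, hz⟩, Subgroup.mem_center_iff.2 fun b => Subtype.ext (hc b b.2).symm.eq, rfl⟩

/-- The configuration. -/
structure HeisCtx (P : Sylow 2 G) (σ τ : G) (h p : ℕ) (L : Subgroup G) : Prop where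
  prime : p.Prime
  cardR : Nat.card (coreP σ h p) = p ^ 3
  nonab : ∃ a ∈ coreP σ h p, ∃ b ∈ coreP σ h p, ¬ Commute a b
  cardA : Nat.card (fixR σ τ h p) = p
  le : (P : Subgroup G) ≤ L
  cent : ∀ l ∈ L, ∀ a ∈ fixR σ τ h p, Commute l a
  normL : ∀ y ∈ oddSub σ h, (∀ a ∈ fixR σ τ h p, y * a * y⁻¹ ∈ fixR σ τ h p) →
    ∀ l ∈ L, y * l * y⁻¹ ∈ L
  key : ∀ y ∈ oddSub σ h, Commute y τ → ∀ l ∈ L, Commute l y
  other : ∀ r : ℕ, r.Prime → r ≠ p → ∀ Z₀ : Subgroup G, Z₀ ≤ coreP σ h r →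
    (∀ c, Commute c (σ ^ h) → ∀ z ∈ Z₀, c * z * c⁻¹ ∈ Z₀) →
    (∀ z ∈ Z₀, ∀ z' ∈ Z₀, Commute z z') → (∀ z ∈ Z₀, z ^ r = 1) →
    (∀ z ∈ Z₀, Commute τ z) ∨ (∀ z ∈ Z₀, τ * z * τ⁻¹ = z⁻¹)

variable [Fact (Nat.Prime 2)] {P : Sylow 2 G} {σ τ : G} {h p : ℕ} {L : Subgroup G}
variable {F : Type} [Field F] [Fintype F]

/-- In a component `PSL₂(q)` at most one involution commutes with a given element of order at least
three. -/
theorem unique_involution (hodd : Odd (Fintype.card F))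
    (e : L ≃* Matrix.ProjectiveSpecialLinearGroup (Fin 2) F) {w i j : G} (hw : w ∈ L)
    (hw2 : w * w ≠ 1) (hi : i ∈ L) (hj : j ∈ L) (hi2 : i * i = 1) (hi1 : i ≠ 1) (hj2 : j * j = 1)
    (hj1 : j ≠ 1) (hiw : Commute i w) (hjw : Commute j w) : i = j := by
  have hord : ∀ {s : G} (hs : s ∈ L), s * s = 1 → s ≠ 1 → orderOf (e ⟨s, hs⟩) = 2 := by
    intro s hs h2 h1
    rw [e.orderOf_eq, Subgroup.orderOf_mk]
    exact orderOf_eq_prime (by rw [pow_two, h2]) h1
  have := e.injective (psl_involution_unique (Nat.odd_iff.1 hodd) (y := e ⟨w, hw⟩) (fun he => ?_)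
    (hord hi hi2 hi1) (hord hj hj2 hj1)
    ((show Commute (⟨i, hi⟩ : L) ⟨w, hw⟩ from Subtype.ext hiw.eq).map e.toMonoidHom)
    ((show Commute (⟨j, hj⟩ : L) ⟨w, hw⟩ from Subtype.ext hjw.eq).map e.toMonoidHom))
  · exact congrArg Subtype.val this
  · rw [← map_mul, MulEquiv.map_eq_one_iff] at he
    exact hw2 (congrArg Subtype.val he)

variable (D : DihSylow P σ τ h)

include D

theorem rotation_facts : σ * τ ∈ (P : Subgroup G) ∧ σ * τ ∉ Subgroup.zpowers σ :=
  D.reflection_iff.2 ⟨1, by have := D.two_le; omega, by rw [pow_one]⟩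

theorem tau_facts : τ ∈ (P : Subgroup G) ∧ τ ∉ Subgroup.zpowers σ :=
  D.reflection_iff.2 ⟨0, by have := D.two_le; omega, by simp⟩

theorem seven_le (hodd : Odd (Fintype.card F))
    (e : L ≃* Matrix.ProjectiveSpecialLinearGroup (Fin 2) F) (hle : (P : Subgroup G) ≤ L) :
    7 ≤ Fintype.card F := by
  have hq : Fintype.card F % 2 = 1 := Nat.odd_iff.1 hodd
  have hPL : 4 * h ∣ Nat.card L := D.card ▸ Subgroup.card_dvd_of_le hle
  have hcard : 2 * Nat.card L = Fintype.card F * (Fintype.card F ^ 2 - 1) := by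
    rw [Nat.card_congr e.toEquiv]
    exact Cfsg.Lib.Dickson.card_psl_mul hq
  obtain ⟨l, hl⟩ : ∃ l, l = Nat.card L := ⟨_, rfl⟩
  rw [← hl] at hPL hcard
  by_contra hlt
  have h8 : 8 ∣ l := by
    obtain ⟨r, hr⟩ := D.even
    exact dvd_trans ⟨r, by omega⟩ hPL
  rcases (show Fintype.card F = 1 ∨ Fintype.card F = 3 ∨ Fintype.card F = 5 by omega) with
    e' | e' | e'
  · exact absurd e' (Fintype.one_lt_card (α := F)).ne'
  · rw [e'] at hcard; omega
  · rw [e'] at hcard; omega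

namespace HeisCtx

variable (c : HeisCtx P σ τ h p L)

include c

theorem J_mem : σ ^ h ∈ L := c.le (pow_mem D.memσ h)

theorem tau_mem : τ ∈ L := c.le D.memτ

theorem sigma_mem : σ ∈ L := c.le D.memσ

theorem tau_inv : τ⁻¹ = τ := inv_eq_of_mul_eq_one_right D.sqτ

theorem odd_card {X : Subgroup G} (hX : X ≤ oddSub σ h) : Odd (Nat.card X) := by
  refine Nat.not_even_iff_odd.1 fun hev => ?_
  obtain ⟨y, hy⟩ := exists_prime_orderOf_dvd_card' 2 (even_iff_two_dvd.1 hev)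
  have := odd_orderOf D (hX y.2)
  rw [Subgroup.orderOf_coe, hy] at this
  exact absurd this (by decide)

theorem p_ne_two : p ≠ 2 := by
  rintro rfl
  have := odd_card D c (X := coreP σ h 2) coreP_le
  rw [c.cardR] at this
  exact absurd this (by decide)

theorem fixR_le : fixR σ τ h p ≤ oddSub σ h := inf_le_left.trans coreP_le

theorem conj_tau {a : G} (ha : a ∈ oddSub σ h) : τ * a * τ ∈ oddSub σ h := by
  have := conj_oddSub D (D.central_involution.2.2 τ D.memτ) ha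
  rwa [tau_inv D c] at this

/-- Every element of the odd part is a fixed one times an inverted one. -/
theorem split {X : Subgroup G} (hX : X ≤ oddSub σ h) (hτ : ∀ y ∈ X, τ * y * τ ∈ X) {y : G}
    (hy : y ∈ X) : ∃ w ∈ X, ∃ i ∈ X, Commute w τ ∧ τ * i * τ = i⁻¹ ∧ y = w * i :=
  InvAct.exists_split (odd_card D c hX) D.sqτ (Subgroup.mem_normalizer_fintype fun a ha => by
    rw [tau_inv D c]; exact hτ a ha) hy

/-- An element commuting with `τ` normalises the fixed points. -/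
theorem norm_of_commute {w : G} (hw : w ∈ oddSub σ h) (hwτ : Commute w τ) :
    ∀ a ∈ fixR σ τ h p, w * a * w⁻¹ ∈ fixR σ τ h p := by
  intro a ha
  obtain ⟨haR, haτ⟩ := mem_fixR.1 ha
  exact mem_fixR.2 ⟨conj_coreP D (commute_J D hw) haR, (hwτ.mul_left haτ).mul_left hwτ.inv_left⟩

theorem norm_mul {x y : G} (hx : ∀ a ∈ fixR σ τ h p, x * a * x⁻¹ ∈ fixR σ τ h p)
    (hy : ∀ a ∈ fixR σ τ h p, y * a * y⁻¹ ∈ fixR σ τ h p) :
    ∀ a ∈ fixR σ τ h p, x * y * a * (x * y)⁻¹ ∈ fixR σ τ h p := fun a ha => by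
  rw [show x * y * a * (x * y)⁻¹ = x * (y * a * y⁻¹) * x⁻¹ by group]
  exact hx _ (hy a ha)

/-- An inverted element of the odd part normalising the fixed points lies in the component. -/
theorem mem_torus {y : G} (hy : y ∈ oddSub σ h)
    (hn : ∀ a ∈ fixR σ τ h p, y * a * y⁻¹ ∈ fixR σ τ h p) (hi : τ * y * τ = y⁻¹) :
    y ∈ L ⊓ oddSub σ h := by
  refine ⟨?_, hy⟩
  have h2 : y * y ∈ L := by
    have e : y * y = y * τ * y⁻¹ * τ := by
      have e2 : τ * y⁻¹ * τ = y := by rw [InvAct.conj_inv D.sqτ, hi, inv_inv]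
      calc y * y = y * (τ * y⁻¹ * τ) := by rw [e2]
        _ = _ := by group
    rw [e]
    exact mul_mem (c.normL y hy hn τ (tau_mem D c)) (tau_mem D c)
  obtain ⟨k, hk⟩ := odd_orderOf D hy
  have e : y = (y * y) ^ (k + 1) := by
    rw [← pow_two, ← pow_mul, show 2 * (k + 1) = orderOf y + 1 by omega, pow_succ,
      pow_orderOf_eq_one, one_mul]
  rw [e]
  exact pow_mem h2 _

/-- An element of the odd part normalising the fixed points is a fixed one times one of the torus. -/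
theorem decomp {y : G} (hy : y ∈ oddSub σ h)
    (hn : ∀ a ∈ fixR σ τ h p, y * a * y⁻¹ ∈ fixR σ τ h p) :
    ∃ w ∈ oddSub σ h, ∃ i ∈ L ⊓ oddSub σ h, Commute w τ ∧ τ * i * τ = i⁻¹ ∧ y = w * i := by
  obtain ⟨w, hw, i, hi, hwτ, hii, rfl⟩ := split D c le_rfl (fun a ha => conj_tau D c ha) hy
  refine ⟨w, hw, i, mem_torus D c hi ?_ hii, hwτ, hii, rfl⟩
  have h1 := norm_mul D c (norm_of_commute D c (inv_mem hw) hwτ.inv_left) hn
  intro a ha
  have := h1 a ha
  rwa [inv_mul_cancel_left] at this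

theorem conj_mem_P {x l : G} (hx : x ∈ (P : Subgroup G)) (hl : l ∈ L ⊓ oddSub σ h) :
    x * l * x⁻¹ ∈ L ⊓ oddSub σ h :=
  ⟨L.mul_mem (L.mul_mem (c.le hx) hl.1) (L.inv_mem (c.le hx)),
    conj_oddSub D (D.central_involution.2.2 x hx) hl.2⟩

variable (hodd : Odd (Fintype.card F)) (e : L ≃* Matrix.ProjectiveSpecialLinearGroup (Fin 2) F)

include hodd e

/-- Every reflection inverts the torus. -/
theorem torus_inv {x : G} (hx : x ∈ (P : Subgroup G)) (hx' : x ∉ Subgroup.zpowers σ) {y : G}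
    (hy : y ∈ L ⊓ oddSub σ h) : x * y * x⁻¹ = y⁻¹ := by
  obtain ⟨hx2, hx1, hxJ⟩ := reflection_mem D hx hx'
  obtain ⟨hJ2, hJ1, -⟩ := D.central_involution
  have hxi : x⁻¹ = x := inv_eq_of_mul_eq_one_right hx2
  obtain ⟨w, hw, i, hi, hwx, hii, rfl⟩ := InvAct.exists_split (odd_card D c inf_le_right) hx2
    (Subgroup.mem_normalizer_fintype fun a ha => conj_mem_P D c hx ha) hy
  have hw1 : w = 1 := by
    by_contra hne
    refine hxJ (unique_involution hodd e hw.1 (fun h2 => hne ?_) (c.le hx) (J_mem D c) hx2 hx1 hJ2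
      hJ1 hwx.symm (commute_J D hw.2).symm)
    exact eq_one_of_two_pow D hw.2 (k := 1) (by rw [pow_one, pow_two, h2])
  rw [hw1, one_mul, hxi]
  exact hii

theorem torus_comm {y z : G} (hy : y ∈ L ⊓ oddSub σ h) (hz : z ∈ L ⊓ oddSub σ h) : Commute y z := by
  obtain ⟨hτ, hτ'⟩ := tau_facts D
  have e1 := torus_inv D c hodd e hτ hτ' (mul_mem hy hz)
  rw [show τ * (y * z) * τ⁻¹ = τ * y * τ⁻¹ * (τ * z * τ⁻¹) by group,
    torus_inv D c hodd e hτ hτ' hy, torus_inv D c hodd e hτ hτ' hz] at e1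
  have := congrArg (·⁻¹) e1
  simp only [mul_inv_rev, inv_inv] at this
  exact this.symm

theorem sigma_torus {y : G} (hy : y ∈ L ⊓ oddSub σ h) : Commute σ y := by
  obtain ⟨hτ, hτ'⟩ := tau_facts D
  obtain ⟨hs, hs'⟩ := rotation_facts D
  have e1 := torus_inv D c hodd e hs hs' (inv_mem hy)
  refine mul_inv_eq_iff_eq_mul.1 ?_
  calc σ * y * σ⁻¹ = σ * τ * (τ * y * τ⁻¹) * (σ * τ)⁻¹ := by
        have hτ2 : τ * τ = 1 := D.sqτ
        rw [show σ * τ * (τ * y * τ⁻¹) * (σ * τ)⁻¹ = σ * (τ * τ) * y * (τ * τ)⁻¹ * σ⁻¹ by group,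
          hτ2]
        group
    _ = y := by rw [torus_inv D c hodd e hτ hτ' hy, e1, inv_inv]

/-- The central involution is not central in the component. -/
theorem exists_not_commute : ∃ l ∈ L, ¬ Commute l (σ ^ h) := by
  by_contra hno
  push Not at hno
  obtain ⟨hJ2, hJ1, -⟩ := D.central_involution
  obtain ⟨hτ, hτ'⟩ := tau_facts D
  obtain ⟨hτ2, hτ1, hτJ⟩ := reflection_mem D hτ hτ'
  have h7 := seven_le D hodd e c.le
  have hord : ∀ {s : G} (hs : s ∈ L), s * s = 1 → s ≠ 1 → orderOf (e ⟨s, hs⟩) = 2 := by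
    intro s hs h2 h1
    rw [e.orderOf_eq, Subgroup.orderOf_mk]
    exact orderOf_eq_prime (by rw [pow_two, h2]) h1
  obtain ⟨g, hg⟩ := isConj_iff.1 (Cfsg.Lib.Dickson.isConj_of_involutions (by omega)
    (hord (J_mem D c) hJ2 hJ1) (hord (tau_mem D c) hτ2 hτ1))
  have hg' := congrArg (fun y => ((e.symm y : L) : G)) hg
  simp only [map_mul, map_inv, e.symm_apply_apply, Subgroup.coe_mul, InvMemClass.coe_inv] at hg'
  rw [(hno _ (e.symm g).2).eq, mul_inv_cancel_right] at hg'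
  exact hτJ hg'.symm

variable [IsSimpleGroup G] (hmax : IsCoatom (Subgroup.centralizer ({σ ^ h} : Set G)))

include hmax

/-- No nontrivial normal subgroup of the centralizer in the odd part is centralised by `L`. -/
theorem not_centralised (X : Subgroup G) (hX : X ≤ oddSub σ h) (hX1 : X ≠ ⊥)
    (hXC : ∀ g, Commute g (σ ^ h) → ∀ a ∈ X, g * a * g⁻¹ ∈ X)
    (hXL : ∀ l ∈ L, ∀ a ∈ X, Commute l a) : False := by
  obtain ⟨l, hl, hn⟩ := exists_not_commute D c hodd e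
  exact hn (commute_of_normalizes D hmax X hX hX1 hXC fun a ha => by
    rw [(hXL l hl a ha).eq, mul_inv_cancel_right]; exact ha)

/-- The other parts of the Fitting subgroup lie in the torus. -/
theorem core_le_torus {r : ℕ} (hr : r.Prime) (hne : r ≠ p) {y : G} (hy : y ∈ coreP σ h r) :
    y ∈ L ⊓ oddSub σ h := by
  haveI : Fact r.Prime := ⟨hr⟩
  have hR : ∀ {y}, y ∈ coreP σ h r → ∀ a ∈ fixR σ τ h p, y * a * y⁻¹ ∈ fixR σ τ h p := by
    intro y hy a ha
    rw [(commute_coreP D hr c.prime hne hy (mem_fixR.1 ha).1).eq, mul_inv_cancel_right]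
    exact ha
  have hτQ : ∀ y ∈ coreP σ h r, τ * y * τ ∈ coreP σ h r := fun y hy => by
    have := conj_coreP D (D.central_involution.2.2 τ D.memτ) hy
    rwa [tau_inv D c] at this
  obtain ⟨hτm, hτ'⟩ := tau_facts D
  have hsplit : ∀ y ∈ coreP σ h r, ∃ w ∈ coreP σ h r, ∃ i ∈ coreP σ h r, Commute w τ ∧
      τ * i * τ = i⁻¹ ∧ i ∈ L ⊓ oddSub σ h ∧ y = w * i := by
    intro y hy
    obtain ⟨w, hw, i, hi, hwτ, hii, e⟩ := split D c coreP_le hτQ hy
    exact ⟨w, hw, i, hi, hwτ, hii, mem_torus D c (coreP_le hi) (hR hi) hii, e⟩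
  suffices hK : ∀ w ∈ coreP σ h r, Commute w τ → w = 1 by
    obtain ⟨w, hw, i, -, hwτ, -, hiT, rfl⟩ := hsplit y hy
    rw [hK w hw hwτ, one_mul]
    exact hiT
  intro w₀ hw₀ hw₀τ
  by_contra hw₁
  obtain ⟨K, hKdef⟩ : ∃ K, K = coreP σ h r ⊓ Subgroup.centralizer ({τ} : Set G) := ⟨_, rfl⟩
  have hmK : ∀ {k}, k ∈ K ↔ k ∈ coreP σ h r ∧ Commute k τ := fun {k} => by
    simp only [hKdef, Subgroup.mem_inf, Subgroup.mem_centralizer_singleton_iff, commute_iff_eq]
  have hKp : IsPGroup r K := (isPGroup_coreP (p := r)).to_le (hKdef ▸ inf_le_left)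
  haveI : Nontrivial K := ⟨⟨⟨w₀, hmK.2 ⟨hw₀, hw₀τ⟩⟩, 1, fun e' => hw₁ (congrArg Subtype.val e')⟩⟩
  haveI := hKp.center_nontrivial
  obtain ⟨k, hk⟩ : ∃ k : Subgroup.center K, orderOf k = r := by
    obtain ⟨n, hn0, hn⟩ := (hKp.to_subgroup (Subgroup.center K)).nontrivial_iff_card.1 inferInstance
    exact exists_prime_orderOf_dvd_card' r (hn ▸ dvd_pow_self r (by omega))
  obtain ⟨k₀, hk₀⟩ : ∃ k₀ : G, k₀ = ((k : K) : G) := ⟨_, rfl⟩
  obtain ⟨hkQ, hkτ⟩ := hmK.1 (hk₀ ▸ (k : K).2)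
  have hk1 : k₀ ≠ 1 := fun e' => by
    have : k = 1 := Subtype.ext (Subtype.ext (hk₀ ▸ e'))
    rw [this, orderOf_one] at hk
    exact hr.one_lt.ne hk
  have hkr : k₀ ^ r = 1 := by
    have := congrArg (fun x : Subgroup.center K => ((x : K) : G)) (hk ▸ pow_orderOf_eq_one k :)
    simpa [hk₀] using this
  have hkc : ∀ y ∈ coreP σ h r, Commute k₀ y := by
    intro y hy
    obtain ⟨w, hw, i, -, hwτ, -, hiT, rfl⟩ := hsplit y hy
    refine Commute.mul_right ?_ (c.key k₀ (coreP_le hkQ) hkτ i hiT.1).symm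
    rw [hk₀]
    exact congrArg Subtype.val (Subgroup.mem_center_iff.1 k.2 ⟨w, hmK.2 ⟨hw, hwτ⟩⟩).symm
  let Z₀ : Subgroup G :=
    { carrier := {y | y ∈ coreP σ h r ∧ y ^ r = 1 ∧ ∀ b ∈ coreP σ h r, Commute y b}
      one_mem' := ⟨one_mem _, one_pow _, fun b _ => Commute.one_left b⟩
      mul_mem' := fun {a b} ha hb => ⟨mul_mem ha.1 hb.1, by
        rw [(ha.2.2 b hb.1).mul_pow, ha.2.1, hb.2.1, one_mul],
        fun x hx => (ha.2.2 x hx).mul_left (hb.2.2 x hx)⟩
      inv_mem' := fun {a} ha => ⟨inv_mem ha.1, by rw [inv_pow, ha.2.1, inv_one],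
        fun x hx => (ha.2.2 x hx).inv_left⟩ }
  have hconj : ∀ g, Commute g (σ ^ h) → ∀ z ∈ Z₀, g * z * g⁻¹ ∈ Z₀ := by
    intro g hg z hz
    refine ⟨conj_coreP D hg hz.1, by rw [conj_pow, hz.2.1, mul_one, mul_inv_cancel], fun b hb => ?_⟩
    have hb' : g⁻¹ * b * g ∈ coreP σ h r := by
      have := conj_coreP D hg.inv_left hb
      rwa [inv_inv] at this
    have := (hz.2.2 _ hb').map (MulAut.conj g).toMonoidHom
    simp only [MulEquiv.coe_toMonoidHom, MulAut.conj_apply] at this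
    rwa [show g * (g⁻¹ * b * g) * g⁻¹ = b by group] at this
  have hk0 : k₀ ∈ Z₀ := ⟨hkQ, hkr, hkc⟩
  rcases c.other r hr hne Z₀ (fun z hz => hz.1) hconj (fun z hz z' hz' => hz.2.2 z' hz'.1)
      (fun z hz => hz.2.1) with hcen | hinv
  · -- the torus part is trivial
    refine not_centralised D c hodd e hmax (coreP σ h r) coreP_le
      (fun e' => hw₁ (Subgroup.mem_bot.1 (e' ▸ hw₀))) (fun g hg a ha => conj_coreP D hg ha) ?_
    intro l hl a ha
    obtain ⟨w, hw, i, hi, hwτ, hii, hiT, rfl⟩ := hsplit a ha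
    suffices hi1 : i = 1 by rw [hi1, mul_one]; exact c.key w (coreP_le hw) hwτ l hl
    by_contra hi1
    have hdvd : r ∣ orderOf i := by
      obtain ⟨j, hj⟩ := IsPGroup.iff_orderOf.1 (isPGroup_coreP (p := r)) ⟨i, hi⟩
      rw [Subgroup.orderOf_mk] at hj
      rcases j with _ | j
      · exact absurd (orderOf_eq_one_iff.1 (by simpa using hj)) hi1
      · exact hj ▸ dvd_pow_self r j.succ_ne_zero
    obtain ⟨z, hz⟩ : ∃ z, z = i ^ (orderOf i / r) := ⟨_, rfl⟩
    have hzo : orderOf z = r := hz ▸ orderOf_pow_orderOf_div (orderOf_pos i).ne' hdvd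
    have hzQ : z ∈ coreP σ h r := hz ▸ pow_mem hi _
    have hzT : z ∈ L ⊓ oddSub σ h := hz ▸ pow_mem hiT _
    have hzZ : z ∈ Z₀ := by
      refine ⟨hzQ, hzo ▸ pow_orderOf_eq_one z, fun b hb => ?_⟩
      obtain ⟨w', hw', i', -, hw'τ, -, hi'T, rfl⟩ := hsplit b hb
      exact (c.key w' (coreP_le hw') hw'τ z hzT.1).mul_right (torus_comm D c hodd e hzT hi'T)
    have := eq_one_of_inverted D hzT.2 (hcen z hzZ) (torus_inv D c hodd e hτm hτ' hzT)
    rw [this, orderOf_one] at hzo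
    exact hr.one_lt.ne hzo
  · exact hk1 (eq_one_of_inverted D (coreP_le hkQ) hkτ.symm (hinv k₀ hk0))

/-- The parts of the Fitting subgroup prime to `p` are central in the odd part. -/
theorem core_central {r : ℕ} (hr : r.Prime) (hne : r ≠ p) {q y : G} (hq : q ∈ coreP σ h r)
    (hy : y ∈ oddSub σ h) : Commute y q := by
  obtain ⟨w, hw, i, hi, hwτ, hii, rfl⟩ := split D c le_rfl (fun a ha => conj_tau D c ha) hy
  have hqT := core_le_torus D c hodd e hmax hr hne hq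
  refine Commute.mul_left (c.key w hw hwτ q hqT.1).symm ?_
  obtain ⟨hτm, hτ'⟩ := tau_facts D
  have hinv : ∀ {q}, q ∈ coreP σ h r → τ * q * τ = q⁻¹ := fun {q} hq => by
    have := torus_inv D c hodd e hτm hτ' (core_le_torus D c hodd e hmax hr hne hq)
    rwa [tau_inv D c] at this
  exact GW.commute_of_inverted_inverted D.sqτ hii (hinv hq)
    (hinv (conj_coreP D (commute_J D hi) hq)) (odd_orderOf D hi)

end HeisCtx

end Cfsg.Lib.GW.CMax
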