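import Cfsg.Agent.Lib.GW.CMax.HeisenbergBase

/-!
# Gorenstein–Walter, a maximal centralizer: the group `O_p(U)` of order `p³`

`R = O_p(U)`, `A = C_R(τ)`, `Z = Z(R)`: `Z` has order `p` and is inverted by `τ`, `C_R(b)` has order
`p²` for `b` outside `Z`, and `σ` centralises the odd part `U`.
-/

set_option autoImplicit false
set_option linter.unusedSectionVars false
set_option linter.style.haveILetI false
set_option maxHeartbeats 800000

namespace Cfsg.Lib.GW.CMax

open Cfsg Cfsg.Lib.Block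
open Cfsg.Lib.Block.DihSylow (oddPart oddFix mem_oddPart mem_oddFix)

universe u

variable {F : Type} [Field F] [Fintype F]
variable {G : Type u} [Group G] [Fintype G] [Fact (Nat.Prime 2)] {P : Sylow 2 G} {σ τ : G}
  {h p : ℕ} {L : Subgroup G}

/-- The centralizer of an element in `O_p(U)`. -/
noncomputable def midR (σ : G) (h p : ℕ) (b : G) : Subgroup G :=
  coreP σ h p ⊓ Subgroup.centralizer ({b} : Set G)

theorem mem_midR {b y : G} : y ∈ midR σ h p b ↔ y ∈ coreP σ h p ∧ Commute y b := by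
  simp only [midR, Subgroup.mem_inf, Subgroup.mem_centralizer_singleton_iff, commute_iff_eq]

/-- Two subgroups meeting trivially and of the right orders exhaust a subgroup. -/
theorem exists_prod {X Y M : Subgroup G} (hX : X ≤ M) (hY : Y ≤ M)
    (hd : ∀ y ∈ X, y ∈ Y → y = 1) (hc : Nat.card M ≤ Nat.card X * Nat.card Y) {m : G} (hm : m ∈ M) :
    ∃ x ∈ X, ∃ y ∈ Y, m = x * y := by
  let f : X × Y → M := fun q => ⟨(q.1 : G) * q.2, mul_mem (hX q.1.2) (hY q.2.2)⟩
  have hinj : Function.Injective f := by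
    rintro ⟨a, b⟩ ⟨a', b'⟩ he
    have he' : (a : G) * b = a' * b' := congrArg Subtype.val he
    have h1 : (a' : G)⁻¹ * a = b' * (b : G)⁻¹ := by
      rw [eq_mul_inv_iff_mul_eq, mul_assoc, he', inv_mul_cancel_left]
    have h2 : (a' : G)⁻¹ * a = 1 :=
      hd _ (mul_mem (inv_mem a'.2) a.2) (h1 ▸ mul_mem b'.2 (inv_mem b.2))
    refine Prod.ext (Subtype.ext (inv_mul_eq_one.1 h2).symm) (Subtype.ext ?_)
    rw [inv_mul_eq_one.1 h2] at he'
    exact mul_left_cancel he'
  obtain ⟨⟨x, y⟩, hxy⟩ := ((Nat.bijective_iff_injective_and_card f).2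
    ⟨hinj, le_antisymm (Nat.card_le_card_of_injective f hinj)
      (by rw [Nat.card_prod]; exact hc)⟩).2 ⟨m, hm⟩
  exact ⟨x, x.2, y, y.2, (congrArg Subtype.val hxy).symm⟩

variable (D : DihSylow P σ τ h) (c : HeisCtx P σ τ h p L)

include D c

namespace HeisCtx

theorem fact_prime : Fact p.Prime := ⟨c.prime⟩

theorem conj_R {x a : G} (hx : x ∈ oddSub σ h) (ha : a ∈ coreP σ h p) :
    x * a * x⁻¹ ∈ coreP σ h p :=
  conj_coreP D (commute_J D hx) ha

theorem card_center : Nat.card (centR σ h p) = p := by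
  haveI := fact_prime D c
  set R := coreP σ h p
  rw [centR, Subgroup.card_map_of_injective R.subtype_injective]
  obtain ⟨k, hk0, hk⟩ := IsPGroup.card_center_eq_prime_pow c.cardR (by norm_num)
  have hle : k ≤ 3 := (Nat.pow_le_pow_iff_right c.prime.one_lt).1
    (hk ▸ c.cardR ▸ Nat.le_of_dvd Nat.card_pos (Subgroup.card_subgroup_dvd_card _))
  have hmul := Subgroup.card_eq_card_quotient_mul_card_subgroup (Subgroup.center R)
  rw [c.cardR, hk] at hmul
  obtain ⟨a, ha, b, hb, hab⟩ := c.nonab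
  have hnc : ∀ j : ℕ, j ≤ 1 → Nat.card (R ⧸ Subgroup.center R) ≠ p ^ j := by
    intro j hj he
    haveI : IsCyclic (R ⧸ Subgroup.center R) := by
      rcases Nat.le_one_iff_eq_zero_or_eq_one.1 hj with rfl | rfl
      · haveI : Subsingleton (R ⧸ Subgroup.center R) :=
          (Nat.card_eq_one_iff_unique.1 (by simpa using he)).1
        infer_instance
      · exact isCyclic_of_prime_card (by simpa using he)
    refine hab ?_
    have := (QuotientGroup.mk' (Subgroup.center R)).isMulCommutative_of_isCyclic_of_ker_le_center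
      (le_of_eq (QuotientGroup.ker_mk' _))
    exact congrArg Subtype.val (this.is_comm.comm (⟨a, ha⟩ : R) ⟨b, hb⟩)
  rcases (show k = 1 ∨ k = 2 ∨ k = 3 by omega) with rfl | rfl | rfl
  · rw [hk, pow_one]
  · exact absurd (Nat.eq_of_mul_eq_mul_right (pow_pos c.prime.pos 2)
      (by rw [← hmul]; ring : Nat.card (R ⧸ Subgroup.center R) * p ^ 2 = p ^ 1 * p ^ 2)) (hnc 1 le_rfl)
  · exact absurd (Nat.eq_of_mul_eq_mul_right (pow_pos c.prime.pos 3)
      (by rw [← hmul]; ring : Nat.card (R ⧸ Subgroup.center R) * p ^ 3 = p ^ 0 * p ^ 3)) (hnc 0 (by omega))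

theorem eq_one_or_gen {X : Subgroup G} (hX : Nat.card X = p) {a : G} (ha : a ∈ X) (h1 : a ≠ 1) :
    Subgroup.zpowers a = X := by
  haveI := fact_prime D c
  refine Subgroup.eq_of_le_of_card_ge (Subgroup.zpowers_le.2 ha) ?_
  have hd : orderOf a ∣ p := hX ▸ Subgroup.orderOf_dvd_natCard _ ha
  rcases (Nat.dvd_prime c.prime).1 hd with e | e
  · exact absurd (orderOf_eq_one_iff.1 e) h1
  · rw [Nat.card_zpowers, e, hX]

theorem exists_fix : ∃ a ∈ fixR σ τ h p, a ≠ 1 := by
  refine (Subgroup.bot_or_exists_ne_one _).resolve_left fun e => ?_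
  have := c.cardA
  rw [e, Subgroup.card_bot] at this
  exact c.prime.one_lt.ne this

theorem comm_center {a b : G} (ha : a ∈ coreP σ h p) (hb : b ∈ coreP σ h p) :
    a * b * a⁻¹ * b⁻¹ ∈ centR σ h p := by
  haveI := fact_prime D c
  set R := coreP σ h p
  refine ⟨⟨a, ha⟩ * ⟨b, hb⟩ * (⟨a, ha⟩ : R)⁻¹ * (⟨b, hb⟩ : R)⁻¹, ?_, rfl⟩
  have hq : Nat.card (R ⧸ Subgroup.center R) = p ^ 2 := by
    have h1 := Subgroup.card_eq_card_quotient_mul_card_subgroup (Subgroup.center R)
    have h2 := card_center D c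
    rw [centR, Subgroup.card_map_of_injective R.subtype_injective] at h2
    rw [c.cardR, h2] at h1
    exact Nat.eq_of_mul_eq_mul_right c.prime.pos (by rw [← h1]; ring)
  have hcomm := IsPGroup.isMulCommutative_of_card_eq_prime_sq hq
  show (⟨a, ha⟩ : R) * ⟨b, hb⟩ * (⟨a, ha⟩ : R)⁻¹ * (⟨b, hb⟩ : R)⁻¹ ∈ Subgroup.center R
  rw [← QuotientGroup.eq_one_iff, QuotientGroup.mk_mul, QuotientGroup.mk_mul, QuotientGroup.mk_mul,
    QuotientGroup.mk_inv, QuotientGroup.mk_inv,
    hcomm.is_comm.comm ((⟨a, ha⟩ : R) : R ⧸ Subgroup.center R) (⟨b, hb⟩ : R), mul_inv_cancel_right,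
    mul_inv_cancel]

theorem card_mid {b : G} (hb : b ∈ coreP σ h p) (hbZ : b ∉ centR σ h p) :
    Nat.card (midR σ h p b) = p ^ 2 := by
  haveI := fact_prime D c
  have hdvd : Nat.card (midR σ h p b) ∣ p ^ 3 := c.cardR ▸ Subgroup.card_dvd_of_le inf_le_left
  obtain ⟨k, hk3, hk⟩ := (Nat.dvd_prime_pow c.prime).1 hdvd
  have hZle : centR σ h p ≤ midR σ h p b := fun z hz =>
    mem_midR.2 ⟨(mem_centR.1 hz).1, (mem_centR.1 hz).2 b hb⟩
  have h1 : p < p ^ k := by
    rw [← hk]
    refine lt_of_le_of_ne ((card_center D c).symm.trans_le (Subgroup.card_le_of_le hZle)) fun e' => hbZ ?_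
    rw [Subgroup.eq_of_le_of_card_ge hZle (by rw [← e', card_center D c])]
    exact mem_midR.2 ⟨hb, Commute.refl b⟩
  have h2 : k ≠ 3 := by
    rintro rfl
    refine hbZ (mem_centR.2 ⟨hb, fun y hy => ?_⟩)
    have hle : midR σ h p b ≤ coreP σ h p := inf_le_left
    have := Subgroup.eq_of_le_of_card_ge hle (by rw [hk, c.cardR])
    exact (mem_midR.1 (this ▸ hy)).2.symm
  have h3 : 1 < k := by
    by_contra hlt
    have := Nat.pow_le_pow_right c.prime.pos (show k ≤ 1 by omega)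
    rw [pow_one] at this
    omega
  rw [hk, show k = 2 by omega]

theorem mid_comm {b : G} (hb : b ∈ coreP σ h p) (hbZ : b ∉ centR σ h p) {x y : G}
    (hx : x ∈ midR σ h p b) (hy : y ∈ midR σ h p b) : Commute x y := by
  haveI := fact_prime D c
  have hcomm := IsPGroup.isMulCommutative_of_card_eq_prime_sq (card_mid D c hb hbZ)
  exact congrArg Subtype.val
    (hcomm.is_comm.comm (⟨x, hx⟩ : midR σ h p b) ⟨y, hy⟩)

theorem center_conj {g z : G} (hg : Commute g (σ ^ h)) (hz : z ∈ centR σ h p) :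
    g * z * g⁻¹ ∈ centR σ h p := by
  obtain ⟨hzR, hzc⟩ := mem_centR.1 hz
  refine mem_centR.2 ⟨conj_coreP D hg hzR, fun b hb => ?_⟩
  have hb' : g⁻¹ * b * g ∈ coreP σ h p := by
    have := conj_coreP D hg.inv_left hb
    rwa [inv_inv] at this
  have := (hzc _ hb').map (MulAut.conj g).toMonoidHom
  simp only [MulEquiv.coe_toMonoidHom, MulAut.conj_apply] at this
  rwa [show g * (g⁻¹ * b * g) * g⁻¹ = b by group] at this

theorem conj_tau_R {a : G} (ha : a ∈ coreP σ h p) : τ * a * τ ∈ coreP σ h p := by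
  have := conj_coreP D (D.central_involution.2.2 τ D.memτ) ha
  rwa [tau_inv D c] at this

variable (hodd : Odd (Fintype.card F)) (e : L ≃* Matrix.ProjectiveSpecialLinearGroup (Fin 2) F)
  [IsSimpleGroup G] (hmax : IsCoatom (Subgroup.centralizer ({σ ^ h} : Set G)))

include hodd e hmax

/-- The fixed points are not central. -/
theorem fix_center {a : G} (ha : a ∈ fixR σ τ h p) (haZ : a ∈ centR σ h p) : a = 1 := by
  by_contra h1
  have hAZ : fixR σ τ h p = centR σ h p :=
    (eq_one_or_gen D c c.cardA ha h1).symm.trans (eq_one_or_gen D c (card_center D c) haZ h1)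
  refine not_centralised D c hodd e hmax _ (fixR_le D c) (fun e' => h1 ?_) (fun g hg y hy => ?_)
    c.cent
  · exact Subgroup.mem_bot.1 (e' ▸ ha)
  · rw [hAZ] at hy ⊢
    exact center_conj D c hg hy

theorem center_inv {z : G} (hz : z ∈ centR σ h p) : τ * z * τ = z⁻¹ := by
  have hz' : τ * z * τ ∈ centR σ h p := by
    have := center_conj D c (D.central_involution.2.2 τ D.memτ) hz
    rwa [tau_inv D c] at this
  have hs : Commute (z * (τ * z * τ)) τ := InvAct.commute_of_conj D.sqτ (by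
    rw [InvAct.conj_mul D.sqτ,
      show τ * (τ * z * τ) * τ = (τ * τ) * z * (τ * τ) by group, D.sqτ, one_mul, mul_one]
    exact ((mem_centR.1 hz).2 _ (mem_centR.1 hz').1).eq.symm)
  have := fix_center D c hodd e hmax (mem_fixR.2 ⟨mul_mem (mem_centR.1 hz).1 (mem_centR.1 hz').1, hs⟩)
    (mul_mem hz hz')
  exact eq_inv_of_mul_eq_one_right this

theorem center_torus {z : G} (hz : z ∈ centR σ h p) : z ∈ L ⊓ oddSub σ h := by
  refine mem_torus D c (coreP_le (mem_centR.1 hz).1) (fun a ha => ?_) (center_inv D c hodd e hmax hz)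
  rw [((mem_centR.1 hz).2 a (mem_fixR.1 ha).1).eq, mul_inv_cancel_right]
  exact ha

/-- The centralizer of a fixed point in `O_p(U)` is the product of the fixed points and the
centre. -/
theorem mid_fix {a : G} (ha : a ∈ fixR σ τ h p) (h1 : a ≠ 1) {m : G} (hm : m ∈ midR σ h p a) :
    ∃ a' ∈ fixR σ τ h p, ∃ z ∈ centR σ h p, m = a' * z := by
  have haR := (mem_fixR.1 ha).1
  refine exists_prod (fun y hy => ?_) (fun z hz => mem_midR.2 ⟨(mem_centR.1 hz).1,
    (mem_centR.1 hz).2 a haR⟩) (fun y hy hy' => fix_center D c hodd e hmax hy hy')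
    (le_of_eq ?_) hm
  · refine mem_midR.2 ⟨(mem_fixR.1 hy).1, ?_⟩
    rw [← eq_one_or_gen D c c.cardA ha h1] at hy
    obtain ⟨k, rfl⟩ := Subgroup.mem_zpowers_iff.1 hy
    exact (Commute.refl a).zpow_left k
  · rw [c.cardA, card_center D c, card_mid D c haR fun hz => h1 (fix_center D c hodd e hmax ha hz),
      pow_two]

/-- Inside `O_p(U)` the torus is the centre. -/
theorem torus_R {r : G} (hr : r ∈ coreP σ h p) (hrT : r ∈ L ⊓ oddSub σ h) : r ∈ centR σ h p := by
  obtain ⟨a, ha, h1⟩ := exists_fix D c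
  obtain ⟨a', ha', z, hz, rfl⟩ := mid_fix D c hodd e hmax ha h1
    (mem_midR.2 ⟨hr, c.cent r hrT.1 a ha⟩)
  have hzT := center_torus D c hodd e hmax hz
  have haT : a' ∈ L ⊓ oddSub σ h := by
    have := (L ⊓ oddSub σ h).mul_mem hrT ((L ⊓ oddSub σ h).inv_mem hzT)
    rwa [mul_inv_cancel_right] at this
  obtain ⟨hτm, hτ'⟩ := tau_facts D
  rw [eq_one_of_inverted D haT.2 (mem_fixR.1 ha').2.symm (torus_inv D c hodd e hτm hτ' haT), one_mul]
  exact hz

/-- An element centralising the fixed points and the centre moves each element of `O_p(U)` by one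
which it centralises. -/
theorem exists_step {x b : G} (hxR : ∀ r ∈ coreP σ h p, x * r * x⁻¹ ∈ coreP σ h p)
    (hxA : ∀ a ∈ fixR σ τ h p, Commute x a) (hxZ : ∀ z ∈ centR σ h p, Commute x z)
    (hb : b ∈ coreP σ h p) :
    ∃ d ∈ coreP σ h p, Commute x d ∧ ∀ k : ℕ, x ^ k * b * (x ^ k)⁻¹ = d ^ k * b := by
  obtain ⟨a, ha, h1⟩ := exists_fix D c
  have haR := (mem_fixR.1 ha).1
  obtain ⟨d, hd⟩ : ∃ d, d = x * b * x⁻¹ * b⁻¹ := ⟨_, rfl⟩
  have hdR : d ∈ coreP σ h p := hd ▸ mul_mem (hxR b hb) (inv_mem hb)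
  have hda : Commute d a := by
    have hz := comm_center D c haR hb
    have e1 : x * (a * b * a⁻¹ * b⁻¹) * x⁻¹ = a * b * a⁻¹ * b⁻¹ := by
      rw [(hxZ _ hz).eq, mul_inv_cancel_right]
    have e2 : x * (a * b * a⁻¹ * b⁻¹) * x⁻¹ = a * (d * b) * a⁻¹ * (d * b)⁻¹ := by
      rw [hd, inv_mul_cancel_right,
        show x * (a * b * a⁻¹ * b⁻¹) * x⁻¹ =
          (x * a * x⁻¹) * (x * b * x⁻¹) * (x * a * x⁻¹)⁻¹ * (x * b * x⁻¹)⁻¹ by group,
        (hxA a ha).eq, mul_inv_cancel_right]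
    have hz2 := comm_center D c haR hdR
    obtain ⟨z, hzd⟩ : ∃ z, z = a * b * a⁻¹ * b⁻¹ := ⟨_, rfl⟩
    rw [← hzd] at hz e1 e2
    have e3 : a * (d * b) * a⁻¹ * (d * b)⁻¹ = a * d * a⁻¹ * d⁻¹ * z := by
      calc a * (d * b) * a⁻¹ * (d * b)⁻¹ = a * d * a⁻¹ * (z * d⁻¹) := by rw [hzd]; group
        _ = _ := by rw [((mem_centR.1 hz).2 _ (inv_mem hdR)).eq]; group
    rw [e1, e3] at e2
    exact (mul_inv_eq_iff_eq_mul.1 (mul_inv_eq_one.1 (mul_eq_right.1 e2.symm))).symm
  obtain ⟨a', ha', z, hz, hdz⟩ := mid_fix D c hodd e hmax ha h1 (mem_midR.2 ⟨hdR, hda⟩)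
  have hxd : Commute x d := hdz ▸ (hxA a' ha').mul_right (hxZ z hz)
  refine ⟨d, hdR, hxd, fun k => ?_⟩
  induction k with
  | zero => simp
  | succ k ih =>
    calc x ^ (k + 1) * b * (x ^ (k + 1))⁻¹ = x * (x ^ k * b * (x ^ k)⁻¹) * x⁻¹ := by
          rw [pow_succ']; group
      _ = x * d ^ k * x⁻¹ * (x * b * x⁻¹) := by rw [ih]; group
      _ = d ^ k * (x * b * x⁻¹) := by rw [(hxd.pow_right k).eq, mul_inv_cancel_right]
      _ = d ^ (k + 1) * b := by
          rw [pow_succ, show x * b * x⁻¹ = d * b by rw [hd]; group, mul_assoc]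

theorem sigma_R {b : G} (hb : b ∈ coreP σ h p) : Commute σ b := by
  obtain ⟨d, hd, -, hk⟩ := exists_step D c hodd e hmax
    (fun r hr => conj_coreP D ((Commute.refl σ).pow_right h) hr)
    (fun a ha => c.cent σ (sigma_mem D c) a ha)
    (fun z hz => sigma_torus D c hodd e (center_torus D c hodd e hmax hz)) hb
  obtain ⟨j, hj⟩ := D.exists_order D.memσ
  have h1 := hk (2 ^ j)
  rw [← hj, pow_orderOf_eq_one, one_mul, inv_one, mul_one] at h1
  have hd1 : d = 1 := eq_one_of_two_pow D (coreP_le hd) (k := j) (hj ▸ mul_eq_right.1 h1.symm)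
  have h2 := hk 1
  rw [pow_one, pow_one, hd1, one_mul] at h2
  exact mul_inv_eq_iff_eq_mul.1 h2

/-- The rotation centralises the odd part. -/
theorem sigma_odd {y : G} (hy : y ∈ oddSub σ h) : Commute σ y := by
  refine commute_oddSub D D.memσ (commute_fitSub D fun r hr a ha => ?_) y hy
  by_cases hrp : r = p
  · subst hrp
    exact sigma_R D c hodd e hmax ha
  · exact sigma_torus D c hodd e (core_le_torus D c hodd e hmax hr hrp ha)

/-- Members of the odd part commuting with a reflection commute with the Sylow subgroup. -/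
theorem fixCentral : FixCentral P σ τ h := by
  intro y hy i hyi q hq
  have hy' := (mem_oddSub D).2 hy
  have hyτ : Commute y τ := by
    have := ((sigma_odd D c hodd e hmax hy').pow_left i).symm.inv_right.mul_right hyi
    rwa [inv_mul_cancel_left] at this
  exact (c.key y hy' hyτ q (c.le hq)).symm

end HeisCtx

end Cfsg.Lib.GW.CMax
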