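import Cfsg.Agent.Lib.GW.CMax.Fix
import Cfsg.Agent.Lib.GW.ArithTwo
import Cfsg.Agent.Lib.Invol.BrauerFowler
import Cfsg.Agent.Lib.GW.AlmostSimple
import Cfsg.Agent.Lib.Dickson.Overgroups

/-!
# Gorenstein–Walter, a maximal centralizer: the end of the case `O_p(U)` of order `p³`

Here `|U| = p² t m W` with both `C_U(x)` of order `W` and `2 m ≤ p + 1`.  For a prime `r` dividing
`p t` the only involution centralising `O_r(U)` is `J`, so the number of involutions is congruent
to one modulo `r`; with the order formula this gives `X - 1 = ± 4 h p² t m`.  A prime power `q`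
with `q ∓ 1 = 4 h p t` and `q W ∣ |G|` is then impossible.
-/

set_option autoImplicit false
set_option linter.unusedSectionVars false
set_option linter.style.haveILetI false
set_option maxHeartbeats 800000

namespace Cfsg.Lib.GW.CMax

open Cfsg Cfsg.Lib.Block
open Cfsg.Lib.Block.DihSylow (oddPart oddFix mem_oddPart mem_oddFix)

universe u

variable {G : Type u} [Group G] [Fintype G]

/-- A group of prime power order fixing only `J` among its conjugates. -/
theorem card_class_modEq {r : ℕ} [Fact r.Prime] (R : Subgroup G) (hR : IsPGroup r R) (J : G)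
    (hJ : ∀ y ∈ R, Commute y J) (huniq : ∀ a, IsConj J a → (∀ y ∈ R, Commute y a) → a = J) :
    Nat.card {a : G // IsConj J a} ≡ 1 [MOD r] := by
  letI : MulAction R {a : G // IsConj J a} :=
    { smul := fun y a => ⟨(y : G) * a * (y : G)⁻¹, a.2.trans (isConj_iff.2 ⟨y, rfl⟩)⟩
      one_smul := fun a => Subtype.ext (by show (1 : G) * a * 1⁻¹ = a; group)
      mul_smul := fun y z a => Subtype.ext (by
        show ((y : G) * z) * a * ((y : G) * z)⁻¹ = y * (z * a * (z : G)⁻¹) * (y : G)⁻¹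
        group) }
  have h := hR.card_modEq_card_fixedPoints {a : G // IsConj J a}
  have e : MulAction.fixedPoints R {a : G // IsConj J a} = {⟨J, IsConj.refl J⟩} := by
    ext a
    rw [MulAction.mem_fixedPoints, Set.mem_singleton_iff]
    refine ⟨fun ha => Subtype.ext (huniq a a.2 fun y hy => ?_), fun ha y => ?_⟩
    · exact mul_inv_eq_iff_eq_mul.1 (congrArg Subtype.val (ha ⟨y, hy⟩))
    · subst ha
      refine Subtype.ext ?_
      show (y : G) * J * (y : G)⁻¹ = J
      rw [(hJ y y.2).eq, mul_inv_cancel_right]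
  rw [e, Nat.card_eq_fintype_card (α := ({⟨J, IsConj.refl J⟩} : Set {a : G // IsConj J a})),
    Set.card_singleton] at h
  exact h

variable [Fact (Nat.Prime 2)] {P : Sylow 2 G} {σ τ : G} {h : ℕ} (D : DihSylow P σ τ h)

include D

/-- The only involution centralising `O_r(U)`, when no reflection centralises it. -/
theorem eq_central_of_commute_coreP [IsSimpleGroup G]
    (hmax : IsCoatom (Subgroup.centralizer ({σ ^ h} : Set G))) {r : ℕ}
    (hmove : ∀ x ∈ (P : Subgroup G), x ∉ Subgroup.zpowers σ → ∃ y ∈ coreP σ h r, ¬ Commute x y)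
    {a : G} (h2 : a * a = 1) (h1 : a ≠ 1) (hc : ∀ y ∈ coreP σ h r, Commute y a) : a = σ ^ h := by
  obtain ⟨hJ2, hJ1, hJc⟩ := D.central_involution
  have hne : coreP σ h r ≠ ⊥ := by
    intro e
    obtain ⟨y, hy, hy'⟩ := hmove τ D.memτ fun hm => by
      rcases D.eq_central_of_sq hm D.sqτ with e' | e'
      · have hrel := D.rel
        rw [e', one_mul, inv_one, mul_one] at hrel
        have h4 := Nat.le_of_dvd (by norm_num) (orderOf_dvd_of_pow_eq_one (x := σ) (n := 2)
          (by rw [pow_two]; exact mul_eq_one_iff_eq_inv.2 hrel))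
        have := D.two_le
        rw [D.orderσ] at h4
        omega
      · have hrel := D.rel
        rw [e', ((Commute.refl σ).pow_left h).eq, mul_inv_cancel_right] at hrel
        have h4 := Nat.le_of_dvd (by norm_num) (orderOf_dvd_of_pow_eq_one (x := σ) (n := 2)
          (by rw [pow_two]; exact mul_eq_one_iff_eq_inv.2 hrel))
        have := D.two_le
        rw [D.orderσ] at h4
        omega
    rw [e, Subgroup.mem_bot] at hy
    exact hy' (hy ▸ Commute.one_right τ)
  have haJ : Commute a (σ ^ h) := commute_of_normalizes D hmax (coreP σ h r) coreP_le hne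
    (fun c hcJ y hy => conj_coreP D hcJ hy) (fun y hy => by
      rw [(hc y hy).symm.eq, mul_inv_cancel_right]
      exact hy)
  obtain ⟨d, hd, hdP⟩ := exists_conj_mem D h2 haJ
  have h2' : d * a * d⁻¹ * (d * a * d⁻¹) = 1 := by
    rw [show d * a * d⁻¹ * (d * a * d⁻¹) = d * (a * a) * d⁻¹ by group, h2, mul_one, mul_inv_cancel]
  by_cases hz : d * a * d⁻¹ ∈ Subgroup.zpowers σ
  · rcases D.eq_central_of_sq hz h2' with e | e
    · exact absurd (conj_eq_one_iff.1 e) h1
    · calc a = d⁻¹ * (d * a * d⁻¹) * d := by group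
        _ = d⁻¹ * (σ ^ h * d) := by rw [e, mul_assoc]
        _ = σ ^ h := by rw [← hd.eq, inv_mul_cancel_left]
  · exfalso
    obtain ⟨y, hy, hy'⟩ := hmove _ hdP hz
    have hy'' : d⁻¹ * y * d ∈ coreP σ h r := by
      have := conj_coreP D hd.inv_left hy
      rwa [inv_inv] at this
    have e := (hc _ hy'').map (MulAut.conj d).toMonoidHom
    simp only [MulEquiv.coe_toMonoidHom, MulAut.conj_apply] at e
    rw [show d * (d⁻¹ * y * d) * d⁻¹ = y by group] at e
    exact hy' e.symm

/-- The number of involutions times the order of a centralizer. -/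
theorem card_class_mul :
    Nat.card {a : G // IsConj (σ ^ h) a} * (4 * h * (oddPart σ h).card) = Nat.card G := by
  rw [← Cfsg.Lib.Invol.card_conj_mul_centralizer (σ ^ h), D.oddPart_spec.2.2.2.2.2.2]

theorem odd_card_class : Odd (Nat.card {a : G // IsConj (σ ^ h) a}) := by
  have e := card_class_mul D
  have hi := (P : Subgroup G).index_mul_card
  rw [← e, D.card, show Nat.card {a : G // IsConj (σ ^ h) a} * (4 * h * (oddPart σ h).card) =
    Nat.card {a : G // IsConj (σ ^ h) a} * (oddPart σ h).card * (4 * h) by ring] at hi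
  have hi' := Nat.eq_of_mul_eq_mul_right (by have := D.two_le; omega) hi
  refine Nat.not_even_iff_odd.1 fun hev => P.not_dvd_index ?_
  rw [hi']
  exact dvd_mul_of_dvd_left (even_iff_two_dvd.1 hev) _

variable {M : Ideal AlgInt}

/-- The end. -/
theorem heisenberg_end [IsSimpleGroup G] (co : Companion M P σ τ h)
    (hmax : IsCoatom (Subgroup.centralizer ({σ ^ h} : Set G)))
    {p t m W : ℕ} (hp : p.Prime) (h3 : 3 ≤ p) (hm : 2 * m ≤ p + 1)
    (ho : (oddPart σ h).card = p ^ 2 * t * m * W) (hW₀ : (oddFix σ h τ).card = W)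
    (hW₁ : (oddFix σ h (σ * τ)).card = W)
    (hmove : ∀ r : ℕ, r.Prime → r ∣ p * t →
      ∀ x ∈ (P : Subgroup G), x ∉ Subgroup.zpowers σ → ∃ y ∈ coreP σ h r, ¬ Commute x y)
    {q : ℕ} (hq : IsPrimePow q) (hqc : q = 4 * h * p * t + 1 ∨ q + 1 = 4 * h * p * t)
    (hdvd : q * W ∣ Nat.card G) : False := by
  obtain ⟨hJ2, hJ1, -⟩ := D.central_involution
  have hh := D.two_le
  obtain ⟨o, ho'⟩ : ∃ o, o = (oddPart σ h).card := ⟨_, rfl⟩
  have ho0 : 0 < o := ho' ▸ Finset.card_pos.2 ⟨1, D.oddPart_spec.1⟩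
  rw [← ho'] at ho
  have hW0 : 0 < W := Nat.pos_of_ne_zero fun e => by rw [ho, e, mul_zero] at ho0; omega
  have ht0 : 0 < t := Nat.pos_of_ne_zero fun e => by rw [ho, e] at ho0; simp at ho0
  have hm0 : 0 < m := Nat.pos_of_ne_zero fun e => by rw [ho, e] at ho0; simp at ho0
  have hoo : Odd o := by
    refine Nat.not_even_iff_odd.1 fun hev => P.not_dvd_index ?_
    have hi := (P : Subgroup G).index_mul_card
    rw [← card_class_mul D, D.card, ← ho', show Nat.card {a : G // IsConj (σ ^ h) a} * (4 * h * o) =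
      Nat.card {a : G // IsConj (σ ^ h) a} * o * (4 * h) by ring] at hi
    rw [Nat.eq_of_mul_eq_mul_right (by omega) hi]
    exact dvd_mul_of_dvd_right (even_iff_two_dvd.1 hev) _
  have hmodd : Odd m := hoo.of_dvd_nat ⟨p ^ 2 * t * W, by rw [ho]; ring⟩
  -- the integral form of the order formula
  obtain ⟨I, hI⟩ : ∃ I, I = Nat.card {a : G // IsConj (σ ^ h) a} := ⟨_, rfl⟩
  have hIodd : Odd I := hI ▸ odd_card_class D
  have hG : I * (4 * h * o) = Nat.card G := hI ▸ ho' ▸ card_class_mul D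
  obtain ⟨e, he⟩ := co.congr
  obtain ⟨d, hd⟩ := co.four_dvd D
  obtain ⟨Y, hY⟩ : ∃ Y : ℤ, Y = 2 * d + 1 := ⟨_, rfl⟩
  have hXY : co.X + 1 = 2 * Y := by omega
  obtain ⟨N, hN⟩ : ∃ N, N = p ^ 2 * t * m := ⟨_, rfl⟩
  have hform : (I : ℤ) * e ^ 2 = 4 * (co.X * Y) * (N : ℤ) ^ 2 := by
    have hf := co.order_formula D
    rw [hW₀, hW₁, ← ho', ← hG, ho, ← hN] at hf
    have hWq : (W : ℚ) ≠ 0 := Nat.cast_ne_zero.2 hW0.ne'
    have hNq : (N : ℚ) ≠ 0 := Nat.cast_ne_zero.2 (by rw [hN]; positivity)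
    have hhq : (h : ℚ) ≠ 0 := Nat.cast_ne_zero.2 (by omega)
    have e1 : (co.X : ℚ) - 1 = 2 * h * e := by exact_mod_cast he
    have e2 : (co.X : ℚ) + 1 = 2 * Y := by exact_mod_cast hXY
    rw [e1, e2] at hf
    push_cast at hf
    field_simp at hf
    apply Int.cast_injective (α := ℚ)
    push_cast
    refine mul_left_cancel₀ (show (8 : ℚ) ≠ 0 by norm_num) ?_
    linear_combination hf
  have hcop : IsCoprime e (co.X * Y) := by
    obtain ⟨i, hi⟩ := D.even
    refine IsCoprime.mul_right ⟨-(2 * h : ℤ), 1, by linarith⟩ ⟨-(h : ℤ), 1, by linarith⟩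
  obtain ⟨k, hk⟩ : e ∣ 2 * (N : ℤ) := by
    rw [← Int.pow_dvd_pow_iff two_ne_zero]
    refine (hcop.pow_left (m := 2)).dvd_of_dvd_mul_left ?_
    exact ⟨I, by linear_combination (-hform)⟩
  have he0 : e ≠ 0 := fun e0 => by
    rw [e0, zero_mul] at hk
    have : 0 < N := hN ▸ by positivity
    omega
  have hIk : (I : ℤ) = k ^ 2 * (co.X * Y) := by
    refine mul_right_cancel₀ (pow_ne_zero 2 he0) ?_
    linear_combination hform + (co.X * Y * (2 * (N : ℤ) + e * k)) * hk
  have hkodd : Odd k := by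
    have : Odd ((I : ℤ)) := by exact_mod_cast hIodd
    rw [hIk] at this
    exact Int.Odd.of_mul_left (by rw [pow_two] at this; exact Int.Odd.of_mul_left this)
  -- the number of involutions modulo the primes of `p t`
  have hmodr : ∀ r : ℕ, r.Prime → r ∣ p * t → (r : ℤ) ∣ (I : ℤ) - 1 ∧ ¬ (r : ℤ) ∣ k := by
    intro r hr hrt
    haveI : Fact r.Prime := ⟨hr⟩
    have h1 := card_class_modEq (coreP σ h r) isPGroup_coreP (σ ^ h)
      (fun y hy => commute_J D (coreP_le hy)) (fun a ha hc => by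
        obtain ⟨g, rfl⟩ := isConj_iff.1 ha
        exact eq_central_of_commute_coreP D hmax (hmove r hr hrt)
          (by rw [show g * σ ^ h * g⁻¹ * (g * σ ^ h * g⁻¹) = g * (σ ^ h * σ ^ h) * g⁻¹ by group,
            hJ2, mul_one, mul_inv_cancel]) (fun e' => hJ1 (conj_eq_one_iff.1 e')) hc)
    rw [← hI, Nat.modEq_iff_dvd] at h1
    have h1' : (r : ℤ) ∣ (I : ℤ) - 1 := by
      rw [← dvd_neg, neg_sub]; exact_mod_cast h1
    refine ⟨h1', fun hrk => ?_⟩
    have hI' : (r : ℤ) ∣ (I : ℤ) := hIk ▸ dvd_mul_of_dvd_left (dvd_pow hrk two_ne_zero) _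
    have := dvd_sub hI' h1'
    rw [sub_sub_cancel] at this
    exact hr.one_lt.ne' (by exact_mod_cast Int.eq_one_of_dvd_one (Int.natCast_nonneg r) this)
  -- the cofactor is a unit
  have hkm : k ∣ (m : ℤ) := by
    have h2 : k ∣ (N : ℤ) :=
      (Int.isCoprime_two_right.2 hkodd).dvd_of_dvd_mul_left ⟨e, by rw [hk, mul_comm]⟩
    rw [hN] at h2
    push_cast at h2
    have hc : ∀ n : ℕ, (∀ r : ℕ, r.Prime → r ∣ n → r ∣ p * t) → IsCoprime k (n : ℤ) := by
      intro n hn
      rw [Int.isCoprime_iff_gcd_eq_one]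
      by_contra hne
      obtain ⟨r, hr, hrg⟩ := Nat.exists_prime_and_dvd hne
      have h1 : (r : ℤ) ∣ k := (Int.natCast_dvd_natCast.2 hrg).trans (Int.gcd_dvd_left _ _)
      have h2 : r ∣ n := by
        have := (Int.natCast_dvd_natCast.2 hrg).trans (Int.gcd_dvd_right k (n : ℤ))
        exact_mod_cast this
      exact (hmodr r hr (hn r hr h2)).2 h1
    refine IsCoprime.dvd_of_dvd_mul_left ?_ h2
    exact IsCoprime.mul_right
      ((hc p fun r _ hrp => hrp.trans (dvd_mul_right _ _)).pow_right)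
      (hc t fun r _ hrt => hrt.trans (dvd_mul_left _ _))
  obtain ⟨hIp, hkp⟩ := hmodr p hp (dvd_mul_right _ _)
  have hpe : (p : ℤ) ∣ e := by
    have : (p : ℤ) ∣ e * k := ⟨2 * (p * t * m), by rw [← hk, hN]; push_cast; ring⟩
    exact ((Nat.prime_iff_prime_int.1 hp).dvd_mul.1 this).resolve_right hkp
  have hk1 : k = 1 ∨ k = -1 := by
    have hsq : (p : ℤ) ∣ k ^ 2 - 1 := by
      obtain ⟨j, hj⟩ := hpe
      have hX : (p : ℤ) ∣ co.X - 1 := ⟨2 * h * j, by rw [he, hj]; ring⟩
      have hY : (p : ℤ) ∣ 2 * (co.X * Y - 1) := by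
        have : 2 * (co.X * Y - 1) = (co.X - 1) * (co.X + 2) := by
          linear_combination (-co.X) * hXY
        rw [this]
        exact hX.mul_right _
      have hY' : (p : ℤ) ∣ co.X * Y - 1 :=
        (Int.Prime.dvd_mul' hp hY).resolve_left fun h' => by
          have : p ≤ 2 := Nat.le_of_dvd two_pos (by exact_mod_cast h')
          omega
      rw [show k ^ 2 - 1 = ((I : ℤ) - 1) - k ^ 2 * (co.X * Y - 1) by rw [hIk]; ring]
      exact dvd_sub hIp (hY'.mul_left _)
    have hle : k.natAbs ≤ m := Nat.le_of_dvd hm0 (Int.natAbs_dvd_natAbs.2 hkm)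
    have hmp : m + 1 < p := by obtain ⟨a, ha⟩ := hmodd; omega
    rw [show k ^ 2 - 1 = (k - 1) * (k + 1) by ring] at hsq
    have small : ∀ z : ℤ, (p : ℤ) ∣ z → z.natAbs < p → z = 0 := fun z hz hlt =>
      Int.natAbs_eq_zero.1 (Nat.eq_zero_of_dvd_of_lt (Int.natCast_dvd.1 hz) hlt)
    rcases Int.Prime.dvd_mul' hp hsq with h' | h'
    · exact Or.inl (by have := small _ h' (by omega); omega)
    · exact Or.inr (by have := small _ h' (by omega); omega)
  -- the prime power
  obtain ⟨s, hs, hs2⟩ : ∃ s : ℤ, co.X - 1 = s * (4 * h * p ^ 2 * t * m) ∧ (s = 1 ∨ s = -1) := by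
    refine ⟨k, ?_, hk1⟩
    have hkk : k * k = 1 := by rcases hk1 with e' | e' <;> rw [e'] <;> norm_num
    rw [he]
    have : e = 2 * (N : ℤ) * k := by rw [hk, mul_assoc, hkk, mul_one]
    rw [this, hN]
    push_cast
    ring
  have hIXY : (I : ℤ) = co.X * Y := by
    rw [hIk]; rcases hk1 with e' | e' <;> rw [e'] <;> ring
  obtain ⟨r, f, hr, hf, rfl⟩ := (isPrimePow_nat_iff _).1 hq
  obtain ⟨c, hc⟩ : ∃ c, c = 4 * h * p * t := ⟨_, rfl⟩
  rw [← hc] at hqc
  have hqc' : Nat.Coprime (r ^ f) c := by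
    rcases hqc with e' | e'
    · rw [e']; exact (Nat.coprime_self_add_left.2 (Nat.coprime_one_left c) :)
    · rw [← e']; exact Nat.coprime_self_add_right.2 (Nat.coprime_one_right _)
  have hqsq : ((r ^ f : ℕ) : ℤ) ∣ (c : ℤ) ^ 2 - 1 := by
    rcases hqc with e' | e'
    · exact ⟨(c : ℤ) - 1, by rw [e']; push_cast; ring⟩
    · exact ⟨(c : ℤ) + 1, by rw [← e']; push_cast; ring⟩
  have hqG : r ^ f ∣ I * (4 * h * p ^ 2 * t * m) := by
    refine Nat.dvd_of_mul_dvd_mul_right hW0 ?_
    rw [← hG, ho] at hdvd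
    convert hdvd using 1
    ring
  have hqI : ((r ^ f : ℕ) : ℤ) ∣ co.X * Y * (m : ℤ) := by
    have h1 : r ^ f ∣ I * m := by
      have h2 : r ^ f ∣ c * p * (I * m) := by
        convert hqG using 1
        rw [hc]; ring
      refine (Nat.Coprime.mul_right hqc' ?_).dvd_of_dvd_mul_left h2
      exact hqc'.coprime_dvd_right ⟨4 * h * t, by rw [hc]; ring⟩
    rw [← hIXY]
    exact_mod_cast h1
  have hm_lt : m < r ^ f := by
    have : 8 * p ≤ c := by
      rw [hc, show 4 * h * p * t = p * (4 * h * t) by ring, mul_comm 8 p]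
      exact Nat.mul_le_mul_left _ (le_trans (by omega : 8 ≤ 4 * h) (Nat.le_mul_of_pos_right _ ht0))
    omega
  have hri : Prime (r : ℤ) := Nat.prime_iff_prime_int.1 hr
  by_cases hrm : r ∣ m
  · have hcx : IsCoprime ((r : ℤ) ^ f) (co.X * Y) := by
      refine IsCoprime.pow_left ((Irreducible.coprime_iff_not_dvd hri.irreducible).2 fun hd' => ?_)
      have hrX : (r : ℤ) ∣ co.X - 1 := by
        rw [hs]
        exact Dvd.dvd.mul_left (Dvd.dvd.mul_left (Int.natCast_dvd_natCast.2 hrm) _) _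
      have hr2 : (r : ℤ) ∣ 2 * (co.X * Y - 1) := by
        rw [show 2 * (co.X * Y - 1) = (co.X - 1) * (co.X + 2) by linear_combination (-co.X) * hXY]
        exact hrX.mul_right _
      rcases hri.dvd_mul.1 hr2 with h' | h'
      · have h2 : r ∣ 2 := by exact_mod_cast h'
        obtain ⟨a, ha⟩ := hmodd
        obtain ⟨b, hb⟩ := hrm
        rw [(Nat.prime_dvd_prime_iff_eq hr Nat.prime_two).1 h2] at hb
        omega
      · have := dvd_sub hd' h'
        rw [sub_sub_cancel] at this
        exact hri.not_dvd_one this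
    have h1 : ((r : ℤ) ^ f) ∣ (m : ℤ) := hcx.dvd_of_dvd_mul_left (by exact_mod_cast hqI)
    have : r ^ f ≤ m := Nat.le_of_dvd hm0 (by exact_mod_cast h1)
    omega
  · have hcm : IsCoprime ((r : ℤ) ^ f) (m : ℤ) :=
      IsCoprime.pow_left ((Irreducible.coprime_iff_not_dvd hri.irreducible).2 fun h' =>
        hrm (by exact_mod_cast h'))
    have h1 : ((r : ℤ) ^ f) ∣ co.X * Y := hcm.dvd_of_dvd_mul_right (by exact_mod_cast hqI)
    have hsplit : ((r : ℤ) ^ f) ∣ co.X ∨ ((r : ℤ) ^ f) ∣ co.X + 1 := by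
      by_cases hrX : (r : ℤ) ∣ co.X
      · left
        refine (IsCoprime.pow_left ((Irreducible.coprime_iff_not_dvd hri.irreducible).2
          fun hrY => ?_)).dvd_of_dvd_mul_right h1
        have := dvd_sub (hrY.mul_left 2) hrX
        rw [show 2 * Y - co.X = 1 by omega] at this
        exact hri.not_dvd_one this
      · right
        rw [hXY]
        exact ((IsCoprime.pow_left ((Irreducible.coprime_iff_not_dvd hri.irreducible).2
          hrX)).dvd_of_dvd_mul_left h1).mul_left 2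
    obtain ⟨u, hu⟩ : ∃ u, u = 4 * h * t := ⟨_, rfl⟩
    have key : (u : ℤ) * co.X = (u + s * m) + s * m * ((c : ℤ) ^ 2 - 1) := by
      rw [hu, hc]
      push_cast
      linear_combination (4 * (h : ℤ) * t) * hs
    have hbig : 2 * u + m < r ^ f := by
      have e1 : c = u * p := by rw [hc, hu]; ring
      have e2 : u * 3 ≤ u * p := Nat.mul_le_mul_left _ h3
      have e3 : 8 ≤ u := by
        rw [hu]
        exact le_trans (by omega : 8 ≤ 4 * h) (Nat.le_mul_of_pos_right _ ht0)
      have e4 : 8 * p ≤ u * p := Nat.mul_le_mul_right _ e3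
      omega
    have hu2 : Even u := ⟨2 * h * t, by rw [hu]; ring⟩
    obtain ⟨a, ha⟩ := hmodd
    obtain ⟨b, hb⟩ := hu2
    rcases hsplit with h' | h'
    · have hz : ((r ^ f : ℕ) : ℤ) ∣ (u : ℤ) + s * m := by
        have := dvd_sub ((Nat.cast_pow (α := ℤ) r f).symm ▸ h'.mul_left (u : ℤ)) (hqsq.mul_left (s * m))
        rwa [key, add_sub_cancel_right] at this
      rw [Int.natCast_dvd] at hz
      rcases hs2 with e' | e' <;> rw [e'] at hz <;>
        exact absurd (Nat.eq_zero_of_dvd_of_lt hz (by omega)) (by omega)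
    · have hz : ((r ^ f : ℕ) : ℤ) ∣ (2 * u : ℤ) + s * m := by
        have := dvd_sub ((Nat.cast_pow (α := ℤ) r f).symm ▸ h'.mul_left (u : ℤ)) (hqsq.mul_left (s * m))
        rwa [mul_add, mul_one, key, show (u : ℤ) + s * m + s * m * ((c : ℤ) ^ 2 - 1) + u -
          s * m * ((c : ℤ) ^ 2 - 1) = 2 * u + s * m by ring] at this
      rw [Int.natCast_dvd] at hz
      rcases hs2 with e' | e' <;> rw [e'] at hz <;>
        exact absurd (Nat.eq_zero_of_dvd_of_lt hz (by omega)) (by omega)

omit D in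
/-- A subgroup centralising a component contributes its order to the divisibility. -/
theorem mul_dvd_of_component {F : Type} [Field F] [Fintype F] (hodd : Odd (Fintype.card F))
    {L A : Subgroup G} (e : L ≃* Matrix.ProjectiveSpecialLinearGroup (Fin 2) F)
    (hcent : ∀ l ∈ L, ∀ a ∈ A, Commute l a) (hA : ∀ a ∈ A, Odd (orderOf a))
    {i j : G} (hi : i ∈ L) (hj : j ∈ L) (hi2 : orderOf i = 2) (hj2 : orderOf j = 2) (hij : i ≠ j) :
    Fintype.card F * Nat.card A ∣ Nat.card G := by
  have hdis : Disjoint L A := by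
    rw [Subgroup.disjoint_def]
    intro a haL haA
    by_contra ha1
    have := e.injective (psl_involution_unique (Nat.odd_iff.1 hodd) (y := e ⟨a, haL⟩) (fun he => ?_)
      (a := e ⟨i, hi⟩) (b := e ⟨j, hj⟩) (by rw [e.orderOf_eq, Subgroup.orderOf_mk, hi2])
      (by rw [e.orderOf_eq, Subgroup.orderOf_mk, hj2])
      ((show Commute (⟨i, hi⟩ : L) ⟨a, haL⟩ from Subtype.ext (hcent i hi a haA).eq).map e.toMonoidHom)
      ((show Commute (⟨j, hj⟩ : L) ⟨a, haL⟩ from Subtype.ext (hcent j hj a haA).eq).map e.toMonoidHom))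
    · exact hij (congrArg Subtype.val this)
    · rw [← map_mul, MulEquiv.map_eq_one_iff] at he
      have h2 : orderOf a ∣ 2 :=
        orderOf_dvd_of_pow_eq_one (by rw [pow_two]; exact congrArg Subtype.val he)
      rcases (Nat.dvd_prime Nat.prime_two).1 h2 with h' | h'
      · exact ha1 (orderOf_eq_one_iff.1 h')
      · exact absurd (h' ▸ hA a haA) (by decide)
  let φ : L × A →* G := L.subtype.noncommCoprod A.subtype fun l a => hcent l l.2 a a.2
  have hφ : Function.Injective φ := by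
    rintro ⟨l, a⟩ ⟨l', a'⟩ hla
    have hla' : (l : G) * a = l' * a' := hla
    have hm : (l' : G)⁻¹ * l ∈ A := by
      rw [show (l' : G)⁻¹ * l = (a' : G) * (a : G)⁻¹ by
        rw [eq_mul_inv_iff_mul_eq, mul_assoc, hla', inv_mul_cancel_left]]
      exact mul_mem a'.2 (inv_mem a.2)
    have hl : (l' : G) = l :=
      inv_mul_eq_one.1 (Subgroup.disjoint_def.1 hdis (mul_mem (inv_mem l'.2) l.2) hm)
    rw [hl] at hla'
    exact Prod.ext (Subtype.ext hl.symm) (Subtype.ext (mul_left_cancel hla'))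
  have h1 : Nat.card L * Nat.card A ∣ Nat.card G := by
    rw [← Nat.card_prod]
    exact Subgroup.card_dvd_of_injective φ hφ
  refine dvd_trans ?_ h1
  refine Nat.mul_dvd_mul_right ?_ _
  have hcard := Cfsg.Lib.Dickson.card_psl_mul (K := F) (Nat.odd_iff.1 hodd)
  rw [← Nat.card_congr e.toEquiv] at hcard
  exact (Nat.coprime_two_right.2 hodd).dvd_of_dvd_mul_left (Dvd.intro _ hcard.symm)

end Cfsg.Lib.GW.CMax
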