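import Cfsg.Agent.Lib.GW.CMax.HeisenbergCore
import Cfsg.Agent.Lib.GW.RankOne

/-!
# Gorenstein–Walter, a maximal centralizer: the odd part modulo its Fitting subgroup

In the case `|O_p(U)| = p³` the quotient `U / F(U)` is abelian of order prime to `p` and inverted by
`τ` (no linear character of the centralizer survives), so `C_U(τ) = A`, and `F(U) = O_p(U) T`.
-/

set_option autoImplicit false
set_option linter.unusedSectionVars false
set_option linter.style.haveILetI false
set_option maxHeartbeats 800000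

namespace Cfsg.Lib.GW.CMax

open Cfsg Cfsg.Lib.Block
open Cfsg.Lib.Block.DihSylow (oddPart oddFix mem_oddPart mem_oddFix)
open scoped commutatorElement

universe u

variable {F : Type} [Field F] [Fintype F]
variable {G : Type u} [Group G] [Fintype G] [Fact (Nat.Prime 2)] {P : Sylow 2 G} {σ τ : G}
  {h p : ℕ} {L : Subgroup G}

theorem mem_fitSub_iff {y : G} (hy : y ∈ oddSub σ h) :
    y ∈ fitSub σ h ↔ (⟨y, hy⟩ : oddSub σ h) ∈ Cfsg.fittingSubgroup (oddSub σ h) := by
  refine ⟨?_, fun hm => ⟨_, hm, rfl⟩⟩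
  rintro ⟨z, hz, e⟩
  exact (show z = ⟨y, hy⟩ from Subtype.ext e) ▸ hz

variable (D : DihSylow P σ τ h) (c : HeisCtx P σ τ h p L)

include D c

namespace HeisCtx

variable (hodd : Odd (Fintype.card F)) (e : L ≃* Matrix.ProjectiveSpecialLinearGroup (Fin 2) F)
  [IsSimpleGroup G] (hmax : IsCoatom (Subgroup.centralizer ({σ ^ h} : Set G)))

include hodd e hmax

/-- The Fitting subgroup is the product of `O_p(U)` and a subgroup containing the other parts. -/
theorem fit_prod (X : Subgroup G) (hX : X ≤ oddSub σ h)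
    (hXc : ∀ r : ℕ, r.Prime → r ≠ p → coreP σ h r ≤ X) {f : G} (hf : f ∈ fitSub σ h) :
    ∃ r ∈ coreP σ h p, ∃ x ∈ X, f = r * x := by
  let S : Subgroup G :=
    { carrier := {g | ∃ r ∈ coreP σ h p, ∃ x ∈ X, g = r * x}
      one_mem' := ⟨1, one_mem _, 1, one_mem _, (one_mul 1).symm⟩
      mul_mem' := by
        rintro a b ⟨r, hr, x, hx, rfl⟩ ⟨r', hr', x', hx', rfl⟩
        exact ⟨r * (x * r' * x⁻¹), mul_mem hr (conj_R D c (hX hx) hr'), x * x', mul_mem hx hx',
          by group⟩
      inv_mem' := by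
        rintro a ⟨r, hr, x, hx, rfl⟩
        exact ⟨x⁻¹ * r⁻¹ * x⁻¹⁻¹, conj_R D c (hX (inv_mem hx)) (inv_mem hr), x⁻¹, inv_mem hx,
          by group⟩ }
  exact fitSub_induction S (fun r hr a ha => by
    by_cases hrp : r = p
    · subst hrp
      exact ⟨a, ha, 1, one_mem _, (mul_one a).symm⟩
    · exact ⟨1, one_mem _, a, hXc r hr hrp ha, (one_mul a).symm⟩) hf

theorem fit_torus {f : G} (hf : f ∈ fitSub σ h) :
    ∃ r ∈ coreP σ h p, ∃ t ∈ L ⊓ oddSub σ h, f = r * t :=
  fit_prod D c hodd e hmax _ inf_le_right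
    (fun _ hr hrp _ ha => core_le_torus D c hodd e hmax hr hrp ha) hf

theorem fit_central {f : G} (hf : f ∈ fitSub σ h) :
    ∃ r ∈ coreP σ h p, ∃ x : G, (∀ y ∈ oddSub σ h, Commute y x) ∧ f = r * x := by
  obtain ⟨r, hr, x, hx, e'⟩ := fit_prod D c hodd e hmax
    (oddSub σ h ⊓ Subgroup.centralizer (oddSub σ h : Set G)) inf_le_left
    (fun r hr hrp a ha => ⟨coreP_le ha, Subgroup.mem_centralizer_iff.2 fun y hy =>
      (core_central D c hodd e hmax hr hrp ha hy).eq⟩) hf
  exact ⟨r, hr, x, fun y hy => Subgroup.mem_centralizer_iff.1 hx.2 y hy, e'⟩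

/-- Powers of the Fitting subgroup of exponent `p³` are central. -/
theorem pow_central {f : G} (hf : f ∈ fitSub σ h) {y : G} (hy : y ∈ oddSub σ h) :
    Commute y (f ^ p ^ 3) := by
  obtain ⟨r, hr, x, hx, rfl⟩ := fit_central D c hodd e hmax hf
  have hr1 : r ^ p ^ 3 = 1 := c.cardR ▸ congrArg Subtype.val
    (pow_card_eq_one' (x := (⟨r, hr⟩ : coreP σ h p)))
  rw [(hx r (coreP_le hr)).mul_pow, hr1, one_mul]
  exact (hx y hy).pow_right _

/-- An element of the odd part centralising `O_p(U)` lies in the Fitting subgroup. -/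
theorem mem_fit_of_commute_R {y : G} (hy : y ∈ oddSub σ h)
    (hc : ∀ a ∈ coreP σ h p, Commute y a) : y ∈ fitSub σ h := by
  refine mem_fitSub_of_commute D hy (commute_fitSub D fun r hr a ha => ?_)
  by_cases hrp : r = p
  · subst hrp
    exact hc a ha
  · exact core_central D c hodd e hmax hr hrp ha hy

/-- A normal subgroup of the odd part which is a `p`-group modulo the centre lies in the Fitting
subgroup. -/
theorem le_fit_of_pow (K : Subgroup (oddSub σ h)) [K.Normal]
    (hK : ∀ k ∈ K, ∃ i : ℕ, ((k : oddSub σ h) : G) ^ p ^ i ∈ fitSub σ h) :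
    K ≤ Cfsg.fittingSubgroup (oddSub σ h) := by
  haveI := fact_prime D c
  refine Cfsg.Lib.Core.le_fittingSubgroup ?_
  have hp : IsPGroup p (K ⧸ Subgroup.center K) := by
    intro x
    obtain ⟨k, rfl⟩ := QuotientGroup.mk'_surjective _ x
    obtain ⟨i, hi⟩ := hK k k.2
    refine ⟨i + 3, ?_⟩
    rw [← map_pow, QuotientGroup.mk'_apply, QuotientGroup.eq_one_iff, Subgroup.mem_center_iff]
    intro g
    refine Subtype.ext (Subtype.ext ?_)
    have := pow_central D c hodd e hmax hi (g : oddSub σ h).2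
    rw [← pow_mul, ← pow_add] at this
    simpa using this.eq
  haveI := hp.isNilpotent
  exact Subgroup.isNilpotent_of_ker_le_center (QuotientGroup.mk' (Subgroup.center K))
    (le_of_eq (QuotientGroup.ker_mk' _))

/-- The odd part is abelian modulo its Fitting subgroup. -/
theorem commutator_le_fit : commutator (oddSub σ h) ≤ Cfsg.fittingSubgroup (oddSub σ h) := by
  haveI := fact_prime D c
  refine le_fit_of_pow D c hodd e hmax _ fun k hk => ?_
  set R₀ := Cfsg.pCore p (oddSub σ h) with hR₀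
  have hcard : Nat.card R₀ = p ^ 3 := by
    rw [← c.cardR, coreP, Subgroup.card_map_of_injective (oddSub σ h).subtype_injective]
  have hr : Cfsg.PRankLE p 2 R₀ := by
    intro A hA _
    obtain ⟨j, hj, hjA⟩ := (Nat.dvd_prime_pow c.prime).1 (hcard ▸ Subgroup.card_subgroup_dvd_card A)
    rw [hjA]
    refine Nat.pow_le_pow_right c.prime.pos ?_
    by_contra hlt
    have hA' : A = ⊤ := Subgroup.eq_top_of_card_eq _ (by rw [hjA, hcard, show j = 3 by omega])
    obtain ⟨_, ⟨a, ha, rfl⟩, _, ⟨b, hb, rfl⟩, hab⟩ := c.nonab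
    refine hab ?_
    have := congrArg (fun x : R₀ => ((x : oddSub σ h) : G))
      (congrArg Subtype.val (hA.is_comm.comm (⟨⟨a, ha⟩, hA' ▸ Subgroup.mem_top _⟩ : A)
        ⟨⟨b, hb⟩, hA' ▸ Subgroup.mem_top _⟩))
    simpa [commute_iff_eq] using this
  let φ : oddSub σ h →* MulAut R₀ := MulAut.conjNormal
  haveI : Finite φ.range := Finite.of_surjective φ.rangeRestrict φ.rangeRestrict_surjective
  have hker : IsPGroup p φ.range.subtype.ker := by
    rw [Subgroup.ker_subtype]
    exact IsPGroup.of_bot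
  have hcom := Cfsg.Lib.Local.RankTwoAut.commutator_isPGroup (p_ne_two D c)
    (Cfsg.Lib.Core.pCore_isPGroup p _) hr
    ((odd_card D c le_rfl).of_dvd_nat (Subgroup.card_range_dvd φ)) φ.range.subtype hker
  have hmem : φ.rangeRestrict k ∈ commutator φ.range := by
    rw [← GW.commutator_map_top φ.rangeRestrict φ.rangeRestrict_surjective]
    exact Subgroup.mem_map_of_mem _ hk
  obtain ⟨i, hi⟩ := hcom ⟨_, hmem⟩
  refine ⟨i, mem_fit_of_commute_R D c hodd e hmax (pow_mem k.2 _) ?_⟩
  rintro _ ⟨a, ha, rfl⟩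
  have h1 : φ (k ^ p ^ i) = 1 := by
    rw [map_pow]
    exact congrArg Subtype.val (congrArg Subtype.val hi)
  have h2 := congrArg (fun x : R₀ => ((x : oddSub σ h) : G)) (DFunLike.congr_fun h1 ⟨a, ha⟩)
  simp only [φ, MulAut.conjNormal_apply, MulAut.one_apply, Subgroup.coe_mul, InvMemClass.coe_inv,
    SubmonoidClass.coe_pow] at h2
  exact mul_inv_eq_iff_eq_mul.1 h2

theorem quot_comm [(Cfsg.fittingSubgroup (oddSub σ h)).Normal]
    (a b : oddSub σ h ⧸ Cfsg.fittingSubgroup (oddSub σ h)) : Commute a b := by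
  obtain ⟨a, rfl⟩ := QuotientGroup.mk'_surjective _ a
  obtain ⟨b, rfl⟩ := QuotientGroup.mk'_surjective _ b
  refine commutatorElement_eq_one_iff_commute.1 ?_
  rw [← map_commutatorElement, QuotientGroup.mk'_apply, QuotientGroup.eq_one_iff]
  exact commutator_le_fit D c hodd e hmax
    (Subgroup.commutator_mem_commutator (Subgroup.mem_top _) (Subgroup.mem_top _))

/-- The odd part has no elements of order `p` modulo the Fitting subgroup. -/
theorem mem_fit_of_pow {y : G} (hy : y ∈ oddSub σ h) {i : ℕ} (hi : y ^ p ^ i ∈ fitSub σ h) :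
    y ∈ fitSub σ h := by
  haveI hn : (Cfsg.fittingSubgroup (oddSub σ h)).Normal := Cfsg.Lib.Core.fittingSubgroup_normal' _
  set π := QuotientGroup.mk' (Cfsg.fittingSubgroup (oddSub σ h))
  let K : Subgroup (oddSub σ h) :=
    { carrier := {k | ∃ i : ℕ, π k ^ p ^ i = 1}
      one_mem' := ⟨0, by simp⟩
      mul_mem' := by
        rintro a b ⟨i, hi⟩ ⟨j, hj⟩
        refine ⟨i + j, ?_⟩
        rw [map_mul, (quot_comm D c hodd e hmax _ _).mul_pow, pow_add, pow_mul, hi, one_pow, one_mul,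
          mul_comm, pow_mul, hj, one_pow]
      inv_mem' := by
        rintro a ⟨i, hi⟩
        exact ⟨i, by rw [map_inv, inv_pow, hi, inv_one]⟩ }
  haveI : K.Normal := ⟨fun a ha g => by
    obtain ⟨j, hj⟩ := ha
    refine ⟨j, ?_⟩
    rw [map_mul, map_mul, map_inv, (quot_comm D c hodd e hmax _ _).eq, inv_mul_cancel_left]
    exact hj⟩
  have hle := le_fit_of_pow D c hodd e hmax K fun k hk => by
    obtain ⟨j, hj⟩ := hk
    refine ⟨j, (mem_fitSub_iff (pow_mem k.2 _)).2 ((QuotientGroup.eq_one_iff _).1 ?_)⟩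
    rw [← map_pow] at hj
    exact hj
  refine (mem_fitSub_iff hy).2 (hle ⟨i, ?_⟩)
  rw [← map_pow, QuotientGroup.mk'_apply, QuotientGroup.eq_one_iff]
  exact (mem_fitSub_iff (pow_mem hy _)).1 hi

/-- `τ` inverts the odd part modulo the Fitting subgroup. -/
theorem mul_conj_mem {y : G} (hy : y ∈ oddSub σ h) (hna : ¬∀ a b : G, a * b = b * a)
    (hconjJ : ∀ a : G, a * a = 1 → a ≠ 1 → IsConj (σ ^ h) a) :
    y * (τ * y * τ) ∈ fitSub σ h := by
  classical
  haveI hn : (Cfsg.fittingSubgroup (oddSub σ h)).Normal := Cfsg.Lib.Core.fittingSubgroup_normal' _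
  obtain ⟨h1, hmul, hinv, hconj, hdec, huniq, -⟩ := D.oddPart_spec
  obtain ⟨-, -, hJc⟩ := D.central_involution
  set π := QuotientGroup.mk' (Cfsg.fittingSubgroup (oddSub σ h))
  let fn : oddSub σ h → oddSub σ h ⧸ Cfsg.fittingSubgroup (oddSub σ h) := fun v =>
    π v * π ⟨τ * (v : G) * τ, conj_tau D c v.2⟩
  have hfn_mul : ∀ v v' : oddSub σ h, fn (v * v') = fn v * fn v' := by
    intro v v'
    have e1 : (⟨τ * ((v * v' : oddSub σ h) : G) * τ, conj_tau D c (v * v').2⟩ : oddSub σ h) =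
        ⟨τ * (v : G) * τ, conj_tau D c v.2⟩ * ⟨τ * (v' : G) * τ, conj_tau D c v'.2⟩ :=
      Subtype.ext (InvAct.conj_mul D.sqτ _ _)
    simp only [fn]
    rw [e1, map_mul, map_mul]
    exact (quot_comm D c hodd e hmax _ _).mul_mul_mul_comm _ _
  have hfn_conj : ∀ x ∈ (P : Subgroup G), ∀ v v' : oddSub σ h, (v' : G) = x * v * x⁻¹ →
      fn v' = fn v := by
    intro x hx v v' hv
    have hz : ∀ z ∈ Subgroup.zpowers σ, ∀ w ∈ oddSub σ h, Commute z w := fun z hz w hw => by
      obtain ⟨k, rfl⟩ := Subgroup.mem_zpowers_iff.1 hz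
      exact (sigma_odd D c hodd e hmax hw).zpow_left k
    rcases D.cover x hx with hh | hh
    · rw [(hz x hh _ v.2).eq, mul_inv_cancel_right] at hv
      rw [Subtype.ext hv]
    · have e1 : (v' : G) = τ * (v : G) * τ := by
        have e2 := (hz _ hh _ (conj_tau D c v.2)).eq
        have e3 : x = x * τ * τ := by rw [mul_assoc, D.sqτ, mul_one]
        rw [hv]
        conv_lhs => rw [e3, mul_inv_rev, tau_inv D c,
          show x * τ * τ * (v : G) * (τ * (x * τ)⁻¹) = x * τ * (τ * v * τ) * (x * τ)⁻¹ by group]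
        rw [e2, mul_inv_cancel_right]
      have e4 : (⟨τ * (v' : G) * τ, conj_tau D c v'.2⟩ : oddSub σ h) = v := Subtype.ext (by
        show τ * (v' : G) * τ = v
        rw [e1, show τ * (τ * (v : G) * τ) * τ = (τ * τ) * v * (τ * τ) by group, D.sqτ, one_mul,
          mul_one])
      have e5 : v' = ⟨τ * (v : G) * τ, conj_tau D c v.2⟩ := Subtype.ext e1
      show π v' * π _ = π v * π _
      rw [e4, e5]
      exact (quot_comm D c hodd e hmax _ _).eq
  set C := Subgroup.centralizer ({σ ^ h} : Set G)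
  choose xc hxP hxo using fun g : C => hdec g (Subgroup.mem_centralizer_singleton_iff.1 g.2)
  let uc : C → oddSub σ h := fun g => ⟨(g : G) * (xc g)⁻¹, (mem_oddSub D).2 (hxo g)⟩
  have hkey : ∀ g : C, ∀ x ∈ (P : Subgroup G), ∀ v : oddSub σ h, (g : G) = v * x → uc g = v := by
    intro g x hx v hgx
    have hxe : xc g = x := by
      refine huniq _ (hxP g) _ hx ?_
      have e1 : xc g * x⁻¹ = ((g : G) * (xc g)⁻¹)⁻¹ * v := by rw [hgx]; group
      rw [e1]
      exact hmul _ (hinv _ (hxo g)) _ ((mem_oddSub D).1 v.2)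
    refine Subtype.ext ?_
    show (g : G) * (xc g)⁻¹ = v
    rw [hxe, hgx, mul_inv_cancel_right]
  let ψ : C →* oddSub σ h ⧸ Cfsg.fittingSubgroup (oddSub σ h) :=
    MonoidHom.mk' (fun g => fn (uc g)) fun a b => by
      have hxc : Commute (xc a) (σ ^ h) := hJc _ (hxP a)
      have e1 : uc (a * b) = uc a * ⟨xc a * (uc b : G) * (xc a)⁻¹, conj_oddSub D hxc (uc b).2⟩ := by
        refine hkey (a * b) (xc a * xc b) (mul_mem (hxP a) (hxP b)) _ ?_
        simp only [uc, Subgroup.coe_mul]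
        group
      show fn (uc (a * b)) = fn (uc a) * fn (uc b)
      rw [e1, hfn_mul]
      congr 1
      exact hfn_conj _ (hxP a) (uc b) ⟨_, _⟩ rfl
  have htop : ψ.ker = ⊤ := by
    refine top_le_iff.1 ((commutator_sup_eq_top D hna hconjJ (fixCentral D c hodd e hmax)).symm.le.trans
      (sup_le ?_ ?_))
    · rw [commutator_def, Subgroup.commutator_le]
      intro a _ b _
      rw [MonoidHom.mem_ker, map_commutatorElement, commutatorElement_eq_one_iff_commute]
      exact quot_comm D c hodd e hmax _ _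
    · intro g hg
      rw [MonoidHom.mem_ker]
      show fn (uc g) = 1
      rw [hkey g g (Subgroup.mem_subgroupOf.1 hg) 1 (one_mul _).symm]
      have := hfn_mul 1 1
      rw [mul_one] at this
      exact mul_eq_left.1 this.symm
  have hyC : y ∈ C := Subgroup.mem_centralizer_singleton_iff.2 (commute_J D hy).eq
  have h2 : ψ ⟨y, hyC⟩ = 1 := MonoidHom.mem_ker.1 (htop ▸ Subgroup.mem_top _)
  have h3 : uc ⟨y, hyC⟩ = ⟨y, hy⟩ := hkey _ 1 (one_mem _) _ (mul_one y).symm
  have h4 : fn ⟨y, hy⟩ = 1 := h3 ▸ h2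
  refine (mem_fitSub_iff (mul_mem hy (conj_tau D c hy))).2 ((QuotientGroup.eq_one_iff _).1 ?_)
  exact h4

end HeisCtx

end Cfsg.Lib.GW.CMax
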