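import Cfsg.Agent.Lib.GW.CMax.NStruct
import Cfsg.Agent.Lib.GW.CMax.Dichotomy
import Cfsg.Agent.Lib.GW.CMax.Finish

/-!
# The maximal centralizer: a reflection moving `O_p(U)`

If the reflection `τ` moves `R = O_p(U)`, every maximal subgroup over the normalizer of a nontrivial
subgroup of `C_R(τ)` has a component, so no such subgroup is normal in the centralizer.
-/

set_option autoImplicit false
set_option linter.unusedSectionVars false
set_option linter.style.haveILetI false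

namespace Cfsg.Lib.GW.CMax

open Cfsg Cfsg.Lib.Block
open Cfsg.Agent.S1312 (Op op_le)

universe u

variable {G : Type u} [Group G] [Fintype G]

/-- The central elements of exponent `p` of `O_p(U)`. -/
def omegaZ (σ : G) (h p : ℕ) : Subgroup G where
  carrier := {y | y ∈ coreP σ h p ∧ y ^ p = 1 ∧ ∀ b ∈ coreP σ h p, Commute y b}
  one_mem' := ⟨one_mem _, one_pow _, fun b _ => Commute.one_left b⟩
  mul_mem' := fun {a b} ha hb => ⟨mul_mem ha.1 hb.1, by
    rw [(ha.2.2 b hb.1).mul_pow, ha.2.1, hb.2.1, one_mul],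
    fun x hx => (ha.2.2 x hx).mul_left (hb.2.2 x hx)⟩
  inv_mem' := fun {a} ha => ⟨inv_mem ha.1, by rw [inv_pow, ha.2.1, inv_one],
    fun x hx => (ha.2.2 x hx).inv_left⟩

theorem mem_omegaZ {σ : G} {h p : ℕ} {y : G} :
    y ∈ omegaZ σ h p ↔ y ∈ coreP σ h p ∧ y ^ p = 1 ∧ ∀ b ∈ coreP σ h p, Commute y b := Iff.rfl

theorem omegaZ_le {σ : G} {h p : ℕ} : omegaZ σ h p ≤ coreP σ h p := fun _ hy => hy.1

variable [Fact (Nat.Prime 2)] {P : Sylow 2 G} {σ τ : G} {h : ℕ} (D : DihSylow P σ τ h)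

include D

/-- Any reflection may take the place of `τ`. -/
theorem frame_at {x : G} (hx : x ∈ (P : Subgroup G)) (hx' : x ∉ Subgroup.zpowers σ) :
    DihSylow P σ x h := by
  refine ⟨D.even, D.two_le, D.memσ, hx, D.orderσ, D.sq_outside hx hx',
    D.conj_outside hx hx' (Subgroup.mem_zpowers σ), ?_, D.card⟩
  intro y hy
  rcases D.cover y hy with hm | hm
  · exact Or.inl hm
  · refine Or.inr ?_
    obtain ⟨i, -, rfl⟩ := D.reflection_iff.1 ⟨hx, hx'⟩
    have hσ : σ ^ i ∈ Subgroup.zpowers σ := pow_mem (Subgroup.mem_zpowers σ) i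
    have e : σ ^ i * τ = τ * (σ ^ i)⁻¹ := by
      rw [← D.τ_conj hσ, ← mul_assoc, ← mul_assoc, D.sqτ, one_mul, D.τ_inv]
    rw [e, ← mul_assoc]
    exact mul_mem hm (inv_mem hσ)

theorem coreP_eq_op {p : ℕ} (hp : p.Prime) (hp2 : p ≠ 2) :
    coreP σ h p = Op p (Subgroup.centralizer ({σ ^ h} : Set G)) := by
  haveI : Fact p.Prime := ⟨hp⟩
  set C := Subgroup.centralizer ({σ ^ h} : Set G) with hC
  refine le_antisymm ?_ ?_
  · refine Cfsg.Agent.S1312.le_op (fun y hy => Subgroup.mem_centralizer_singleton_iff.2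
      (commute_J D (coreP_le hy)).eq) (fun g hg => ?_) isPGroup_coreP
    exact Subgroup.mem_normalizer_fintype fun y hy =>
      conj_coreP D (Subgroup.mem_centralizer_singleton_iff.1 hg) hy
  · intro y hy
    have hle : Op p C ≤ oddSub σ h := fun z hz => (mem_oddSub D).2 (DihSylow.mem_oddPart.2
      ⟨Subgroup.mem_centralizer_singleton_iff.1 (op_le p C hz),
        conj_odd hp2 (Cfsg.Agent.S1312.op_isPGroup p C) hz⟩)
    haveI : ((Op p C).subgroupOf (oddSub σ h)).Normal := ⟨fun a ha b => by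
      rw [Subgroup.mem_subgroupOf] at ha ⊢
      exact conj_mem_op (Subgroup.mem_centralizer_singleton_iff.2 (commute_J D b.2).eq) ha⟩
    refine ⟨⟨y, hle hy⟩, Cfsg.Lib.Core.le_pCore' (N := (Op p C).subgroupOf (oddSub σ h)) inferInstance
      ((Cfsg.Agent.S1312.op_isPGroup p C).comap_of_injective (oddSub σ h).subtype
      (oddSub σ h).subtype_injective) (Subgroup.mem_subgroupOf.2 hy), rfl⟩

theorem layer_centralizer (hG : GWMin G) :
    Cfsg.layer ↥(Subgroup.centralizer ({σ ^ h} : Set G)) = ⊥ := by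
  have hJ : orderOf (σ ^ h) = 2 :=
    Cfsg.Lib.Invol.orderOf_eq_two_of D.central_involution.2.1 D.central_involution.1
  haveI := isSolvable_of_complement (hG.centralizer_complement hJ)
  refine Cfsg.Lib.Core.layer_eq_bot_iff.2 fun L hL => ?_
  exact Cfsg.Lib.Core.component_not_le_solvable hL (H := ⊤) inferInstance le_top

variable (hG : GWMin G) (h8 : 8 ∣ Nat.card G)
  (hmax : IsCoatom (Subgroup.centralizer ({σ ^ h} : Set G))) {p : ℕ} (hp : p.Prime) (hp2 : p ≠ 2)
  (hmove : ∃ a ∈ coreP σ h p, ¬ Commute τ a)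

include hG h8 hmax hp hp2 hmove

/-- Components over the normalizers of the subgroups of `C_R(τ)`. -/
theorem component_over {Y : Subgroup G} (hY : Y ≤ coreP σ h p) (hY1 : Y ≠ ⊥)
    (hYτ : ∀ y ∈ Y, Commute τ y) {N : Subgroup G} (hYN : Subgroup.normalizer (Y : Set G) ≤ N) :
    Cfsg.layer ↥N ≠ ⊥ := by
  haveI : Fact p.Prime := ⟨hp⟩
  obtain ⟨a, ha, hna⟩ := hmove
  intro hl
  obtain ⟨hτP, hτσ⟩ := tau_mem D
  obtain ⟨hτ2, hτ1, hτJ⟩ := reflection_mem D hτP hτσ
  rw [coreP_eq_op D hp hp2] at hY ha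
  exact hna (centralizes_of_componentless hG h8
    (Cfsg.Lib.Invol.orderOf_eq_two_of D.central_involution.2.1 D.central_involution.1)
    (Cfsg.Lib.Invol.orderOf_eq_two_of hτ1 hτ2) hτJ (D.central_involution.2.2 τ hτP).symm hmax hp2
    hY hY1 hYτ hYN hl a ha)

/-- No nontrivial normal subgroup of the centralizer lies in `C_R(τ)`. -/
theorem no_normal_fixed {Y : Subgroup G} (hY : Y ≤ coreP σ h p) (hY1 : Y ≠ ⊥)
    (hYτ : ∀ y ∈ Y, Commute τ y)
    (hYC : ∀ c, Commute c (σ ^ h) → ∀ y ∈ Y, c * y * c⁻¹ ∈ Y) : False := by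
  haveI := hG.isSimple
  refine component_over D hG h8 hmax hp hp2 hmove hY hY1 hYτ
    (N := Subgroup.centralizer ({σ ^ h} : Set G)) ?_ (layer_centralizer D hG)
  intro g hg
  exact Subgroup.mem_centralizer_singleton_iff.2 (commute_of_normalizes D hmax Y
    (hY.trans coreP_le) hY1 hYC (fun y hy => (Subgroup.mem_normalizer_iff.1 hg y).1 hy)).eq

/-- A coatom with a component over the normalizer. -/
theorem exists_over {Y : Subgroup G} (hY : Y ≤ coreP σ h p) (hY1 : Y ≠ ⊥)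
    (hYτ : ∀ y ∈ Y, Commute τ y) :
    ∃ N : Subgroup G, N ≠ ⊤ ∧ Subgroup.normalizer (Y : Set G) ≤ N ∧ Nonempty (Comp N) := by
  haveI := hG.isSimple
  obtain ⟨N, hN, hYN⟩ : ∃ N : Subgroup G, IsCoatom N ∧ Subgroup.normalizer (Y : Set G) ≤ N := by
    refine (eq_top_or_exists_le_coatom _).resolve_left fun e => ?_
    rcases IsSimpleGroup.eq_bot_or_eq_top_of_normal Y (Subgroup.normalizer_eq_top_iff.1 e) with h' | h'
    · exact hY1 h'
    · refine hmax.1 (top_le_iff.1 (h' ▸ fun y hy => ?_))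
      exact Subgroup.mem_centralizer_singleton_iff.2 (commute_J D (coreP_le (hY hy))).eq
  exact ⟨N, hN.1, hYN, exists_comp hG N hN.1 (component_over D hG h8 hmax hp hp2 hmove hY hY1 hYτ hYN)⟩

end Cfsg.Lib.GW.CMax
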