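import Cfsg.Agent.Lib.GW.CMax.MixedPlane
import Cfsg.Agent.Lib.GW.CMax.CountEnd

/-!
# Mixed action on the centre: the members

`L` is the component over `N(C_Z(τ))`.  Its conjugates under `U` correspond to those of `C_Z(τ)`;
these and those of the inverted line are distinct lines of the plane `Z`, so their number `M` satisfies
`2M ≤ t + 1`, `t` the order of the inverted part `T` of `F(U)`, and `L` is of type `PSL₂`.
-/

set_option autoImplicit false
set_option linter.unusedSectionVars false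
set_option linter.style.haveILetI false

namespace Cfsg.Lib.GW.CMax

open Cfsg Cfsg.Lib.Block
open Cfsg.Lib.Block.DihSylow (oddPart oddFix mem_oddPart mem_oddFix)

universe u

/-- A finer partition has more classes. -/
theorem card_image_le_of_fibres {A B C : Type*} [DecidableEq B] [DecidableEq C] (s : Finset A)
    (f : A → B) (g : A → C) (hfg : ∀ a ∈ s, ∀ b ∈ s, f a = f b → g a = g b) :
    (s.image g).card ≤ (s.image f).card := by
  have hex : ∀ y ∈ s.image g, ∃ a ∈ s, g a = y := fun y hy => Finset.mem_image.1 hy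
  choose k hks hkg using hex
  rw [← Finset.card_attach]
  refine Finset.card_le_card_of_injOn (fun y => f (k y.1 y.2))
    (fun y _ => Finset.mem_image_of_mem f (hks y.1 y.2)) fun y _ y' _ e => Subtype.ext ?_
  rw [← hkg y.1 y.2, ← hkg y'.1 y'.2]
  exact hfg _ (hks y.1 y.2) _ (hks y'.1 y'.2) e

variable {G : Type u} [Group G] [Fintype G]

open Classical in
/-- The elements different from `1` of a subgroup. -/
theorem card_nontriv (S : Subgroup G) :
    ((Finset.univ : Finset G).filter fun x => x ∈ S ∧ x ≠ 1).card = Nat.card S - 1 := by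
  have e : ((Finset.univ : Finset G).filter fun x => x ∈ S ∧ x ≠ 1) =
      ((Finset.univ : Finset G).filter (· ∈ S)).erase 1 := by
    ext x; simp [and_comm]
  rw [e, Finset.card_erase_of_mem (by simp), Nat.card_eq_fintype_card, Fintype.card_subtype]

theorem cj_eq_cj_iff {a b : G} {L : Subgroup G} : cj a L = cj b L ↔ cj (b⁻¹ * a) L = L := by
  constructor
  · intro e
    rw [← cj_cj, e, cj_cj, inv_mul_cancel, cj_one]
  · intro e
    calc cj a L = cj b (cj (b⁻¹ * a) L) := by rw [cj_cj, mul_inv_cancel_left]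
      _ = cj b L := by rw [e]

theorem cj_eq_self_iff {g : G} {L : Subgroup G} :
    cj g L = L ↔ g ∈ Subgroup.normalizer (L : Set G) := by
  refine ⟨fun e => Subgroup.mem_normalizer_fintype fun a ha => ?_, fun hg => cj_eq_self fun a ha =>
    (Subgroup.mem_normalizer_iff.1 hg a).1 ha⟩
  show g * a * g⁻¹ ∈ L
  rw [← e]
  exact ⟨a, ha, rfl⟩

namespace MixedCtx

variable [Fact (Nat.Prime 2)] {P : Sylow 2 G} {σ τ : G} {h p : ℕ} (m : MixedCtx P σ τ h p)
  {z : G} (hz : z ∈ omegaZ σ h p) (hzi : τ * z * τ = z⁻¹) (hz1 : z ≠ 1)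

include m hz hzi hz1

theorem card_omegaZ_le : Nat.card (omegaZ σ h p) ≤ p * p := by
  let g : fixZ σ τ h p × Subgroup.zpowers z → omegaZ σ h p := fun q => ⟨q.1 * q.2,
    mul_mem (mem_fixZ.1 q.1.2).1 (m.inverted_zpowers hz hzi hz1 q.2.2).1⟩
  have hg : Function.Surjective g := fun y => by
    obtain ⟨a, ha, i, hi, e⟩ := m.split hz hzi hz1 y.2
    exact ⟨(⟨a, ha⟩, ⟨i, hi⟩), Subtype.ext e.symm⟩
  have := Nat.card_le_card_of_surjective g hg
  rwa [Nat.card_prod, Nat.card_zpowers, m.orderOf_omega hz hz1, m.card_fixZ hz hzi hz1] at this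

/-- The conjugates of `C_Z(τ)` and of the inverted line are distinct. -/
theorem cj_fix_ne_cj_line {u v : G} (hu : u ∈ oddSub σ h) (hv : v ∈ oddSub σ h) :
    cj u (fixZ σ τ h p) ≠ cj v (Subgroup.zpowers z) := by
  intro e
  obtain ⟨c, hc⟩ : ∃ c, c = u⁻¹ * v := ⟨_, rfl⟩
  have hcU : c ∈ oddSub σ h := hc ▸ mul_mem (inv_mem hu) hv
  obtain ⟨d, hd⟩ : ∃ d, d = c * z * c⁻¹ := ⟨_, rfl⟩
  have hdD : d ∈ fixZ σ τ h p := by
    have h1 : v * z * v⁻¹ ∈ cj u (fixZ σ τ h p) := e ▸ ⟨z, Subgroup.mem_zpowers z, rfl⟩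
    rw [mem_cj] at h1
    rw [hd, hc]
    convert h1 using 1
    group
  obtain ⟨k, hk⟩ : ∃ k, k = c * τ * c⁻¹ := ⟨_, rfl⟩
  have hki : k⁻¹ = k := by rw [hk, mul_inv_rev, mul_inv_rev, inv_inv, m.frame.τ_inv, mul_assoc]
  have hy : τ * k * d * (τ * k)⁻¹ = d⁻¹ := by
    have h1 : k * d * k = d⁻¹ := by
      rw [hk, hd, show c * τ * c⁻¹ * (c * z * c⁻¹) * (c * τ * c⁻¹) = c * (τ * z * τ) * c⁻¹ by group,
        hzi, conj_inv]
    rw [mul_inv_rev, hki, m.frame.τ_inv, show τ * k * d * (k * τ) = τ * (k * d * k) * τ by group, h1,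
      InvAct.conj_inv m.frame.sqτ, (m.mem_fix_iff.1 hdD).2]
  have hyU : τ * k ∈ oddSub σ h := hk ▸ (m.twist_elt hcU).1
  obtain ⟨y, hy'⟩ : ∃ y, y = τ * k := ⟨_, rfl⟩
  rw [← hy'] at hy hyU
  have h2 : Commute (y * y) d := by
    refine mul_inv_eq_iff_eq_mul.1 ?_
    rw [show y * y * d * (y * y)⁻¹ = y * (y * d * y⁻¹) * y⁻¹ by group, hy, ← conj_inv, hy, inv_inv]
  obtain ⟨n, hn⟩ := odd_orderOf m.frame hyU
  have h3 : Commute y d := by
    have := h2.pow_left (n + 1)
    rwa [← pow_two, ← pow_mul, show 2 * (n + 1) = orderOf y + 1 by omega, pow_succ,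
      pow_orderOf_eq_one, one_mul] at this
  have hd1 := eq_one_of_inverted m.frame (omegaZ_le.trans coreP_le (mem_fixZ.1 hdD).1) h3 hy
  exact hz1 (conj_eq_one_iff.1 (hd ▸ hd1))

open Classical in
/-- The two families of lines. -/
theorem lines_le : (members σ h (fixZ σ τ h p)).card + (members σ h (Subgroup.zpowers z)).card ≤ p + 1 := by
  haveI : Fact p.Prime := ⟨m.prime⟩
  set K₁ := members σ h (fixZ σ τ h p) with hK₁
  set K₂ := members σ h (Subgroup.zpowers z) with hK₂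
  have hdis : Disjoint K₁ K₂ := Finset.disjoint_left.2 fun S h1 h2 => by
    obtain ⟨u, hu, rfl⟩ := mem_members.1 h1
    obtain ⟨v, hv, e⟩ := mem_members.1 h2
    exact m.cj_fix_ne_cj_line hz hzi hz1 hu hv e.symm
  have hline : ∀ S ∈ K₁ ∪ K₂, Nat.card S = p ∧ S ≤ omegaZ σ h p := by
    intro S hS
    have key : ∀ {S₀ : Subgroup G}, Nat.card S₀ = p → S₀ ≤ omegaZ σ h p →
        S ∈ members σ h S₀ → Nat.card S = p ∧ S ≤ omegaZ σ h p := by
      intro S₀ hc hle hmem
      obtain ⟨u, hu, rfl⟩ := mem_members.1 hmem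
      refine ⟨(card_cj u S₀).trans hc, ?_⟩
      rintro _ ⟨a, ha, rfl⟩
      exact conj_omegaZ m.frame (commute_J m.frame hu) (hle ha)
    rcases Finset.mem_union.1 hS with h' | h'
    · exact key (m.card_fixZ hz hzi hz1) inf_le_left h'
    · exact key (by rw [Nat.card_zpowers, m.orderOf_omega hz hz1]) (Subgroup.zpowers_le.2 hz) h'
  obtain ⟨E, hE⟩ : ∃ E : Subgroup G → Finset G,
      E = fun S => (Finset.univ : Finset G).filter fun x => x ∈ S ∧ x ≠ 1 := ⟨_, rfl⟩
  have hd2 : ((K₁ ∪ K₂ : Finset (Subgroup G)) : Set (Subgroup G)).PairwiseDisjoint E := by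
    intro S hS S' hS' hne
    simp only [Function.onFun, hE]
    refine Finset.disjoint_left.2 fun x hx hx' => hne ?_
    simp only [Finset.mem_filter, Finset.mem_univ, true_and] at hx hx'
    have key : ∀ T : Subgroup G, Nat.card T = p → x ∈ T → Subgroup.zpowers x = T := by
      intro T hT hxT
      refine Subgroup.eq_of_le_of_card_ge (Subgroup.zpowers_le.2 hxT) ?_
      rw [hT, Nat.card_zpowers]
      refine (orderOf_eq_prime ?_ hx.2).ge
      exact orderOf_dvd_iff_pow_eq_one.1 (hT ▸ Subgroup.orderOf_dvd_natCard T hxT)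
    rw [← key S (hline S hS).1 hx.1, key S' (hline S' hS').1 hx'.1]
  have hsub : (K₁ ∪ K₂).biUnion E ⊆ E (omegaZ σ h p) := by
    intro x hx
    obtain ⟨S, hS, hxS⟩ := Finset.mem_biUnion.1 hx
    rw [hE] at hxS ⊢
    simp only [Finset.mem_filter, Finset.mem_univ, true_and] at hxS ⊢
    exact ⟨(hline S hS).2 hxS.1, hxS.2⟩
  have h1 := Finset.card_le_card hsub
  rw [Finset.card_biUnion hd2, Finset.sum_const_nat (m := p - 1) (fun S hS => by
      simp only [hE, card_nontriv]; rw [(hline S hS).1]),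
    Finset.card_union_of_disjoint hdis, hE] at h1
  simp only [card_nontriv] at h1
  refine Nat.le_of_mul_le_mul_right (c := p - 1) ?_ (by have := m.prime.two_le; omega)
  refine h1.trans ((Nat.sub_le_sub_right (m.card_omegaZ_le hz hzi hz1) 1).trans (le_of_eq ?_))
  have := Nat.sq_sub_sq p 1
  rw [one_pow, pow_two] at this
  exact this

variable {N : Subgroup G} (c : Comp N) (hYN : Subgroup.normalizer (fixZ σ τ h p : Set G) ≤ N)
  (hFN : fitSub σ h ≤ N) (hJ : σ ^ h ∈ c.sub) (hτ : τ ∈ c.sub)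

include hYN hFN hJ hτ

theorem cj_sub_iff {u : G} (hu : u ∈ oddSub σ h) :
    cj u c.sub = c.sub ↔ u ∈ Subgroup.normalizer (fixZ σ τ h p : Set G) := by
  refine ⟨fun e => ?_, fun hn => cj_eq_self fun l hl => c.conj_sub (hYN hn) hl⟩
  have hτu : u⁻¹ * τ * u ∈ c.sub := mem_cj.1 (e.symm ▸ hτ)
  refine Subgroup.mem_normalizer_fintype fun a ha =>
    mem_fixZ.2 ⟨conj_omegaZ m.frame (commute_J m.frame hu) (mem_fixZ.1 ha).1, ?_⟩
  have := ((m.fix_commute_sub hz hzi hz1 c hFN hJ hτ ha hτu).map (MulAut.conj u).toMonoidHom).symm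
  simp only [MulEquiv.coe_toMonoidHom, MulAut.conj_apply] at this
  rwa [show u * (u⁻¹ * τ * u) * u⁻¹ = τ by group] at this

theorem card_members_sub : (members σ h c.sub).card = (members σ h (fixZ σ τ h p)).card := by
  classical
  have key : ∀ a ∈ oddSub σ h, ∀ b ∈ oddSub σ h,
      (cj a c.sub = cj b c.sub ↔ cj a (fixZ σ τ h p) = cj b (fixZ σ τ h p)) := fun a ha b hb => by
    rw [cj_eq_cj_iff, m.cj_sub_iff hz hzi hz1 c hYN hFN hJ hτ (mul_mem (inv_mem hb) ha),
      ← cj_eq_self_iff, ← cj_eq_cj_iff]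
  exact le_antisymm
    (card_image_le_of_fibres _ _ _ fun a ha b hb e =>
      (key a (Finset.mem_filter.1 ha).2 b (Finset.mem_filter.1 hb).2).2 e)
    (card_image_le_of_fibres _ _ _ fun a ha b hb e =>
      (key a (Finset.mem_filter.1 ha).2 b (Finset.mem_filter.1 hb).2).1 e)

theorem three_le_members : 3 ≤ (members σ h c.sub).card := by
  classical
  obtain ⟨u, hu, hn⟩ := m.exists_moving hz hzi hz1
  have h2 : 1 < (members σ h c.sub).card := Finset.one_lt_card.2
    ⟨_, mem_members.2 ⟨1, one_mem _, rfl⟩, _, mem_members.2 ⟨u, hu, rfl⟩, fun e => hn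
      ((m.cj_sub_iff hz hzi hz1 c hYN hFN hJ hτ hu).1 (by rw [← e, cj_one]))⟩
  obtain ⟨k, hk⟩ := odd_card_members m.frame c.sub
  omega

theorem exists_invFit : ∃ T : Subgroup G, ∀ f, f ∈ T ↔ f ∈ fitSub σ h ∧ τ * f * τ = f⁻¹ := by
  have hi : ∀ f, τ * f * τ = f⁻¹ → τ * f⁻¹ * τ = f⁻¹⁻¹ := fun f hf => by
    rw [InvAct.conj_inv m.frame.sqτ, hf]
  exact ⟨{ carrier := {f | f ∈ fitSub σ h ∧ τ * f * τ = f⁻¹}
           one_mem' := ⟨one_mem _, by rw [mul_one, m.frame.sqτ, inv_one]⟩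
           mul_mem' := fun {a b} ha hb => ⟨mul_mem ha.1 hb.1, by
             rw [InvAct.conj_mul m.frame.sqτ, ha.2, hb.2, ← mul_inv_rev,
               (fit_inverted_commute m.frame c hJ hτ m.frame.sqτ m.τJ hFN ha.1 hb.1 ha.2 hb.2).eq]⟩
           inv_mem' := fun {a} ha => ⟨inv_mem ha.1, hi a ha.2⟩ }, fun f => Iff.rfl⟩

variable {T : Subgroup G} (hT : ∀ f, f ∈ T ↔ f ∈ fitSub σ h ∧ τ * f * τ = f⁻¹)

include hT

theorem z_mem : z ∈ T := (hT z).2 ⟨coreP_le_fitSub m.prime hz.1, hzi⟩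

theorem odd_card_T : Odd (Nat.card T) :=
  (odd_card_fitSub m.frame).of_dvd_nat (Subgroup.card_dvd_of_le fun f hf => ((hT f).1 hf).1)

theorem prime_dvd_T : p ∣ Nat.card T := by
  rw [← m.orderOf_omega hz hz1]
  exact Subgroup.orderOf_dvd_natCard T (m.z_mem hz hzi hz1 c hYN hFN hJ hτ hT)

open Classical in
/-- The odd part through the members. -/
theorem card_oddPart_le :
    (oddPart σ h).card ≤ (members σ h c.sub).card * Nat.card T * (oddFix σ h τ).card := by
  have eU : oddPart σ h = (Finset.univ : Finset G).filter (· ∈ oddSub σ h) := by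
    ext y; simp [mem_oddSub m.frame]
  obtain ⟨S, hS⟩ : ∃ S : Finset G, S = (oddFix σ h τ ×ˢ (Finset.univ : Finset G).filter (· ∈ T)).image
      fun q => q.1 * q.2 := ⟨_, rfl⟩
  have hScard : S.card ≤ Nat.card T * (oddFix σ h τ).card := by
    rw [hS, Nat.card_eq_fintype_card, Fintype.card_subtype, mul_comm, ← Finset.card_product]
    exact Finset.card_image_le
  have hstab : ∀ v ∈ oddSub σ h, cj v c.sub = c.sub → v ∈ S := by
    intro v hv hvc
    have hvN : v ∈ N := hYN ((m.cj_sub_iff hz hzi hz1 c hYN hFN hJ hτ hv).1 hvc)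
    obtain ⟨w, hw, i, hi, hwτ, hiτ, e⟩ := InvAct.exists_split (P := oddSub σ h ⊓ N)
      ((odd_card_oddSub m.frame).of_dvd_nat (Subgroup.card_dvd_of_le inf_le_left)) m.frame.sqτ
      (v := τ) (Subgroup.mem_normalizer_fintype fun y (hy : y ∈ oddSub σ h ⊓ N) =>
        ⟨conj_oddSub m.frame m.τJ hy.1,
          N.mul_mem (N.mul_mem (c.sub_le hτ) hy.2) (N.inv_mem (c.sub_le hτ))⟩) ⟨hv, hvN⟩
    rw [hS, Finset.mem_image]
    exact ⟨(w, i), Finset.mem_product.2 ⟨mem_oddFix.2 ⟨(mem_oddSub m.frame).1 hw.1, hwτ⟩,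
      Finset.mem_filter.2 ⟨Finset.mem_univ _, (hT i).2
        ⟨inverted_mem_fit m.frame c hJ hτ m.frame.sqτ m.τJ hFN hi.1 hi.2 hiτ, hiτ⟩⟩⟩, e.symm⟩
  rw [eU, mul_assoc, mul_comm]
  refine Finset.card_le_mul_card_image _ _ fun L' hL' => ?_
  obtain ⟨u, hu, rfl⟩ := Finset.mem_image.1 hL'
  refine le_trans (Finset.card_le_card_of_injOn (fun v => u⁻¹ * v) (fun v hv => ?_)
    (fun a _ b _ e => mul_left_cancel e)) hScard
  simp only [Finset.coe_filter, Finset.mem_filter, Finset.mem_univ, true_and, Set.mem_ofPred_eq] at hv hu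
  exact hstab _ (mul_mem (inv_mem hu) hv.1) (cj_eq_cj_iff.1 hv.2)

/-- If `T` is the line, at least as many conjugates of it as of `C_Z(τ)`. -/
theorem members_le_line (ht : Nat.card T = p) :
    (members σ h (fixZ σ τ h p)).card ≤ (members σ h (Subgroup.zpowers z)).card := by
  classical
  have hTz : Subgroup.zpowers z = T := Subgroup.eq_of_le_of_card_ge
    (Subgroup.zpowers_le.2 (m.z_mem hz hzi hz1 c hYN hFN hJ hτ hT))
    (by rw [ht, Nat.card_zpowers, m.orderOf_omega hz hz1])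
  refine card_image_le_of_fibres _ _ _ fun a ha b hb e => ?_
  rw [cj_eq_cj_iff, cj_eq_self_iff] at e ⊢
  obtain ⟨w, hw⟩ : ∃ w, w = b⁻¹ * a := ⟨_, rfl⟩
  have hwU : w ∈ oddSub σ h :=
    hw ▸ mul_mem (inv_mem (Finset.mem_filter.1 hb).2) (Finset.mem_filter.1 ha).2
  rw [← hw] at e ⊢
  obtain ⟨hyU, hyi⟩ := m.twist_elt hwU
  refine m.normalizes_of_fit hz hzi hz1 hwU
    (mem_fitSub_of_inverted_quadratic m.frame m.frame.sqτ m.τJ hyU hyi
      (fun f hf hfi g hg hgi => fit_inverted_commute m.frame c hJ hτ m.frame.sqτ m.τJ hFN hf hg hfi hgi)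
      fun f hf hfi => ?_)
  obtain ⟨k, rfl⟩ := Subgroup.mem_zpowers_iff.1 (hTz ▸ (hT f).2 ⟨hf, hfi⟩ : f ∈ Subgroup.zpowers z)
  refine Commute.zpow_right ?_ k
  -- `τ` and its conjugate invert the line
  have hj : w⁻¹ * z * w ∈ Subgroup.zpowers z :=
    (Subgroup.mem_normalizer_iff''.1 e z).1 (Subgroup.mem_zpowers z)
  obtain ⟨-, hj'⟩ := m.inverted_zpowers hz hzi hz1 hj
  have hk : w * τ * w⁻¹ * z * (w * τ * w⁻¹) = z⁻¹ := by
    rw [show w * τ * w⁻¹ * z * (w * τ * w⁻¹) = w * (τ * (w⁻¹ * z * w) * τ) * w⁻¹ by group, hj']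
    group
  refine mul_inv_eq_iff_eq_mul.1 ?_
  rw [mul_inv_rev, mul_inv_rev, mul_inv_rev, inv_inv, m.frame.τ_inv,
    show τ * (w * τ * w⁻¹) * z * (w * (τ * w⁻¹) * τ) = τ * (w * τ * w⁻¹ * z * (w * τ * w⁻¹)) * τ by
      group, hk, InvAct.conj_inv m.frame.sqτ, hzi, inv_inv]

theorem two_mul_members_le : 2 * (members σ h c.sub).card ≤ Nat.card T + 1 := by
  have h1 := m.card_members_sub hz hzi hz1 c hYN hFN hJ hτ
  have h2 := m.lines_le hz hzi hz1
  obtain ⟨k, hk⟩ := m.prime_dvd_T hz hzi hz1 c hYN hFN hJ hτ hT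
  rcases eq_or_ne k 1 with rfl | hk1
  · have h3 := m.members_le_line hz hzi hz1 c hYN hFN hJ hτ hT (by rw [hk, mul_one])
    rw [h1, hk]
    omega
  · obtain ⟨j, hj⟩ := m.odd_card_T hz hzi hz1 c hYN hFN hJ hτ hT
    have hk3 : 3 ≤ k := by
      rcases k with _ | _ | _ | k
      · rw [mul_zero] at hk; omega
      · omega
      · omega
      · omega
    have hm2 : 1 ≤ (members σ h (Subgroup.zpowers z)).card :=
      Finset.card_pos.2 ⟨_, mem_members.2 ⟨1, one_mem _, rfl⟩⟩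
    have h4 : p * 3 ≤ p * k := Nat.mul_le_mul_left p hk3
    rw [h1, hk]
    omega

/-- The component is of type `PSL₂`. -/
theorem pslType : PSLType c.E := by
  refine c.almost.cases.resolve_right ?_
  rintro ⟨-, hA⟩
  obtain ⟨g, -, hg3, hg⟩ := c.almost.alt_three hA
    (Comp.orderOf_image (c.sub_le hJ) (orderOf_central m.frame)) (c.inner_of_mem_sub hJ)
  have hTN : T ≤ N := fun f hf => hFN ((hT f).1 hf).1
  let ψ := (QuotientGroup.mk' (Cfsg.oddCore ↥N)).comp (Subgroup.inclusion hTN)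
  have hTodd : ∀ f : T, Odd (orderOf (f : G)) := fun f =>
    odd_orderOf m.frame (fitSub_le ((hT f).1 f.2).1)
  have hinj : Function.Injective ψ := (injective_iff_map_eq_one ψ).2 fun f hf => by
    by_contra hf1
    exact c.inverted_image_ne_one hτ m.frame.sqτ (hTN f.2) (hTodd f) ((hT f).1 f.2).2
      (fun e => hf1 (Subtype.ext e)) hf
  have hmem : ∀ f : T, ψ f ∈ Subgroup.zpowers g := fun f =>
    hg _ (c.inner_of_mem_sub (c.inverted_mem hτ m.frame.sqτ (hTN f.2) (hTodd f) ((hT f).1 f.2).2))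
      (Comp.odd_orderOf_image (hTN f.2) (hTodd f))
      (Comp.image_commute _ _ (commute_J m.frame (fitSub_le ((hT f).1 f.2).1)))
  have h1 : Nat.card T ≤ Nat.card (Subgroup.zpowers g) := Nat.card_le_card_of_injective
    (fun f => (⟨ψ f, hmem f⟩ : Subgroup.zpowers g)) fun a b e => hinj (congrArg Subtype.val e)
  rw [Nat.card_zpowers] at h1
  have h2 := orderOf_le_of_pow_eq_one (by norm_num) hg3
  have h3 := m.three_le_members hz hzi hz1 c hYN hFN hJ hτ
  have h4 := m.two_mul_members_le hz hzi hz1 c hYN hFN hJ hτ hT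
  omega

end MixedCtx

end Cfsg.Lib.GW.CMax
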