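import Cfsg.Agent.Lib.GW.CMax.MixedCount
import Cfsg.Agent.Lib.GW.CMax.CountOuter
import Cfsg.Agent.Lib.GW.CMax.DegreeLow
import Cfsg.Agent.Lib.GW.CMax.RatioBound
import Cfsg.Agent.Lib.Block.RegInt

/-!
# Mixed action on the centre: the end

The component over `N(C_Z(τ))` is `PSL₂`, two of its conjugates through `J` share no other involution,
and the companion degrees are at least twelve, so the count of involutions gives a contradiction.
Hence a reflection fixing a nontrivial element of `Z = Ω₁ Z(O_p(U))` centralizes `Z`.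
-/

set_option autoImplicit false
set_option linter.unusedSectionVars false
set_option linter.style.haveILetI false
set_option maxHeartbeats 800000

namespace Cfsg.Lib.GW.CMax

open Cfsg Cfsg.Lib.Block
open Cfsg.Lib.Block.DihSylow (oddPart oddFix mem_oddPart mem_oddFix)
open scoped commutatorElement

universe u

/-- An element of odd order normalizing a group of order five centralizes it. -/
theorem commute_of_normal_five {G : Type u} [Group G] [Finite G] {c d : G} (hd : orderOf d = 5)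
    (hc : Odd (orderOf c)) (hn : c * d * c⁻¹ ∈ Subgroup.zpowers d) : Commute c d := by
  obtain ⟨k, hk⟩ := (isOfFinOrder_of_finite d).mem_powers_iff_mem_zpowers.2 hn
  simp only at hk
  have hit : ∀ n : ℕ, c ^ n * d * (c ^ n)⁻¹ = d ^ (k ^ n) := by
    intro n
    induction n with
    | zero => simp
    | succ n ih =>
      calc c ^ (n + 1) * d * (c ^ (n + 1))⁻¹ = c * (c ^ n * d * (c ^ n)⁻¹) * c⁻¹ := by
            rw [pow_succ']; group
        _ = d ^ (k ^ (n + 1)) := by rw [ih, ← conj_pow, ← hk, ← pow_mul, pow_succ']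
  have h4 : k ^ 4 % 5 = 1 := by
    have h0 : k % 5 ≠ 0 := fun h0 => by
      rw [← pow_mod_orderOf, hd, h0, pow_zero] at hk
      rw [conj_eq_one_iff.1 hk.symm, orderOf_one] at hd
      omega
    have := Nat.mod_lt k (show 5 > 0 by norm_num)
    rw [Nat.pow_mod]
    interval_cases (k % 5) <;> simp_all
  have h5 : Commute (c ^ 4) d := by
    refine mul_inv_eq_iff_eq_mul.1 ?_
    rw [hit 4, ← pow_mod_orderOf, hd, h4, pow_one]
  obtain ⟨n, hn⟩ := exists_pow_eq_self_of_coprime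
    (show (4 : ℕ).Coprime (orderOf c) from (Nat.coprime_two_left.2 hc).pow_left 2)
  exact hn ▸ h5.pow_left n

variable {G : Type u} [Group G] [Fintype G]

namespace MixedCtx

variable [Fact (Nat.Prime 2)] {P : Sylow 2 G} {σ τ : G} {h p : ℕ} (m : MixedCtx P σ τ h p)
  {z : G} (hz : z ∈ omegaZ σ h p) (hzi : τ * z * τ = z⁻¹) (hz1 : z ≠ 1)
  {N : Subgroup G} (c : Comp N) (hYN : Subgroup.normalizer (fixZ σ τ h p : Set G) ≤ N)
  (hFN : fitSub σ h ≤ N) (hJ : σ ^ h ∈ c.sub) (hτ : τ ∈ c.sub)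
  {T : Subgroup G} (hT : ∀ f, f ∈ T ↔ f ∈ fitSub σ h ∧ τ * f * τ = f⁻¹)

include m hz hzi hz1 hYN hFN hJ hτ hT

theorem eq_J_of_commute_line {s : G} (hsN : s ∈ N) (hs2 : s * s = 1) (hs1 : s ≠ 1)
    (hsJ : Commute s (σ ^ h)) (hsz : Commute s z) : s = σ ^ h := by
  have hzs := c.inverted_mem hτ m.frame.sqτ (hFN (coreP_le_fitSub m.prime hz.1))
    (omegaZ_odd m.frame hz) hzi
  refine Comp.eq_of_image_eq hsN (c.sub_le hJ) hs2 m.frame.central_involution.1 hsJ ?_
  exact c.image_unique (m.pslType hz hzi hz1 c hYN hFN hJ hτ hT) _ (c.inner_of_mem_sub hzs)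
    (omegaZ_odd m.frame hz)
    (c.inverted_image_ne_one hτ m.frame.sqτ _ (omegaZ_odd m.frame hz) hzi hz1) hsN (c.sub_le hJ)
    (Cfsg.Lib.Invol.orderOf_eq_two_of hs1 hs2) (orderOf_central m.frame) hsz
    (omegaZ_commute_J m.frame hz).symm

/-- `σ` centralizes the inverted line. -/
theorem sigma_line : Commute σ z := by
  have hσJ : Commute σ (σ ^ h) := (Commute.refl σ).pow_right h
  have hline := m.twist_line hz hzi hz1 hσJ (m.sigma_twist hz hzi hz1)
  have hgg : Commute (σ * σ) z := by rw [← pow_two]; exact m.sigma_sq hz hzi hz1 z hz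
  rcases m.fix_or_invert_line hz hzi hz1 hline hgg with hc | hc
  · exact hc
  exfalso
  obtain ⟨hx, hx'⟩ := tau_mem (swap_gens m.frame)
  obtain ⟨hx2, hx1, hxJ⟩ := reflection_mem m.frame hx hx'
  refine hxJ (m.eq_J_of_commute_line hz hzi hz1 c hYN hFN hJ hτ hT
    (mul_mem (hYN (m.conj_sylow hz hzi hz1 m.frame.memσ)) (c.sub_le hτ)) hx2 hx1
    (m.frame.central_involution.2.2 _ hx) ?_)
  refine mul_inv_eq_iff_eq_mul.1 ?_
  rw [show σ * τ * z * (σ * τ)⁻¹ = σ * (τ * z * τ⁻¹) * σ⁻¹ by group, m.frame.τ_inv, hzi,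
    ← conj_inv, hc, inv_inv]

theorem sigma_fix :
    (∀ a ∈ fixZ σ τ h p, Commute σ a) ∨ ∀ a ∈ fixZ σ τ h p, σ * a * σ⁻¹ = a⁻¹ := by
  haveI : Fact p.Prime := ⟨m.prime⟩
  obtain ⟨d, hd, hd1, hdt⟩ := m.fix
  have hdD : d ∈ fixZ σ τ h p := mem_fixZ.2 ⟨hd, hdt⟩
  have key : ∀ w ∈ fixZ σ τ h p, w ≠ 1 → Subgroup.zpowers w = fixZ σ τ h p := fun w hw hw1 =>
    Subgroup.eq_of_le_of_card_ge (Subgroup.zpowers_le.2 hw) (by
      rw [Nat.card_zpowers, m.orderOf_omega (mem_fixZ.1 hw).1 hw1, m.card_fixZ hz hzi hz1])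
  have hσd : σ * d * σ⁻¹ ∈ fixZ σ τ h p :=
    m.twist_fixZ hz hzi hz1 ((Commute.refl σ).pow_right h) (m.sigma_twist hz hzi hz1) hdD
  obtain ⟨w, hw⟩ : ∃ w, w = d * (σ * d * σ⁻¹) := ⟨_, rfl⟩
  have hwD : w ∈ fixZ σ τ h p := hw ▸ mul_mem hdD hσd
  have hσw : Commute σ w := by
    refine mul_inv_eq_iff_eq_mul.1 ?_
    rw [hw, show σ * (d * (σ * d * σ⁻¹)) * σ⁻¹ = σ * d * σ⁻¹ * (σ ^ 2 * d * (σ ^ 2)⁻¹) by
        rw [pow_two]; group,
      (m.sigma_sq hz hzi hz1 d hd).eq, mul_inv_cancel_right,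
      (omegaZ_commute (mem_fixZ.1 hσd).1 hd).eq]
  rcases eq_or_ne w 1 with e | e
  · refine Or.inr fun a ha => ?_
    obtain ⟨k, rfl⟩ := Subgroup.mem_zpowers_iff.1 ((key d hdD hd1).ge ha)
    rw [← conj_zpow, eq_inv_of_mul_eq_one_right (show d * (σ * d * σ⁻¹) = 1 from hw ▸ e), inv_zpow]
  · refine Or.inl fun a ha => ?_
    obtain ⟨k, rfl⟩ := Subgroup.mem_zpowers_iff.1 ((key w hwD e).ge ha)
    exact hσw.zpow_right k

theorem sigma_case : (∀ y ∈ omegaZ σ h p, Commute σ y) ∨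
    ∀ y ∈ omegaZ σ h p, σ * τ * y * (σ * τ)⁻¹ = y⁻¹ := by
  have hσz := m.sigma_line hz hzi hz1 c hYN hFN hJ hτ hT
  rcases m.sigma_fix hz hzi hz1 c hYN hFN hJ hτ hT with hd | hd
  · refine Or.inl fun y hy => ?_
    obtain ⟨a, ha, i, hi, rfl⟩ := m.split hz hzi hz1 hy
    obtain ⟨k, rfl⟩ := Subgroup.mem_zpowers_iff.1 hi
    exact (hd a ha).mul_right (hσz.zpow_right k)
  · refine Or.inr fun y hy => ?_
    obtain ⟨a, ha, i, hi, rfl⟩ := m.split hz hzi hz1 hy
    obtain ⟨hiZ, hii⟩ := m.inverted_zpowers hz hzi hz1 hi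
    obtain ⟨k, hk⟩ := Subgroup.mem_zpowers_iff.1 hi
    have hσi : σ * i * σ⁻¹ = i := by rw [← hk, (hσz.zpow_right k).eq, mul_inv_cancel_right]
    rw [show σ * τ * (a * i) * (σ * τ)⁻¹ = σ * (τ * (a * i) * τ⁻¹) * σ⁻¹ by group, m.frame.τ_inv,
      InvAct.conj_mul m.frame.sqτ, (m.mem_fix_iff.1 ha).2, hii,
      show σ * (a * i⁻¹) * σ⁻¹ = σ * a * σ⁻¹ * (σ * i * σ⁻¹)⁻¹ by group, hd a ha, hσi,
      mul_inv_rev, (omegaZ_commute (inv_mem (mem_fixZ.1 ha).1) (inv_mem hiZ)).eq]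

/-- Two members through `J` share no other involution. -/
theorem meet_sub {u : G} (hu : u ∈ oddSub σ h) (hne : cj u c.sub ≠ c.sub) {s : G} (hs : s ∈ c.sub)
    (hs' : s ∈ cj u c.sub) (hs2 : s * s = 1) (hs1 : s ≠ 1) : s = σ ^ h := by
  have hn : u ∉ Subgroup.normalizer (fixZ σ τ h p : Set G) := fun hn =>
    hne ((m.cj_sub_iff hz hzi hz1 c hYN hFN hJ hτ hu).2 hn)
  have h1 : ∀ a ∈ fixZ σ τ h p, Commute s a := fun a ha =>
    m.fix_commute_sub hz hzi hz1 c hFN hJ hτ ha hs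
  have h2 : ∀ a ∈ fixZ σ τ h p, Commute s (u * a * u⁻¹) := fun a ha => by
    have := (m.fix_commute_sub hz hzi hz1 c hFN hJ hτ ha (mem_cj.1 hs')).map
      (MulAut.conj u).toMonoidHom
    simp only [MulEquiv.coe_toMonoidHom, MulAut.conj_apply] at this
    rwa [show u * (u⁻¹ * s * u) * u⁻¹ = s by group] at this
  let f : fixZ σ τ h p × fixZ σ τ h p → omegaZ σ h p := fun q => ⟨q.1 * (u * q.2 * u⁻¹),
    mul_mem (mem_fixZ.1 q.1.2).1 (conj_omegaZ m.frame (commute_J m.frame hu) (mem_fixZ.1 q.2.2).1)⟩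
  have hf : Function.Injective f := by
    rintro ⟨a, b⟩ ⟨a', b'⟩ e
    have e' : (a : G) * (u * b * u⁻¹) = a' * (u * b' * u⁻¹) := congrArg Subtype.val e
    have hb : (b' : G) * (b : G)⁻¹ = u⁻¹ * ((a' : G)⁻¹ * a) * u := by
      rw [eq_mul_inv_iff_mul_eq.2 e']
      group
    by_cases ha : (a' : G)⁻¹ * a = 1
    · rw [ha, mul_one, inv_mul_cancel] at hb
      rw [Prod.mk.injEq]
      exact ⟨Subtype.ext (inv_mul_eq_one.1 ha).symm, Subtype.ext (mul_inv_eq_one.1 hb).symm⟩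
    · exact (hn (m.normalizes_of_meet hz hzi hz1 hu (mul_mem (inv_mem a'.2) a.2) ha
        (hb ▸ mul_mem b'.2 (inv_mem b.2)))).elim
  have hbij : Function.Bijective f := (Nat.bijective_iff_injective_and_card f).2 ⟨hf,
    le_antisymm (Nat.card_le_card_of_injective f hf) (by
      rw [Nat.card_prod, m.card_fixZ hz hzi hz1]
      exact m.card_omegaZ_le hz hzi hz1)⟩
  have hsZ : ∀ y ∈ omegaZ σ h p, Commute s y := by
    intro y hy
    obtain ⟨⟨a, b⟩, hab⟩ := hbij.2 ⟨y, hy⟩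
    rw [← (show (a : G) * (u * b * u⁻¹) = y from congrArg Subtype.val hab)]
    exact (h1 a a.2).mul_right (h2 b b.2)
  haveI := m.gw.isSimple
  refine m.eq_J_of_commute_line hz hzi hz1 c hYN hFN hJ hτ hT (c.sub_le hs) hs2 hs1
    (commute_of_normalizes m.frame m.max (omegaZ σ h p) (omegaZ_le.trans coreP_le)
      (fun e => hz1 (Subgroup.mem_bot.1 (e ▸ hz))) (fun g hg a ha => conj_omegaZ m.frame hg ha)
      fun a ha => ?_) (hsZ z hz)
  rw [(hsZ a ha).eq, mul_inv_cancel_right]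
  exact ha

theorem sub_facts (ht : 5 ≤ Nat.card T) :
    CountCtx P σ h c.sub ∧ (2 * h * Nat.card T - 1) * (h * Nat.card T - 1) ≤
      Nat.card {s : G // s ∈ c.sub ∧ s * s = 1 ∧ s ≠ 1} := by
  obtain ⟨F, iF, iF', hodd, -, ⟨e⟩⟩ := m.pslType hz hzi hz1 c hYN hFN hJ hτ hT
  set φ := QuotientGroup.mk' (Cfsg.oddCore ↥N) with hφ
  let ψ : c.sub →* ↥N ⧸ Cfsg.oddCore ↥N := φ.comp (Subgroup.inclusion c.sub_le)
  let f : c.sub →* Matrix.ProjectiveSpecialLinearGroup (Fin 2) F :=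
    e.toMonoidHom.comp (ψ.codRestrict c.E fun l => c.inner_of_mem_sub l.2)
  have hψ : ∀ l, f l = 1 → ψ l = 1 := fun l hl => by
    have h1 : ψ.codRestrict c.E (fun l => c.inner_of_mem_sub l.2) l = 1 := e.injective (by
      rw [map_one]; exact hl)
    exact congrArg Subtype.val h1
  have hf : Function.Surjective f := by
    intro y
    have hy : ((e.symm y : c.E) : ↥N ⧸ Cfsg.oddCore ↥N) ∈ c.L.map φ := by
      rw [c.map_L]; exact (e.symm y).2
    obtain ⟨l, hl, hle⟩ := hy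
    refine ⟨⟨l, ⟨l, hl, rfl⟩⟩, ?_⟩
    refine e.symm.injective ?_
    show e.symm (e _) = _
    rw [e.symm_apply_apply]
    exact Subtype.ext hle
  have hker : ∀ w, f w = 1 → Odd (orderOf w) ∧ ∀ y, Commute w y := by
    intro w hw
    have hw' := hψ w hw
    refine ⟨?_, fun y => Subtype.ext (c.commute_core y.2 (c.sub_le w.2) hw').eq.symm⟩
    have := Cfsg.Lib.ZStar.odd_orderOf_oddCore ((QuotientGroup.eq_one_iff _).1 hw')
    rwa [← Subgroup.orderOf_coe, Subgroup.coe_inclusion, Subgroup.orderOf_coe] at this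
  obtain ⟨j, hj⟩ : ∃ j : c.sub, j = ⟨σ ^ h, hJ⟩ := ⟨_, rfl⟩
  have hjo : orderOf j = 2 := by rw [hj, Subgroup.orderOf_mk]; exact orderOf_central m.frame
  -- subgroups of the centralizer
  have hsub : ∀ (A : Subgroup G) (hA : A ≤ c.sub), (∀ a ∈ A, Commute a (σ ^ h)) →
      (∀ a (ha : a ∈ A), ψ ⟨a, hA ha⟩ = 1 → a = 1) →
      Nat.card A ∣ Nat.card (Subgroup.centralizer ({f j} : Set
        (Matrix.ProjectiveSpecialLinearGroup (Fin 2) F))) := by
    intro A hA hc hi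
    let g : A →* Subgroup.centralizer ({f j} : Set (Matrix.ProjectiveSpecialLinearGroup (Fin 2) F)) :=
      (f.comp (Subgroup.inclusion hA)).codRestrict _ fun a => Subgroup.mem_centralizer_singleton_iff.2
        ((show Commute (⟨a, hA a.2⟩ : c.sub) j from Subtype.ext (hj ▸ (hc a a.2).eq)).map f).eq
    refine Subgroup.card_dvd_of_injective g ((injective_iff_map_eq_one g).2 fun a ha => ?_)
    exact Subtype.ext (hi a a.2 (hψ _ (congrArg Subtype.val ha)))
  have hσN := hYN (m.conj_sylow hz hzi hz1 m.frame.memσ)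
  have hσ2 : σ ^ 2 ∈ c.sub := by
    have e1 : σ ^ 2 = σ * τ * σ⁻¹ * τ := by
      have := m.conj_reflection 1
      rw [pow_one, mul_one] at this
      rw [this, mul_assoc, m.frame.sqτ, mul_one]
    exact e1 ▸ mul_mem (c.conj_sub hσN hτ) hτ
  have hQ : 2 * h ∣ Nat.card ↥((P : Subgroup G) ⊓ c.sub) := by
    have hle : Subgroup.zpowers (σ ^ 2) ≤ (P : Subgroup G) ⊓ c.sub :=
      Subgroup.zpowers_le.2 ⟨pow_mem m.frame.memσ 2, hσ2⟩
    have ho : orderOf (σ ^ 2) = h := by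
      rw [orderOf_pow_of_dvd two_ne_zero (m.frame.orderσ ▸ dvd_mul_right 2 h), m.frame.orderσ,
        Nat.mul_div_cancel_left _ two_pos]
    obtain ⟨r, hr⟩ : h ∣ Nat.card ↥((P : Subgroup G) ⊓ c.sub) := by
      have := Subgroup.card_dvd_of_le hle
      rwa [Nat.card_zpowers, ho] at this
    have hr1 : r ≠ 1 := fun e1 => by
      have e2 := Subgroup.eq_of_le_of_card_ge hle (by rw [hr, e1, mul_one, Nat.card_zpowers, ho])
      have hm : τ ∈ Subgroup.zpowers (σ ^ 2) := e2.symm ▸ ⟨m.frame.memτ, hτ⟩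
      exact (tau_mem m.frame).2 (Subgroup.zpowers_le.2 (m.frame.mem_pow 2) hm)
    obtain ⟨k, hk⟩ := (P.2.to_le inf_le_left : IsPGroup 2 ↥((P : Subgroup G) ⊓ c.sub)).exists_card_eq
    obtain ⟨i, -, hi⟩ := (Nat.dvd_prime_pow Nat.prime_two).1 (hk ▸ hr ▸ dvd_mul_left r h)
    rcases i with _ | i
    · exact absurd hi hr1
    · exact ⟨2 ^ i, by rw [hr, hi, pow_succ]; ring⟩
  have hdvd : 2 * h * Nat.card T ∣ Nat.card (Subgroup.centralizer ({f j} : Set
      (Matrix.ProjectiveSpecialLinearGroup (Fin 2) F))) := by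
    have hTs : ∀ a ∈ T, a ∈ c.sub := fun a ha =>
      c.inverted_mem hτ m.frame.sqτ (hFN ((hT a).1 ha).1)
        (odd_orderOf m.frame (fitSub_le ((hT a).1 ha).1)) ((hT a).1 ha).2
    have d1 := hsub T hTs (fun a ha => commute_J m.frame (fitSub_le ((hT a).1 ha).1))
      fun a ha he => by
        by_contra ha1
        exact c.inverted_image_ne_one hτ m.frame.sqτ (c.sub_le (hTs a ha))
          (odd_orderOf m.frame (fitSub_le ((hT a).1 ha).1)) ((hT a).1 ha).2 ha1 he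
    have d2 := hsub ((P : Subgroup G) ⊓ c.sub) inf_le_right
      (fun a ha => m.frame.central_involution.2.2 a ha.1) fun a ha he => by
        have hodd := Cfsg.Lib.ZStar.odd_orderOf_oddCore ((QuotientGroup.eq_one_iff _).1 he)
        rw [← Subgroup.orderOf_coe] at hodd
        obtain ⟨k, hk⟩ := P.2 ⟨a, ha.1⟩
        exact orderOf_eq_one_iff.1 (Nat.eq_one_of_dvd_coprimes
          ((Nat.coprime_two_right.2 hodd).pow_right k) dvd_rfl
          (orderOf_dvd_of_pow_eq_one (congrArg Subtype.val hk)))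
    refine Nat.Coprime.mul_dvd_of_dvd_of_dvd ?_ (hQ.trans d2) d1
    obtain ⟨k, hk⟩ := P.2.exists_card_eq
    refine Nat.Coprime.coprime_dvd_left ⟨2, ?_⟩
      ((Nat.coprime_two_left.2 (m.odd_card_T hz hzi hz1 c hYN hFN hJ hτ hT)).pow_left k)
    rw [← hk, m.frame.card]
    ring
  obtain ⟨hconj, hcount⟩ := psl_cover_facts hodd f hf hker hjo m.frame.two_le ht hdvd
  refine ⟨⟨hJ, fun s hs hs2 hs1 => ?_, fun x hx l hl => c.conj_sub (hYN (m.conj_sylow hz hzi hz1 hx)) hl,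
    fun u hu hne s hs hs' => m.meet_sub hz hzi hz1 c hYN hFN hJ hτ hT hu hne hs hs'⟩,
    hcount.trans ?_⟩
  · obtain ⟨l, hl⟩ := isConj_iff.1
      (hconj ⟨s, hs⟩ (Subtype.ext hs2) fun e1 => hs1 (congrArg Subtype.val e1))
    refine ⟨l, l.2, ?_⟩
    have := congrArg Subtype.val hl
    rwa [hj] at this
  · exact Nat.card_le_card_of_injective
      (fun s => (⟨s.1.1, s.1.2, congrArg Subtype.val s.2.1, fun e1 => s.2.2 (Subtype.ext e1)⟩ :
        {s : G // s ∈ c.sub ∧ s * s = 1 ∧ s ≠ 1}))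
      fun a b e1 => by
        injection e1 with e1
        exact Subtype.ext (Subtype.ext e1)

/-- The Fitting subgroup of the odd part is the plane, if `T` is the line. -/
theorem fitSub_le_omegaZ (ht : Nat.card T = p) : fitSub σ h ≤ omegaZ σ h p := by
  haveI := m.gw.isSimple
  haveI : Fact p.Prime := ⟨m.prime⟩
  have hTz : Subgroup.zpowers z = T := Subgroup.eq_of_le_of_card_ge
    (Subgroup.zpowers_le.2 (m.z_mem hz hzi hz1 c hYN hFN hJ hτ hT))
    (by rw [ht, Nat.card_zpowers, m.orderOf_omega hz hz1])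
  have hsplit : ∀ {q : ℕ}, q.Prime → ∀ x ∈ coreP σ h q, ∃ a i, a ∈ coreP σ h q ∧ Commute a τ ∧
      i ∈ coreP σ h q ∧ i ∈ omegaZ σ h p ∧ x = a * i := by
    intro q hq x hx
    obtain ⟨a, ha, i, hi, hac, hii, e⟩ := InvAct.exists_split
      ((odd_card_oddSub m.frame).of_dvd_nat (Subgroup.card_dvd_of_le coreP_le)) m.frame.sqτ (v := τ)
      (Subgroup.mem_normalizer_fintype fun y hy => conj_coreP m.frame m.τJ hy) hx
    exact ⟨a, i, ha, hac, hi, Subgroup.zpowers_le.2 hz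
      (hTz ▸ (hT i).2 ⟨coreP_le_fitSub hq hi, hii⟩), e⟩
  -- the other primes
  have hbot : ∀ q : ℕ, q.Prime → q ≠ p → coreP σ h q = ⊥ := by
    intro q hq hqp
    haveI : Fact q.Prime := ⟨hq⟩
    by_contra hne
    have hfix : ∀ x ∈ coreP σ h q, Commute x τ := by
      intro x hx
      obtain ⟨a, i, -, hac, hi, hiZ, e⟩ := hsplit hq x hx
      obtain ⟨n, hn⟩ := isPGroup_coreP (σ := σ) (h := h) (p := q) ⟨i, hi⟩
      have hi1 : i = 1 := orderOf_eq_one_iff.1 (Nat.eq_one_of_dvd_coprimes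
        (((Nat.coprime_primes m.prime hq).2 hqp.symm).pow_right n)
        (orderOf_dvd_of_pow_eq_one hiZ.2.1) (orderOf_dvd_of_pow_eq_one (congrArg Subtype.val hn)))
      rw [e, hi1, mul_one]
      exact hac
    haveI : Nontrivial (coreP σ h q) := (Subgroup.nontrivial_iff_ne_bot _).2 hne
    haveI := (isPGroup_coreP (σ := σ) (h := h) (p := q)).center_nontrivial
    obtain ⟨n, hn⟩ := ((isPGroup_coreP (σ := σ) (h := h) (p := q)).to_subgroup
      (Subgroup.center (coreP σ h q))).exists_card_eq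
    have hqd : q ∣ Nat.card (Subgroup.center (coreP σ h q)) := by
      rcases n with _ | n
      · have := Finite.one_lt_card (α := Subgroup.center (coreP σ h q))
        rw [hn, pow_zero] at this
        omega
      · exact hn ▸ dvd_pow_self q n.succ_ne_zero
    obtain ⟨a, ha⟩ := exists_prime_orderOf_dvd_card' q hqd
    rw [← Subgroup.orderOf_coe, ← Subgroup.orderOf_coe] at ha
    have haZ : ((a : coreP σ h q) : G) ∈ omegaZ σ h q := ⟨(a : coreP σ h q).2,
      orderOf_dvd_iff_pow_eq_one.1 ha.dvd,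
      fun b hb => (congrArg Subtype.val (Subgroup.mem_center_iff.1 a.2 ⟨b, hb⟩)).symm⟩
    obtain ⟨l, hl, hnl⟩ := c.exists_not_commute hJ (orderOf_central m.frame)
    refine hnl (commute_of_normalizes m.frame m.max (omegaZ σ h q) (omegaZ_le.trans coreP_le)
      (fun e => Nat.Prime.ne_one hq (by
        rw [← ha, Subgroup.mem_bot.1 (show ((a : coreP σ h q) : G) ∈ (⊥ : Subgroup G) from e ▸ haZ), orderOf_one]))
      (fun g hg b hb => conj_omegaZ m.frame hg hb) fun b hb => ?_)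
    have hbl : Commute l b := centralize_component m.frame c hJ hτ m.frame.sqτ m.τJ hFN m.τ_ne.1
      m.τ_ne.2 (Or.inr ⟨z, coreP_le_fitSub m.prime hz.1, hzi, hz1⟩)
      (hFN (coreP_le_fitSub hq hb.1)) (omegaZ_odd m.frame hb) (omegaZ_commute_J m.frame hb)
      (hfix b hb.1) (fun f hf _ => omegaZ_commute_fitSub m.frame hq hb f hf) hl
    rw [hbl.eq, mul_inv_cancel_right]
    exact hb
  have hFR : fitSub σ h ≤ coreP σ h p := fitSub_induction _ fun q hq => by
    by_cases e : q = p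
    · rw [e]
    · rw [hbot q hq e]; exact bot_le
  obtain ⟨y₀, hy₀, hny⟩ := m.mv
  have hnorm := fun (Y : Subgroup G) (hY : Y ≤ coreP σ h p) (hYτ : ∀ y ∈ Y, Commute τ y)
      (hYC : ∀ g, Commute g (σ ^ h) → ∀ y ∈ Y, g * y * g⁻¹ ∈ Y) =>
    show Y = ⊥ by
      by_contra hY1
      exact no_normal_fixed m.frame m.gw m.eight m.max m.prime m.ne_two ⟨y₀, hy₀.1, hny⟩ hY hY1
        hYτ hYC
  -- abelian
  have hab : ∀ a ∈ coreP σ h p, ∀ b ∈ coreP σ h p, Commute a b := by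
    have h1 := hnorm ⁅coreP σ h p, coreP σ h p⁆
      (Subgroup.commutator_le.2 fun a ha b hb => by
        rw [commutatorElement_def]; exact mul_mem (mul_mem (mul_mem ha hb) (inv_mem ha)) (inv_mem hb))
      (fun y hy => (Subgroup.mem_centralizer_singleton_iff.1
        ((Subgroup.commutator_le (H₃ := Subgroup.centralizer ({τ} : Set G))).2 (fun a ha b hb => by
          obtain ⟨a₁, i, ha₁, hac, -, hiZ, rfl⟩ := hsplit m.prime a ha
          obtain ⟨b₁, j, hb₁, hbc, hj', hjZ, rfl⟩ := hsplit m.prime b hb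
          have e1 : ⁅a₁ * i, b₁ * j⁆ = ⁅a₁, b₁⁆ := by
            simp only [commutatorElement_def]
            calc a₁ * i * (b₁ * j) * (a₁ * i)⁻¹ * (b₁ * j)⁻¹
                = a₁ * (i * (b₁ * j)) * i⁻¹ * a₁⁻¹ * j⁻¹ * b₁⁻¹ := by group
              _ = a₁ * b₁ * (j * a₁⁻¹) * j⁻¹ * b₁⁻¹ := by
                  rw [(hiZ.2.2 _ (mul_mem hb₁ hj')).eq]; group
              _ = a₁ * b₁ * a₁⁻¹ * b₁⁻¹ := by rw [(hjZ.2.2 _ (inv_mem ha₁)).eq]; group
          rw [e1, commutatorElement_def]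
          exact Subgroup.mem_centralizer_singleton_iff.2
            (((hac.mul_left hbc).mul_left hac.inv_left).mul_left hbc.inv_left).eq) hy)).symm)
      fun g hg y hy => by
        have h2 : (coreP σ h p).map (MulAut.conj g).toMonoidHom ≤ coreP σ h p := by
          rintro _ ⟨a, ha, rfl⟩
          exact conj_coreP m.frame hg ha
        have h3 := Subgroup.mem_map_of_mem (MulAut.conj g).toMonoidHom hy
        rw [Subgroup.map_commutator] at h3
        exact Subgroup.commutator_mono h2 h2 h3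
    intro a ha b hb
    exact commutatorElement_eq_one_iff_commute.1 (Subgroup.mem_bot.1
      (h1 ▸ Subgroup.commutator_mem_commutator ha hb))
  -- exponent `p`
  obtain ⟨Y, hY⟩ : ∃ Y : Subgroup G, ∀ y, y ∈ Y ↔ ∃ a ∈ coreP σ h p, a ^ p = y :=
    ⟨{ carrier := {y | ∃ a ∈ coreP σ h p, a ^ p = y}
       one_mem' := ⟨1, one_mem _, one_pow _⟩
       mul_mem' := fun {x y} ⟨a, ha, hx⟩ ⟨b, hb, hy⟩ =>
         ⟨a * b, mul_mem ha hb, by rw [(hab a ha b hb).mul_pow, hx, hy]⟩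
       inv_mem' := fun {x} ⟨a, ha, hx⟩ => ⟨a⁻¹, inv_mem ha, by rw [inv_pow, hx]⟩ }, fun _ => Iff.rfl⟩
  have h1 := hnorm Y (fun y hy => by
      obtain ⟨a, ha, rfl⟩ := (hY y).1 hy
      exact pow_mem ha p)
    (fun y hy => by
      obtain ⟨a, ha, rfl⟩ := (hY y).1 hy
      obtain ⟨a₁, i, ha₁, hac, -, hiZ, rfl⟩ := hsplit m.prime a ha
      rw [(hiZ.2.2 a₁ ha₁).symm.mul_pow, hiZ.2.1, mul_one]
      exact (hac.pow_left p).symm)
    fun g hg y hy => by
      obtain ⟨a, ha, rfl⟩ := (hY y).1 hy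
      exact (hY _).2 ⟨_, conj_coreP m.frame hg ha, conj_pow⟩
  intro f hf
  exact ⟨hFR hf, Subgroup.mem_bot.1 (h1 ▸ (hY _).2 ⟨f, hFR hf, rfl⟩), hab f (hFR hf)⟩

/-- The exceptional case: at most five elements of `U` centralize `τ`, at least three `στ`. -/
theorem five_facts (hp5 : p = 5) (ht : Nat.card T = 5) :
    (oddFix σ h τ).card ≤ 5 ∧ 3 ≤ (oddFix σ h (σ * τ)).card := by
  classical
  have hFZ := m.fitSub_le_omegaZ hz hzi hz1 c hYN hFN hJ hτ hT (ht.trans hp5.symm)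
  have ho5 : ∀ {d}, d ∈ omegaZ σ h p → d ≠ 1 → orderOf d = 5 := fun hd hd1 =>
    (m.orderOf_omega hd hd1).trans hp5
  constructor
  · have hsub : oddFix σ h τ ⊆ (Finset.univ : Finset G).filter (· ∈ fixZ σ τ h p) := by
      intro y hy
      obtain ⟨hyU, hyτ⟩ := mem_oddFix.1 hy
      rw [← mem_oddSub m.frame] at hyU
      have hct : ∀ w ∈ omegaZ σ h p, y * τ * y⁻¹ * w * (y * τ * y⁻¹) = τ * w * τ := fun w _ => by
        rw [hyτ.eq, mul_inv_cancel_right]
      have hyo := odd_orderOf m.frame hyU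
      have hyz : Commute y z := commute_of_normal_five (ho5 hz hz1) hyo
        (m.twist_line hz hzi hz1 (commute_J m.frame hyU) hct)
      have hyF : ∀ w ∈ omegaZ σ h p, Commute y w := by
        intro w hw
        obtain ⟨a, ha, i, hi, rfl⟩ := m.split hz hzi hz1 hw
        obtain ⟨k, rfl⟩ := Subgroup.mem_zpowers_iff.1 hi
        refine Commute.mul_right ?_ (hyz.zpow_right k)
        by_cases ha1 : a = 1
        · exact ha1 ▸ Commute.one_right y
        refine commute_of_normal_five (ho5 (mem_fixZ.1 ha).1 ha1) hyo ?_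
        have e : Subgroup.zpowers a = fixZ σ τ h p := Subgroup.eq_of_le_of_card_ge
          (Subgroup.zpowers_le.2 ha) (by
            rw [Nat.card_zpowers, ho5 (mem_fixZ.1 ha).1 ha1, m.card_fixZ hz hzi hz1, hp5])
        rw [e]
        exact m.twist_fixZ hz hzi hz1 (commute_J m.frame hyU) hct ha
      exact Finset.mem_filter.2 ⟨Finset.mem_univ _, mem_fixZ.2
        ⟨hFZ (mem_fitSub_of_commute m.frame hyU fun a ha => hyF a (hFZ ha)), hyτ⟩⟩
    exact (Finset.card_le_card hsub).trans (le_of_eq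
      ((Nat.card_eq_fintype_card.trans (Fintype.card_subtype _)).symm.trans
        ((m.card_fixZ hz hzi hz1).trans hp5)))
  · obtain ⟨a, haU, haστ, ha1⟩ : ∃ a ∈ oddSub σ h, Commute a (σ * τ) ∧ a ≠ 1 := by
      rcases m.sigma_case hz hzi hz1 c hYN hFN hJ hτ hT with hs | hs
      · obtain ⟨d, hd, hd1, hdt⟩ := m.fix
        exact ⟨d, coreP_le hd.1, (hs d hd).symm.mul_right hdt, hd1⟩
      obtain ⟨hx, hx'⟩ := tau_mem (swap_gens m.frame)
      obtain ⟨hx2, -, -⟩ := reflection_mem m.frame hx hx'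
      have hxJ := m.frame.central_involution.2.2 _ hx
      obtain ⟨u, hu, hn⟩ := m.exists_moving hz hzi hz1
      obtain ⟨a, ha, i, hi, hax, hix, e⟩ := InvAct.exists_split (odd_card_oddSub m.frame) hx2
        (Subgroup.mem_normalizer_fintype fun y hy => conj_oddSub m.frame hxJ hy) hu
      refine ⟨a, ha, hax, fun ha1 => hn ?_⟩
      obtain ⟨x, hxd⟩ : ∃ x, x = σ * τ := ⟨_, rfl⟩
      rw [← hxd] at hix hx2 hs
      have hxi : x⁻¹ = x := inv_eq_of_mul_eq_one_right hx2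
      have hiw : ∀ w ∈ omegaZ σ h p, Commute i w := by
        intro w hw
        have h1 := hs _ (conj_omegaZ m.frame (commute_J m.frame hi) hw)
        rw [hxi, InvAct.conj_mul hx2, InvAct.conj_mul hx2, InvAct.conj_inv hx2, hix, inv_inv] at h1
        have h2 := hs w hw
        rw [hxi] at h2
        rw [h2, conj_inv] at h1
        have h3 : Commute (i * i) w⁻¹ := by
          calc i * i * w⁻¹ = i * (i * w⁻¹ * i⁻¹) * i := by group
            _ = i * (i⁻¹ * w⁻¹ * i) * i := by rw [h1]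
            _ = w⁻¹ * (i * i) := by group
        obtain ⟨n, hn'⟩ := odd_orderOf m.frame hi
        have h4 := h3.pow_left (n + 1)
        rw [← pow_two, ← pow_mul, show 2 * (n + 1) = orderOf i + 1 by omega, pow_succ,
          pow_orderOf_eq_one, one_mul] at h4
        exact (inv_inv w) ▸ h4.inv_right
      have hiZ : i ∈ omegaZ σ h p :=
        hFZ (mem_fitSub_of_commute m.frame hi fun f hf => hiw f (hFZ hf))
      rw [e, ha1, one_mul]
      refine Subgroup.mem_normalizer_fintype fun b hb => ?_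
      rw [SetLike.mem_coe] at hb ⊢
      rw [(omegaZ_commute hiZ (mem_fixZ.1 hb).1).eq, mul_inv_cancel_right]
      exact hb
    have hne : a ≠ a⁻¹ := fun e => ha1 (eq_one_of_two_pow m.frame haU (k := 1)
      (by rw [pow_one, pow_two]; exact mul_eq_one_iff_eq_inv.2 e))
    have h3 : ({1, a, a⁻¹} : Finset G).card = 3 := Finset.card_eq_three.2
      ⟨1, a, a⁻¹, ha1.symm, fun e => ha1 (inv_eq_one.1 e.symm), hne, rfl⟩
    rw [← h3]
    refine Finset.card_le_card fun w hw => mem_oddFix.2 ?_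
    simp only [Finset.mem_insert, Finset.mem_singleton] at hw
    rcases hw with rfl | rfl | rfl
    · exact ⟨m.frame.oddPart_spec.1, Commute.one_left _⟩
    · exact ⟨(mem_oddSub m.frame).1 haU, haστ⟩
    · exact ⟨(mem_oddSub m.frame).1 (inv_mem haU), haστ.inv_left⟩

theorem false_of_frame (hconjJ : ∀ a : G, a * a = 1 → a ≠ 1 → IsConj (σ ^ h) a) : False := by
  classical
  haveI := m.gw.isSimple
  have hM3 := m.three_le_members hz hzi hz1 c hYN hFN hJ hτ
  have hMt := m.two_mul_members_le hz hzi hz1 c hYN hFN hJ hτ hT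
  obtain ⟨M, hM⟩ := exists_isPModular Nat.prime_two
  obtain ⟨co⟩ := exists_companion hM m.frame hconjJ
  obtain ⟨u, hu, hn⟩ := m.exists_moving hz hzi hz1
  obtain ⟨hX, ha, hb⟩ := companion_degrees m.frame hM co (omegaZ σ h p)
    (fun a ha b hb => omegaZ_commute ha hb) (omegaZ_le.trans coreP_le)
    (fun v hv a ha => conj_omegaZ m.frame (commute_J m.frame hv) ha)
    (fun a ha => by rw [← pow_two]; exact m.sigma_sq hz hzi hz1 a ha)
    ⟨u, hu, by
      by_contra hno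
      push Not at hno
      exact hn (Subgroup.centralizer_le_normalizer _ (Subgroup.mem_centralizer_iff.2
        fun a ha => (hno a (mem_fixZ.1 ha).1).eq.symm))⟩
    (m.sigma_case hz hzi hz1 c hYN hFN hJ hτ hT)
  obtain ⟨cc, hI⟩ := m.sub_facts hz hzi hz1 c hYN hFN hJ hτ hT (by omega)
  have h0 := m.card_oddPart_le hz hzi hz1 c hYN hFN hJ hτ hT
  refine count_outer_end m.frame co cc hconjJ (m.odd_card_T hz hzi hz1 c hYN hFN hJ hτ hT) hM3 hMt hI h0
    ?_ fun e3 e5 _ => ⟨fun e => by rw [e] at hX; norm_num at hX, ?_⟩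
  · have e1 := Cfsg.Lib.Invol.card_conj_mul_centralizer (σ ^ h)
    rw [← (Subgroup.centralizer ({σ ^ h} : Set G)).index_mul_card] at e1
    rw [Nat.eq_of_mul_eq_mul_right Nat.card_pos e1]
    exact (Cfsg.Lib.GW.Companion.index_bound m.frame co hX ha hb).1
  · have hp5 : p = 5 := (Nat.prime_dvd_prime_iff_eq m.prime Nat.prime_five).1
      (e5 ▸ m.prime_dvd_T hz hzi hz1 c hYN hFN hJ hτ hT)
    obtain ⟨h5, h3⟩ := m.five_facts hz hzi hz1 c hYN hFN hJ hτ hT hp5 e5
    rw [e3, e5] at h0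
    omega

end MixedCtx

/-- **No mixed action on the centre.** -/
theorem mixed_false [Fact (Nat.Prime 2)] {P : Sylow 2 G} {σ τ : G} {h : ℕ} (hG : GWMin G)
    (h8 : 8 ∣ Nat.card G) (D : DihSylow P σ τ h)
    (hmax : IsCoatom (Subgroup.centralizer ({σ ^ h} : Set G)))
    (hconjJ : ∀ a : G, a * a = 1 → a ≠ 1 → IsConj (σ ^ h) a) {p : ℕ} (hp : p.Prime) (hp2 : p ≠ 2)
    (hfix : ∃ z ∈ omegaZ σ h p, z ≠ 1 ∧ Commute z τ)
    (hmv : ∃ z ∈ omegaZ σ h p, ¬ Commute τ z) : False := by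
  obtain ⟨τ', L, D', hfix', hmv', hL, hJ, hτ, hLc⟩ :=
    exists_inner_frame D hG h8 hmax hp hp2 hfix hmv
  have m : MixedCtx P σ τ' h p :=
    ⟨D', hG, h8, hmax, hp, hp2, hfix', hmv', L, hL, hJ, hτ, hLc⟩
  obtain ⟨z, hz, hzi, hz1⟩ := m.exists_z
  obtain ⟨N, c, hYN, hFN, hJs, hτs⟩ := m.exists_frame_fixZ
  obtain ⟨T, hT⟩ := m.exists_invFit hz hzi hz1 c hYN hFN hJs hτs
  exact m.false_of_frame hz hzi hz1 c hYN hFN hJs hτs hT hconjJ

end Cfsg.Lib.GW.CMax
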