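import Cfsg.Agent.Lib.GW.CMax.Local

/-!
# Mixed action on the centre: the reflection may be taken inner

`τ` fixes and moves elements of `Z = Ω₁ Z(O_p(U))`.  Over the normalizer of `C_Z(τ)` there is a
component; after replacing `τ` by a reflection in it, some perfect subgroup contains `J` and `τ` and
centralizes `C_Z(τ)`.
-/

set_option autoImplicit false
set_option linter.unusedSectionVars false
set_option linter.style.haveILetI false

namespace Cfsg.Lib.GW.CMax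

open Cfsg Cfsg.Lib.Block
open Cfsg.Agent.S1312 (Op)

universe u

/-- Some element of the component does not commute with an involution of it. -/
theorem Comp.exists_not_commute {G : Type u} [Group G] [Finite G] {N : Subgroup G} (c : Comp N)
    {J : G} (hJ : J ∈ c.sub) (hJo : orderOf J = 2) : ∃ l ∈ c.sub, ¬ Commute l J := by
  by_contra hno
  push Not at hno
  refine Comp.image_ne_one (c.sub_le hJ) hJo (Subgroup.mem_bot.1 ?_)
  rw [← c.almost.cent, Subgroup.mem_centralizer_iff]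
  intro e he
  rw [← c.map_L] at he
  obtain ⟨l, hl, rfl⟩ := he
  exact (Comp.image_commute l.2 (c.sub_le hJ) (hno _ ⟨l, hl, rfl⟩)).eq

variable {G : Type u} [Group G] [Fintype G]

/-- The fixed points of `τ` in `Ω₁ Z(O_p(U))`. -/
def fixZ (σ τ : G) (h p : ℕ) : Subgroup G :=
  omegaZ σ h p ⊓ Subgroup.centralizer ({τ} : Set G)

theorem mem_fixZ {σ τ : G} {h p : ℕ} {z : G} :
    z ∈ fixZ σ τ h p ↔ z ∈ omegaZ σ h p ∧ Commute z τ := by
  simp only [fixZ, Subgroup.mem_inf, Subgroup.mem_centralizer_singleton_iff, commute_iff_eq]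

theorem omegaZ_commute {σ : G} {h p : ℕ} {a b : G} (ha : a ∈ omegaZ σ h p) (hb : b ∈ omegaZ σ h p) :
    Commute a b := ha.2.2 b hb.1

theorem fixZ_le {σ τ : G} {h p : ℕ} : fixZ σ τ h p ≤ coreP σ h p := inf_le_left.trans omegaZ_le

variable [Fact (Nat.Prime 2)] {P : Sylow 2 G} {σ τ : G} {h : ℕ} (D : DihSylow P σ τ h)

include D

theorem orderOf_central : orderOf (σ ^ h) = 2 :=
  Cfsg.Lib.Invol.orderOf_eq_two_of D.central_involution.2.1 D.central_involution.1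

theorem conj_omegaZ {p : ℕ} {c z : G} (hc : Commute c (σ ^ h)) (hz : z ∈ omegaZ σ h p) :
    c * z * c⁻¹ ∈ omegaZ σ h p := by
  refine ⟨conj_coreP D hc hz.1, by rw [conj_pow, hz.2.1, mul_one, mul_inv_cancel], fun b hb => ?_⟩
  have hb' : c⁻¹ * b * c ∈ coreP σ h p := by
    have := conj_coreP D hc.inv_left hb
    rwa [inv_inv] at this
  have := (hz.2.2 _ hb').map (MulAut.conj c).toMonoidHom
  simp only [MulEquiv.coe_toMonoidHom, MulAut.conj_apply] at this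
  rwa [show c * (c⁻¹ * b * c) * c⁻¹ = b by group] at this

theorem omegaZ_commute_fitSub {p : ℕ} (hp : p.Prime) {z : G} (hz : z ∈ omegaZ σ h p) :
    ∀ f ∈ fitSub σ h, Commute z f :=
  commute_fitSub D fun q hq a ha => by
    by_cases hpq : p = q
    · subst hpq; exact hz.2.2 a ha
    · exact commute_coreP D hp hq hpq hz.1 ha

theorem omegaZ_odd {p : ℕ} {z : G} (hz : z ∈ omegaZ σ h p) : Odd (orderOf z) :=
  odd_orderOf D (coreP_le hz.1)

theorem omegaZ_commute_J {p : ℕ} {z : G} (hz : z ∈ omegaZ σ h p) : Commute z (σ ^ h) :=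
  commute_J D (coreP_le hz.1)

/-- An element inverted by `τ`, if `τ` moves the centre. -/
theorem exists_inverted_omegaZ {p : ℕ} {x : G} (hxJ : Commute x (σ ^ h)) (hx2 : x * x = 1)
    (hmv : ∃ z ∈ omegaZ σ h p, ¬ Commute x z) :
    ∃ w ∈ omegaZ σ h p, x * w * x = w⁻¹ ∧ w ≠ 1 := by
  obtain ⟨z, hz, hn⟩ := hmv
  have hxi : x⁻¹ = x := inv_eq_of_mul_eq_one_right hx2
  have hc := conj_omegaZ D hxJ hz
  rw [hxi] at hc
  refine ⟨z⁻¹ * (x * z * x), mul_mem (inv_mem hz) hc, ?_, fun h1 => hn ?_⟩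
  · rw [InvAct.conj_mul hx2, InvAct.conj_inv hx2,
      show x * (x * z * x) * x = (x * x) * z * (x * x) by group, hx2]
    group
  · exact (InvAct.commute_of_conj hx2 (inv_mul_eq_one.1 h1).symm).symm

variable (hG : GWMin G) (h8 : 8 ∣ Nat.card G)
  (hmax : IsCoatom (Subgroup.centralizer ({σ ^ h} : Set G))) {p : ℕ} (hp : p.Prime) (hp2 : p ≠ 2)
  (hfix : ∃ z ∈ omegaZ σ h p, z ≠ 1 ∧ Commute z τ) (hmv : ∃ z ∈ omegaZ σ h p, ¬ Commute τ z)

include hG h8 hmax hp hp2 hfix hmv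

/-- The component over the normalizer of a nontrivial subgroup of `C_Z(τ)`. -/
theorem exists_over_fixZ {Y : Subgroup G} (hY : Y ≤ fixZ σ τ h p) (hY1 : Y ≠ ⊥) :
    ∃ N : Subgroup G, N ≠ ⊤ ∧ Subgroup.normalizer (Y : Set G) ≤ N ∧ fitSub σ h ≤ N ∧
      Nonempty (Comp N) := by
  obtain ⟨z, hz, hn⟩ := hmv
  obtain ⟨N, hN, hYN, hc⟩ := exists_over D hG h8 hmax hp hp2 ⟨z, hz.1, hn⟩ (hY.trans fixZ_le) hY1
    (fun y hy => (mem_fixZ.1 (hY hy)).2.symm)
  refine ⟨N, hN, hYN, fun f hf => hYN (Subgroup.centralizer_le_normalizer _ ?_), hc⟩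
  exact Subgroup.mem_centralizer_iff.2 fun y hy =>
    (omegaZ_commute_fitSub D hp (mem_fixZ.1 (hY hy)).1 f hf).eq

theorem fixZ_ne_bot : fixZ σ τ h p ≠ ⊥ := by
  obtain ⟨z, hz, hz1, hzτ⟩ := hfix
  exact fun e => hz1 (Subgroup.mem_bot.1 (e ▸ mem_fixZ.2 ⟨hz, hzτ⟩))

/-- **The reflection may be taken inner.** -/
theorem exists_inner_frame :
    ∃ (τ' : G) (L : Subgroup G), DihSylow P σ τ' h ∧
      (∃ z ∈ omegaZ σ h p, z ≠ 1 ∧ Commute z τ') ∧ (∃ z ∈ omegaZ σ h p, ¬ Commute τ' z) ∧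
      ⁅L, L⁆ = L ∧ σ ^ h ∈ L ∧ τ' ∈ L ∧ ∀ l ∈ L, ∀ z ∈ fixZ σ τ' h p, Commute l z := by
  haveI := hG.isSimple
  obtain ⟨hτP, hτσ⟩ := tau_mem D
  obtain ⟨hτ2, hτ1, hτJ'⟩ := reflection_mem D hτP hτσ
  have hτJ : Commute τ (σ ^ h) := D.central_involution.2.2 τ hτP
  have hτo : orderOf τ = 2 := Cfsg.Lib.Invol.orderOf_eq_two_of hτ1 hτ2
  have hJo := orderOf_central D
  obtain ⟨N, hN, hYN, hFN, ⟨c⟩⟩ := exists_over_fixZ D hG h8 hmax hp hp2 hfix hmv le_rfl
    (fixZ_ne_bot D hG h8 hmax hp hp2 hfix hmv)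
  have hcN : ∀ x, (∀ y ∈ fixZ σ τ h p, Commute x y) → x ∈ N := fun x hx =>
    hYN (Subgroup.centralizer_le_normalizer _
      (Subgroup.mem_centralizer_iff.2 fun y hy => (hx y hy).eq.symm))
  have hτN : τ ∈ N := hcN τ fun y hy => (mem_fixZ.1 hy).2.symm
  have hZN : ∀ z ∈ omegaZ σ h p, z ∈ N := fun z hz =>
    hcN z fun y hy => omegaZ_commute hz (mem_fixZ.1 hy).1
  -- a square root of `J` in `N`
  obtain ⟨i, hi⟩ := D.even
  obtain ⟨ρ, hρ⟩ : ∃ ρ, ρ = σ ^ i := ⟨_, rfl⟩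
  have hρρ : ρ * ρ = σ ^ h := by rw [hρ, ← pow_add, hi]
  have hρJ : Commute ρ (σ ^ h) := hρ ▸ Commute.pow_pow (Commute.refl σ) i h
  have hρN : ρ ∈ N := by
    refine hYN (Subgroup.mem_normalizer_fintype fun z hz => ?_)
    obtain ⟨hz, hzτ⟩ := mem_fixZ.1 hz
    have hz' := conj_omegaZ D hρJ hz
    refine mem_fixZ.2 ⟨hz', ?_⟩
    have h1 : ρ * τ * ρ⁻¹ = σ ^ h * τ := by
      have := D.conj_pow_reflection 0 i
      rw [pow_zero, one_mul, zero_add, ← hρ, show σ ^ (2 * i) = σ ^ h by rw [hi, two_mul]] at this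
      exact this
    have h2 : Commute (ρ * z * ρ⁻¹) (σ ^ h * τ) := by
      have := hzτ.map (MulAut.conj ρ).toMonoidHom
      simp only [MulEquiv.coe_toMonoidHom, MulAut.conj_apply] at this
      rwa [h1] at this
    have h3 := (omegaZ_commute_J D hz').inv_right.mul_right h2
    rwa [inv_mul_cancel_left] at h3
  have hρ4 : ρ ^ 4 = 1 := by
    rw [show ρ ^ 4 = ρ * ρ * (ρ * ρ) by simp only [pow_succ, pow_zero, one_mul, mul_assoc], hρρ,
      D.central_involution.1]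
  have hJs : σ ^ h ∈ c.sub := hρρ ▸ c.sq_mem_sub hρN hρ4
  -- the inner reflection
  obtain ⟨v, hvs, hv2, hv1, hvJ, hvc, hvy, hvA⟩ : ∃ v ∈ c.sub, v * v = 1 ∧ v ≠ 1 ∧ v ≠ σ ^ h ∧
      Commute v (σ ^ h) ∧ (∀ y ∈ fixZ σ τ h p, Commute y v) ∧
      ((∀ z ∈ omegaZ σ h p, Commute v z) → PSLType c.E) := by
    by_cases hin : τ ∈ c.sub
    · refine ⟨τ, hin, hτ2, hτ1, hτJ', hτJ, fun y hy => (mem_fixZ.1 hy).2, fun hall => ?_⟩
      obtain ⟨z, hz, hn⟩ := hmv
      exact absurd (hall z hz) hn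
    · obtain ⟨v, hvs, hv2, hv1, hvJ, hvc, hvy⟩ := c.exists_inner hJs hJo hτN hτo hτJ hin
      refine ⟨v, hvs, hv2, hv1, hvJ, hvc, fun y hy =>
        hvy y (hZN y (mem_fixZ.1 hy).1) (omegaZ_odd D (mem_fixZ.1 hy).1)
          (omegaZ_commute_J D (mem_fixZ.1 hy).1) (mem_fixZ.1 hy).2, fun _ => ?_⟩
      rcases c.almost.cases with hps | ⟨htop, -⟩
      · exact hps
      · exact absurd (c.mem_sub_of_inner hτN (k := 1) (by rw [pow_one, pow_two, hτ2])
          (by show _ ∈ c.E; rw [htop]; exact Subgroup.mem_top _)) hin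
  have hA : PSLType c.E ∨ ∃ f ∈ fitSub σ h, v * f * v = f⁻¹ ∧ f ≠ 1 := by
    by_cases hall : ∀ z ∈ omegaZ σ h p, Commute v z
    · exact Or.inl (hvA hall)
    · push Not at hall
      obtain ⟨w, hw, hwi, hw1⟩ := exists_inverted_omegaZ D hvc hv2 hall
      exact Or.inr ⟨w, coreP_le_fitSub hp hw.1, hwi, hw1⟩
  -- the component centralizes the elements of the centre fixed by `v`
  have hK : ∀ z ∈ omegaZ σ h p, Commute z v → ∀ l ∈ c.sub, Commute l z := fun z hz hzv l hl =>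
    centralize_component D c hJs hvs hv2 hvc hFN hv1 hvJ hA (hZN z hz) (omegaZ_odd D hz)
      (omegaZ_commute_J D hz) hzv (fun f hf _ => omegaZ_commute_fitSub D hp hz f hf) hl
  have hvmv : ∃ z ∈ omegaZ σ h p, ¬ Commute v z := by
    by_contra hno
    push Not at hno
    obtain ⟨l, hl, hn⟩ := c.exists_not_commute hJs hJo
    obtain ⟨z₀, hz₀, hz₁, -⟩ := hfix
    refine hn (commute_of_normalizes D hmax (omegaZ σ h p) (omegaZ_le.trans coreP_le)
      (fun e => hz₁ (Subgroup.mem_bot.1 (e ▸ hz₀))) (fun g hg a ha => conj_omegaZ D hg ha) ?_)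
    intro a ha
    rw [(hK a ha (hno a ha).symm l hl).eq, mul_inv_cancel_right]
    exact ha
  -- move it into the Sylow subgroup
  obtain ⟨g, hgJ, hgP⟩ := exists_conj_mem D hv2 hvc
  have hgv : g * v * g⁻¹ ∉ Subgroup.zpowers σ := by
    intro hm
    rcases D.eq_central_of_sq hm (by
      rw [show g * v * g⁻¹ * (g * v * g⁻¹) = g * (v * v) * g⁻¹ by group, hv2, mul_one,
        mul_inv_cancel]) with e | e
    · exact hv1 (conj_eq_one_iff.1 e)
    · refine hvJ ?_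
      calc v = g⁻¹ * (g * v * g⁻¹) * g := by group
        _ = σ ^ h := by rw [e, mul_assoc, ← hgJ.eq, inv_mul_cancel_left]
  refine ⟨g * v * g⁻¹, c.sub.map (MulAut.conj g).toMonoidHom, frame_at D hgP hgv, ?_, ?_, ?_, ?_,
    ⟨v, hvs, rfl⟩, ?_⟩
  · obtain ⟨z, hz, hz1, hzτ⟩ := hfix
    refine ⟨g * z * g⁻¹, conj_omegaZ D hgJ hz, fun e => hz1 (conj_eq_one_iff.1 e), ?_⟩
    exact (hvy z (mem_fixZ.2 ⟨hz, hzτ⟩)).map (MulAut.conj g).toMonoidHom
  · obtain ⟨z, hz, hn⟩ := hvmv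
    refine ⟨g * z * g⁻¹, conj_omegaZ D hgJ hz, fun e => hn ?_⟩
    have := e.map (MulAut.conj g⁻¹).toMonoidHom
    simpa [mul_assoc] using this
  · rw [← Subgroup.map_commutator, c.perfect_sub]
  · refine ⟨_, hJs, ?_⟩
    show g * σ ^ h * g⁻¹ = _
    rw [hgJ.eq, mul_inv_cancel_right]
  · rintro _ ⟨l, hl, rfl⟩ z hz
    obtain ⟨hzZ, hzc⟩ := mem_fixZ.1 hz
    have hz' : g⁻¹ * z * g ∈ omegaZ σ h p := by
      have := conj_omegaZ D hgJ.inv_left hzZ
      rwa [inv_inv] at this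
    have hzv : Commute (g⁻¹ * z * g) v := by
      have := hzc.map (MulAut.conj g⁻¹).toMonoidHom
      simpa [mul_assoc] using this
    have := (hK _ hz' hzv l hl).map (MulAut.conj g).toMonoidHom
    simp only [MulEquiv.coe_toMonoidHom, MulAut.conj_apply] at this ⊢
    rwa [show g * (g⁻¹ * z * g) * g⁻¹ = z by group] at this

end Cfsg.Lib.GW.CMax
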