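import Cfsg.Agent.Lib.GW.CMax.MixedInner

/-!
# Mixed action on the centre: the centre is a plane

`τ` fixes and moves elements of `Z = Ω₁ Z(O_p(U))` and lies with `J` in a perfect subgroup centralizing
`C_Z(τ)`.  Then `σ²` centralizes `Z`, the inverted elements form a line, and two distinct conjugates of
`C_Z(τ)` under `U` meet trivially, so `Z` has order `p²`.
-/

set_option autoImplicit false
set_option linter.unusedSectionVars false
set_option linter.style.haveILetI false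

namespace Cfsg.Lib.GW.CMax

open Cfsg Cfsg.Lib.Block

universe u

variable {G : Type u} [Group G] [Fintype G]

/-- The mixed case with an inner reflection. -/
structure MixedCtx [Fact (Nat.Prime 2)] (P : Sylow 2 G) (σ τ : G) (h p : ℕ) : Prop where
  frame : DihSylow P σ τ h
  gw : GWMin G
  eight : 8 ∣ Nat.card G
  max : IsCoatom (Subgroup.centralizer ({σ ^ h} : Set G))
  prime : p.Prime
  ne_two : p ≠ 2
  fix : ∃ z ∈ omegaZ σ h p, z ≠ 1 ∧ Commute z τ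
  mv : ∃ z ∈ omegaZ σ h p, ¬ Commute τ z
  inner : ∃ L : Subgroup G, ⁅L, L⁆ = L ∧ σ ^ h ∈ L ∧ τ ∈ L ∧
    ∀ l ∈ L, ∀ z ∈ fixZ σ τ h p, Commute l z

namespace MixedCtx

variable [Fact (Nat.Prime 2)] {P : Sylow 2 G} {σ τ : G} {h p : ℕ} (m : MixedCtx P σ τ h p)

include m

theorem τJ : Commute τ (σ ^ h) := m.frame.central_involution.2.2 τ m.frame.memτ

theorem τ_ne : τ ≠ 1 ∧ τ ≠ σ ^ h :=
  let t := tau_mem m.frame
  ⟨(reflection_mem m.frame t.1 t.2).2.1, (reflection_mem m.frame t.1 t.2).2.2⟩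

theorem conj_τ {y : G} (hy : y ∈ omegaZ σ h p) : τ * y * τ ∈ omegaZ σ h p := by
  have := conj_omegaZ m.frame m.τJ hy
  rwa [m.frame.τ_inv] at this

theorem mem_fix_iff {y : G} : y ∈ fixZ σ τ h p ↔ y ∈ omegaZ σ h p ∧ τ * y * τ = y :=
  mem_fixZ.trans (and_congr_right fun _ =>
    ⟨fun hc => InvAct.conj_of_commute m.frame.sqτ hc, InvAct.commute_of_conj m.frame.sqτ⟩)

theorem exists_z : ∃ z ∈ omegaZ σ h p, τ * z * τ = z⁻¹ ∧ z ≠ 1 :=
  exists_inverted_omegaZ m.frame m.τJ m.frame.sqτ m.mv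

theorem orderOf_omega {z : G} (hz : z ∈ omegaZ σ h p) (hz1 : z ≠ 1) : orderOf z = p := by
  haveI : Fact p.Prime := ⟨m.prime⟩
  exact orderOf_eq_prime hz.2.1 hz1

/-- The component over the normalizer of a nontrivial subgroup of `C_Z(τ)`. -/
theorem exists_frame {Y : Subgroup G} (hY : Y ≤ fixZ σ τ h p) (hY1 : Y ≠ ⊥) :
    ∃ (N : Subgroup G) (c : Comp N), Subgroup.normalizer (Y : Set G) ≤ N ∧ fitSub σ h ≤ N ∧
      σ ^ h ∈ c.sub ∧ τ ∈ c.sub := by
  obtain ⟨N, -, hYN, hFN, ⟨c⟩⟩ :=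
    exists_over_fixZ m.frame m.gw m.eight m.max m.prime m.ne_two m.fix m.mv hY hY1
  obtain ⟨L, hL, hJ, hτ, hLc⟩ := m.inner
  have hLN : L ≤ N := fun l hl => hYN (Subgroup.centralizer_le_normalizer _
    (Subgroup.mem_centralizer_iff.2 fun y hy => (hLc l hl y (hY hy)).eq.symm))
  exact ⟨N, c, hYN, hFN, c.mem_sub_of_perfect hL hLN hJ m.frame.central_involution.1,
    c.mem_sub_of_perfect hL hLN hτ m.frame.sqτ⟩

theorem exists_frame_fixZ : ∃ (N : Subgroup G) (c : Comp N),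
    Subgroup.normalizer (fixZ σ τ h p : Set G) ≤ N ∧ fitSub σ h ≤ N ∧
      σ ^ h ∈ c.sub ∧ τ ∈ c.sub :=
  m.exists_frame le_rfl (fixZ_ne_bot m.frame m.gw m.eight m.max m.prime m.ne_two m.fix m.mv)

/-- The elements of the centre inverted by `τ` form a line. -/
theorem inverted_mem_zpowers {z w : G} (hz : z ∈ omegaZ σ h p) (hzi : τ * z * τ = z⁻¹) (hz1 : z ≠ 1)
    (hw : w ∈ omegaZ σ h p) (hwi : τ * w * τ = w⁻¹) : w ∈ Subgroup.zpowers z := by
  classical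
  haveI : Fact p.Prime := ⟨m.prime⟩
  obtain ⟨N, c, -, hFN, hJ, hτ⟩ := m.exists_frame_fixZ
  have hsq := m.frame.sqτ
  have mem : ∀ {y}, y ∈ omegaZ σ h p → y ∈ N := fun hy => hFN (coreP_le_fitSub m.prime hy.1)
  set φ := QuotientGroup.mk' (Cfsg.oddCore ↥N) with hφ
  have hs : ∀ y (hy : y ∈ omegaZ σ h p), τ * y * τ = y⁻¹ → φ ⟨y, mem hy⟩ ∈ c.E := fun y hy hi =>
    c.inner_of_mem_sub (c.inverted_mem hτ hsq (mem hy) (omegaZ_odd m.frame hy) hi)
  obtain ⟨g, hgz, hgw⟩ := c.almost.cyclic_pair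
    (Comp.orderOf_image (c.sub_le hJ) (orderOf_central m.frame)) (c.inner_of_mem_sub hJ)
    (hs z hz hzi) (hs w hw hwi) (Comp.odd_orderOf_image _ (omegaZ_odd m.frame hz))
    (Comp.odd_orderOf_image _ (omegaZ_odd m.frame hw))
    (Comp.image_commute _ _ (omegaZ_commute_J m.frame hz))
    (Comp.image_commute _ _ (omegaZ_commute_J m.frame hw))
  obtain ⟨a, ha⟩ : ∃ a, a = φ ⟨z, mem hz⟩ := ⟨_, rfl⟩
  rw [← ha] at hgz
  have hap : orderOf a = p := orderOf_eq_prime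
    (by rw [ha, ← map_pow, show (⟨z, mem hz⟩ : N) ^ p = 1 from Subtype.ext hz.2.1, map_one])
    (ha ▸ c.inverted_image_ne_one hτ hsq (mem hz) (omegaZ_odd m.frame hz) hzi hz1)
  -- a cyclic group has only one subgroup of order `p`
  have hwa : φ ⟨w, mem hw⟩ ∈ Subgroup.zpowers a := by
    haveI := Fintype.ofFinite ↥(Subgroup.zpowers g)
    let A : Finset ↥(Subgroup.zpowers g) := Finset.univ.filter fun x => (x : ↥N ⧸ _) ∈ Subgroup.zpowers a
    let B : Finset ↥(Subgroup.zpowers g) := Finset.univ.filter fun x => x ^ p = 1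
    have hAB : A ⊆ B := by
      intro x hx
      simp only [A, B, Finset.mem_filter, Finset.mem_univ, true_and] at hx ⊢
      refine Subtype.ext ?_
      rw [SubmonoidClass.coe_pow, OneMemClass.coe_one]
      exact orderOf_dvd_iff_pow_eq_one.1 ((orderOf_dvd_of_mem_zpowers hx).trans hap.dvd)
    have hA : A.card = p := by
      rw [← hap, ← Nat.card_zpowers, ← Fintype.card_subtype, ← Nat.card_eq_fintype_card]
      exact Nat.card_congr
        { toFun := fun x => ⟨x.1.1, x.2⟩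
          invFun := fun y => ⟨⟨y.1, Subgroup.zpowers_le.2 hgz y.2⟩, y.2⟩
          left_inv := fun _ => rfl
          right_inv := fun _ => rfl }
    have hB : B.card ≤ p := IsCyclic.card_pow_eq_one_le m.prime.pos
    have e : A = B := Finset.eq_of_subset_of_card_le hAB (hA.symm ▸ hB)
    have hm : (⟨_, hgw⟩ : ↥(Subgroup.zpowers g)) ∈ A := e ▸ Finset.mem_filter.2 ⟨Finset.mem_univ _,
      Subtype.ext (by
        rw [SubmonoidClass.coe_pow, OneMemClass.coe_one, ← map_pow,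
          show (⟨w, mem hw⟩ : N) ^ p = 1 from Subtype.ext hw.2.1, map_one])⟩
    exact (Finset.mem_filter.1 hm).2
  obtain ⟨k, hk⟩ := Subgroup.mem_zpowers_iff.1 hwa
  obtain ⟨v, hv⟩ : ∃ v, v = w * (z ^ k)⁻¹ := ⟨_, rfl⟩
  have hvZ : v ∈ omegaZ σ h p := hv ▸ mul_mem hw (inv_mem (zpow_mem hz k))
  have hzk : τ * z ^ k * τ = (z ^ k)⁻¹ := by
    rw [show τ * z ^ k * τ = (τ * z * τ⁻¹) ^ k by rw [conj_zpow, m.frame.τ_inv],
      m.frame.τ_inv, hzi, inv_zpow]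
  have hvi : τ * v * τ = v⁻¹ := by
    rw [hv, InvAct.conj_mul hsq, InvAct.conj_inv hsq, hwi, hzk, mul_inv_rev, inv_inv]
    exact (omegaZ_commute (inv_mem hw) (zpow_mem hz k)).eq
  have hv1 : φ ⟨v, mem hvZ⟩ = 1 := by
    rw [show (⟨v, mem hvZ⟩ : N) = ⟨w, mem hw⟩ * (⟨z, mem hz⟩ ^ k)⁻¹ from Subtype.ext (by simp [hv]),
      map_mul, map_inv, map_zpow, ← ha, hk, mul_inv_cancel]
  by_contra hno
  refine c.inverted_image_ne_one hτ hsq (mem hvZ) (omegaZ_odd m.frame hvZ) hvi ?_ hv1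
  exact fun e => hno (mul_inv_eq_one.1 (hv ▸ e) ▸ zpow_mem (Subgroup.mem_zpowers z) k)

variable {z : G} (hz : z ∈ omegaZ σ h p) (hzi : τ * z * τ = z⁻¹) (hz1 : z ≠ 1)

include hz hzi hz1

theorem split {y : G} (hy : y ∈ omegaZ σ h p) :
    ∃ a ∈ fixZ σ τ h p, ∃ i ∈ Subgroup.zpowers z, y = a * i := by
  obtain ⟨a, ha, i, hi, hac, hii, e⟩ := InvAct.exists_split
    ((odd_card_oddSub m.frame).of_dvd_nat (Subgroup.card_dvd_of_le (omegaZ_le.trans coreP_le)))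
    m.frame.sqτ (v := τ) (Subgroup.mem_normalizer_fintype fun y hy => conj_omegaZ m.frame m.τJ hy) hy
  exact ⟨a, mem_fixZ.2 ⟨ha, hac⟩, i, m.inverted_mem_zpowers hz hzi hz1 hi hii, e⟩

theorem inverted_zpowers {i : G} (hi : i ∈ Subgroup.zpowers z) :
    i ∈ omegaZ σ h p ∧ τ * i * τ = i⁻¹ := by
  obtain ⟨k, rfl⟩ := Subgroup.mem_zpowers_iff.1 hi
  refine ⟨zpow_mem hz k, ?_⟩
  rw [show τ * z ^ k * τ = (τ * z * τ⁻¹) ^ k by rw [conj_zpow, m.frame.τ_inv],
    m.frame.τ_inv, hzi, inv_zpow]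

/-- `C_Z(τ)` centralizes the component. -/
theorem fix_commute_sub {N : Subgroup G} (c : Comp N) (hFN : fitSub σ h ≤ N) (hJ : σ ^ h ∈ c.sub)
    (hτ : τ ∈ c.sub) {y : G} (hy : y ∈ fixZ σ τ h p) {l : G} (hl : l ∈ c.sub) : Commute l y := by
  obtain ⟨hyZ, hyc⟩ := mem_fixZ.1 hy
  exact centralize_component m.frame c hJ hτ m.frame.sqτ m.τJ hFN m.τ_ne.1 m.τ_ne.2
    (Or.inr ⟨z, coreP_le_fitSub m.prime hz.1, hzi, hz1⟩) (hFN (coreP_le_fitSub m.prime hyZ.1))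
    (omegaZ_odd m.frame hyZ) (omegaZ_commute_J m.frame hyZ) hyc
    (fun f hf _ => omegaZ_commute_fitSub m.frame m.prime hyZ f hf) hl

omit hz hzi hz1 in
/-- Conjugation by an element taking `τ` to one acting alike commutes with the action of `τ`. -/
theorem twist {c : G} (hc : Commute c (σ ^ h))
    (hct : ∀ w ∈ omegaZ σ h p, c * τ * c⁻¹ * w * (c * τ * c⁻¹) = τ * w * τ) {y : G}
    (hy : y ∈ omegaZ σ h p) : τ * (c * y * c⁻¹) * τ = c * (τ * y * τ) * c⁻¹ := by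
  rw [← hct _ (conj_omegaZ m.frame hc hy)]
  group

theorem twist_fixZ {c : G} (hc : Commute c (σ ^ h))
    (hct : ∀ w ∈ omegaZ σ h p, c * τ * c⁻¹ * w * (c * τ * c⁻¹) = τ * w * τ) {y : G}
    (hy : y ∈ fixZ σ τ h p) : c * y * c⁻¹ ∈ fixZ σ τ h p := by
  obtain ⟨hyZ, hyi⟩ := m.mem_fix_iff.1 hy
  exact m.mem_fix_iff.2 ⟨conj_omegaZ m.frame hc hyZ, by rw [m.twist hc hct hyZ, hyi]⟩

theorem twist_line {c : G} (hc : Commute c (σ ^ h))
    (hct : ∀ w ∈ omegaZ σ h p, c * τ * c⁻¹ * w * (c * τ * c⁻¹) = τ * w * τ) :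
    c * z * c⁻¹ ∈ Subgroup.zpowers z :=
  m.inverted_mem_zpowers hz hzi hz1 (conj_omegaZ m.frame hc hz)
    (by rw [m.twist hc hct hz, hzi, conj_inv])

/-- An element normalizing the line, whose square centralizes it, fixes or inverts it. -/
theorem fix_or_invert_line {g : G} (hg : g * z * g⁻¹ ∈ Subgroup.zpowers z)
    (hgg : Commute (g * g) z) : Commute g z ∨ g * z * g⁻¹ = z⁻¹ := by
  obtain ⟨w, hw⟩ : ∃ w, w = z * (g * z * g⁻¹) := ⟨_, rfl⟩
  obtain ⟨hgZ, -⟩ := m.inverted_zpowers hz hzi hz1 hg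
  have hwl : w ∈ Subgroup.zpowers z := hw ▸ mul_mem (Subgroup.mem_zpowers z) hg
  have hgw : Commute g w := by
    refine mul_inv_eq_iff_eq_mul.1 ?_
    rw [hw, show g * (z * (g * z * g⁻¹)) * g⁻¹ = g * z * g⁻¹ * ((g * g) * z * (g * g)⁻¹) by group,
      hgg.eq, mul_inv_cancel_right, (omegaZ_commute hgZ hz).eq]
  rcases eq_or_ne w 1 with e | e
  · exact Or.inr (eq_inv_of_mul_eq_one_right (hw ▸ e))
  left
  haveI : Fact p.Prime := ⟨m.prime⟩
  have hle : Subgroup.zpowers w = Subgroup.zpowers z := Subgroup.eq_of_le_of_card_ge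
    (Subgroup.zpowers_le.2 hwl) (by
      rw [Nat.card_zpowers, Nat.card_zpowers, m.orderOf_omega hz hz1,
        m.orderOf_omega (m.inverted_zpowers hz hzi hz1 hwl).1 e])
  obtain ⟨k, hk⟩ := Subgroup.mem_zpowers_iff.1 (hle ▸ Subgroup.mem_zpowers z)
  exact hk ▸ hgw.zpow_right k

omit hz hzi hz1 in
theorem conj_reflection (i : ℕ) : σ ^ i * τ * (σ ^ i)⁻¹ = σ ^ (2 * i) * τ := by
  have := m.frame.conj_pow_reflection 0 i
  rwa [pow_zero, one_mul, zero_add] at this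

omit hz hzi hz1 in
theorem pow_twist {j : ℕ} (hj : ∀ w ∈ omegaZ σ h p, Commute (σ ^ (2 * j)) w) :
    ∀ w ∈ omegaZ σ h p, σ ^ j * τ * (σ ^ j)⁻¹ * w * (σ ^ j * τ * (σ ^ j)⁻¹) = τ * w * τ := by
  intro w hw
  have e : σ ^ (2 * j) * τ = τ * (σ ^ (2 * j))⁻¹ := by
    rw [← m.frame.τ_conj (m.frame.mem_pow _), m.frame.τ_inv, ← mul_assoc, ← mul_assoc, m.frame.sqτ,
      one_mul]
  rw [m.conj_reflection j]
  calc σ ^ (2 * j) * τ * w * (σ ^ (2 * j) * τ)
      = τ * ((σ ^ (2 * j))⁻¹ * w * σ ^ (2 * j)) * τ := by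
        conv_lhs => arg 1; rw [e]
        group
    _ = τ * w * τ := by rw [(hj w hw).inv_left.eq, inv_mul_cancel_right]

/-- A step down towards `σ²`. -/
theorem sigma_step {i : ℕ} (hgg : ∀ w ∈ omegaZ σ h p, Commute (σ ^ (2 * (2 * i))) w) :
    ∀ w ∈ omegaZ σ h p, Commute (σ ^ (2 * i)) w := by
  classical
  obtain ⟨g, hg⟩ : ∃ g, g = σ ^ (2 * i) := ⟨_, rfl⟩
  have hσJ : ∀ j, Commute (σ ^ j) (σ ^ h) := fun j => Commute.pow_pow (Commute.refl σ) j h
  have htw := m.pow_twist hgg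
  have hline := m.twist_line hz hzi hz1 (hσJ _) htw
  have hg2 : Commute (g * g) z := by
    rw [hg, ← pow_add, ← two_mul]
    exact hgg z hz
  rw [← hg] at hline
  obtain ⟨x, hx⟩ : ∃ x, x = g * τ := ⟨_, rfl⟩
  have hxe : x = σ ^ i * τ * (σ ^ i)⁻¹ := by rw [hx, hg, m.conj_reflection]
  have hx2 : x * x = 1 := by
    rw [hxe, show σ ^ i * τ * (σ ^ i)⁻¹ * (σ ^ i * τ * (σ ^ i)⁻¹) =
      σ ^ i * (τ * τ) * (σ ^ i)⁻¹ by group, m.frame.sqτ, mul_one, mul_inv_cancel]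
  -- the points of `x` in the centre are those of `τ` fixed by `g`
  rcases m.fix_or_invert_line hz hzi hz1 hline hg2 with hgz | hgz
  · have key : ∀ a ∈ fixZ σ τ h p, σ ^ i * a * (σ ^ i)⁻¹ ∈ fixZ σ τ h p ∧
        Commute g (σ ^ i * a * (σ ^ i)⁻¹) := by
      intro a ha
      obtain ⟨haZ, hac⟩ := mem_fixZ.1 ha
      have hbx : Commute (σ ^ i * a * (σ ^ i)⁻¹) x := by
        rw [hxe]
        exact hac.map (MulAut.conj (σ ^ i)).toMonoidHom
      obtain ⟨b, hb⟩ : ∃ b, b = σ ^ i * a * (σ ^ i)⁻¹ := ⟨_, rfl⟩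
      rw [← hb] at hbx ⊢
      obtain ⟨a₁, ha₁, i₁, hi₁, e⟩ :=
        m.split hz hzi hz1 (hb ▸ conj_omegaZ m.frame (hσJ i) haZ)
      have hga₁ : g * a₁ * g⁻¹ ∈ fixZ σ τ h p := by
        rw [hg]; exact m.twist_fixZ hz hzi hz1 (hσJ _) htw ha₁
      obtain ⟨k, hk⟩ := Subgroup.mem_zpowers_iff.1 hi₁
      have hgi : g * i₁ * g⁻¹ = i₁ := by rw [← hk, (hgz.zpow_right k).eq, mul_inv_cancel_right]
      obtain ⟨hiZ, hii⟩ := m.inverted_zpowers hz hzi hz1 hi₁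
      have he : g * a₁ * g⁻¹ * i₁⁻¹ = a₁ * i₁ := by
        have h1 := InvAct.conj_of_commute hx2 hbx
        rw [e] at h1
        calc g * a₁ * g⁻¹ * i₁⁻¹ = g * a₁ * g⁻¹ * (g * i₁ * g⁻¹)⁻¹ := by rw [hgi]
          _ = g * (a₁ * i₁⁻¹) * g⁻¹ := by group
          _ = g * (τ * (a₁ * i₁) * τ) * g⁻¹ := by
              rw [InvAct.conj_mul m.frame.sqτ, (m.mem_fix_iff.1 ha₁).2, hii]
          _ = x * (a₁ * i₁) * x⁻¹ := by rw [hx, mul_inv_rev, m.frame.τ_inv]; group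
          _ = a₁ * i₁ := by rw [inv_eq_of_mul_eq_one_right hx2, h1]
      have hii2 : i₁ * i₁ ∈ fixZ σ τ h p := by
        have h2 : i₁ * i₁ = a₁⁻¹ * (g * a₁ * g⁻¹) := by
          rw [mul_inv_eq_iff_eq_mul.1 he]
          group
        exact h2 ▸ mul_mem (inv_mem ha₁) hga₁
      have hi1 : i₁ = 1 := by
        have h3 := (m.mem_fix_iff.1 hii2).2
        rw [InvAct.conj_mul m.frame.sqτ, hii] at h3
        refine eq_one_of_two_pow m.frame (coreP_le hiZ.1) (k := 2) ?_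
        calc i₁ ^ 2 ^ 2 = i₁ * i₁ * (i₁ * i₁) := by
              rw [show (2 : ℕ) ^ 2 = 2 + 2 from rfl, pow_add, pow_two]
          _ = i₁⁻¹ * i₁⁻¹ * (i₁ * i₁) := by rw [h3]
          _ = 1 := by group
      rw [hi1, mul_one] at e
      rw [hi1, inv_one, mul_one, mul_one] at he
      exact ⟨e ▸ ha₁, e ▸ mul_inv_eq_iff_eq_mul.1 he⟩
    let f : fixZ σ τ h p → fixZ σ τ h p := fun a => ⟨_, (key a.1 a.2).1⟩
    have hf : Function.Injective f := fun a b e =>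
      Subtype.ext (mul_left_cancel (mul_right_cancel (congrArg Subtype.val e)))
    have hgfix : ∀ a ∈ fixZ σ τ h p, Commute g a := by
      intro a ha
      obtain ⟨b, hb⟩ := Finite.injective_iff_surjective.1 hf ⟨a, ha⟩
      have h1 := (key b.1 b.2).2
      rwa [show σ ^ i * (b : G) * (σ ^ i)⁻¹ = a from congrArg Subtype.val hb] at h1
    intro w hw
    obtain ⟨a, ha, j, hj, rfl⟩ := m.split hz hzi hz1 hw
    obtain ⟨k, rfl⟩ := Subgroup.mem_zpowers_iff.1 hj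
    exact hg ▸ (hgfix a ha).mul_right (hgz.zpow_right k)
  · exfalso
    obtain ⟨N, c, hYN, hFN, hJ, hτ⟩ := m.exists_frame_fixZ
    have hgN : g ∈ N := hYN (Subgroup.mem_normalizer_fintype fun a ha => by
      rw [hg]; exact m.twist_fixZ hz hzi hz1 (hσJ _) htw ha)
    have hxN : x ∈ N := hx ▸ mul_mem hgN (c.sub_le hτ)
    have hxz : Commute x z := by
      refine mul_inv_eq_iff_eq_mul.1 ?_
      rw [hx, show g * τ * z * (g * τ)⁻¹ = g * (τ * z * τ⁻¹) * g⁻¹ by group, m.frame.τ_inv, hzi,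
        ← conj_inv, hgz, inv_inv]
    have hx1 : x ≠ 1 := hxe ▸ fun e => m.τ_ne.1 (conj_eq_one_iff.1 e)
    have hxJc : Commute x (σ ^ h) := hx ▸ (hg ▸ hσJ _).mul_left m.τJ
    have hxJ : x ≠ σ ^ h := fun e => m.τ_ne.2 (by
      calc τ = (σ ^ i)⁻¹ * x * σ ^ i := by rw [hxe]; group
        _ = σ ^ h := by rw [e, mul_assoc, ← (hσJ i).eq, inv_mul_cancel_left])
    have hzs := c.inverted_mem hτ m.frame.sqτ (hFN (coreP_le_fitSub m.prime hz.1))
      (omegaZ_odd m.frame hz) hzi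
    rcases c.almost.cases with hp | ⟨htop, -⟩
    · refine hxJ (Comp.eq_of_image_eq hxN (c.sub_le hJ) hx2 m.frame.central_involution.1 hxJc ?_)
      exact c.image_unique hp _ (c.inner_of_mem_sub hzs) (omegaZ_odd m.frame hz)
        (c.inverted_image_ne_one hτ m.frame.sqτ _ (omegaZ_odd m.frame hz) hzi hz1) hxN (c.sub_le hJ)
        (Cfsg.Lib.Invol.orderOf_eq_two_of hx1 hx2) (orderOf_central m.frame) hxz
        (omegaZ_commute_J m.frame hz).symm
    · have hxs : x ∈ c.sub := c.mem_sub_of_inner hxN (k := 1) (by rw [pow_one, pow_two, hx2])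
        (by show _ ∈ c.E; rw [htop]; exact Subgroup.mem_top _)
      obtain ⟨y, hy, hny⟩ := m.mv
      refine hny ?_
      have hy' := conj_omegaZ m.frame (hσJ i) hy
      obtain ⟨a, ha, j, hj, e⟩ := m.split hz hzi hz1 hy'
      obtain ⟨k, rfl⟩ := Subgroup.mem_zpowers_iff.1 hj
      have h1 : Commute x (σ ^ i * y * (σ ^ i)⁻¹) :=
        e ▸ (m.fix_commute_sub hz hzi hz1 c hFN hJ hτ ha hxs).mul_right (hxz.zpow_right k)
      have h2 := h1.map (MulAut.conj (σ ^ i)⁻¹).toMonoidHom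
      simp only [MulEquiv.coe_toMonoidHom, MulAut.conj_apply, hxe] at h2
      convert h2 using 1 <;> group

/-- `σ²` centralizes the centre. -/
theorem sigma_sq : ∀ w ∈ omegaZ σ h p, Commute (σ ^ 2) w := by
  obtain ⟨k, hk⟩ := P.2.exists_card_eq
  have h0 : σ ^ (2 * 2 ^ k) = 1 := by
    refine orderOf_dvd_iff_pow_eq_one.1 (Dvd.dvd.trans ?_ (dvd_mul_left _ 2))
    rw [m.frame.orderσ, ← hk, m.frame.card]
    exact ⟨2, by ring⟩
  have key : ∀ k : ℕ, (∀ w ∈ omegaZ σ h p, Commute (σ ^ (2 * 2 ^ k)) w) →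
      ∀ w ∈ omegaZ σ h p, Commute (σ ^ 2) w := by
    intro k
    induction k with
    | zero => exact id
    | succ k ih =>
      exact fun hk' => ih (m.sigma_step hz hzi hz1
        (by rwa [show 2 * (2 * 2 ^ k) = 2 * 2 ^ (k + 1) by ring]))
  exact key k fun w _ => h0 ▸ Commute.one_left w

theorem sigma_twist :
    ∀ w ∈ omegaZ σ h p, σ * τ * σ⁻¹ * w * (σ * τ * σ⁻¹) = τ * w * τ := by
  simpa using m.pow_twist (j := 1) (by simpa using m.sigma_sq hz hzi hz1)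

/-- The Sylow subgroup normalizes `C_Z(τ)`. -/
theorem conj_sylow {x : G} (hx : x ∈ (P : Subgroup G)) :
    x ∈ Subgroup.normalizer (fixZ σ τ h p : Set G) := by
  have hσ : σ ∈ Subgroup.normalizer (fixZ σ τ h p : Set G) :=
    Subgroup.mem_normalizer_fintype fun a ha => m.twist_fixZ hz hzi hz1
      ((Commute.refl σ).pow_right h) (m.sigma_twist hz hzi hz1) ha
  have hτ : τ ∈ Subgroup.normalizer (fixZ σ τ h p : Set G) :=
    Subgroup.mem_normalizer_fintype fun a ha => by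
      rw [m.frame.τ_inv, (m.mem_fix_iff.1 ha).2]
      exact ha
  rcases m.frame.cover x hx with hm | hm
  · exact Subgroup.zpowers_le.2 hσ hm
  · have := mul_mem (Subgroup.zpowers_le.2 hσ hm) hτ
    rwa [mul_assoc, m.frame.sqτ, mul_one] at this

/-- Some element of the odd part moves `C_Z(τ)`. -/
theorem exists_moving : ∃ u ∈ oddSub σ h, u ∉ Subgroup.normalizer (fixZ σ τ h p : Set G) := by
  by_contra hno
  push Not at hno
  obtain ⟨y, hy, hny⟩ := m.mv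
  refine no_normal_fixed m.frame m.gw m.eight m.max m.prime m.ne_two ⟨y, hy.1, hny⟩ fixZ_le
    (fixZ_ne_bot m.frame m.gw m.eight m.max m.prime m.ne_two m.fix m.mv)
    (fun a ha => (mem_fixZ.1 ha).2.symm) fun c hc a ha => ?_
  obtain ⟨x, hx, hu⟩ := m.frame.oddPart_spec.2.2.2.2.1 c hc
  have hn : c ∈ Subgroup.normalizer (fixZ σ τ h p : Set G) := by
    rw [show c = c * x⁻¹ * x by group]
    exact mul_mem (hno _ ((mem_oddSub m.frame).2 hu)) (m.conj_sylow hz hzi hz1 hx)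
  exact (Subgroup.mem_normalizer_iff.1 hn a).1 ha

omit hz hzi hz1 in
theorem twist_elt {c : G} (hc : c ∈ oddSub σ h) :
    τ * (c * τ * c⁻¹) ∈ oddSub σ h ∧
      τ * (τ * (c * τ * c⁻¹)) * τ = (τ * (c * τ * c⁻¹))⁻¹ := by
  constructor
  · have := mul_mem (conj_oddSub m.frame m.τJ hc) (inv_mem hc)
    rwa [m.frame.τ_inv, mul_assoc, mul_assoc, ← mul_assoc c] at this
  · rw [← mul_assoc τ τ, m.frame.sqτ, one_mul, mul_inv_rev, mul_inv_rev, mul_inv_rev, inv_inv,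
      m.frame.τ_inv]
    group

/-- If `τ τᶜ` lies in the Fitting subgroup then `c` normalizes `C_Z(τ)`. -/
theorem normalizes_of_fit {c : G} (hc : c ∈ oddSub σ h) (hy : τ * (c * τ * c⁻¹) ∈ fitSub σ h) :
    c ∈ Subgroup.normalizer (fixZ σ τ h p : Set G) := by
  refine Subgroup.mem_normalizer_fintype fun a ha =>
    m.twist_fixZ hz hzi hz1 (commute_J m.frame hc) (fun w hw => ?_) ha
  obtain ⟨y, hy'⟩ : ∃ y, y = τ * (c * τ * c⁻¹) := ⟨_, rfl⟩
  rw [← hy'] at hy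
  have e : c * τ * c⁻¹ = τ * y := by rw [hy', ← mul_assoc, m.frame.sqτ, one_mul]
  have e' : c * τ * c⁻¹ = y⁻¹ * τ := by
    rw [hy', mul_inv_rev, m.frame.τ_inv, mul_assoc (_⁻¹), m.frame.sqτ, mul_one, mul_inv_rev,
      mul_inv_rev, inv_inv, m.frame.τ_inv, mul_assoc]
  calc c * τ * c⁻¹ * w * (c * τ * c⁻¹) = τ * (y * w * y⁻¹) * τ := by
        conv_lhs => arg 2; rw [e']
        rw [e]
        group
    _ = τ * w * τ := by
        rw [(omegaZ_commute_fitSub m.frame m.prime hw y hy).symm.eq, mul_inv_cancel_right]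

/-- A conjugate of `C_Z(τ)` meeting it is equal to it. -/
theorem normalizes_of_meet {c a : G} (hc : c ∈ oddSub σ h) (ha : a ∈ fixZ σ τ h p) (ha1 : a ≠ 1)
    (hca : c⁻¹ * a * c ∈ fixZ σ τ h p) : c ∈ Subgroup.normalizer (fixZ σ τ h p : Set G) := by
  obtain ⟨N, k, hYN, hFN, hJ, hτ⟩ := m.exists_frame (Y := Subgroup.zpowers a)
    (Subgroup.zpowers_le.2 ha) (fun e => ha1 (Subgroup.zpowers_eq_bot.1 e))
  obtain ⟨hyU, hyi⟩ := m.twist_elt hc
  refine m.normalizes_of_fit hz hzi hz1 hc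
    (inverted_mem_fit m.frame k hJ hτ m.frame.sqτ m.τJ hFN hyU ?_ hyi)
  refine hYN (Subgroup.centralizer_le_normalizer _ (Subgroup.mem_centralizer_iff.2 ?_))
  rintro _ ⟨n, rfl⟩
  have h1 : Commute (c * τ * c⁻¹) a := by
    have := ((mem_fixZ.1 hca).2.map (MulAut.conj c).toMonoidHom).symm
    simp only [MulEquiv.coe_toMonoidHom, MulAut.conj_apply] at this
    rwa [show c * (c⁻¹ * a * c) * c⁻¹ = a by group] at this
  exact (((mem_fixZ.1 ha).2.symm.mul_left h1).zpow_right n).eq.symm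

/-- **The centre is a plane.** -/
theorem card_fixZ : Nat.card (fixZ σ τ h p) = p := by
  classical
  haveI : Fact p.Prime := ⟨m.prime⟩
  obtain ⟨u, hu, hmove⟩ := m.exists_moving hz hzi hz1
  set D₀ := fixZ σ τ h p with hD₀
  let f : D₀ × D₀ → omegaZ σ h p := fun q => ⟨q.1 * (u * q.2 * u⁻¹),
    mul_mem (mem_fixZ.1 q.1.2).1 (conj_omegaZ m.frame (commute_J m.frame hu) (mem_fixZ.1 q.2.2).1)⟩
  have hf : Function.Injective f := by
    rintro ⟨a, b⟩ ⟨a', b'⟩ e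
    have e' : (a : G) * (u * b * u⁻¹) = a' * (u * b' * u⁻¹) := congrArg Subtype.val e
    have e'' : (a' : G)⁻¹ * a = u * ((b' : G) * (b : G)⁻¹) * u⁻¹ := by
      rw [eq_mul_inv_iff_mul_eq.2 e']
      group
    have hb : (b' : G) * (b : G)⁻¹ = u⁻¹ * ((a' : G)⁻¹ * a) * u := by rw [e'']; group
    by_cases ha : (a' : G)⁻¹ * a = 1
    · rw [ha, mul_one, inv_mul_cancel] at hb
      rw [Prod.mk.injEq]
      exact ⟨Subtype.ext (inv_mul_eq_one.1 ha).symm, Subtype.ext (mul_inv_eq_one.1 hb).symm⟩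
    · exact (hmove (m.normalizes_of_meet hz hzi hz1 hu (mul_mem (inv_mem a'.2) a.2) ha
        (hb ▸ mul_mem b'.2 (inv_mem b.2)))).elim
  let g : D₀ × Subgroup.zpowers z → omegaZ σ h p := fun q => ⟨q.1 * q.2,
    mul_mem (mem_fixZ.1 q.1.2).1 (m.inverted_zpowers hz hzi hz1 q.2.2).1⟩
  have hg : Function.Surjective g := fun y => by
    obtain ⟨a, ha, i, hi, e⟩ := m.split hz hzi hz1 y.2
    exact ⟨(⟨a, ha⟩, ⟨i, hi⟩), Subtype.ext e.symm⟩
  have h1 := (Nat.card_le_card_of_injective f hf).trans (Nat.card_le_card_of_surjective g hg)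
  rw [Nat.card_prod, Nat.card_prod, Nat.card_zpowers, m.orderOf_omega hz hz1] at h1
  obtain ⟨a, ha, ha1, hat⟩ := m.fix
  refine le_antisymm (Nat.le_of_mul_le_mul_left h1 Nat.card_pos) ?_
  have := Nat.le_of_dvd Nat.card_pos
    (Subgroup.orderOf_dvd_natCard D₀ (show a ∈ D₀ from mem_fixZ.2 ⟨ha, hat⟩))
  rwa [m.orderOf_omega ha ha1] at this

end MixedCtx

end Cfsg.Lib.GW.CMax
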