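import Cfsg.Agent.Lib.GW.CMax.Fix
import Cfsg.Agent.Lib.GW.InvAct
import Cfsg.Agent.Lib.Sig.QuadraticSolvable

/-!
# Inverted elements acting quadratically on the Fitting subgroup of the odd part

An element of `U` inverted by the involution `x` which commutes with the inverted elements of `F(U)`,
when these commute with each other, acts quadratically on `F(U)` and so lies in it.
-/

set_option autoImplicit false
set_option linter.unusedSectionVars false
set_option linter.style.haveILetI false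

namespace Cfsg.Lib.GW.CMax

open Cfsg Cfsg.Lib.Block
open scoped commutatorElement

universe u

variable {G : Type u} [Group G] [Fintype G]

/-- An element lies in a subgroup which contains its prime power parts. -/
theorem mem_of_prime_parts {a : G} (H : Subgroup G)
    (h : ∀ q k : ℕ, q.Prime → q ^ k ∣ orderOf a → a ^ (orderOf a / q ^ k) ∈ H) : a ∈ H := by
  have hn := orderOf_pos a
  have hdvd : orderOf a ∣ Nat.card ↥(H ⊓ Subgroup.zpowers a) := by
    refine Nat.dvd_iff_prime_pow_dvd_dvd _ _ |>.2 fun q k hq hk => ?_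
    have h1 := Subgroup.orderOf_dvd_natCard (H ⊓ Subgroup.zpowers a)
      (x := a ^ (orderOf a / q ^ k)) ⟨h q k hq hk, pow_mem (Subgroup.mem_zpowers a) _⟩
    rwa [orderOf_pow_of_dvd (Nat.div_pos (Nat.le_of_dvd hn hk) (pow_pos hq.pos k)).ne'
      (Nat.div_dvd_of_dvd hk), Nat.div_div_self hk hn.ne'] at h1
  have e : H ⊓ Subgroup.zpowers a = Subgroup.zpowers a :=
    Subgroup.eq_of_le_of_card_ge inf_le_right (by
      rw [Nat.card_zpowers]; exact Nat.le_of_dvd Nat.card_pos hdvd)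
  exact (e.ge (Subgroup.mem_zpowers a)).1

variable [Fact (Nat.Prime 2)] {P : Sylow 2 G} {σ τ : G} {h : ℕ} (D : DihSylow P σ τ h)

include D

theorem odd_card_fitSub : Odd (Nat.card (fitSub σ h)) := by
  refine Nat.not_even_iff_odd.1 fun hev => ?_
  obtain ⟨y, hy⟩ := exists_prime_orderOf_dvd_card' 2 (even_iff_two_dvd.1 hev)
  have := odd_orderOf D (fitSub_le y.2)
  rw [Subgroup.orderOf_coe, hy] at this
  exact absurd this (by decide)

theorem odd_card_oddSub : Odd (Nat.card (oddSub σ h)) := by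
  refine Nat.not_even_iff_odd.1 fun hev => ?_
  obtain ⟨y, hy⟩ := exists_prime_orderOf_dvd_card' 2 (even_iff_two_dvd.1 hev)
  have := odd_orderOf D y.2
  rw [Subgroup.orderOf_coe, hy] at this
  exact absurd this (by decide)

/-- **The quadratic lemma.** -/
theorem mem_fitSub_of_inverted_quadratic {x y : G} (hx2 : x * x = 1) (hxJ : Commute x (σ ^ h))
    (hy : y ∈ oddSub σ h) (hxy : x * y * x = y⁻¹)
    (hT : ∀ f ∈ fitSub σ h, x * f * x = f⁻¹ → ∀ g ∈ fitSub σ h, x * g * x = g⁻¹ → Commute f g)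
    (hyT : ∀ f ∈ fitSub σ h, x * f * x = f⁻¹ → Commute y f) : y ∈ fitSub σ h := by
  classical
  have hxi : x⁻¹ = x := inv_eq_of_mul_eq_one_right hx2
  have hUF : ∀ {c}, c ∈ oddSub σ h → ∀ f ∈ fitSub σ h, c * f * c⁻¹ ∈ fitSub σ h :=
    fun hc f hf => conj_fitSub D (commute_J D hc) hf
  have hxN : x ∈ Subgroup.normalizer (fitSub σ h : Set G) :=
    Subgroup.mem_normalizer_fintype fun f hf => conj_fitSub D hxJ hf
  -- the twist of the square
  have key : ∀ f ∈ fitSub σ h, ∃ t ∈ fitSub σ h, Commute y t ∧ y * y * f * (y * y)⁻¹ = f * t := by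
    intro f hf
    obtain ⟨c, hc, i, hi, hcx, hix, hfci⟩ := InvAct.exists_split (odd_card_fitSub D) hx2 hxN hf
    obtain ⟨c₁, -, i₁, hi₁, hc₁x, hi₁x, he⟩ :=
      InvAct.exists_split (odd_card_fitSub D) hx2 hxN (hUF hy c hc)
    have hc' : x * (y * c * y⁻¹) * x = y⁻¹ * c * y := by
      rw [InvAct.conj_mul hx2, InvAct.conj_mul hx2, InvAct.conj_inv hx2, hxy,
        InvAct.conj_of_commute hx2 hcx, inv_inv]
    have hc₂ : y⁻¹ * c * y = c₁ * i₁⁻¹ := by
      rw [← hc', he, InvAct.conj_mul hx2, InvAct.conj_of_commute hx2 hc₁x, hi₁x]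
    have hyi₁ := hyT i₁ hi₁ hi₁x
    have hyi := hyT i hi hix
    have hc₁ : y * c₁ * y⁻¹ = c * i₁ := by
      calc y * c₁ * y⁻¹ = y * (c₁ * i₁⁻¹) * (i₁ * y⁻¹) := by group
        _ = y * (y⁻¹ * c * y) * (y⁻¹ * i₁) := by rw [hc₂, hyi₁.inv_left.eq]
        _ = c * i₁ := by group
    refine ⟨i₁ * i₁, mul_mem hi₁ hi₁, hyi₁.mul_right hyi₁, ?_⟩
    have hii : Commute i (i₁ * i₁) :=
      (hT i hi hix i₁ hi₁ hi₁x).mul_right (hT i hi hix i₁ hi₁ hi₁x)
    calc y * y * f * (y * y)⁻¹ = y * (y * c * y⁻¹) * y⁻¹ * (y * y * i * (y * y)⁻¹) := by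
          rw [hfci]; group
      _ = y * (c₁ * i₁) * y⁻¹ * i := by
          rw [he, ((hyi.mul_left hyi).eq), mul_inv_cancel_right]
      _ = (y * c₁ * y⁻¹) * (y * i₁ * y⁻¹) * i := by group
      _ = c * (i₁ * i₁) * i := by rw [hc₁, hyi₁.eq, mul_inv_cancel_right]; group
      _ = f * (i₁ * i₁) := by rw [hfci, mul_assoc c, ← hii.eq, ← mul_assoc]
  set z := y * y with hz
  have hzU : z ∈ oddSub σ h := mul_mem hy hy
  suffices hzF : z ∈ fitSub σ h by
    obtain ⟨r, hr, hrr⟩ := InvAct.exists_sqrt (odd_orderOf D hy)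
    obtain ⟨k, hk⟩ := odd_orderOf D hy
    have h3 : y = (y * y) ^ (k + 1) := by
      rw [← sq, ← pow_mul, show 2 * (k + 1) = orderOf y + 1 by omega, pow_succ, pow_orderOf_eq_one,
        one_mul]
    rw [h3]
    exact pow_mem hzF _
  refine mem_of_prime_parts _ fun q k hq hk => ?_
  obtain ⟨w, hw⟩ : ∃ w, w = z ^ (orderOf z / q ^ k) := ⟨_, rfl⟩
  rw [← hw]
  rcases Nat.eq_zero_or_pos k with rfl | hk0
  · rw [hw, pow_zero, Nat.div_one, pow_orderOf_eq_one]
    exact one_mem _
  have hwq : w ^ q ^ k = 1 := by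
    rw [hw, ← pow_mul, Nat.div_mul_cancel hk, pow_orderOf_eq_one]
  haveI : Fact q.Prime := ⟨hq⟩
  have hq2 : q ≠ 2 := by
    rintro rfl
    exact absurd ((odd_orderOf D hzU).of_dvd_nat ((dvd_pow_self 2 hk0.ne').trans hk)) (by decide)
  have hwU : w ∈ oddSub σ h := hw ▸ pow_mem hzU _
  -- the twist of the powers
  have key' : ∀ f ∈ fitSub σ h, ∃ t, Commute w t ∧ ∀ j : ℕ, w ^ j * f * (w ^ j)⁻¹ = f * t ^ j := by
    intro f hf
    obtain ⟨t, -, hyt, het⟩ := key f hf
    have hzt : Commute z t := hyt.mul_left hyt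
    have hit : ∀ j : ℕ, z ^ j * f * (z ^ j)⁻¹ = f * t ^ j := by
      intro j
      induction j with
      | zero => simp
      | succ j ih =>
        calc z ^ (j + 1) * f * (z ^ (j + 1))⁻¹ = z * (z ^ j * f * (z ^ j)⁻¹) * z⁻¹ := by
              rw [pow_succ']; group
          _ = (z * f * z⁻¹) * (z * t ^ j * z⁻¹) := by rw [ih]; group
          _ = f * t ^ (j + 1) := by
            rw [het, (hzt.pow_right j).eq, mul_inv_cancel_right, pow_succ', mul_assoc]
    refine ⟨t ^ (orderOf z / q ^ k), hw ▸ hzt.pow_pow _ _, fun j => ?_⟩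
    rw [hw, ← pow_mul, ← pow_mul]
    exact hit _
  -- other primes are centralized
  have hcop : ∀ r : ℕ, r.Prime → r ≠ q → ∀ f ∈ coreP σ h r, Commute w f := by
    intro r hr hrq f hf
    obtain ⟨t, -, ht⟩ := key' f (coreP_le_fitSub hr hf)
    have ht1 := ht 1
    rw [pow_one, pow_one] at ht1
    have htR : t ∈ coreP σ h r := by
      rw [show t = f⁻¹ * (w * f * w⁻¹) by rw [ht1, inv_mul_cancel_left]]
      exact mul_mem (inv_mem hf) (conj_coreP D (commute_J D hwU) hf)
    have htq : t ^ q ^ k = 1 := by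
      have := ht (q ^ k)
      rw [hwq, one_mul, inv_one, mul_one] at this
      exact left_eq_mul.1 this
    obtain ⟨j, hj⟩ := isPGroup_coreP (σ := σ) (h := h) (p := r) ⟨t, htR⟩
    have ht0 : t = 1 := orderOf_eq_one_iff.1 (Nat.eq_one_of_dvd_coprimes
      (((Nat.coprime_primes hq hr).2 (Ne.symm hrq)).pow k j) (orderOf_dvd_of_pow_eq_one htq)
      (orderOf_dvd_of_pow_eq_one (congrArg Subtype.val hj)))
    rw [ht0, mul_one] at ht1
    exact mul_inv_eq_iff_eq_mul.1 ht1
  -- the quadratic action on the `q`-part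
  obtain ⟨S, hS⟩ : ∃ S : oddSub σ h, S = ⟨w, hwU⟩ := ⟨_, rfl⟩
  haveI := isSolvable_oddSub D
  have hF : S ∈ Cfsg.fittingSubgroup (oddSub σ h) := by
    refine Cfsg.Lib.Sig.mem_fittingSubgroup_of_quadratic_stable
      (Cfsg.Lib.Sig.isNormalizerPStable_of_odd (q := q) hq2 (odd_card_oddSub D)) ?_ ?_
    · refine (Subgroup.commutator_eq_bot_iff_le_centralizer).2
        (Subgroup.commutator_le.2 fun f hf v hv => ?_)
      obtain ⟨j, rfl⟩ := (isOfFinOrder_of_finite S).mem_powers_iff_mem_zpowers.2 hv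
      refine Subgroup.mem_centralizer_iff.2 fun v' hv' => Subtype.ext ?_
      obtain ⟨i, rfl⟩ := (isOfFinOrder_of_finite S).mem_powers_iff_mem_zpowers.2 hv'
      obtain ⟨t, hwt, ht⟩ := key' _ (inv_mem (coreP_le_fitSub hq (Subgroup.mem_map_of_mem _ hf)))
      have e : ((⁅f, S ^ j⁆ : oddSub σ h) : G) = t ^ j := by
        simp only [commutatorElement_def, Subgroup.coe_mul, InvMemClass.coe_inv, Subgroup.subtype_apply,
          SubmonoidClass.coe_pow, hS, mul_assoc] at ht ⊢
        have h1 := ht j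
        rw [h1, mul_inv_cancel_left]
      show ((S ^ i : oddSub σ h) : G) * (⁅f, S ^ j⁆ : oddSub σ h) =
        (⁅f, S ^ j⁆ : oddSub σ h) * ((S ^ i : oddSub σ h) : G)
      rw [e, SubmonoidClass.coe_pow, hS]
      exact (hwt.pow_pow i j).eq
    · refine Subgroup.mem_centralizer_iff.2 ?_
      rintro _ ⟨a, ha, rfl⟩
      refine Subtype.ext ?_
      show ((a : oddSub σ h) : G) * (S : G) = (S : G) * ((a : oddSub σ h) : G)
      have hSw : (S : G) = w := by rw [hS]
      rw [hSw]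
      have hco := Cfsg.Lib.Core.pPrimeCore_coprime (G := Cfsg.fittingSubgroup (oddSub σ h)) (p := q)
      have hao : ¬ q ∣ orderOf (((a : oddSub σ h) : G)) := by
        rw [Subgroup.orderOf_coe, Subgroup.orderOf_coe]
        intro hd
        exact (Nat.Prime.coprime_iff_not_dvd hq).1 (Nat.Coprime.symm hco)
          (hd.trans (by rw [← Subgroup.orderOf_mk a ha]; exact orderOf_dvd_natCard _))
      refine Subgroup.mem_centralizer_singleton_iff.1 (mem_of_prime_parts _ fun r i hr hi => ?_)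
      have ha' : ((a : oddSub σ h) : G) ∈ fitSub σ h := Subgroup.mem_map_of_mem _ a.2
      refine Subgroup.mem_centralizer_singleton_iff.2 ?_
      rcases Nat.eq_zero_or_pos i with rfl | hi0
      · rw [pow_zero, Nat.div_one, pow_orderOf_eq_one, one_mul, mul_one]
      have hrq : r ≠ q := by
        rintro rfl
        exact hao ((dvd_pow_self r hi0.ne').trans hi)
      refine (hcop r hr hrq _ (mem_coreP_of_mem_fitSub D hr (pow_mem ha' _) (k := i) ?_)).symm.eq
      rw [← pow_mul, Nat.div_mul_cancel hi, pow_orderOf_eq_one]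
  exact ⟨S, hF, by rw [hS]; rfl⟩

end Cfsg.Lib.GW.CMax
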