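import Cfsg.Agent.Lib.GW.CMax.Almost
import Cfsg.Agent.Lib.GW.CMax.Quadratic
import Cfsg.Agent.Lib.GW.Shape

/-!
# A proper subgroup with a component, seen at the central involution

`N` is a proper subgroup with a component `L` and `J`, `x` are involutions of `L`.  The elements of
`N ∩ U` inverted by `x` lie in `F(U)` when `F(U) ≤ N`, and they cover the elements of odd order of the
centralizer of `J` in `N / O(N)`; hence an element of odd order centralizing `J`, `x` and them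
centralizes `L`.
-/

set_option autoImplicit false
set_option linter.unusedSectionVars false
set_option linter.style.haveILetI false

namespace Cfsg.Lib.GW.CMax

open Cfsg Cfsg.Lib.Block
open Subgroup

universe u

/-- A component of `N` with its image modulo the odd core. -/
structure Comp {G : Type u} [Group G] [Finite G] (N : Subgroup G) where
  E : Subgroup (↥N ⧸ Cfsg.oddCore ↥N)
  almost : Almost E
  L : Subgroup ↥N
  normal : L.Normal
  map_L : L.map (QuotientGroup.mk' (Cfsg.oddCore ↥N)) = E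
  comm : ∀ l ∈ L, ∀ o ∈ Cfsg.oddCore ↥N, Commute l o
  perfect : ⁅L, L⁆ = L

/-- A proper subgroup with a nontrivial layer has one. -/
theorem exists_comp {G : Type u} [Group G] [Finite G] (hG : GWMin G) (N : Subgroup G) (hN : N ≠ ⊤)
    (hl : Cfsg.layer ↥N ≠ ⊥) : Nonempty (Comp N) := by
  haveI : Fact (Nat.Prime 2) := ⟨Nat.prime_two⟩
  set O := Cfsg.oddCore ↥N with hOdef
  obtain ⟨L, hLc⟩ : ∃ L : Subgroup ↥N, Cfsg.IsComponent L := by
    by_contra h
    push Not at h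
    exact hl (Cfsg.Lib.Core.layer_eq_bot_iff.2 h)
  have hOs : Group.IsSolvable ↥O := Cfsg.Agent.S0205.result Cfsg.Lib.ZStar.odd_card_oddCore
  have hns : ¬ Group.IsSolvable ↥N := fun h =>
    haveI := h
    Cfsg.Lib.Core.component_not_le_solvable hLc (H := ⊤) inferInstance le_top
  have hDN : TwoCycDih ↥N := hG.twoCycDih.subgroup N
  have hlt : Nat.card (↥N ⧸ O) < Nat.card G :=
    lt_of_le_of_lt (Nat.card_le_card_of_surjective _ (QuotientGroup.mk_surjective (s := O)))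
      (Cfsg.Lib.Core.lt_card_of_ne_top hN)
  have hsolv : Group.IsSolvable (↥N ⧸ O) → False := fun h => by
    haveI := h
    haveI := hOs
    exact hns (Group.isSolvable_of_ker_le_range O.subtype (QuotientGroup.mk' O) (by simp))
  rcases shape (hDN.quotient O) (gwSections_of_below hG.below (hDN.quotient O) hlt)
    (Cfsg.Lib.Core.pPrimeCore_quotient_eq_bot (p := 2)) with
    h2 | ⟨W, -, -, -, hc⟩ | ⟨E, hEn, -, -, hgw, -, hcent, hmin, hidx⟩
  · haveI := h2.isNilpotent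
    exact (hsolv inferInstance).elim
  · exact (hsolv (Cfsg.Lib.Recog.Icosa.solvable_of_lt_sixty _ _ rfl
      (by rcases hc with h' | h' <;> omega))).elim
  have halmost : Almost E := ⟨hEn, hcent, hgw, hidx, hDN.quotient O⟩
  haveI hLn : L.Normal := Cfsg.Lib.Core.normal_iff_map_conj.2 fun g =>
    component_unique hDN (Cfsg.Lib.Core.IsComponent.map_conj hLc g) hLc
  have hLO : ⁅L, O⁆ = ⊥ :=
    Cfsg.Lib.Core.component_commute_solvable hLc hOs le_normalizer_of_normal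
  have hperf : ⁅L, L⁆ = L := by
    rw [← Subgroup.range_subtype L, MonoidHom.range_eq_map, ← Subgroup.map_commutator,
      ← _root_.commutator_def, hLc.2.1.commutator_eq_top]
  refine ⟨⟨E, halmost, L, hLn, ?_, fun l hl' o ho => ?_, hperf⟩⟩
  · refine le_antisymm (halmost.perfect_le (by rw [← map_commutator, hperf])) ?_
    refine hmin _ (Subgroup.Normal.map hLn _ (QuotientGroup.mk'_surjective O)) fun h => ?_
    rw [Subgroup.map_eq_bot_iff, QuotientGroup.ker_mk'] at h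
    exact Cfsg.Lib.Core.component_not_le_solvable hLc hOs h
  · exact (mem_centralizer_iff.1 (commutator_eq_bot_iff_le_centralizer.1 hLO hl') o ho).symm

namespace Comp

variable {G : Type u} [Group G] [Finite G] {N : Subgroup G} (c : Comp N)

/-- The component as a subgroup of `G`. -/
def sub : Subgroup G := c.L.map N.subtype

/-- The image modulo the odd core lies in the socle. -/
def Inner (w : N) : Prop := QuotientGroup.mk' (Cfsg.oddCore ↥N) w ∈ c.E

theorem sub_le : c.sub ≤ N := map_subtype_le _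

theorem mem_sub {w : G} (hw : w ∈ N) : w ∈ c.sub ↔ (⟨w, hw⟩ : N) ∈ c.L := by
  constructor
  · rintro ⟨l, hl, rfl⟩
    exact hl
  · exact fun h => ⟨_, h, rfl⟩

theorem inner_of_mem_sub {w : G} (hw : w ∈ c.sub) : c.Inner ⟨w, c.sub_le hw⟩ := by
  rw [Inner, ← c.map_L]
  exact mem_map_of_mem _ ((c.mem_sub (c.sub_le hw)).1 hw)

theorem conj_sub {n l : G} (hn : n ∈ N) (hl : l ∈ c.sub) : n * l * n⁻¹ ∈ c.sub := by
  haveI := c.normal
  refine (c.mem_sub (mul_mem (mul_mem hn (c.sub_le hl)) (inv_mem hn))).2 ?_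
  exact c.normal.conj_mem _ ((c.mem_sub (c.sub_le hl)).1 hl) ⟨n, hn⟩

theorem perfect_sub : ⁅c.sub, c.sub⁆ = c.sub := by
  rw [sub, ← map_commutator, c.perfect]

theorem commute_core {l o : G} (hl : l ∈ c.sub) (ho : o ∈ N)
    (ho' : QuotientGroup.mk' (Cfsg.oddCore ↥N) ⟨o, ho⟩ = 1) : Commute l o :=
  congrArg Subtype.val (c.comm _ ((c.mem_sub (c.sub_le hl)).1 hl) _
    ((QuotientGroup.eq_one_iff _).1 ho')).eq

theorem image_ne_one {w : G} (hw : w ∈ N) (hw2 : orderOf w = 2) :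
    QuotientGroup.mk' (Cfsg.oddCore ↥N) ⟨w, hw⟩ ≠ 1 := fun h =>
  Cfsg.Lib.ZStar.notMem_oddCore (by rw [Subgroup.orderOf_mk]; exact hw2)
    ((QuotientGroup.eq_one_iff _).1 h)

theorem orderOf_image {w : G} (hw : w ∈ N) (hw2 : orderOf w = 2) :
    orderOf (QuotientGroup.mk' (Cfsg.oddCore ↥N) ⟨w, hw⟩) = 2 :=
  Cfsg.Lib.Invol.orderOf_eq_two_of (image_ne_one hw hw2)
    (by rw [← map_mul, show (⟨w, hw⟩ : N) * ⟨w, hw⟩ = 1 from
      Subtype.ext (Cfsg.Lib.Invol.inv_mul_self hw2), map_one])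

/-- Commuting involutions with the same image are equal. -/
theorem eq_of_image_eq {a b : G} (ha : a ∈ N) (hb : b ∈ N) (ha2 : a * a = 1) (hb2 : b * b = 1)
    (hab : Commute a b)
    (he : QuotientGroup.mk' (Cfsg.oddCore ↥N) ⟨a, ha⟩ = QuotientGroup.mk' _ ⟨b, hb⟩) : a = b := by
  have hm : (⟨a, ha⟩ : N)⁻¹ * ⟨b, hb⟩ ∈ Cfsg.oddCore ↥N := QuotientGroup.eq.1 he
  have ho : Odd (orderOf (a⁻¹ * b)) := by
    have := Cfsg.Lib.ZStar.odd_orderOf_oddCore hm
    rwa [← Subgroup.orderOf_coe] at this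
  refine inv_mul_eq_one.1 (orderOf_eq_one_iff.1 (Nat.eq_one_of_dvd_coprimes
    (Nat.coprime_two_right.2 ho) dvd_rfl (orderOf_dvd_of_pow_eq_one ?_)))
  rw [hab.inv_left.mul_pow, inv_pow, pow_two, pow_two, ha2, hb2, inv_one, one_mul]

/-- Inner 2-elements lie in the component. -/
theorem mem_sub_of_inner {w : G} (hw : w ∈ N) {k : ℕ} (hk : w ^ 2 ^ k = 1) (hi : c.Inner ⟨w, hw⟩) :
    w ∈ c.sub := by
  haveI := c.normal
  rw [Inner, ← c.map_L] at hi
  obtain ⟨l, hl, hle⟩ := hi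
  have ho : l⁻¹ * ⟨w, hw⟩ ∈ Cfsg.oddCore ↥N := QuotientGroup.eq.1 hle
  obtain ⟨o, hoe⟩ : ∃ o, o = l⁻¹ * (⟨w, hw⟩ : N) := ⟨_, rfl⟩
  rw [← hoe] at ho
  have hlo := c.comm l hl o ho
  have hw' : (⟨w, hw⟩ : N) = l * o := by rw [hoe, mul_inv_cancel_left]
  have hpow : o ^ 2 ^ k ∈ c.L := by
    have h1 : l ^ 2 ^ k * o ^ 2 ^ k = 1 := by
      rw [← hlo.mul_pow, ← hw']
      exact Subtype.ext hk
    rw [eq_inv_of_mul_eq_one_right h1]
    exact inv_mem (pow_mem hl _)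
  have hoL : o ∈ c.L := by
    have hco : (2 ^ k).Coprime (orderOf o) :=
      (Nat.coprime_two_left.2 (Cfsg.Lib.ZStar.odd_orderOf_oddCore ho)).pow_left k
    obtain ⟨m, hm⟩ := exists_pow_eq_self_of_coprime hco
    rw [← hm]
    exact pow_mem hpow m
  exact (c.mem_sub hw).2 (hw' ▸ mul_mem hl hoL)

/-- The square of an element of order four of `N` lies in the component. -/
theorem sq_mem_sub {ρ : G} (hρ : ρ ∈ N) (h4 : ρ ^ 4 = 1) : ρ * ρ ∈ c.sub := by
  refine c.mem_sub_of_inner (mul_mem hρ hρ) (k := 1) ?_ ?_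
  · rw [pow_one, pow_two, show ρ * ρ * (ρ * ρ) = ρ ^ 4 by simp only [pow_succ, pow_zero, one_mul, mul_assoc], h4]
  · show QuotientGroup.mk' _ ((⟨ρ, hρ⟩ : N) * ⟨ρ, hρ⟩) ∈ c.E
    rw [map_mul]
    exact c.almost.inner_sq (by
      rw [← map_pow, show (⟨ρ, hρ⟩ : N) ^ 4 = 1 from Subtype.ext h4, map_one])

/-- Involutions of perfect subgroups of `N` lie in the component. -/
theorem mem_sub_of_perfect {H : Subgroup G} (hH : ⁅H, H⁆ = H) (hHN : H ≤ N) {w : G} (hw : w ∈ H)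
    (hw2 : w * w = 1) : w ∈ c.sub := by
  refine c.mem_sub_of_inner (hHN hw) (k := 1) (by rw [pow_one, pow_two, hw2]) ?_
  refine c.almost.perfect_le (H := (H.subgroupOf N).map (QuotientGroup.mk' _)) ?_
    (mem_map_of_mem _ (mem_subgroupOf.2 hw))
  rw [← map_commutator]
  congr 1
  refine map_injective N.subtype_injective ?_
  rw [map_commutator, subgroupOf_map_subtype, inf_of_le_left hHN, hH]

/-- Inverted elements of odd order lie in the component. -/
theorem inverted_mem {x s : G} (hx : x ∈ c.sub) (hx2 : x * x = 1) (hs : s ∈ N)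
    (hso : Odd (orderOf s)) (hi : x * s * x = s⁻¹) : s ∈ c.sub := by
  have h2 : s * s = s * x * s⁻¹ * x := by
    calc s * s = s * (x * (x * s * x) * x) := by
          rw [show x * (x * s * x) * x = x * x * s * (x * x) by group, hx2, one_mul, mul_one]
      _ = s * x * s⁻¹ * x := by rw [hi]; group
  obtain ⟨k, hk⟩ := hso
  have h3 : s = (s * s) ^ (k + 1) := by
    rw [← sq, ← pow_mul, show 2 * (k + 1) = orderOf s + 1 by omega, pow_succ, pow_orderOf_eq_one,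
      one_mul]
  rw [h3]
  exact pow_mem (h2 ▸ mul_mem (c.conj_sub hs hx) hx) _

theorem inverted_image_ne_one {x s : G} (hx : x ∈ c.sub) (hx2 : x * x = 1) (hs : s ∈ N)
    (hso : Odd (orderOf s)) (hi : x * s * x = s⁻¹) (hs1 : s ≠ 1) :
    QuotientGroup.mk' (Cfsg.oddCore ↥N) ⟨s, hs⟩ ≠ 1 := fun h =>
  hs1 (InvAct.eq_one_of_commute_inverted hso hx2 (c.commute_core hx hs h).symm hi)

theorem image_commute {a b : G} (ha : a ∈ N) (hb : b ∈ N) (h : Commute a b) :
    Commute (QuotientGroup.mk' (Cfsg.oddCore ↥N) ⟨a, ha⟩) (QuotientGroup.mk' _ ⟨b, hb⟩) :=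
  (show Commute (⟨a, ha⟩ : N) ⟨b, hb⟩ from Subtype.ext h.eq).map _

theorem odd_orderOf_image {a : G} (ha : a ∈ N) (h : Odd (orderOf a)) :
    Odd (orderOf (QuotientGroup.mk' (Cfsg.oddCore ↥N) ⟨a, ha⟩)) :=
  h.of_dvd_nat ((orderOf_map_dvd _ _).trans (by rw [Subgroup.orderOf_mk]))

/-- The inverted elements of odd order centralizing `J` commute with each other. -/
theorem inverted_commute {J x s s' : G} (hJ : J ∈ c.sub) (hJo : orderOf J = 2) (hx : x ∈ c.sub)
    (hx2 : x * x = 1) (hs : s ∈ N) (hs' : s' ∈ N) (hso : Odd (orderOf s)) (hso' : Odd (orderOf s'))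
    (hsJ : Commute s J) (hsJ' : Commute s' J) (hi : x * s * x = s⁻¹) (hi' : x * s' * x = s'⁻¹) :
    Commute s s' := by
  have m := c.inverted_mem hx hx2 hs hso hi
  have m' := c.inverted_mem hx hx2 hs' hso' hi'
  obtain ⟨g, hg, hg'⟩ := c.almost.cyclic_pair (orderOf_image (c.sub_le hJ) hJo)
    (c.inner_of_mem_sub hJ) (c.inner_of_mem_sub m) (c.inner_of_mem_sub m')
    (odd_orderOf_image _ hso) (odd_orderOf_image _ hso')
    (image_commute _ _ hsJ) (image_commute _ _ hsJ')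
  set φ := QuotientGroup.mk' (Cfsg.oddCore ↥N) with hφ
  set S : N := ⟨s, c.sub_le m⟩ with hS
  set S' : N := ⟨s', c.sub_le m'⟩ with hS'
  have hle : closure ({φ S, φ S'} : Set (↥N ⧸ Cfsg.oddCore ↥N)) ≤ zpowers g :=
    (closure_le _).2 (Set.insert_subset hg (Set.singleton_subset_iff.2 hg'))
  haveI : IsCyclic ↥(closure ({φ S, φ S'} : Set (↥N ⧸ Cfsg.oddCore ↥N))) :=
    isCyclic_of_injective (Subgroup.inclusion hle) (Subgroup.inclusion_injective hle)
  obtain ⟨⟨q, hq⟩, hgen⟩ := IsCyclic.exists_generator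
    (α := ↥(closure ({φ S, φ S'} : Set (↥N ⧸ Cfsg.oddCore ↥N))))
  obtain ⟨l, hl, rfl⟩ : q ∈ c.L.map φ := by
    rw [c.map_L]
    exact (closure_le _).2 (Set.insert_subset (c.inner_of_mem_sub m)
      (Set.singleton_subset_iff.2 (c.inner_of_mem_sub m'))) hq
  have key : ∀ T : N, T ∈ c.L → φ T ∈ ({φ S, φ S'} : Set (↥N ⧸ Cfsg.oddCore ↥N)) →
      ∃ i : ℤ, ∃ o ∈ c.L, o ∈ Cfsg.oddCore ↥N ∧ T = l ^ i * o := by
    intro T hT hmem
    obtain ⟨i, hi⟩ := mem_zpowers_iff.1 (hgen ⟨φ T, subset_closure hmem⟩)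
    refine ⟨i, (l ^ i)⁻¹ * T, mul_mem (inv_mem (zpow_mem hl i)) hT, ?_, by group⟩
    refine QuotientGroup.eq.1 ?_
    show φ (l ^ i) = φ T
    rw [map_zpow]
    exact congrArg Subtype.val hi
  obtain ⟨i, o, hoL, hoO, e1⟩ := key S ((c.mem_sub _).1 m) (Or.inl rfl)
  obtain ⟨i', o', hoL', hoO', e2⟩ := key S' ((c.mem_sub _).1 m') (Or.inr rfl)
  have h : Commute S S' := by
    rw [e1, e2]
    have a1 := c.comm _ (zpow_mem hl i) o' hoO'
    have a2 := (c.comm _ (zpow_mem hl i') o hoO).symm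
    have a3 := c.comm o hoL o' hoO'
    exact ((((Commute.refl l).zpow_zpow i i').mul_right a1)).mul_left (a2.mul_right a3)
  exact congrArg Subtype.val h.eq

/-- Two involutions commuting with an element of odd order of the component. -/
theorem image_unique (hp : PSLType c.E) {z a b : G} (hz : z ∈ N)
    (hzE : c.Inner ⟨z, hz⟩) (hzo : Odd (orderOf z))
    (hz1 : QuotientGroup.mk' (Cfsg.oddCore ↥N) ⟨z, hz⟩ ≠ 1) (ha : a ∈ N) (hb : b ∈ N)
    (ha2 : orderOf a = 2) (hb2 : orderOf b = 2) (haz : Commute a z) (hbz : Commute b z) :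
    QuotientGroup.mk' (Cfsg.oddCore ↥N) ⟨a, ha⟩ = QuotientGroup.mk' _ ⟨b, hb⟩ :=
  c.almost.unique hp hzE (sq_ne_one_of_odd (odd_orderOf_image hz hzo) hz1)
    (Cfsg.Lib.Invol.inv_mul_self (orderOf_image ha ha2)) (image_ne_one ha ha2)
    (Cfsg.Lib.Invol.inv_mul_self (orderOf_image hb hb2)) (image_ne_one hb hb2)
    (image_commute _ _ haz) (image_commute _ _ hbz)

/-- An outer involution comes with an inner one. -/
theorem exists_inner {J x : G} (hJ : J ∈ c.sub) (hJo : orderOf J = 2) (hx : x ∈ N)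
    (hxo : orderOf x = 2) (hxJ : Commute x J) (hout : x ∉ c.sub) :
    ∃ v ∈ c.sub, v * v = 1 ∧ v ≠ 1 ∧ v ≠ J ∧ Commute v J ∧
      ∀ y ∈ N, Odd (orderOf y) → Commute y J → Commute y x → Commute y v := by
  have hxE : ¬ c.Inner ⟨x, hx⟩ := fun h => hout (c.mem_sub_of_inner hx (k := 1)
    (by rw [pow_one, ← hxo, pow_orderOf_eq_one]) h)
  obtain ⟨v₀, hv₀E, hv₀2, hv₀1, hv₀J, hv₀c, hv₀y⟩ := c.almost.exists_inner
    (orderOf_image (c.sub_le hJ) hJo) (c.inner_of_mem_sub hJ)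
    (Cfsg.Lib.Invol.inv_mul_self (orderOf_image hx hxo)) hxE (image_commute _ _ hxJ)
  set φ := QuotientGroup.mk' (Cfsg.oddCore ↥N) with hφ
  have hlift := DGroup.centralizer_lift (Cfsg.oddCore ↥N) Cfsg.Lib.ZStar.odd_card_oddCore
    (j := (⟨J, c.sub_le hJ⟩ : N)) (by rw [Subgroup.orderOf_mk]; exact hJo)
  have hmem : v₀ ∈ centralizer ({φ ⟨J, c.sub_le hJ⟩} : Set (↥N ⧸ Cfsg.oddCore ↥N)) :=
    mem_centralizer_singleton_iff.2 hv₀c.eq
  rw [hlift] at hmem
  obtain ⟨n, hn, hne⟩ := hmem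
  -- an involution over it
  have hnn : n * n ∈ Cfsg.oddCore ↥N := (QuotientGroup.eq_one_iff _).1 (by
    show φ (n * n) = 1
    rw [map_mul, hne, hv₀2])
  obtain ⟨k, hk⟩ : ∃ k, orderOf (n * n) = 2 * k + 1 := Cfsg.Lib.ZStar.odd_orderOf_oddCore hnn
  obtain ⟨v, hv⟩ : ∃ v : N, v = n ^ (2 * k + 1) := ⟨_, rfl⟩
  have hv2 : v * v = 1 := by
    rw [hv, ← (Commute.refl n).mul_pow, ← hk, pow_orderOf_eq_one]
  have hφv : φ v = v₀ := by
    rw [hv, map_pow, hne, pow_succ, pow_mul, pow_two, hv₀2, one_pow, one_mul]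
  have hvs : (v : G) ∈ c.sub := c.mem_sub_of_inner v.2 (k := 1)
    (by rw [pow_one, pow_two]; exact congrArg Subtype.val hv2) (by show φ v ∈ c.E; rw [hφv]; exact hv₀E)
  refine ⟨v, hvs, congrArg Subtype.val hv2, fun h => hv₀1 ?_, fun h => hv₀J ?_, ?_, ?_⟩
  · rw [← hφv, show v = 1 from Subtype.ext h, map_one]
  · rw [← hφv, show v = ⟨J, c.sub_le hJ⟩ from Subtype.ext h]
  · have hnJ : Commute (n : G) J := congrArg Subtype.val (mem_centralizer_singleton_iff.1 hn)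
    rw [hv, SubmonoidClass.coe_pow]
    exact hnJ.pow_left _
  intro y hy hyo hyJ hyx
  have hc := hv₀y (φ ⟨y, hy⟩) (odd_orderOf_image hy hyo) (image_commute _ _ hyJ) (image_commute _ _ hyx)
  have hv' : y * v * y⁻¹ ∈ c.sub := c.conj_sub hy hvs
  obtain ⟨z, hz⟩ : ∃ z, z = (v : G)⁻¹ * (y * v * y⁻¹) := ⟨_, rfl⟩
  have hzs : z ∈ c.sub := hz ▸ mul_mem (inv_mem hvs) hv'
  have hzO : φ ⟨z, c.sub_le hzs⟩ = 1 := by
    rw [show (⟨z, c.sub_le hzs⟩ : N) = v⁻¹ * (⟨y, hy⟩ * v * ⟨y, hy⟩⁻¹) from Subtype.ext hz, map_mul, map_inv, map_mul, map_mul, map_inv, hφv, hc.eq, mul_inv_cancel_right,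
      inv_mul_cancel]
  have hvz : Commute (v : G) z := c.commute_core hvs (c.sub_le hzs) hzO
  have hz2 : z * z = 1 := by
    have h1 : (v : G) * z * (v * z) = 1 := by
      rw [hz, mul_inv_cancel_left, show y * (v : G) * y⁻¹ * (y * v * y⁻¹) = y * (v * v) * y⁻¹ by group,
        show (v : G) * v = 1 from congrArg Subtype.val hv2, mul_one, mul_inv_cancel]
    rw [show (v : G) * z * (v * z) = v * (z * v) * z by group, ← hvz.eq,
      show (v : G) * (v * z) * z = (v * v) * (z * z) by group,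
      show (v : G) * v = 1 from congrArg Subtype.val hv2, one_mul] at h1
    exact h1
  have hz1 : z = 1 := by
    have ho := Cfsg.Lib.ZStar.odd_orderOf_oddCore ((QuotientGroup.eq_one_iff _).1 hzO)
    rw [Subgroup.orderOf_mk] at ho
    exact orderOf_eq_one_iff.1 (Nat.eq_one_of_dvd_coprimes (Nat.coprime_two_right.2 ho) dvd_rfl
      (orderOf_dvd_of_pow_eq_one (by rw [pow_two, hz2])))
  rw [hz] at hz1
  exact mul_inv_eq_iff_eq_mul.1 (inv_mul_eq_one.1 hz1).symm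

end Comp

section Frame

variable {G : Type u} [Group G] [Fintype G] [Fact (Nat.Prime 2)] {P : Sylow 2 G} {σ τ : G} {h : ℕ}
  (D : DihSylow P σ τ h) {N : Subgroup G} (c : Comp N) {x : G}
  (hJ : σ ^ h ∈ c.sub) (hx : x ∈ c.sub) (hx2 : x * x = 1) (hxJ : Commute x (σ ^ h))
  (hFN : fitSub σ h ≤ N)

include D hJ hx hx2 hxJ hFN

theorem orderOf_J : orderOf (σ ^ h) = 2 :=
  Cfsg.Lib.Invol.orderOf_eq_two_of D.central_involution.2.1 D.central_involution.1

/-- The inverted elements of `F(U)` commute. -/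
theorem fit_inverted_commute {f g : G} (hf : f ∈ fitSub σ h) (hg : g ∈ fitSub σ h)
    (hfi : x * f * x = f⁻¹) (hgi : x * g * x = g⁻¹) : Commute f g :=
  c.inverted_commute hJ (orderOf_J D c hJ hx hx2 hxJ hFN) hx hx2 (hFN hf) (hFN hg)
    (odd_orderOf D (fitSub_le hf)) (odd_orderOf D (fitSub_le hg)) (commute_J D (fitSub_le hf))
    (commute_J D (fitSub_le hg)) hfi hgi

/-- The elements of `N ∩ U` inverted by `x` lie in `F(U)`. -/
theorem inverted_mem_fit {s : G} (hs : s ∈ oddSub σ h) (hsN : s ∈ N) (hsi : x * s * x = s⁻¹) :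
    s ∈ fitSub σ h :=
  mem_fitSub_of_inverted_quadratic D hx2 hxJ hs hsi
    (fun _f hf hfi _g hg hgi => fit_inverted_commute D c hJ hx hx2 hxJ hFN hf hg hfi hgi)
    fun _f hf hfi => c.inverted_commute hJ (orderOf_J D c hJ hx hx2 hxJ hFN) hx hx2 hsN (hFN hf)
      (odd_orderOf D hs) (odd_orderOf D (fitSub_le hf)) (commute_J D hs)
      (commute_J D (fitSub_le hf)) hsi hfi

variable (hxne : x ≠ 1) (hxneJ : x ≠ σ ^ h)
  (hA : PSLType c.E ∨ ∃ f ∈ fitSub σ h, x * f * x = f⁻¹ ∧ f ≠ 1)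

include hxne hxneJ hA

theorem image_witness : PSLType c.E ∨ ∃ t ∈ c.E, Odd (orderOf t) ∧ t ≠ 1 ∧
    Commute t (QuotientGroup.mk' _ ⟨σ ^ h, c.sub_le hJ⟩) ∧
    QuotientGroup.mk' _ ⟨x, c.sub_le hx⟩ * t * QuotientGroup.mk' _ ⟨x, c.sub_le hx⟩ = t⁻¹ := by
  rcases hA with hp | ⟨f, hf, hfi, hf1⟩
  · exact Or.inl hp
  refine Or.inr ⟨QuotientGroup.mk' _ ⟨f, hFN hf⟩, c.inner_of_mem_sub
    (c.inverted_mem hx hx2 (hFN hf) (odd_orderOf D (fitSub_le hf)) hfi),
    Comp.odd_orderOf_image _ (odd_orderOf D (fitSub_le hf)),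
    c.inverted_image_ne_one hx hx2 (hFN hf) (odd_orderOf D (fitSub_le hf)) hfi hf1,
    Comp.image_commute _ _ (commute_J D (fitSub_le hf)), ?_⟩
  rw [← map_mul, ← map_mul, ← map_inv]
  exact congrArg _ (Subtype.ext hfi)

theorem image_ne : (QuotientGroup.mk' (Cfsg.oddCore ↥N) ⟨x, c.sub_le hx⟩) ≠
    QuotientGroup.mk' _ ⟨σ ^ h, c.sub_le hJ⟩ := fun e =>
  hxneJ (Comp.eq_of_image_eq _ _ hx2 D.central_involution.1 hxJ e)

theorem x_order : orderOf x = 2 := Cfsg.Lib.Invol.orderOf_eq_two_of hxne hx2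

/-- Elements of odd order of the centralizer of `J` in the socle come from `F(U)`. -/
theorem exists_fit_lift {e : ↥N ⧸ Cfsg.oddCore ↥N} (he : e ∈ c.E) (heo : Odd (orderOf e))
    (hec : Commute e (QuotientGroup.mk' _ ⟨σ ^ h, c.sub_le hJ⟩)) :
    ∃ f, ∃ hf : f ∈ fitSub σ h, x * f * x = f⁻¹ ∧ QuotientGroup.mk' _ ⟨f, hFN hf⟩ = e := by
  classical
  set φ := QuotientGroup.mk' (Cfsg.oddCore ↥N) with hφ
  have hJo := orderOf_J D c hJ hx hx2 hxJ hFN
  have hlift := DGroup.centralizer_lift (Cfsg.oddCore ↥N) Cfsg.Lib.ZStar.odd_card_oddCore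
    (j := (⟨σ ^ h, c.sub_le hJ⟩ : N)) (by rw [Subgroup.orderOf_mk]; exact hJo)
  have hmem : e ∈ centralizer ({φ ⟨σ ^ h, c.sub_le hJ⟩} : Set (↥N ⧸ Cfsg.oddCore ↥N)) :=
    mem_centralizer_singleton_iff.2 hec.eq
  rw [hlift] at hmem
  obtain ⟨n, hn, hne⟩ := hmem
  obtain ⟨a, o, ho, hord⟩ := exists_two_pow_dvd (g := n)
  have hdvd : orderOf e ∣ o :=
    ((Nat.coprime_two_right.2 heo).pow_right a).dvd_of_dvd_mul_left
      (hord ▸ hne ▸ orderOf_map_dvd φ n)
  have hco : (2 ^ a).Coprime (orderOf e) := (Nat.coprime_two_left.2 heo).pow_left a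
  obtain ⟨m, hm⟩ := exists_pow_eq_self_of_coprime hco
  obtain ⟨s, hs⟩ : ∃ s : N, s = (n ^ 2 ^ a) ^ m := ⟨_, rfl⟩
  have hφs : φ s = e := by rw [hs, map_pow, map_pow, hne, hm]
  have hnJ : Commute (n : G) (σ ^ h) := congrArg Subtype.val (mem_centralizer_singleton_iff.1 hn)
  have hsJ : Commute (s : G) (σ ^ h) := by
    rw [hs, SubmonoidClass.coe_pow, SubmonoidClass.coe_pow]
    exact (hnJ.pow_left _).pow_left _
  have hso : Odd (orderOf (s : G)) := by
    rw [Subgroup.orderOf_coe, hs]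
    refine ho.of_dvd_nat ((orderOf_pow_dvd m).trans ?_)
    rw [orderOf_pow_of_dvd (by positivity) (hord ▸ dvd_mul_right _ _), hord,
      Nat.mul_div_cancel_left _ (by positivity)]
  have hsU : (s : G) ∈ oddSub σ h ⊓ N :=
    ⟨(mem_oddSub D).2 (DihSylow.mem_oddPart.2 ⟨hsJ, hso⟩), s.2⟩
  have hUN : Odd (Nat.card ↥(oddSub σ h ⊓ N)) :=
    (odd_card_oddSub D).of_dvd_nat (card_dvd_of_le inf_le_left)
  have hxn : x ∈ normalizer ((oddSub σ h ⊓ N : Subgroup G) : Set G) :=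
    mem_normalizer_fintype fun y (hy : y ∈ oddSub σ h ⊓ N) =>
      (show x * y * x⁻¹ ∈ oddSub σ h ⊓ N from
        ⟨conj_oddSub D hxJ hy.1, N.mul_mem (N.mul_mem (c.sub_le hx) hy.2) (N.inv_mem (c.sub_le hx))⟩)
  obtain ⟨u, hu, i, hi, hux, hix, hsui⟩ := InvAct.exists_split hUN hx2 hxn hsU
  have hiF := inverted_mem_fit D c hJ hx hx2 hxJ hFN hi.1 hi.2 hix
  have hiE : φ ⟨i, hi.2⟩ ∈ c.E :=
    c.inner_of_mem_sub (c.inverted_mem hx hx2 hi.2 (odd_orderOf D hi.1) hix)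
  have hue : φ ⟨u, hu.2⟩ = e * (φ ⟨i, hi.2⟩)⁻¹ := by
    rw [eq_mul_inv_iff_mul_eq, ← map_mul, ← hφs]
    exact congrArg φ (Subtype.ext hsui.symm)
  have hu1 : φ ⟨u, hu.2⟩ = 1 := c.almost.fixed_eq_one (Comp.orderOf_image _ hJo)
    (c.inner_of_mem_sub hJ)
    (by rw [← map_mul, show (⟨x, c.sub_le hx⟩ : N) * ⟨x, c.sub_le hx⟩ = 1 from Subtype.ext hx2,
      map_one])
    (Comp.image_ne_one _ (x_order D c hJ hx hx2 hxJ hFN hxne hxneJ hA))
    (image_ne D c hJ hx hx2 hxJ hFN hxne hxneJ hA)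
    (image_witness D c hJ hx hx2 hxJ hFN hxne hxneJ hA)
    (hue ▸ mul_mem he (inv_mem hiE)) (Comp.odd_orderOf_image _ (odd_orderOf D hu.1))
    (Comp.image_commute _ _ (commute_J D hu.1)) (Comp.image_commute _ _ hux)
  refine ⟨i, hiF, hix, ?_⟩
  rw [hu1, eq_comm, mul_inv_eq_one] at hue
  exact hue.symm

/-- **The key lemma.** An element of odd order of `N` centralizing `J`, `x` and the inverted elements
of `F(U)` centralizes the component. -/
theorem centralize_component {y : G} (hy : y ∈ N) (hyo : Odd (orderOf y))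
    (hyJ : Commute y (σ ^ h)) (hyx : Commute y x)
    (hyT : ∀ f ∈ fitSub σ h, x * f * x = f⁻¹ → Commute y f) {l : G} (hl : l ∈ c.sub) :
    Commute l y := by
  refine c.commute_core hl hy ?_
  refine c.almost.centralizing_eq_one
    (Comp.orderOf_image _ (orderOf_J D c hJ hx hx2 hxJ hFN)) (c.inner_of_mem_sub hJ)
    (by rw [← map_mul, show (⟨x, c.sub_le hx⟩ : N) * ⟨x, c.sub_le hx⟩ = 1 from Subtype.ext hx2,
      map_one])
    (Comp.image_ne_one _ (x_order D c hJ hx hx2 hxJ hFN hxne hxneJ hA))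
    (image_ne D c hJ hx hx2 hxJ hFN hxne hxneJ hA)
    (image_witness D c hJ hx hx2 hxJ hFN hxne hxneJ hA)
    (Comp.odd_orderOf_image _ hyo) (Comp.image_commute _ _ hyJ) (Comp.image_commute _ _ hyx) ?_
  intro e he heo hec
  obtain ⟨f, hf, hfi, rfl⟩ := exists_fit_lift D c hJ hx hx2 hxJ hFN hxne hxneJ hA he heo hec
  exact Comp.image_commute _ _ (hyT f hf hfi)

end Frame

end Cfsg.Lib.GW.CMax
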