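import Cfsg.Agent.Lib.GW.CMax.ReduceSplit

/-!
# The reduction: `Ω₁ Z₂(R) = ⟨a⟩ × Z`

Every reflection inverts `a` or fixes it modulo `Z = Ω₁ Z(R)`, so by transfer `u ↦ [u, a]` maps `U` onto
`Z`.  Elements of order prime to `p` centralize `R` and the other `O_r(U)`, hence are central: `U` is
nilpotent, the fixed points of a reflection lie in `R`, and `|U| = p |C_R(τ)| |T|` with `T` the torus.
-/

set_option autoImplicit false
set_option linter.unusedSectionVars false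
set_option linter.style.haveILetI false
set_option maxHeartbeats 800000

namespace Cfsg.Lib.GW.CMax

open Cfsg Cfsg.Lib.Block
open Cfsg.Lib.Block.DihSylow (oddPart oddFix mem_oddPart mem_oddFix)

universe u

variable {G : Type u} [Group G] [Fintype G] [Fact (Nat.Prime 2)]
variable {P : Sylow 2 G} {σ τ : G} {h p : ℕ} {N : Subgroup G} {c : Comp N} {a : G}

namespace LineCtx

variable (k : LineCtx P σ τ h p c a)

include k

theorem commute_omegaE {e : G} (he : e ∈ omegaE σ h p) : Commute a e :=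
  not_not.1 fun hne => k.extra_case he hne

theorem omegaE_form {e : G} (he : e ∈ omegaE σ h p) : ∃ m : ℕ, ∃ z ∈ omegaZ σ h p, e = a ^ m * z :=
  k.omegaE_centA he (k.commute_omegaE he).symm

omit k in
theorem omega_omegaE (r : RedCtx P σ τ h p) {z : G} (hz : z ∈ omegaZ σ h p) : z ∈ omegaE σ h p :=
  (mem_omegaE r.prime r.ne_two).2 ⟨hz.1, hz.2.1, fun b hb => by
    rw [(hz.2.2 b hb).eq, mul_inv_cancel_right, mul_inv_cancel]
    exact one_mem _⟩

/-- A reflection fixes `a` modulo `Z` or inverts it. -/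
theorem refl_cases {x : G} (hx : x ∈ (P : Subgroup G)) (hx' : x ∉ Subgroup.zpowers σ) :
    x * a * x * a⁻¹ ∈ omegaZ σ h p ∨ x * a * x = a⁻¹ := by
  have D := k.red.frame
  have hp := k.red.prime
  obtain ⟨hx2, -, -⟩ := reflection_mem D hx hx'
  have hxi : x⁻¹ = x := inv_eq_of_mul_eq_one_right hx2
  have hb : x * a * x ∈ omegaE σ h p := by
    have := k.red.conj_omegaE (D.central_involution.2.2 x hx) k.amem
    rwa [hxi] at this
  have hab : Commute a (x * a * x) := k.commute_omegaE hb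
  have hxb : x * (x * a * x) * x = a := by
    rw [show x * (x * a * x) * x = x * x * a * (x * x) by group, hx2, one_mul, mul_one]
  obtain ⟨e', he'⟩ : ∃ e', e' = x * a * x * a := ⟨_, rfl⟩
  have he'x : x * e' * x = e' := by
    rw [he', show x * (x * a * x * a) * x = x * x * a * (x * a * x) by group, hx2, one_mul, hab.eq]
  by_cases hZ : e' ∈ omegaZ σ h p
  · right
    have h1 := (k.red.at_reflection hx hx').fixed_omega hZ (by
      show e' * x = x * e'
      calc e' * x = x * e' * x * x := by rw [he'x]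
        _ = x * e' := by rw [mul_assoc, hx2, mul_one])
    exact mul_eq_one_iff_eq_inv.1 (he'.symm.trans h1)
  left
  obtain ⟨n, z, hz, hn⟩ := k.omegaE_form (he' ▸ mul_mem hb k.amem)
  have hpn : ¬ p ∣ n := by
    rintro ⟨l, rfl⟩
    rw [pow_mul, k.a_pow, one_pow, one_mul] at hn
    exact hZ (hn ▸ hz)
  obtain ⟨e, he⟩ : ∃ e, e = x * a * x * a⁻¹ := ⟨_, rfl⟩
  rw [← he]
  have hep : e ^ p = 1 := by
    rw [he, hab.symm.inv_right.mul_pow, inv_pow, k.a_pow, inv_one, mul_one]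
    exact ((mem_omegaE hp k.red.ne_two).1 hb).2.1
  have hzi := (k.red.at_reflection hx hx').tau_inv_omega hz
  have hen : e ^ n = z * z := by
    have h1 : (x * a * x) ^ n * z⁻¹ = a ^ n * z := by
      have h2 := he'x
      rw [hn, show x * (a ^ n * z) * x = x * a ^ n * x⁻¹ * (x * z * x) by group, ← conj_pow, hxi,
        hzi] at h2
      exact h2
    rw [he, hab.symm.inv_right.mul_pow, inv_pow, mul_inv_eq_iff_eq_mul]
    calc (x * a * x) ^ n = (x * a * x) ^ n * z⁻¹ * z := by group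
      _ = a ^ n * (z * z) := by rw [h1]; group
      _ = z * z * a ^ n :=
          (((k.omega_commute_a hz).mul_left (k.omega_commute_a hz)).pow_right n).symm.eq
  obtain ⟨m, hm⟩ := exists_pow_eq_self_of_coprime (x := e) (n := n)
    (Nat.Coprime.of_dvd_right (orderOf_dvd_of_pow_eq_one hep) ((hp.coprime_iff_not_dvd.2 hpn).symm))
  exact hm ▸ hen.symm ▸ pow_mem (mul_mem hz hz) m

theorem comm_omega {u : G} (hu : u ∈ oddSub σ h) : u * a * u⁻¹ * a⁻¹ ∈ omegaZ σ h p := by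
  have D := k.red.frame
  refine k.red.central_of_scalar (omegaE σ h p) (omegaZ σ h p)
    (fun y hy => coreP_le ((mem_omegaE k.red.prime k.red.ne_two).1 hy).1)
    (fun g hg y hy => k.red.conj_omegaE hg hy) (fun g hg y hy => conj_omegaZ D hg hy) ?_ hu k.amem
  intro x hx hx'
  obtain ⟨hx2, -, -⟩ := reflection_mem D hx hx'
  have hxi : x⁻¹ = x := inv_eq_of_mul_eq_one_right hx2
  have key : ∀ (m : ℕ) {z : G}, z ∈ omegaZ σ h p → x * (a ^ m * z) * x = (x * a * x) ^ m * z⁻¹ := by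
    intro m z hz
    rw [show x * (a ^ m * z) * x = x * a ^ m * x⁻¹ * (x * z * x) by group, ← conj_pow, hxi,
      (k.red.at_reflection hx hx').tau_inv_omega hz]
  rcases k.refl_cases hx hx' with hc | hc
  · refine Or.inl fun y hy => ?_
    obtain ⟨m, z, hz, rfl⟩ := k.omegaE_form hy
    rw [key m hz]
    obtain ⟨w, hw⟩ : ∃ w, w = x * a * x * a⁻¹ := ⟨_, rfl⟩
    rw [← hw] at hc
    rw [show x * a * x = w * a by rw [hw]; group, (k.omega_commute_a hc).mul_pow,
      show w ^ m * a ^ m * z⁻¹ * (a ^ m * z)⁻¹ = w ^ m * (a ^ m * (z⁻¹ * z⁻¹) * (a ^ m)⁻¹) by group,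
      (((k.omega_commute_a hz).inv_left.mul_left (k.omega_commute_a hz).inv_left).pow_right m).symm.eq,
      mul_inv_cancel_right]
    exact mul_mem (pow_mem hc m) (mul_mem (inv_mem hz) (inv_mem hz))
  · refine Or.inr fun y hy => ?_
    obtain ⟨m, z, hz, rfl⟩ := k.omegaE_form hy
    rw [key m hz, hc, inv_pow, ((k.omega_commute_a hz).inv_left.pow_right m).inv_right.symm.eq,
      mul_assoc, inv_mul_cancel_left, inv_mul_cancel]
    exact one_mem _

theorem comm_mul {u v : G} (hu : u ∈ oddSub σ h) (hv : v ∈ oddSub σ h) :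
    u * v * a * (u * v)⁻¹ * a⁻¹ = u * a * u⁻¹ * a⁻¹ * (v * a * v⁻¹ * a⁻¹) := by
  rw [show u * v * a * (u * v)⁻¹ * a⁻¹ = u * (v * a * v⁻¹ * a⁻¹) * u⁻¹ * (u * a * u⁻¹ * a⁻¹) by group,
    (k.red.omega_central (k.comm_omega hv) hu).eq, mul_inv_cancel_right]
  exact ((k.comm_omega hu).2.2 _ (omegaZ_le (k.comm_omega hv))).symm.eq

theorem coprime_commute_a {u : G} (hu : u ∈ oddSub σ h) (hco : (orderOf u).Coprime p) :
    Commute u a := by
  obtain ⟨d, hd⟩ : ∃ d, d = u * a * u⁻¹ * a⁻¹ := ⟨_, rfl⟩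
  have hdZ : d ∈ omegaZ σ h p := hd ▸ k.comm_omega hu
  have h1 := pow_conj_comm (show u * a * u⁻¹ = d * a by rw [hd]; group) (k.red.omega_central hdZ hu)
    (orderOf u)
  rw [pow_orderOf_eq_one, one_mul, inv_one, mul_one, right_eq_mul] at h1
  have hd1 : d = 1 := orderOf_eq_one_iff.1
    (Nat.eq_one_of_dvd_coprimes hco (orderOf_dvd_of_pow_eq_one h1) (orderOf_dvd_of_pow_eq_one hdZ.2.1))
  exact mul_inv_eq_iff_eq_mul.1 (mul_inv_eq_one.1 (hd.symm.trans hd1))

/-- Elements of order prime to `p` centralize `R`. -/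
theorem coprime_commute_R {u : G} (hu : u ∈ oddSub σ h) (hco : (orderOf u).Coprime p) :
    ∀ b ∈ coreP σ h p, Commute u b := by
  have D := k.red.frame
  have hua := k.coprime_commute_a hu hco
  have hUR : ∀ {b}, b ∈ coreP σ h p → u * b * u⁻¹ ∈ coreP σ h p :=
    fun hb => conj_coreP D (commute_J D hu) hb
  have hkill : ∀ {d b : G}, Commute u d → u * b * u⁻¹ = d * b → d ∈ coreP σ h p → d = 1 := by
    intro d b hud e hdR
    have h1 := pow_conj_comm e hud (orderOf u)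
    rw [pow_orderOf_eq_one, one_mul, inv_one, mul_one, right_eq_mul] at h1
    obtain ⟨i, hi⟩ := isPGroup_coreP (p := p) ⟨d, hdR⟩
    exact orderOf_eq_one_iff.1 (Nat.eq_one_of_dvd_coprimes (hco.pow_right i)
      (orderOf_dvd_of_pow_eq_one h1) (orderOf_dvd_of_pow_eq_one (congrArg Subtype.val hi)))
  have hcc : ∀ {b}, b ∈ centA σ h p a → u * b * u⁻¹ ∈ centA σ h p a := by
    intro b hb
    refine mem_centA.2 ⟨hUR (mem_centA.1 hb).1, ?_⟩
    exact (hua.mul_left (mem_centA.1 hb).2).mul_left hua.inv_left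
  let f : centA σ h p a →* G := MonoidHom.mk' (fun b => u * b * u⁻¹ * (b : G)⁻¹) fun b b' => by
    show u * ((b : G) * b') * u⁻¹ * ((b : G) * b')⁻¹ = _
    calc u * ((b : G) * b') * u⁻¹ * ((b : G) * b')⁻¹
        = u * (b : G) * u⁻¹ * (u * (b' : G) * u⁻¹ * (b' : G)⁻¹ * (b : G)⁻¹) := by group
      _ = u * (b : G) * u⁻¹ * ((b : G)⁻¹ * (u * (b' : G) * u⁻¹ * (b' : G)⁻¹)) := by
          rw [(k.centA_comm (mul_mem (hcc b'.2) (inv_mem b'.2)) (inv_mem b.2)).eq]
      _ = _ := by group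
  have hfC : ∀ b : centA σ h p a, f b ∈ centA σ h p a := fun b => mul_mem (hcc b.2) (inv_mem b.2)
  have hC : ∀ b ∈ centA σ h p a, Commute u b := by
    intro b hb
    by_contra hne
    have hb1 : f ⟨b, hb⟩ ≠ 1 := fun e => hne (mul_inv_eq_iff_eq_mul.1 (mul_inv_eq_one.1 e))
    have hXn : ∀ g ∈ coreP σ h p, ∀ y ∈ f.range, g * y * g⁻¹ ∈ f.range := by
      rintro g hg _ ⟨b', rfl⟩
      refine ⟨⟨g * b' * g⁻¹, k.centA_normal hg b'.2⟩, ?_⟩
      show u * (g * (b' : G) * g⁻¹) * u⁻¹ * (g * (b' : G) * g⁻¹)⁻¹ =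
        g * (u * (b' : G) * u⁻¹ * (b' : G)⁻¹) * g⁻¹
      obtain ⟨t, ht⟩ : ∃ t, t = u⁻¹ * (g * u * g⁻¹) := ⟨_, rfl⟩
      have htC : t ∈ centA σ h p a := by
        refine mem_centA.2 ⟨?_, ?_⟩
        · rw [ht, show u⁻¹ * (g * u * g⁻¹) = u⁻¹ * g * u⁻¹⁻¹ * g⁻¹ by group]
          exact mul_mem (conj_coreP D (commute_J D hu).inv_left hg) (inv_mem hg)
        · have hgU := coreP_le hg
          refine mul_inv_eq_iff_eq_mul.1 (mul_inv_eq_one.1 ?_)
          rw [ht, k.comm_mul (inv_mem hu) (mul_mem (mul_mem hgU hu) (inv_mem hgU)),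
            k.comm_mul (mul_mem hgU hu) (inv_mem hgU), k.comm_mul hgU hu]
          simp only [hua.eq, hua.inv_left.eq, mul_inv_cancel_right, mul_inv_cancel, one_mul, mul_one]
          rw [← k.comm_mul hgU (inv_mem hgU)]
          simp
      calc u * (g * (b' : G) * g⁻¹) * u⁻¹ * (g * (b' : G) * g⁻¹)⁻¹
          = u * (t * (g * (b' : G) * g⁻¹) * t⁻¹) * u⁻¹ * (g * (b' : G) * g⁻¹)⁻¹ := by
            rw [(k.centA_comm htC (k.centA_normal hg b'.2)).eq, mul_inv_cancel_right]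
        _ = _ := by rw [ht]; group
    obtain ⟨w, ⟨b', rfl⟩, hwc, hw1⟩ := k.red.exists_centR_mem (X := f.range)
      (by rintro _ ⟨b', rfl⟩; exact (mem_centA.1 (hfC b')).1) hXn ⟨⟨b, hb⟩, rfl⟩ hb1
    exact hw1 (hkill (k.red.centU _ hwc u hu)
        (show u * (b' : G) * u⁻¹ = f b' * b' by show _ = u * (b' : G) * u⁻¹ * (b' : G)⁻¹ * b'; rw [inv_mul_cancel_right])
        (mem_centA.1 (hfC b')).1)
  obtain ⟨r₀, hr₀, hz₀⟩ := k.exists_noncomm
  have hr : Commute u r₀ := by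
    obtain ⟨d, hd⟩ : ∃ d, d = u * r₀ * u⁻¹ * r₀⁻¹ := ⟨_, rfl⟩
    have hdC : d ∈ centA σ h p a := by
      refine mem_centA.2 ⟨hd ▸ mul_mem (hUR hr₀) (inv_mem hr₀), ?_⟩
      refine mul_inv_eq_iff_eq_mul.1 (mul_inv_eq_one.1 ?_)
      have hrU := coreP_le hr₀
      rw [hd, k.comm_mul (mul_mem (mul_mem hu hrU) (inv_mem hu)) (inv_mem hrU),
        k.comm_mul (mul_mem hu hrU) (inv_mem hu), k.comm_mul hu hrU]
      simp only [hua.eq, hua.inv_left.eq, mul_inv_cancel_right, mul_inv_cancel, one_mul, mul_one]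
      rw [← k.comm_mul hrU (inv_mem hrU)]
      simp
    exact mul_inv_eq_iff_eq_mul.1 (mul_inv_eq_one.1 (hd.symm.trans
      (hkill (hC d hdC) (show u * r₀ * u⁻¹ = d * r₀ by rw [hd]; group) (mem_centA.1 hdC).1)))
  intro b hb
  obtain ⟨n, hn⟩ := k.decompose hr₀ hz₀ hb
  have := (hr.pow_right n).mul_right (hC _ hn)
  rwa [mul_inv_cancel_left] at this

theorem coprime_central {u : G} (hu : u ∈ oddSub σ h) (hco : (orderOf u).Coprime p) :
    ∀ v ∈ oddSub σ h, Commute v u := by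
  have D := k.red.frame
  have hF : u ∈ fitSub σ h := mem_fitSub_of_commute D hu (commute_fitSub D fun r hr b hb => by
    by_cases hrp : r = p
    · subst hrp
      exact k.coprime_commute_R hu hco b hb
    · exact ((k.red.other hr hrp).1 b hb u hu))
  intro v hv
  refine (Subgroup.mem_centralizer_singleton_iff.1 ?_ : u * v = v * u).symm
  refine mem_of_prime_parts (Subgroup.centralizer ({v} : Set G)) fun r i hr hi => ?_
  rcases Nat.eq_zero_or_pos i with rfl | hi0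
  · rw [pow_zero, Nat.div_one, pow_orderOf_eq_one]
    exact one_mem _
  refine Subgroup.mem_centralizer_singleton_iff.2 ((k.red.other hr ?_).1 _
    (mem_coreP_of_mem_fitSub D hr (pow_mem hF _) (k := i) ?_) v hv).symm.eq
  · rintro rfl
    exact hr.not_dvd_one (hco ▸ Nat.dvd_gcd ((dvd_pow_self r (by omega)).trans hi) dvd_rfl)
  · rw [← pow_mul, Nat.div_mul_cancel hi, pow_orderOf_eq_one]

/-- `U` is nilpotent. -/
theorem oddSub_le_fit : oddSub σ h ≤ fitSub σ h := by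
  haveI : Fact p.Prime := ⟨k.red.prime⟩
  have hQ : IsPGroup p (oddSub σ h ⧸ Subgroup.center (oddSub σ h)) := by
    intro q
    obtain ⟨g, rfl⟩ := QuotientGroup.mk_surjective q
    obtain ⟨i, m, hm, hgm⟩ := Nat.exists_eq_pow_mul_and_not_dvd (orderOf_pos g).ne' p
      k.red.prime.ne_one
    refine ⟨i, ?_⟩
    rw [← QuotientGroup.mk_pow, QuotientGroup.eq_one_iff, Subgroup.mem_center_iff]
    intro v
    refine Subtype.ext ?_
    refine k.coprime_central (g ^ p ^ i).2 ?_ v v.2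
    rw [Subgroup.orderOf_coe, orderOf_pow_of_dvd (pow_ne_zero _ k.red.prime.ne_zero)
      (hgm ▸ dvd_mul_right _ _), hgm, Nat.mul_div_cancel_left _ (pow_pos k.red.prime.pos _)]
    exact (k.red.prime.coprime_iff_not_dvd.2 hm).symm
  haveI := hQ.isNilpotent
  haveI : Group.IsNilpotent (oddSub σ h) :=
    Subgroup.isNilpotent_of_ker_le_center (QuotientGroup.mk' (Subgroup.center (oddSub σ h)))
      (QuotientGroup.ker_mk' _).le
  intro u hu
  exact ⟨⟨u, hu⟩, Cfsg.Lib.Core.le_fittingSubgroup (N := ⊤)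
    (Group.nilpotent_of_mulEquiv Subgroup.topEquiv.symm) (Subgroup.mem_top _), rfl⟩

theorem fixed_mem_fixR {x : G} (hx : x ∈ (P : Subgroup G)) (hx' : x ∉ Subgroup.zpowers σ) {u : G}
    (hu : u ∈ oddSub σ h) (hux : Commute u x) : u ∈ fixR σ x h p := by
  refine mem_fixR.2 ⟨mem_of_prime_parts _ fun r i hr hi => ?_, hux⟩
  have hmem := mem_coreP_of_mem_fitSub k.red.frame hr (pow_mem (k.oddSub_le_fit hu)
    (orderOf u / r ^ i)) (k := i) (by rw [← pow_mul, Nat.div_mul_cancel hi, pow_orderOf_eq_one])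
  by_cases hrp : r = p
  · subst hrp
    exact hmem
  obtain ⟨hx2, -, -⟩ := reflection_mem k.red.frame hx hx'
  rw [eq_one_of_inverted k.red.frame (coreP_le hmem) (hux.pow_left _).symm
    (by rw [inv_eq_of_mul_eq_one_right hx2]; exact (k.red.other hr hrp).2 x hx hx' _ hmem)]
  exact one_mem _

/-- `C_U(a)` lies in `N`. -/
theorem torus_iff {s : G} :
    s ∈ oddSub σ h ⊓ c.sub ↔ s ∈ oddSub σ h ⊓ N ∧ τ * s * τ = s⁻¹ :=
  ⟨fun hs => ⟨⟨hs.1, c.sub_le hs.2⟩, k.sub_inverted hs.2 hs.1⟩, fun hs => ⟨hs.1.1,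
    c.inverted_mem k.memτ k.red.frame.sqτ hs.1.2 (odd_orderOf k.red.frame hs.1.1) hs.2⟩⟩

theorem fixR_commute_a {w : G} (hw : w ∈ fixR σ τ h p) : Commute w a :=
  (k.fixed_commute k.amem k.afix (mem_fixR.1 hw).1 (mem_fixR.1 hw).2).symm

/-- `|U| = p |C_R(τ)| |T|`. -/
theorem card_oddSub :
    Nat.card (oddSub σ h) =
      p * (Nat.card (fixR σ τ h p) * Nat.card ↥(oddSub σ h ⊓ c.sub)) := by
  classical
  have D := k.red.frame
  let f : oddSub σ h →* omegaZ σ h p :=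
    MonoidHom.mk' (fun u => ⟨(u : G) * a * (u : G)⁻¹ * a⁻¹, k.comm_omega u.2⟩)
      fun u v => Subtype.ext (k.comm_mul u.2 v.2)
  have hsurj : f.range = ⊤ := by
    haveI : Fact (Nat.Prime (Nat.card ↥(omegaZ σ h p))) := ⟨k.card_omega.symm ▸ k.red.prime⟩
    refine (Subgroup.eq_bot_or_eq_top_of_prime_card f.range).resolve_left fun hb => ?_
    obtain ⟨r₀, hr₀, hz₀⟩ := k.exists_noncomm
    have h1 : f ⟨r₀, coreP_le hr₀⟩ ∈ f.range := MonoidHom.mem_range.2 ⟨_, rfl⟩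
    rw [hb] at h1
    have h2 : Commute r₀ a :=
      mul_inv_eq_iff_eq_mul.1 (mul_inv_eq_one.1 (congrArg Subtype.val (Subgroup.mem_bot.1 h1)))
    exact hz₀ (by rw [h2.symm.eq, mul_inv_cancel_right, mul_inv_cancel])
  have hker : ∀ {u : oddSub σ h}, u ∈ f.ker ↔ Commute (u : G) a := fun {u} =>
    ⟨fun hu => mul_inv_eq_iff_eq_mul.1 (mul_inv_eq_one.1 (congrArg Subtype.val (MonoidHom.mem_ker.1 hu))),
      fun hu => MonoidHom.mem_ker.2 (Subtype.ext (by
        show (u : G) * a * (u : G)⁻¹ * a⁻¹ = 1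
        rw [hu.eq, mul_inv_cancel_right, mul_inv_cancel]))⟩
  rw [← Subgroup.index_mul_card f.ker, Subgroup.index_ker, hsurj, Subgroup.card_top, k.card_omega,
    ← Nat.card_prod]
  congr 1
  have hdata : ∀ q : fixR σ τ h p × ↥(oddSub σ h ⊓ c.sub),
      Commute (q.1 : G) τ ∧ τ * (q.2 : G) * τ = (q.2 : G)⁻¹ := fun q =>
    ⟨(mem_fixR.1 q.1.2).2, (k.torus_iff.1 q.2.2).2⟩
  refine (Nat.card_congr (Equiv.ofBijective (fun q : fixR σ τ h p × ↥(oddSub σ h ⊓ c.sub) =>
    (⟨⟨(q.1 : G) * q.2, mul_mem (coreP_le (mem_fixR.1 q.1.2).1) q.2.2.1⟩,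
      hker.2 ((k.fixR_commute_a q.1.2).mul_left (k.sub_commute_a q.2.2.2))⟩ : f.ker)) ⟨?_, ?_⟩)).symm
  · rintro ⟨w, s⟩ ⟨w', s'⟩ e
    have e' : (w : G) * s = w' * s' := congrArg (fun y : f.ker => ((y : oddSub σ h) : G)) e
    have hm : (w' : G)⁻¹ * w = s' * (s : G)⁻¹ := by
      rw [eq_mul_inv_iff_mul_eq, mul_assoc, e', inv_mul_cancel_left]
    have hmem : (s' : G) * (s : G)⁻¹ ∈ oddSub σ h ⊓ c.sub := mul_mem s'.2 (inv_mem s.2)
    have h1 : (w' : G)⁻¹ * w = 1 := eq_one_of_inverted D (hm ▸ hmem.1)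
      (((hdata (w', s')).1.inv_left).mul_left (hdata (w, s)).1).symm
      (by rw [D.τ_inv, hm]; exact (k.torus_iff.1 hmem).2)
    obtain rfl : w' = w := Subtype.ext (inv_mul_eq_one.1 h1)
    obtain rfl : s = s' := Subtype.ext (mul_left_cancel e')
    rfl
  · rintro ⟨⟨u, hu⟩, huk⟩
    have hua : Commute u a := hker.1 huk
    have hn : τ ∈ Subgroup.normalizer
        ((oddSub σ h ⊓ Subgroup.centralizer ({a} : Set G) : Subgroup G) : Set G) :=
      Subgroup.mem_normalizer_fintype fun y (hy : y ∈ oddSub σ h ⊓ _) =>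
        ⟨conj_oddSub D k.red.tauJ hy.1, Subgroup.mem_centralizer_singleton_iff.2
          ((k.afix.symm.mul_left (show Commute y a from Subgroup.mem_centralizer_singleton_iff.1 hy.2)).mul_left
            k.afix.symm.inv_left).eq⟩
    obtain ⟨w, hw, i, hi, hwτ, hii, rfl⟩ := InvAct.exists_split
      ((odd_card_oddSub D).of_dvd_nat (Subgroup.card_dvd_of_le inf_le_left)) D.sqτ hn
      (show u ∈ oddSub σ h ⊓ Subgroup.centralizer ({a} : Set G) from
        ⟨hu, Subgroup.mem_centralizer_singleton_iff.2 hua.eq⟩)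
    exact ⟨(⟨w, k.fixed_mem_fixR k.red.tau.1 k.red.tau.2 hw.1 hwτ⟩,
      ⟨i, k.torus_iff.2 ⟨⟨hi.1, k.mem_of_commute' (Subgroup.mem_centralizer_singleton_iff.1 hi.2)⟩, hii⟩⟩),
      rfl⟩

/-- The elements of prime order of the torus lie in moved `O_r(U)`. -/
theorem torus_move {r : ℕ} (hr : r.Prime) (hd : r ∣ Nat.card ↥(oddSub σ h ⊓ c.sub)) {x : G}
    (hx : x ∈ (P : Subgroup G)) (hx' : x ∉ Subgroup.zpowers σ) :
    ∃ y ∈ coreP σ h r, ¬ Commute x y := by
  rcases eq_or_ne r p with rfl | hrp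
  · exact (k.red.at_reflection hx hx').move
  haveI : Fact r.Prime := ⟨hr⟩
  obtain ⟨w, hw⟩ := exists_prime_orderOf_dvd_card' r hd
  have hmem : (w : G) ∈ coreP σ h r :=
    mem_coreP_of_mem_fitSub k.red.frame hr (k.oddSub_le_fit w.2.1) (k := 1)
      (by rw [pow_one, ← hw, ← Subgroup.orderOf_coe, pow_orderOf_eq_one])
  refine ⟨w, hmem, fun hc => ?_⟩
  obtain ⟨hx2, -, -⟩ := reflection_mem k.red.frame hx hx'
  have hw1 := eq_one_of_inverted k.red.frame w.2.1 hc (by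
    rw [inv_eq_of_mul_eq_one_right hx2]; exact (k.red.other hr hrp).2 x hx hx' _ hmem)
  rw [← Subgroup.orderOf_coe, hw1, orderOf_one] at hw
  exact hr.one_lt.ne hw

end LineCtx

end Cfsg.Lib.GW.CMax
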