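import Cfsg.Agent.Lib.GW.CMax.ReduceLocal
import Cfsg.Agent.Lib.PGroup.Basic

/-!
# The reduction: a fixed point of exponent `p` in the second centre

By transfer `U` centralizes the sections on which `P` is scalar: `Z(R)`, the other `O_s(U)`.  So some
reflection fixes a nonidentity element of exponent `p` whose commutators with `R` lie in `Ω₁ Z(R)`.
-/

set_option autoImplicit false
set_option linter.unusedSectionVars false
set_option linter.style.haveILetI false
set_option maxHeartbeats 800000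

namespace Cfsg.Lib.GW.CMax

open Cfsg Cfsg.Lib.Block

universe u

variable {G : Type u} [Group G] [Fintype G] [Fact (Nat.Prime 2)]

/-- Powers of a product in class two. -/
theorem mul_pow_class_two {a b c : G} (hc : b * a = a * b * c) (ha : Commute a c) (hb : Commute b c)
    (n : ℕ) : (a * b) ^ n = a ^ n * b ^ n * c ^ n.choose 2 := by
  have hbn : ∀ m : ℕ, b ^ m * a = a * b ^ m * c ^ m := by
    intro m
    induction m with
    | zero => simp
    | succ m ih =>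
      calc b ^ (m + 1) * a = b * (b ^ m * a) := by rw [pow_succ']; group
        _ = b * a * (b ^ m * c ^ m) := by rw [ih]; group
        _ = a * b * (c * b ^ m) * c ^ m := by rw [hc]; group
        _ = a * b ^ (m + 1) * c ^ (m + 1) := by
            rw [← (hb.pow_left m).eq, pow_succ' b, pow_succ' c]; group
  induction n with
  | zero => simp
  | succ n ih =>
    have hca : Commute (c ^ n.choose 2) a := (ha.pow_right _).symm
    have hcb : Commute (c ^ n.choose 2) b := (hb.pow_right _).symm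
    calc (a * b) ^ (n + 1) = a ^ n * b ^ n * (c ^ n.choose 2 * (a * b)) := by
          rw [pow_succ, ih]; group
      _ = a ^ n * (b ^ n * a) * b * c ^ n.choose 2 := by rw [(hca.mul_right hcb).eq]; group
      _ = a ^ (n + 1) * b ^ n * (c ^ n * b) * c ^ n.choose 2 := by rw [hbn, pow_succ a]; group
      _ = a ^ (n + 1) * b ^ (n + 1) * c ^ (n + 1).choose 2 := by
          rw [(hb.pow_right n).symm.eq, Nat.choose_succ_succ n 1, Nat.choose_one_right, pow_add,
            pow_succ b]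
          group

/-- The elements of exponent `p` of `R` with commutators in `Ω₁ Z(R)`. -/
noncomputable def omegaE (σ : G) (h p : ℕ) : Subgroup G :=
  Subgroup.closure {y | y ∈ coreP σ h p ∧ y ^ p = 1 ∧
    ∀ b ∈ coreP σ h p, y * b * y⁻¹ * b⁻¹ ∈ omegaZ σ h p}

theorem comm_mul_mem {σ : G} {h p : ℕ} {y y' b : G} (hy : y ∈ coreP σ h p)
    (h1 : y * b * y⁻¹ * b⁻¹ ∈ omegaZ σ h p) (h2 : y' * b * y'⁻¹ * b⁻¹ ∈ omegaZ σ h p) :
    y * y' * b * (y * y')⁻¹ * b⁻¹ ∈ omegaZ σ h p := by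
  have e : y * y' * b * (y * y')⁻¹ * b⁻¹ =
      y * (y' * b * y'⁻¹ * b⁻¹) * y⁻¹ * (y * b * y⁻¹ * b⁻¹) := by group
  rw [e, (h2.2.2 y hy).symm.eq, mul_inv_cancel_right]
  exact mul_mem h2 h1

theorem comm_inv_mem {σ : G} {h p : ℕ} {y b : G} (hy : y ∈ coreP σ h p)
    (h1 : y * b * y⁻¹ * b⁻¹ ∈ omegaZ σ h p) :
    y⁻¹ * b * y⁻¹⁻¹ * b⁻¹ ∈ omegaZ σ h p := by
  have e : y⁻¹ * b * y⁻¹⁻¹ * b⁻¹ = y⁻¹ * (y * b * y⁻¹ * b⁻¹)⁻¹ * y := by group
  rw [e, ((inv_mem h1).2.2 y⁻¹ (inv_mem hy)).symm.eq, inv_mul_cancel_right]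
  exact inv_mem h1

theorem mem_omegaE {σ : G} {h p : ℕ} (hp : p.Prime) (hp2 : p ≠ 2) {y : G} :
    y ∈ omegaE σ h p ↔ y ∈ coreP σ h p ∧ y ^ p = 1 ∧
      ∀ b ∈ coreP σ h p, y * b * y⁻¹ * b⁻¹ ∈ omegaZ σ h p := by
  refine ⟨fun hy => ?_, fun hy => Subgroup.subset_closure hy⟩
  induction hy using Subgroup.closure_induction with
  | mem y hy => exact hy
  | one => exact ⟨one_mem _, one_pow p, fun b _ => by simp⟩
  | mul y y' _ _ h1 h2 =>
    refine ⟨mul_mem h1.1 h2.1, ?_, fun b hb => comm_mul_mem h1.1 (h1.2.2 b hb) (h2.2.2 b hb)⟩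
    have hc := h2.2.2 y h1.1
    obtain ⟨c, hcd⟩ : ∃ c, c = y' * y * y'⁻¹ * y⁻¹ := ⟨_, rfl⟩
    rw [← hcd] at hc
    have e : y' * y = y * y' * c := by
      rw [mul_assoc, ((hc.2.2 y' h2.1)).symm.eq, ← mul_assoc, ((hc.2.2 y h1.1)).symm.eq, hcd]
      group
    rw [mul_pow_class_two e (hc.2.2 y h1.1).symm (hc.2.2 y' h2.1).symm, h1.2.1, h2.2.1, one_mul,
      one_mul]
    obtain ⟨k, hk⟩ := hp.dvd_choose_self (by norm_num : (2 : ℕ) ≠ 0)
      (by have := hp.two_le; omega : 2 < p)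
    rw [hk, pow_mul, hc.2.1, one_pow]
  | inv y _ h1 =>
    exact ⟨inv_mem h1.1, by rw [inv_pow, h1.2.1, inv_one], fun b hb => comm_inv_mem h1.1 (h1.2.2 b hb)⟩

variable {P : Sylow 2 G} {σ τ : G} {h p : ℕ}

namespace RedCtx

variable (r : RedCtx P σ τ h p)

include r

/-- Transfer: `U` centralizes a section on which every reflection is scalar. -/
theorem central_of_scalar (X Z₀ : Subgroup G) (hX : X ≤ oddSub σ h)
    (hXC : ∀ g, Commute g (σ ^ h) → ∀ a ∈ X, g * a * g⁻¹ ∈ X)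
    (hZC : ∀ g, Commute g (σ ^ h) → ∀ a ∈ Z₀, g * a * g⁻¹ ∈ Z₀)
    (hs : ∀ x ∈ (P : Subgroup G), x ∉ Subgroup.zpowers σ →
      (∀ a ∈ X, x * a * x * a⁻¹ ∈ Z₀) ∨ ∀ a ∈ X, x * a * x * a ∈ Z₀)
    {u a : G} (hu : u ∈ oddSub σ h) (ha : a ∈ X) : u * a * u⁻¹ * a⁻¹ ∈ Z₀ := by
  classical
  have D := r.frame
  haveI := r.gw.isSimple
  have hC : ∀ g : Subgroup.centralizer ({σ ^ h} : Set G), Commute (g : G) (σ ^ h) :=
    fun g => Subgroup.mem_centralizer_singleton_iff.1 g.2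
  haveI : (Z₀.subgroupOf X).Normal := ⟨fun z hz b => Subgroup.mem_subgroupOf.2 (by
    show (b : G) * z * (b : G)⁻¹ ∈ Z₀
    exact hZC _ (commute_J D (hX b.2)) _ (Subgroup.mem_subgroupOf.1 hz))⟩
  let cX : Subgroup.centralizer ({σ ^ h} : Set G) → (X →* X) := fun g =>
    MonoidHom.mk' (fun b => ⟨(g : G) * b * (g : G)⁻¹, hXC _ (hC g) _ b.2⟩) fun b b' =>
      Subtype.ext (show (g : G) * ((b : G) * b') * (g : G)⁻¹ =
        (g : G) * b * (g : G)⁻¹ * ((g : G) * b' * (g : G)⁻¹) by group)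
  let act : Subgroup.centralizer ({σ ^ h} : Set G) → (X ⧸ Z₀.subgroupOf X →* X ⧸ Z₀.subgroupOf X) :=
    fun g => QuotientGroup.map _ _ (cX g) fun b hb =>
      Subgroup.mem_subgroupOf.2 (hZC _ (hC g) _ (Subgroup.mem_subgroupOf.1 hb))
  have hmk : ∀ g (b : X), act g b = ((cX g b : X) : X ⧸ Z₀.subgroupOf X) := fun g b => rfl
  have hone : ∀ q, act 1 q = q := fun q => by
    obtain ⟨b, rfl⟩ := QuotientGroup.mk_surjective q
    rw [hmk]
    exact congrArg _ (Subtype.ext (show (1 : G) * b * 1⁻¹ = b by group))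
  have hcomp : ∀ g g' q, act (g * g') q = act g (act g' q) := fun g g' q => by
    obtain ⟨b, rfl⟩ := QuotientGroup.mk_surjective q
    rw [hmk, hmk, hmk]
    exact congrArg _ (Subtype.ext (show ((g : G) * g') * b * ((g : G) * g')⁻¹ =
      (g : G) * (g' * b * (g' : G)⁻¹) * (g : G)⁻¹ by group))
  let ρ : Subgroup.centralizer ({σ ^ h} : Set G) →* Equiv.Perm (X ⧸ Z₀.subgroupOf X) :=
    MonoidHom.mk' (fun g => ⟨act g, act g⁻¹, fun q => by rw [← hcomp, inv_mul_cancel, hone],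
      fun q => by rw [← hcomp, mul_inv_cancel, hone]⟩) fun g g' => Equiv.ext (hcomp g g')
  have href : ∀ z : Subgroup.centralizer ({σ ^ h} : Set G), (z : G) ∈ (P : Subgroup G) →
      (z : G) ∉ Subgroup.zpowers σ → ∀ g, Commute (ρ z) (ρ g) := by
    intro z hzP hzσ g
    have hzi : (z : G)⁻¹ = z := inv_eq_of_mul_eq_one_right (D.sq_outside hzP hzσ)
    rcases hs z hzP hzσ with h' | h'
    · have hz1 : ρ z = 1 := Equiv.ext fun q => by
        obtain ⟨b, rfl⟩ := QuotientGroup.mk_surjective q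
        show act z b = _
        rw [hmk, Equiv.Perm.one_apply, QuotientGroup.eq_iff_div_mem, Subgroup.mem_subgroupOf,
          div_eq_mul_inv]
        show (z : G) * b * (z : G)⁻¹ * (b : G)⁻¹ ∈ Z₀
        rw [hzi]
        exact h' b b.2
      rw [hz1]
      exact Commute.one_left _
    · have hz1 : ∀ q, act z q = q⁻¹ := fun q => by
        obtain ⟨b, rfl⟩ := QuotientGroup.mk_surjective q
        rw [hmk, ← QuotientGroup.mk_inv, QuotientGroup.eq_iff_div_mem, Subgroup.mem_subgroupOf,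
          div_inv_eq_mul]
        show (z : G) * b * (z : G)⁻¹ * (b : G) ∈ Z₀
        rw [hzi]
        exact h' b b.2
      refine Equiv.ext fun q => ?_
      show act z (act g q) = act g (act z q)
      rw [hz1, hz1, map_inv]
  have hP : ∀ z : Subgroup.centralizer ({σ ^ h} : Set G), (z : G) ∈ (P : Subgroup G) →
      ∀ g, Commute (ρ z) (ρ g) := by
    intro z hzP g
    by_cases hzσ : (z : G) ∈ Subgroup.zpowers σ
    · let t : Subgroup.centralizer ({σ ^ h} : Set G) :=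
        ⟨τ, Subgroup.mem_centralizer_singleton_iff.2 r.tauJ.eq⟩
      have e : z = z * t * t := by
        rw [mul_assoc, show t * t = 1 from Subtype.ext D.sqτ, mul_one]
      rw [e, map_mul]
      refine (href (z * t) (mul_mem hzP r.tau.1) (fun hm => r.tau.2 ?_) g).mul_left
        (href t r.tau.1 r.tau.2 g)
      exact (Subgroup.mul_mem_cancel_left _ hzσ).1 hm
    · exact href z hzP hzσ g
  have h1 := hom_kills D r.na r.conjJ r.rotorAll (solvable_centralizer D r.gw) ρ hP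
    ⟨u, Subgroup.mem_centralizer_singleton_iff.2 (commute_J D hu).eq⟩ hu
  have h2 : ρ _ ((⟨a, ha⟩ : X) : X ⧸ Z₀.subgroupOf X) = _ := DFunLike.congr_fun h1 _
  rw [Equiv.Perm.one_apply] at h2
  replace h2 : act ⟨u, Subgroup.mem_centralizer_singleton_iff.2 (commute_J D hu).eq⟩
      ((⟨a, ha⟩ : X) : X ⧸ Z₀.subgroupOf X) = ((⟨a, ha⟩ : X) : X ⧸ Z₀.subgroupOf X) := h2
  rw [hmk, QuotientGroup.eq_iff_div_mem, Subgroup.mem_subgroupOf, div_eq_mul_inv] at h2
  exact h2

theorem centR_inverted {y : G} (hy : y ∈ centR σ h p) : τ * y * τ = y⁻¹ := by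
  have D := r.frame
  have hcj : ∀ {y}, y ∈ centR σ h p → τ * y * τ⁻¹ ∈ centR σ h p := by
    intro y hy
    obtain ⟨hyR, hyc⟩ := mem_centR.1 hy
    refine mem_centR.2 ⟨conj_coreP D r.tauJ hyR, fun b hb => ?_⟩
    have := (hyc _ (conj_coreP D r.tauJ.inv_left hb)).map (MulAut.conj τ).toMonoidHom
    simp only [MulEquiv.coe_toMonoidHom, MulAut.conj_apply, inv_inv] at this
    rwa [show τ * (τ⁻¹ * b * τ) * τ⁻¹ = b by group] at this
  obtain ⟨w, hw, i, -, hwτ, hii, rfl⟩ := InvAct.exists_split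
    ((odd_card_oddSub D).of_dvd_nat (Subgroup.card_dvd_of_le
      (show centR σ h p ≤ oddSub σ h from fun _ hd => coreP_le (mem_centR.1 hd).1)))
    D.sqτ (Subgroup.mem_normalizer_fintype fun y hy => hcj hy) hy
  suffices hw1 : w = 1 by rw [hw1, one_mul]; exact hii
  by_contra hw1
  obtain ⟨b, hb, hb1, hbp, -⟩ := exists_central_prime r.prime
    (B := Subgroup.zpowers w) ((isPGroup_coreP (p := p)).to_le
      (Subgroup.zpowers_le.2 (mem_centR.1 hw).1)) ⟨w, Subgroup.mem_zpowers w, hw1⟩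
  obtain ⟨m, rfl⟩ := Subgroup.mem_zpowers_iff.1 hb
  exact hb1 (r.fixed_omega ⟨(mem_centR.1 (zpow_mem hw m)).1, hbp, (mem_centR.1 (zpow_mem hw m)).2⟩
    (hwτ.zpow_left m))

/-- `Z(R)` is central in `U`. -/
theorem centU : ∀ d ∈ centR σ h p, ∀ u ∈ oddSub σ h, Commute u d := by
  intro d hd u hu
  have D := r.frame
  refine mul_inv_eq_iff_eq_mul.1 (mul_inv_eq_one.1 (Subgroup.mem_bot.1
    (r.central_of_scalar (centR σ h p) ⊥ (fun _ hd => coreP_le (mem_centR.1 hd).1) ?_ ?_ ?_ hu hd)))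
  · intro g hg a ha
    obtain ⟨haR, hac⟩ := mem_centR.1 ha
    refine mem_centR.2 ⟨conj_coreP D hg haR, fun b hb => ?_⟩
    have := (hac _ (conj_coreP D hg.inv_left hb)).map (MulAut.conj g).toMonoidHom
    simp only [MulEquiv.coe_toMonoidHom, MulAut.conj_apply, inv_inv] at this
    rwa [show g * (g⁻¹ * b * g) * g⁻¹ = b by group] at this
  · intro g _ a ha
    rw [Subgroup.mem_bot.1 ha, mul_one, mul_inv_cancel]
    exact one_mem _
  · intro x hx hx'
    refine Or.inr fun a ha => Subgroup.mem_bot.2 ?_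
    rw [(r.at_reflection hx hx').centR_inverted ha, inv_mul_cancel]

theorem omega_central {z u : G} (hz : z ∈ omegaZ σ h p) (hu : u ∈ oddSub σ h) : Commute u z :=
  r.centU z (mem_centR.2 ⟨hz.1, hz.2.2⟩) u hu

/-- The other `O_s(U)` are central in `U` and inverted by every reflection. -/
theorem other {s : ℕ} (hs : s.Prime) (hsp : s ≠ p) :
    (∀ a ∈ coreP σ h s, ∀ u ∈ oddSub σ h, Commute u a) ∧
      ∀ x ∈ (P : Subgroup G), x ∉ Subgroup.zpowers σ → ∀ a ∈ coreP σ h s, x * a * x = a⁻¹ := by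
  have D := r.frame
  have hinv : ∀ x ∈ (P : Subgroup G), x ∉ Subgroup.zpowers σ → ∀ a ∈ coreP σ h s,
      x * a * x = a⁻¹ := by
    intro x hx hx' a ha
    obtain ⟨N, c, hJ, hτ, hN⟩ := (r.at_reflection hx hx').exists_local
    exact ((r.at_reflection hx hx').core_inverted c hJ hτ hN hs hsp ha).2
  refine ⟨fun a ha u hu => mul_inv_eq_iff_eq_mul.1 (mul_inv_eq_one.1 (Subgroup.mem_bot.1
    (r.central_of_scalar (coreP σ h s) ⊥ coreP_le (fun g hg b hb => conj_coreP D hg hb) ?_ ?_ hu ha))),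
    hinv⟩
  · intro g _ b hb
    rw [Subgroup.mem_bot.1 hb, mul_one, mul_inv_cancel]
    exact one_mem _
  · intro x hx hx'
    refine Or.inr fun b hb => Subgroup.mem_bot.2 ?_
    rw [hinv x hx hx' b hb, inv_mul_cancel]

theorem conj_omegaE {g y : G} (hg : Commute g (σ ^ h)) (hy : y ∈ omegaE σ h p) :
    g * y * g⁻¹ ∈ omegaE σ h p := by
  obtain ⟨hyR, hyp, hyc⟩ := (mem_omegaE r.prime r.ne_two).1 hy
  refine (mem_omegaE r.prime r.ne_two).2
    ⟨conj_coreP r.frame hg hyR, by rw [conj_pow, hyp, mul_one, mul_inv_cancel], fun b hb => ?_⟩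
  have hb' : g⁻¹ * b * g ∈ coreP σ h p := by
    have := conj_coreP r.frame hg.inv_left hb
    rwa [inv_inv] at this
  rw [show g * y * g⁻¹ * b * (g * y * g⁻¹)⁻¹ * b⁻¹ =
    g * (y * (g⁻¹ * b * g) * y⁻¹ * (g⁻¹ * b * g)⁻¹) * g⁻¹ by group]
  exact conj_omegaZ r.frame hg (hyc _ hb')

/-- Some reflection fixes a nonidentity element of `omegaE`. -/
theorem exists_fixed : ∃ x ∈ (P : Subgroup G), x ∉ Subgroup.zpowers σ ∧
    ∃ a ∈ omegaE σ h p, a ≠ 1 ∧ Commute a x := by
  classical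
  by_contra hno
  push Not at hno
  have D := r.frame
  haveI : Fact p.Prime := ⟨r.prime⟩
  -- the elements of the second centre with central `p`-th power
  let V : Subgroup G :=
    { carrier := {y | y ∈ coreP σ h p ∧ y ^ p ∈ centR σ h p ∧
        ∀ b ∈ coreP σ h p, y * b * y⁻¹ * b⁻¹ ∈ omegaZ σ h p}
      one_mem' := ⟨one_mem _, by rw [one_pow]; exact one_mem _, fun b _ => by simp⟩
      mul_mem' := fun {y y'} h1 h2 => by
        refine ⟨mul_mem h1.1 h2.1, ?_, fun b hb => comm_mul_mem h1.1 (h1.2.2 b hb) (h2.2.2 b hb)⟩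
        obtain ⟨c, hcd⟩ : ∃ c, c = y' * y * y'⁻¹ * y⁻¹ := ⟨_, rfl⟩
        have hc := h2.2.2 y h1.1
        rw [← hcd] at hc
        have e : y' * y = y * y' * c := by
          rw [mul_assoc, (hc.2.2 y' h2.1).symm.eq, ← mul_assoc, (hc.2.2 y h1.1).symm.eq, hcd]
          group
        rw [mul_pow_class_two e (hc.2.2 y h1.1).symm (hc.2.2 y' h2.1).symm]
        exact mul_mem (mul_mem h1.2.1 h2.2.1) (pow_mem (mem_centR.2 ⟨hc.1, hc.2.2⟩) _)
      inv_mem' := fun {y} h1 =>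
        ⟨inv_mem h1.1, by rw [inv_pow]; exact inv_mem h1.2.1, fun b hb => comm_inv_mem h1.1 (h1.2.2 b hb)⟩ }
  have hVR : V ≤ coreP σ h p := fun _ hy => hy.1
  have hVC : ∀ g, Commute g (σ ^ h) → ∀ y ∈ V, g * y * g⁻¹ ∈ V := by
    intro g hg y hy
    refine ⟨conj_coreP D hg hy.1, ?_, fun b hb => ?_⟩
    · rw [conj_pow]
      obtain ⟨hcR, hcc⟩ := mem_centR.1 hy.2.1
      refine mem_centR.2 ⟨conj_coreP D hg hcR, fun b hb => ?_⟩
      have := (hcc _ (conj_coreP D hg.inv_left hb)).map (MulAut.conj g).toMonoidHom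
      simp only [MulEquiv.coe_toMonoidHom, MulAut.conj_apply, inv_inv] at this
      rwa [show g * (g⁻¹ * b * g) * g⁻¹ = b by group] at this
    · have hb' : g⁻¹ * b * g ∈ coreP σ h p := by
        have := conj_coreP D hg.inv_left hb
        rwa [inv_inv] at this
      rw [show g * y * g⁻¹ * b * (g * y * g⁻¹)⁻¹ * b⁻¹ =
        g * (y * (g⁻¹ * b * g) * y⁻¹ * (g⁻¹ * b * g)⁻¹) * g⁻¹ by group]
      exact conj_omegaZ D hg (hy.2.2 _ hb')
  have hVU : V ≤ oddSub σ h := hVR.trans coreP_le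
  have hinvV : ∀ x ∈ (P : Subgroup G), x ∉ Subgroup.zpowers σ → ∀ y ∈ V, x * y * x = y⁻¹ := by
    intro x hx hx' y hy
    have hxJ := D.central_involution.2.2 x hx
    obtain ⟨w, hw, i, -, hwx, hii, rfl⟩ := InvAct.exists_split
      ((odd_card_oddSub D).of_dvd_nat (Subgroup.card_dvd_of_le hVU)) (D.sq_outside hx hx')
      (Subgroup.mem_normalizer_fintype fun y hy => hVC x hxJ y hy) hy
    suffices hw1 : w = 1 by rw [hw1, one_mul]; exact hii
    have hwp : w ^ p = 1 :=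
      eq_one_of_inverted D (coreP_le (mem_centR.1 hw.2.1).1) (hwx.pow_left p).symm
        (by rw [inv_eq_of_mul_eq_one_right (D.sq_outside hx hx')]
            exact (r.at_reflection hx hx').centR_inverted hw.2.1)
    by_contra hw1
    exact hno x hx hx' w ((mem_omegaE r.prime r.ne_two).2 ⟨hw.1, hwp, hw.2.2⟩) hw1 hwx
  have hVcen : ∀ y ∈ V, y ∈ centR σ h p := fun y hy => mem_centR.2 ⟨hy.1, fun b hb =>
    (mul_inv_eq_iff_eq_mul.1 (mul_inv_eq_one.1 (Subgroup.mem_bot.1 (r.central_of_scalar V ⊥ hVU hVC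
      (fun g _ a ha => by rw [Subgroup.mem_bot.1 ha, mul_one, mul_inv_cancel]; exact one_mem _)
      (fun x hx hx' => Or.inr fun a ha => Subgroup.mem_bot.2 (by
        rw [hinvV x hx hx' a ha, inv_mul_cancel])) (coreP_le hb) hy))) : Commute b y).symm⟩
  -- but `V` is not central
  set R := coreP σ h p with hRdef
  have hRp : IsPGroup p R := isPGroup_coreP
  have hQ : ∃ q : R ⧸ Subgroup.center R, q ≠ 1 := by
    by_contra hall
    push Not at hall
    obtain ⟨a, ha, ha1, haτ⟩ := r.fix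
    have hac : a ∈ centR σ h p := ⟨⟨a, ha⟩, (QuotientGroup.eq_one_iff _).1 (hall _), rfl⟩
    exact ha1 (eq_one_of_inverted D (coreP_le ha) haτ
      (by rw [D.τ_inv]; exact r.centR_inverted hac))
  obtain ⟨q, hq⟩ := hQ
  haveI : Nontrivial (R ⧸ Subgroup.center R) := ⟨⟨q, 1, hq⟩⟩
  have hQp : IsPGroup p (R ⧸ Subgroup.center R) := hRp.to_quotient _
  haveI := hQp.center_nontrivial
  obtain ⟨k, hk⟩ : ∃ k : Subgroup.center (R ⧸ Subgroup.center R), orderOf k = p := by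
    obtain ⟨n, hn0, hn⟩ := (hQp.to_subgroup
      (Subgroup.center (R ⧸ Subgroup.center R))).nontrivial_iff_card.1 inferInstance
    exact exists_prime_orderOf_dvd_card' p (hn ▸ dvd_pow_self p (by omega))
  obtain ⟨y, hy⟩ := QuotientGroup.mk_surjective (k : R ⧸ Subgroup.center R)
  have hyp : ((y : G) ^ p) ∈ centR σ h p := by
    refine ⟨y ^ p, ?_, rfl⟩
    refine (QuotientGroup.eq_one_iff _).1 ?_
    rw [QuotientGroup.mk_pow, hy, ← SubmonoidClass.coe_pow, orderOf_dvd_iff_pow_eq_one.1 hk.dvd]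
    rfl
  have hyV : (y : G) ∈ V := by
    refine ⟨y.2, hyp, fun b hb => ?_⟩
    obtain ⟨d, hd⟩ : ∃ d, d = (y : G) * b * (y : G)⁻¹ * b⁻¹ := ⟨_, rfl⟩
    rw [← hd]
    have hdc : d ∈ centR σ h p := by
      refine ⟨y * ⟨b, hb⟩ * y⁻¹ * ⟨b, hb⟩⁻¹, ?_, hd.symm⟩
      refine (QuotientGroup.eq_one_iff _).1 ?_
      rw [QuotientGroup.mk_mul, QuotientGroup.mk_mul, QuotientGroup.mk_mul, QuotientGroup.mk_inv,
        QuotientGroup.mk_inv, hy, ← Subgroup.mem_center_iff.1 k.2 _, mul_inv_cancel_right,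
        mul_inv_cancel]
    refine ⟨(mem_centR.1 hdc).1, ?_, (mem_centR.1 hdc).2⟩
    have hdy : Commute d (y : G) := (mem_centR.1 hdc).2 _ y.2
    have hpow : ∀ n : ℕ, (y : G) ^ n * b * ((y : G) ^ n)⁻¹ = d ^ n * b := by
      intro n
      induction n with
      | zero => simp
      | succ n ih =>
        calc (y : G) ^ (n + 1) * b * ((y : G) ^ (n + 1))⁻¹ =
              (y : G) * ((y : G) ^ n * b * ((y : G) ^ n)⁻¹) * (y : G)⁻¹ := by rw [pow_succ']; group
          _ = (y : G) * d ^ n * (y : G)⁻¹ * ((y : G) * b * (y : G)⁻¹) := by rw [ih]; group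
          _ = d ^ (n + 1) * b := by
              rw [(hdy.pow_left n).symm.eq, mul_inv_cancel_right, pow_succ, hd]; group
    have h1 := hpow p
    rw [((mem_centR.1 hyp).2 b hb).eq, mul_inv_cancel_right, right_eq_mul] at h1
    exact h1
  obtain ⟨w, hw, e⟩ := hVcen _ hyV
  rw [Subgroup.subtype_apply] at e
  rw [show w = y from Subtype.ext e] at hw
  have hk1 : (k : R ⧸ Subgroup.center R) = 1 := hy ▸ (QuotientGroup.eq_one_iff y).2 hw
  rw [show k = 1 from Subtype.ext hk1, orderOf_one] at hk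
  exact r.prime.one_lt.ne hk

end RedCtx

end Cfsg.Lib.GW.CMax
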