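import Cfsg.Agent.Lib.GW.CMax.ReducedFit
import Cfsg.Agent.Lib.GW.RankOne

/-!
# The extraspecial case: fixed points and the central inverted part

`cinv` is the part of `Z(U) ∩ F(U)` inverted by the involutions.  For a reflection `x`,
`|F(U)| = p |cinv| |C_F(x)|` and `|C_U(x)|` is `|C_F(x)|` or `m |C_F(x)|`.
-/

set_option autoImplicit false
set_option linter.unusedSectionVars false
set_option linter.style.haveILetI false
set_option maxHeartbeats 800000

namespace Cfsg.Lib.GW.CMax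

open Cfsg Cfsg.Lib.Block Matrix
open Cfsg.Lib.Block.DihSylow (oddPart oddFix mem_oddPart mem_oddFix)

universe u

variable {G : Type u} [Group G] [Fintype G]

/-- The central elements of `F(U)` inverted by every involution commuting with `J`. -/
noncomputable def cinv (σ : G) (h : ℕ) : Subgroup G where
  carrier := {w | w ∈ fitSub σ h ∧ (∀ u ∈ oddSub σ h, Commute u w) ∧
    ∀ x : G, x * x = 1 → x ≠ 1 → x ≠ σ ^ h → Commute x (σ ^ h) → x * w * x = w⁻¹}
  one_mem' := ⟨one_mem _, fun u _ => Commute.one_right u, fun x hx _ _ _ => by rw [mul_one, hx, inv_one]⟩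
  mul_mem' := fun {a a'} ha ha' => ⟨mul_mem ha.1 ha'.1,
    fun u hu => (ha.2.1 u hu).mul_right (ha'.2.1 u hu), fun x hx hx1 hxJ hxc => by
      rw [InvAct.conj_mul hx, ha.2.2 x hx hx1 hxJ hxc, ha'.2.2 x hx hx1 hxJ hxc, ← _root_.mul_inv_rev,
        (ha'.2.1 a (fitSub_le ha.1)).eq]⟩
  inv_mem' := fun {a} ha => ⟨inv_mem ha.1, fun u hu => (ha.2.1 u hu).inv_right,
    fun x hx hx1 hxJ hxc => by rw [InvAct.conj_inv hx, ha.2.2 x hx hx1 hxJ hxc]⟩

theorem mem_cinv {σ : G} {h : ℕ} {w : G} :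
    w ∈ cinv σ h ↔ w ∈ fitSub σ h ∧ (∀ u ∈ oddSub σ h, Commute u w) ∧
      ∀ x : G, x * x = 1 → x ≠ 1 → x ≠ σ ^ h → Commute x (σ ^ h) → x * w * x = w⁻¹ := Iff.rfl

variable [Fact (Nat.Prime 2)] {P : Sylow 2 G} {σ τ : G} {h : ℕ}

/-- An involution other than `J` commuting with it is conjugate to a reflection. -/
theorem exists_reflection (D : DihSylow P σ τ h) {x : G} (hx2 : x * x = 1) (hx1 : x ≠ 1)
    (hxJ : x ≠ σ ^ h) (hxc : Commute x (σ ^ h)) :
    ∃ g, Commute g (σ ^ h) ∧ g * x * g⁻¹ ∈ (P : Subgroup G) ∧ g * x * g⁻¹ ∉ Subgroup.zpowers σ := by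
  obtain ⟨g, hgJ, hgP⟩ := exists_conj_mem D hx2 hxc
  refine ⟨g, hgJ, hgP, fun hm => ?_⟩
  rcases D.eq_central_of_sq hm (by
    rw [show g * x * g⁻¹ * (g * x * g⁻¹) = g * (x * x) * g⁻¹ by group, hx2, mul_one,
      mul_inv_cancel]) with e | e
  · exact hx1 (conj_eq_one_iff.1 e)
  · refine hxJ ?_
    calc x = g⁻¹ * (g * x * g⁻¹) * g := by group
      _ = σ ^ h := by rw [e, mul_assoc, ← hgJ.eq, inv_mul_cancel_left]

variable {p : ℕ} {E : Subgroup G}

namespace ExtraCtx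

variable (c : ExtraCtx P σ τ h p E)

include c

/-- Every involution other than `J` commuting with it inverts `Z`. -/
theorem invol_omega {x : G} (hx2 : x * x = 1) (hx1 : x ≠ 1) (hxJ : x ≠ σ ^ h)
    (hxc : Commute x (σ ^ h)) {z : G} (hz : z ∈ omegaZ σ h p) : x * z * x = z⁻¹ := by
  obtain ⟨g, hgJ, hgP, hgσ⟩ := exists_reflection c.frame hx2 hx1 hxJ hxc
  have e := c.inv _ hgP hgσ _ (conj_omegaZ c.frame hgJ hz)
  rw [show g * x * g⁻¹ * (g * z * g⁻¹) * (g * x * g⁻¹) = g * (x * z * x) * g⁻¹ by group,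
    conj_inv] at e
  exact mul_left_cancel (mul_right_cancel e)

theorem centR_conj {g d : G} (hg : Commute g (σ ^ h)) (hd : d ∈ centR σ h p) :
    g * d * g⁻¹ ∈ centR σ h p := by
  obtain ⟨hdR, hdc⟩ := mem_centR.1 hd
  refine mem_centR.2 ⟨conj_coreP c.frame hg hdR, fun r hr => ?_⟩
  have hr' : g⁻¹ * r * g ∈ coreP σ h p := by
    have := conj_coreP c.frame hg.inv_left hr
    rwa [inv_inv] at this
  have := (hdc _ hr').map (MulAut.conj g).toMonoidHom
  simp only [MulEquiv.coe_toMonoidHom, MulAut.conj_apply] at this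
  rwa [show g * (g⁻¹ * r * g) * g⁻¹ = r by group] at this

theorem centR_inv {x d : G} (hx : x ∈ (P : Subgroup G)) (hx' : x ∉ Subgroup.zpowers σ)
    (hd : d ∈ centR σ h p) : x * d * x = d⁻¹ := by
  haveI : Fact p.Prime := ⟨c.prime⟩
  obtain ⟨hx2, -, -⟩ := reflection_mem c.frame hx hx'
  have hxc := c.frame.central_involution.2.2 x hx
  have hxi : x⁻¹ = x := inv_eq_of_mul_eq_one_right hx2
  have hdx : x * d * x ∈ centR σ h p := by
    have := c.centR_conj hxc hd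
    rwa [hxi] at this
  obtain ⟨v, hv⟩ : ∃ v, v = d * (x * d * x) := ⟨_, rfl⟩
  have hvC : v ∈ centR σ h p := hv ▸ mul_mem hd hdx
  have hvf : Commute v x := InvAct.commute_of_conj hx2 (by
    rw [hv, InvAct.conj_mul hx2, show x * (x * d * x) * x = (x * x) * d * (x * x) by group, hx2,
      one_mul, mul_one]
    exact ((mem_centR.1 hd).2 _ (mem_centR.1 hdx).1).eq.symm)
  suffices hv1 : v = 1 from eq_inv_of_mul_eq_one_right (hv ▸ hv1)
  by_contra hv1
  obtain ⟨j, hj⟩ := IsPGroup.iff_orderOf.1 (isPGroup_coreP (p := p)) ⟨v, (mem_centR.1 hvC).1⟩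
  rw [Subgroup.orderOf_mk] at hj
  rcases j with _ | j
  · exact hv1 (orderOf_eq_one_iff.1 (by simpa using hj))
  obtain ⟨z, hz⟩ : ∃ z, z = v ^ p ^ j := ⟨_, rfl⟩
  have hzp : z ^ p = 1 := by rw [hz, ← pow_mul, ← pow_succ, ← hj, pow_orderOf_eq_one]
  have hzZ : z ∈ omegaZ σ h p := ⟨hz ▸ pow_mem (mem_centR.1 hvC).1 _, hzp,
    fun r hr => hz ▸ ((mem_centR.1 hvC).2 r hr).pow_left _⟩
  have hz1 := c.inv x hx hx' z hzZ
  have hzc : Commute z x := hz ▸ hvf.pow_left _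
  have : z = 1 := eq_one_of_inverted c.frame (coreP_le hzZ.1) hzc.symm (by rw [hxi]; exact hz1)
  refine pow_ne_one_of_lt_orderOf (pow_ne_zero j c.prime.ne_zero) ?_ (hz.symm.trans this)
  rw [hj]
  exact Nat.pow_lt_pow_right c.prime.one_lt j.lt_succ_self

/-- A central element of `F(U)` inverted by one involution is inverted by all. -/
theorem cinv_of_inverted {f x : G} (hf : f ∈ fitSub σ h) (hfc : ∀ u ∈ oddSub σ h, Commute u f)
    (hx2 : x * x = 1) (hx1 : x ≠ 1) (hxJ : x ≠ σ ^ h) (hxc : Commute x (σ ^ h))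
    (hfi : x * f * x = f⁻¹) : f ∈ cinv σ h := by
  refine mem_of_prime_parts _ fun r i hr hi => ?_
  rcases Nat.eq_zero_or_pos i with rfl | hi0
  · rw [pow_zero, Nat.div_one, pow_orderOf_eq_one]
    exact one_mem _
  obtain ⟨a, ha⟩ : ∃ a, a = f ^ (orderOf f / r ^ i) := ⟨_, rfl⟩
  rw [← ha]
  have haF : a ∈ fitSub σ h := ha ▸ pow_mem hf _
  have har : a ∈ coreP σ h r := mem_coreP_of_mem_fitSub c.frame hr haF (k := i) (by
    rw [ha, ← pow_mul, Nat.div_mul_cancel hi, pow_orderOf_eq_one])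
  have hac : ∀ u ∈ oddSub σ h, Commute u a := fun u hu => ha ▸ (hfc u hu).pow_right _
  refine mem_cinv.2 ⟨haF, hac, fun x' hx2' hx1' hxJ' hxc' => ?_⟩
  obtain ⟨g, hgJ, hgP, hgσ⟩ := exists_reflection c.frame hx2' hx1' hxJ' hxc'
  have hga : g * a * g⁻¹ ∈ coreP σ h r := conj_coreP c.frame hgJ har
  have back : g * x' * g⁻¹ * (g * a * g⁻¹) * (g * x' * g⁻¹) = (g * a * g⁻¹)⁻¹ →
      x' * a * x' = a⁻¹ := fun e => by
    rw [show g * x' * g⁻¹ * (g * a * g⁻¹) * (g * x' * g⁻¹) = g * (x' * a * x') * g⁻¹ by group,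
      conj_inv] at e
    exact mul_left_cancel (mul_right_cancel e)
  by_cases hrp : r = p
  · subst hrp
    exact back (c.centR_inv hgP hgσ
      (c.centR_conj hgJ (mem_centR.2 ⟨har, fun q hq => (hac q (coreP_le hq)).symm⟩)))
  rcases (c.other r hr hrp).2 with hinv | hcen
  · exact back (hinv _ hgP hgσ _ hga)
  · have hxa : x * a * x = a⁻¹ := by
      rw [ha, show x * f ^ (orderOf f / r ^ i) * x = (x * f * x⁻¹) ^ (orderOf f / r ^ i) by
        rw [conj_pow, inv_eq_of_mul_eq_one_right hx2], inv_eq_of_mul_eq_one_right hx2, hfi, inv_pow]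
    obtain ⟨g₁, hg₁J, hg₁P, hg₁σ⟩ := exists_reflection c.frame hx2 hx1 hxJ hxc
    have hca : Commute x a := by
      have := (hcen _ hg₁P hg₁σ _ (conj_coreP c.frame hg₁J har)).map (MulAut.conj g₁⁻¹).toMonoidHom
      simpa [mul_assoc] using this
    have ha1 : a = 1 := eq_one_of_inverted c.frame (coreP_le har) hca
      (by rw [inv_eq_of_mul_eq_one_right hx2]; exact hxa)
    rw [ha1, mul_one, hx2', inv_one]

theorem cinv_inverted {w : G} (hw : w ∈ cinv σ h) {x : G} (hx : x ∈ (P : Subgroup G))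
    (hx' : x ∉ Subgroup.zpowers σ) : x * w * x = w⁻¹ :=
  let t := reflection_mem c.frame hx hx'
  hw.2.2 x t.1 t.2.1 t.2.2 (c.frame.central_involution.2.2 x hx)

theorem centR_le_cinv : centR σ h p ≤ cinv σ h := fun d hd =>
  let t := reflection_mem c.frame c.tau_facts'.1 c.tau_facts'.2
  c.cinv_of_inverted (coreP_le_fitSub c.prime (mem_centR.1 hd).1) (c.centU d hd) t.1 t.2.1 t.2.2
    c.tau_J (c.centR_inv c.tau_facts'.1 c.tau_facts'.2 hd)

end ExtraCtx

namespace PlaneCtx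

variable {y b : G} (k : PlaneCtx P σ τ h p E y b)

include k

theorem b_zU {n : ℕ} (hc : b ^ n ∈ zU σ h) : b ^ n = 1 := by
  by_contra hne
  refine k.yb_not ?_
  obtain ⟨j, hj⟩ := exists_pow_eq_self_of_coprime (x := b) (n := n) (by
    have hb1 : b ≠ 1 := fun e => k.bnot (e ▸ one_mem _)
    haveI : Fact p.Prime := ⟨k.ctx.prime⟩
    rw [orderOf_eq_prime (k.ctx.exp b k.bmem) hb1]
    refine Nat.Coprime.symm ((k.ctx.prime.coprime_iff_not_dvd).2 fun hd => hne ?_)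
    obtain ⟨l, rfl⟩ := hd
    rw [pow_mul, k.ctx.exp b k.bmem, one_pow])
  exact hj ▸ ((mem_zU.1 hc).2 y (k.ctx.le_U k.ymem)).pow_right j

theorem b_binv (n : ℕ) : τ * b ^ n * τ = (b ^ n)⁻¹ := by
  rw [show τ * b ^ n * τ = (τ * b * τ⁻¹) ^ n by rw [conj_pow, k.ctx.frame.τ_inv],
    k.ctx.frame.τ_inv, k.binv, inv_pow]

/-- An inverted element of the Fitting subgroup. -/
theorem inverted_fit {f : G} (hf : f ∈ fitSub σ h) (hi : τ * f * τ = f⁻¹) :
    ∃ n : ℕ, ∃ w ∈ cinv σ h, f = b ^ n * w := by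
  haveI : Fact p.Prime := ⟨k.ctx.prime⟩
  obtain ⟨e, he, w, hw, rfl⟩ := k.fit_decomp hf
  obtain ⟨i, j, z, hz, rfl⟩ := k.normal_form he
  obtain ⟨w', hw'⟩ : ∃ w', w' = z * w := ⟨_, rfl⟩
  have hw'Z : w' ∈ zU σ h := hw' ▸ mul_mem (k.omega_zU hz) hw
  rw [mul_assoc _ z w, ← hw'] at hi hf ⊢
  have hU := fun {a} (ha : a ∈ E) => k.ctx.le_U ha
  have hy2 : y ^ i.val * y ^ i.val ∈ zU σ h := by
    rw [InvAct.conj_mul k.ctx.frame.sqτ, InvAct.conj_mul k.ctx.frame.sqτ,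
      InvAct.conj_of_commute k.ctx.frame.sqτ (k.yfix.pow_left _), k.b_binv] at hi
    have hτw : τ * w' * τ ∈ zU σ h := mem_zU.2 ⟨by
        have := conj_oddSub k.ctx.frame k.ctx.tau_J (mem_zU.1 hw'Z).1
        rwa [k.ctx.frame.τ_inv] at this, fun u hu => by
      have hu' : τ * u * τ ∈ oddSub σ h := by
        have := conj_oddSub k.ctx.frame k.ctx.tau_J hu
        rwa [k.ctx.frame.τ_inv] at this
      have := ((mem_zU.1 hw'Z).2 _ hu').map (MulAut.conj τ).toMonoidHom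
      simp only [MulEquiv.coe_toMonoidHom, MulAut.conj_apply, k.ctx.frame.τ_inv] at this
      rwa [show τ * (τ * u * τ) * τ = (τ * τ) * u * (τ * τ) by group, k.ctx.frame.sqτ, one_mul,
        mul_one] at this⟩
    -- `y ^ 2 i` differs from `b ^ 0` by a central element
    have e1 : y ^ i.val * ((b ^ j.val)⁻¹ * y ^ i.val * b ^ j.val) = (τ * w' * τ)⁻¹ * w'⁻¹ := by
      have c1 : y ^ i.val * (b ^ j.val)⁻¹ * (τ * w' * τ) =
          w'⁻¹ * ((b ^ j.val)⁻¹ * (y ^ i.val)⁻¹) := by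
        rw [hi]; group
      have hT := (mem_zU.1 (inv_mem hτw)).2
      have hW := (mem_zU.1 (inv_mem hw'Z)).2
      have hA : y ^ i.val ∈ oddSub σ h := hU (pow_mem k.ymem _)
      have hB : b ^ j.val ∈ oddSub σ h := hU (pow_mem k.bmem _)
      calc y ^ i.val * ((b ^ j.val)⁻¹ * y ^ i.val * b ^ j.val)
          = y ^ i.val * (b ^ j.val)⁻¹ * (τ * w' * τ) * ((τ * w' * τ)⁻¹ * (y ^ i.val * b ^ j.val)) := by
            group
        _ = w'⁻¹ * ((b ^ j.val)⁻¹ * (y ^ i.val)⁻¹) * ((y ^ i.val * b ^ j.val) * (τ * w' * τ)⁻¹) := by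
            rw [c1, (hT _ (mul_mem hA hB)).eq]
        _ = w'⁻¹ * (τ * w' * τ)⁻¹ := by group
        _ = _ := ((mem_zU.1 (inv_mem hτw)).2 _ (inv_mem (mem_zU.1 hw'Z).1)).eq
    have hcm := k.ctx.comm _ (inv_mem (pow_mem k.bmem j.val)) _ (k.ctx.le (pow_mem k.ymem i.val))
    have e2 : y ^ i.val * y ^ i.val = y ^ i.val * ((b ^ j.val)⁻¹ * y ^ i.val * b ^ j.val) *
        ((b ^ j.val)⁻¹ * y ^ i.val * (b ^ j.val)⁻¹⁻¹ * (y ^ i.val)⁻¹)⁻¹ := by
      rw [mul_assoc _ _ (_⁻¹),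
        show (b ^ j.val)⁻¹ * y ^ i.val * b ^ j.val *
          ((b ^ j.val)⁻¹ * y ^ i.val * (b ^ j.val)⁻¹⁻¹ * (y ^ i.val)⁻¹)⁻¹ =
          ((b ^ j.val)⁻¹ * y ^ i.val * b ^ j.val) * (y ^ i.val *
            ((b ^ j.val)⁻¹ * y ^ i.val * b ^ j.val)⁻¹) by group]
      congr 1
      have hc2 : Commute ((b ^ j.val)⁻¹ * y ^ i.val * b ^ j.val) (y ^ i.val) := by
        have hz' := k.ctx.omega_commute hcm (hU (pow_mem k.ymem i.val))
        rw [show (b ^ j.val)⁻¹ * y ^ i.val * b ^ j.val =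
          (b ^ j.val)⁻¹ * y ^ i.val * (b ^ j.val)⁻¹⁻¹ * (y ^ i.val)⁻¹ * y ^ i.val by group]
        exact hz'.symm.mul_left (Commute.refl _)
      rw [← mul_assoc, hc2.eq, mul_inv_cancel_right]
    rw [e2, e1]
    exact mul_mem (mul_mem (inv_mem hτw) (inv_mem hw'Z)) (inv_mem (k.omega_zU hcm))
  have hi0 : i = 0 := by
    by_contra hne
    refine k.yb_not ?_
    obtain ⟨l, hl⟩ := exists_pow_eq_self_of_coprime (x := y) (n := i.val + i.val) (by
      rw [orderOf_eq_prime (k.ctx.exp y k.ymem) fun e => k.ynot (e ▸ one_mem _)]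
      refine Nat.Coprime.symm ((k.ctx.prime.coprime_iff_not_dvd).2 fun hd => hne ?_)
      rw [← ZMod.natCast_eq_zero_iff, Nat.cast_add, ZMod.natCast_zmod_val, ← two_mul] at hd
      exact (mul_eq_zero.1 hd).resolve_left (Plane.two_ne_zero_of k.ctx.ne_two))
    rw [← hl, pow_add]
    exact (((mem_zU.1 hy2).2 b (hU k.bmem)).pow_right l).symm
  rw [hi0, ZMod.val_zero, pow_zero, one_mul] at hi hf ⊢
  have hwi : τ * w' * τ = w'⁻¹ := by
    rw [InvAct.conj_mul k.ctx.frame.sqτ, k.b_binv, _root_.mul_inv_rev,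
      ((mem_zU.1 (inv_mem hw'Z)).2 _ (inv_mem (hU (pow_mem k.bmem _)))).symm.eq] at hi
    exact mul_left_cancel hi
  have hw'F : w' ∈ fitSub σ h := by
    have := mul_mem (inv_mem (coreP_le_fitSub k.ctx.prime (k.ctx.le (pow_mem k.bmem j.val)))) hf
    rwa [inv_mul_cancel_left] at this
  obtain ⟨hτP, hτσ⟩ := k.ctx.tau_facts'
  obtain ⟨-, hτ1, hτJ'⟩ := reflection_mem k.ctx.frame hτP hτσ
  exact ⟨j.val, w', k.ctx.cinv_of_inverted hw'F (mem_zU.1 hw'Z).2 k.ctx.frame.sqτ hτ1 hτJ'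
    k.ctx.tau_J hwi, rfl⟩

/-- `|F(U)| = |C_F(τ)| p |cinv|`. -/
theorem card_fit : Nat.card (fitSub σ h) =
    Nat.card ↥(fitSub σ h ⊓ Subgroup.centralizer ({τ} : Set G)) * (p * Nat.card (cinv σ h)) := by
  haveI : Fact p.Prime := ⟨k.ctx.prime⟩
  have hbo : orderOf b = p := orderOf_eq_prime (k.ctx.exp b k.bmem) fun e => k.bnot (e ▸ one_mem _)
  rw [← hbo, ← Nat.card_zpowers, ← Nat.card_prod, ← Nat.card_prod]
  let X := ↥(fitSub σ h ⊓ Subgroup.centralizer ({τ} : Set G)) × Subgroup.zpowers b × cinv σ h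
  let f : X → fitSub σ h := fun q => ⟨q.1 * ((q.2.1 : G) * q.2.2), mul_mem q.1.2.1 (mul_mem
    (Subgroup.zpowers_le.2 (coreP_le_fitSub k.ctx.prime (k.ctx.le k.bmem)) q.2.1.2) q.2.2.2.1)⟩
  refine (Nat.card_eq_of_bijective f ⟨?_, ?_⟩).symm
  · rintro ⟨a, ⟨g, hg⟩, w⟩ ⟨a', ⟨g', hg'⟩, w'⟩ e
    have e' : (a : G) * (g * w) = a' * (g' * w') := congrArg Subtype.val e
    obtain ⟨n, rfl⟩ := (isOfFinOrder_of_finite b).mem_powers_iff_mem_zpowers.2 hg
    obtain ⟨n', rfl⟩ := (isOfFinOrder_of_finite b).mem_powers_iff_mem_zpowers.2 hg'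
    simp only at e'
    have hwU := fun (w : cinv σ h) => fitSub_le w.2.1
    obtain ⟨d, hd⟩ : ∃ d : ℕ, b ^ d = b ^ n' * (b ^ n)⁻¹ := by
      have hm : b ^ n' * (b ^ n)⁻¹ ∈ Subgroup.zpowers b := mul_mem
        (pow_mem (Subgroup.mem_zpowers b) _) (inv_mem (pow_mem (Subgroup.mem_zpowers b) _))
      exact (isOfFinOrder_of_finite b).mem_powers_iff_mem_zpowers.2 hm
    have hv : (a' : G)⁻¹ * a = b ^ d * ((w' : G) * (w : G)⁻¹) := by
      have hc := (mul_mem w'.2 (inv_mem w.2) : _ ∈ cinv σ h).2.1 _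
        (inv_mem (k.ctx.le_U (pow_mem k.bmem n)))
      rw [hd]
      calc (a' : G)⁻¹ * a = (a' : G)⁻¹ * (a * (b ^ n * w)) * ((w : G)⁻¹ * (b ^ n)⁻¹) := by group
        _ = b ^ n' * ((w' : G) * (w : G)⁻¹ * (b ^ n)⁻¹) := by rw [e']; group
        _ = _ := by rw [← hc.eq]; group
    have hfix : Commute ((a' : G)⁻¹ * a) τ :=
      Commute.mul_left (Subgroup.mem_centralizer_singleton_iff.1 (inv_mem a'.2.2))
        (Subgroup.mem_centralizer_singleton_iff.1 a.2.2)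
    have h1 : (a' : G)⁻¹ * a = 1 := by
      refine eq_one_of_inverted k.ctx.frame (fitSub_le (mul_mem (inv_mem a'.2.1) a.2.1)) hfix.symm ?_
      obtain ⟨hτP, hτσ⟩ := k.ctx.tau_facts'
      rw [k.ctx.frame.τ_inv, hv, InvAct.conj_mul k.ctx.frame.sqτ, k.b_binv,
        k.ctx.cinv_inverted (mul_mem w'.2 (inv_mem w.2)) hτP hτσ, _root_.mul_inv_rev (b ^ d),
        ((inv_mem (mul_mem w'.2 (inv_mem w.2)) : _ ∈ cinv σ h).2.1 _
          (inv_mem (k.ctx.le_U (pow_mem k.bmem d)))).eq]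
    rw [h1] at hv
    have hbd : b ^ d = 1 := k.b_zU (by
      rw [eq_inv_of_mul_eq_one_left hv.symm]
      exact mem_zU.2 ⟨inv_mem (mul_mem (hwU w') (inv_mem (hwU w))),
        fun u hu => ((w'.2.2.1 u hu).mul_right (w.2.2.1 u hu).inv_right).inv_right⟩)
    rw [hbd, one_mul] at hv
    have ew : (w' : G) = w := mul_inv_eq_one.1 hv.symm
    rw [hbd] at hd
    have en : b ^ n' = b ^ n := mul_inv_eq_one.1 hd.symm
    refine Prod.ext (Subtype.ext (inv_mul_eq_one.1 h1).symm) (Prod.ext (Subtype.ext en.symm)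
      (Subtype.ext ew.symm))
  · rintro ⟨g, hg⟩
    obtain ⟨a, ha, i, hi, hac, hii, rfl⟩ := InvAct.exists_split (odd_card_fitSub k.ctx.frame)
      k.ctx.frame.sqτ (Subgroup.mem_normalizer_fintype fun _ ha =>
        conj_fitSub k.ctx.frame k.ctx.tau_J ha) hg
    obtain ⟨n, w, hw, rfl⟩ := k.inverted_fit hi hii
    exact ⟨(⟨a, ha, Subgroup.mem_centralizer_singleton_iff.2 hac.eq⟩,
      ⟨b ^ n, pow_mem (Subgroup.mem_zpowers b) n⟩, ⟨w, hw⟩), rfl⟩

/-- The fixed points in `U`. -/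
theorem card_fixU :
    ((∀ u ∈ oddSub σ h, pmat p y b (τ * u * τ) = pmat p y b u) →
      Nat.card ↥(oddSub σ h ⊓ Subgroup.centralizer ({τ} : Set G)) =
        Nat.card (repU k).range * Nat.card ↥(fitSub σ h ⊓ Subgroup.centralizer ({τ} : Set G))) ∧
    ((∀ u ∈ oddSub σ h, pmat p y b u * pmat p y b (τ * u * τ) = 1) →
      Nat.card ↥(oddSub σ h ⊓ Subgroup.centralizer ({τ} : Set G)) =
        Nat.card ↥(fitSub σ h ⊓ Subgroup.centralizer ({τ} : Set G))) := by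
  haveI : Fact p.Prime := ⟨k.ctx.prime⟩
  set X := oddSub σ h ⊓ Subgroup.centralizer ({τ} : Set G) with hX
  let g : X →* (Matrix (Fin 2) (Fin 2) (ZMod p))ˣ := (repU k).comp (Subgroup.inclusion inf_le_left)
  have hcard : Nat.card X =
      Nat.card g.range * Nat.card ↥(fitSub σ h ⊓ Subgroup.centralizer ({τ} : Set G)) := by
    rw [← Subgroup.index_ker, ← Subgroup.index_mul_card g.ker]
    congr 1
    refine Nat.card_congr
      { toFun := fun x => ⟨((x : X) : G), k.repU_eq_one.1 x.2, (x : X).2.2⟩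
        invFun := fun f => ⟨⟨f, fitSub_le f.2.1, f.2.2⟩, k.repU_eq_one.2 f.2.1⟩
        left_inv := fun _ => rfl
        right_inv := fun _ => rfl }
  have sqF : ∀ {a : G}, a ∈ oddSub σ h → pmat p y b a * pmat p y b a = 1 → a ∈ fitSub σ h := by
    intro a ha h1
    rw [← k.mat_mul (commute_J k.ctx.frame ha) (commute_J k.ctx.frame ha)] at h1
    exact GW.mem_of_sq_mem (odd_orderOf k.ctx.frame ha) (k.fit_of_mat (mul_mem ha ha) h1)
  constructor
  · intro hcen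
    rw [hcard]
    congr 1
    have hr : g.range = (repU k).range := by
      refine le_antisymm (by rintro _ ⟨x, rfl⟩; exact ⟨_, rfl⟩) ?_
      rintro _ ⟨⟨u, hu⟩, rfl⟩
      obtain ⟨a, ha, i, hi, hac, hii, rfl⟩ := InvAct.exists_split (odd_card_oddSub k.ctx.frame)
        k.ctx.frame.sqτ (Subgroup.mem_normalizer_fintype fun _ ha =>
          conj_oddSub k.ctx.frame k.ctx.tau_J ha) hu
      have hiF : i ∈ fitSub σ h := by
        refine sqF hi ?_
        have e := hcen i hi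
        rw [hii] at e
        conv_lhs => arg 1; rw [← e]
        rw [← k.mat_mul (commute_J k.ctx.frame (inv_mem hi)) (commute_J k.ctx.frame hi),
          inv_mul_cancel, k.mat_one]
      refine ⟨⟨a, ha, Subgroup.mem_centralizer_singleton_iff.2 hac.eq⟩, Units.ext ?_⟩
      show pmat p y b a = pmat p y b (a * i)
      rw [k.mat_mul (commute_J k.ctx.frame ha) (commute_J k.ctx.frame hi), k.mat_fit hiF, mul_one]
    rw [hr]
  · intro hinv
    rw [hcard, show g.range = ⊥ from ?_, Subgroup.card_bot, one_mul]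
    rw [eq_bot_iff]
    rintro _ ⟨⟨a, ha, hac⟩, rfl⟩
    have e := hinv a ha
    rw [InvAct.conj_of_commute k.ctx.frame.sqτ (Subgroup.mem_centralizer_singleton_iff.1 hac)] at e
    exact Subgroup.mem_bot.2 (k.repU_eq_one.2 (sqF ha e))

omit k in
theorem card_oddFix (D : DihSylow P σ τ h) :
    (oddFix σ h τ).card = Nat.card ↥(oddSub σ h ⊓ Subgroup.centralizer ({τ} : Set G)) := by
  classical
  rw [Nat.card_eq_fintype_card, Fintype.card_subtype]
  congr 1
  ext a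
  simp only [mem_oddFix, Finset.mem_filter, Finset.mem_univ, true_and, Subgroup.mem_inf,
    Subgroup.mem_centralizer_singleton_iff, mem_oddSub D, commute_iff_eq]

end PlaneCtx

end Cfsg.Lib.GW.CMax
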