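import Cfsg.Agent.Lib.GW.CMax.NStruct
import Cfsg.Agent.Lib.GW.ConsumersOvergroup
import Cfsg.Agent.Lib.Dickson.Overgroups

/-!
# A component through `J`: the torus

`c` is a component over `N`, `J` and the involution `v` lie in it and `T` is the group of elements of
`N ∩ U` inverted by `v`, of order `p t`.  Then `C(J)` in the socle has order `2 ^ a p t`, the socle is
`PSL₂(q)` with `q ∓ 1 = 2 ^ a p t`, and its order times that of a subgroup of `C_U(v) ∩ N` divides `|G|`.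
-/

set_option autoImplicit false
set_option linter.unusedSectionVars false
set_option linter.style.haveILetI false
set_option maxHeartbeats 800000

namespace Cfsg.Lib.GW.CMax

open Cfsg Cfsg.Lib.Block
open Cfsg.Lib.Block.DihSylow (oddPart mem_oddPart)
open Subgroup

universe u

/-- `(0 2)(1 3)`. -/
def altInvolTwo : alternatingGroup (Fin 7) :=
  ⟨Equiv.swap 0 2 * Equiv.swap 1 3, Equiv.Perm.mem_alternatingGroup.2 (by decide)⟩

section Almost

variable {X : Type u} [Group X] [Finite X] {E : Subgroup X}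

/-- The square of a two-element lies in the socle. -/
theorem Almost.inner_sq_two (a : Almost E) {ρ : X} {k : ℕ} (hρ : ρ ^ 2 ^ k = 1) : ρ * ρ ∈ E := by
  haveI := a.normal
  obtain ⟨y, hy⟩ : ∃ y : X ⧸ E, y = QuotientGroup.mk' E ρ := ⟨_, rfl⟩
  refine (QuotientGroup.eq_one_iff _).1 ?_
  show QuotientGroup.mk' E (ρ * ρ) = 1
  rw [map_mul, ← hy, ← pow_two]
  obtain ⟨i, -, hi⟩ := (Nat.dvd_prime_pow Nat.prime_two).1
    (show orderOf y ∣ 2 ^ k from orderOf_dvd_of_pow_eq_one (by rw [hy, ← map_pow, hρ, map_one]))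
  refine orderOf_dvd_iff_pow_eq_one.1 ?_
  rw [hi]
  refine (pow_dvd_pow 2 ?_).trans (pow_one 2).dvd
  by_contra hi1
  refine a.idx ((show 4 ∣ orderOf y from ?_).trans (orderOf_dvd_natCard y))
  rw [hi]
  exact (show (4 : ℕ) = 2 ^ 2 by norm_num) ▸ pow_dvd_pow 2 (by omega)

/-- In `A₇` an involution other than `j` centralizes `j` and an element of odd order centralizing
`j`. -/
theorem Almost.alt_commuting (a : Almost E) (hA : Nonempty (E ≃* alternatingGroup (Fin 7))) {j t : X}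
    (hj : orderOf j = 2) (hjE : j ∈ E) (htE : t ∈ E) (hto : Odd (orderOf t)) (htj : Commute t j) :
    ∃ u ∈ E, u * u = 1 ∧ u ≠ 1 ∧ u ≠ j ∧ Commute u j ∧ Commute u t := by
  obtain ⟨e⟩ := hA
  obtain ⟨d, hd⟩ := isConj_iff.1 (DGroup.alt_seven_conj
    (x := e ⟨j, hjE⟩) (y := altInvol) (by rw [e.orderOf_eq, Subgroup.orderOf_mk, hj]) orderOf_altInvol)
  let φ : E ≃* alternatingGroup (Fin 7) := e.trans (MulAut.conj d)
  have hφj : φ ⟨j, hjE⟩ = altInvol := hd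
  have htc : φ ⟨t, htE⟩ ∈ zpowers altCycle := mem_altCycle
    (by rw [φ.orderOf_eq, Subgroup.orderOf_mk]; exact hto)
    (hφj ▸ ((show Commute (⟨t, htE⟩ : E) ⟨j, hjE⟩ from Subtype.ext htj.eq).map φ.toMonoidHom))
  obtain ⟨u, hu⟩ : ∃ u : E, φ u = altInvolTwo := φ.surjective _
  have back : ∀ {w : E}, Commute altInvolTwo (φ w) → Commute (u : X) (w : X) := fun {w} h =>
    congrArg Subtype.val (φ.injective (by rw [map_mul, map_mul, hu, h.eq]) : u * w = w * u)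
  refine ⟨u, u.2, congrArg Subtype.val
    (φ.injective (by rw [map_mul, hu, map_one]; decide) : u * u = 1), fun h => ?_, fun h => ?_,
    back (w := ⟨j, hjE⟩) (by rw [hφj]; exact (by decide : altInvolTwo * altInvol = altInvol * altInvolTwo)),
    back (w := ⟨t, htE⟩) ?_⟩
  · rw [show u = 1 from Subtype.ext h, map_one] at hu
    exact absurd hu (by decide)
  · rw [show u = ⟨j, hjE⟩ from Subtype.ext h, hφj] at hu
    exact absurd hu (by decide)
  · obtain ⟨m, hm⟩ := mem_zpowers_iff.1 htc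
    rw [← hm]
    exact Commute.zpow_right (by decide : altInvolTwo * altCycle = altCycle * altInvolTwo) m

end Almost

variable {G : Type u} [Group G] [Fintype G] [Fact (Nat.Prime 2)] {P : Sylow 2 G} {σ τ : G} {h : ℕ}
  (D : DihSylow P σ τ h) {N : Subgroup G} (c : Comp N) (hJ : σ ^ h ∈ c.sub)

include D hJ

theorem orderOf_J' : orderOf (σ ^ h) = 2 :=
  Cfsg.Lib.Invol.orderOf_eq_two_of D.central_involution.2.1 D.central_involution.1

/-- An element of odd order of the centralizer of the image of `J` lifts to `N ∩ U`. -/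
theorem exists_lift_odd {e : ↥N ⧸ Cfsg.oddCore ↥N} (heo : Odd (orderOf e))
    (hec : Commute e (QuotientGroup.mk' _ ⟨σ ^ h, c.sub_le hJ⟩)) :
    ∃ s, ∃ hs : s ∈ oddSub σ h ⊓ N, QuotientGroup.mk' _ ⟨s, hs.2⟩ = e := by
  set φ := QuotientGroup.mk' (Cfsg.oddCore ↥N) with hφ
  have hJo := orderOf_J' D c hJ
  have hlift := DGroup.centralizer_lift (Cfsg.oddCore ↥N) Cfsg.Lib.ZStar.odd_card_oddCore
    (j := (⟨σ ^ h, c.sub_le hJ⟩ : N)) (by rw [Subgroup.orderOf_mk]; exact hJo)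
  have hmem : e ∈ centralizer ({φ ⟨σ ^ h, c.sub_le hJ⟩} : Set (↥N ⧸ Cfsg.oddCore ↥N)) :=
    mem_centralizer_singleton_iff.2 hec.eq
  rw [hlift] at hmem
  obtain ⟨n, hn, hne⟩ := hmem
  obtain ⟨a, o, ho, hord⟩ := exists_two_pow_dvd (g := n)
  have hco : (2 ^ a).Coprime (orderOf e) := (Nat.coprime_two_left.2 heo).pow_left a
  obtain ⟨m, hm⟩ := exists_pow_eq_self_of_coprime hco
  obtain ⟨s, hs⟩ : ∃ s : N, s = (n ^ 2 ^ a) ^ m := ⟨_, rfl⟩
  have hnJ : Commute (n : G) (σ ^ h) := congrArg Subtype.val (mem_centralizer_singleton_iff.1 hn)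
  have hsJ : Commute (s : G) (σ ^ h) := by
    rw [hs, SubmonoidClass.coe_pow, SubmonoidClass.coe_pow]
    exact (hnJ.pow_left _).pow_left _
  have hso : Odd (orderOf (s : G)) := by
    rw [Subgroup.orderOf_coe, hs]
    refine ho.of_dvd_nat ((orderOf_pow_dvd m).trans ?_)
    rw [orderOf_pow_of_dvd (by positivity) (hord ▸ dvd_mul_right _ _), hord,
      Nat.mul_div_cancel_left _ (by positivity)]
  exact ⟨s, ⟨(mem_oddSub D).2 (mem_oddPart.2 ⟨hsJ, hso⟩), s.2⟩, by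
    show φ s = e
    rw [hs, map_pow, map_pow, hne, hm]⟩

/-- An involution centralizing the image of `J` lifts to one centralizing `J`. -/
theorem exists_lift_invol {e : ↥N ⧸ Cfsg.oddCore ↥N} (he2 : e * e = 1)
    (hec : Commute e (QuotientGroup.mk' _ ⟨σ ^ h, c.sub_le hJ⟩)) :
    ∃ w, ∃ hw : w ∈ N, w * w = 1 ∧ Commute w (σ ^ h) ∧ QuotientGroup.mk' _ ⟨w, hw⟩ = e := by
  set φ := QuotientGroup.mk' (Cfsg.oddCore ↥N) with hφ
  have hJo := orderOf_J' D c hJ
  have hlift := DGroup.centralizer_lift (Cfsg.oddCore ↥N) Cfsg.Lib.ZStar.odd_card_oddCore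
    (j := (⟨σ ^ h, c.sub_le hJ⟩ : N)) (by rw [Subgroup.orderOf_mk]; exact hJo)
  have hmem : e ∈ centralizer ({φ ⟨σ ^ h, c.sub_le hJ⟩} : Set (↥N ⧸ Cfsg.oddCore ↥N)) :=
    mem_centralizer_singleton_iff.2 hec.eq
  rw [hlift] at hmem
  obtain ⟨n, hn, hne⟩ := hmem
  have hnn : n * n ∈ Cfsg.oddCore ↥N := (QuotientGroup.eq_one_iff _).1 (by
    show φ (n * n) = 1
    rw [map_mul, hne, he2])
  obtain ⟨k, hk⟩ : ∃ k, orderOf (n * n) = 2 * k + 1 := Cfsg.Lib.ZStar.odd_orderOf_oddCore hnn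
  obtain ⟨v, hv⟩ : ∃ v : N, v = n ^ (2 * k + 1) := ⟨_, rfl⟩
  refine ⟨v, v.2, congrArg Subtype.val (show v * v = 1 by
    rw [hv, ← (Commute.refl n).mul_pow, ← hk, pow_orderOf_eq_one]), ?_, ?_⟩
  · rw [hv, SubmonoidClass.coe_pow]
    exact Commute.pow_left (congrArg Subtype.val (mem_centralizer_singleton_iff.1 hn)) _
  · show φ v = e
    rw [hv, map_pow, hne, pow_succ, pow_mul, pow_two, he2, one_pow, one_mul]

variable {v : G} (hv : v ∈ c.sub) (hv2 : v * v = 1) (hv1 : v ≠ 1) (hvJ : v ≠ σ ^ h)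
  (hvc : Commute v (σ ^ h)) {z : G} (hz : z ∈ oddSub σ h ⊓ N) (hz1 : z ≠ 1)
  (hzi : v * z * v = z⁻¹)

include hv hv2 hv1 hvJ hvc hz hz1 hzi

theorem torus_witness : PSLType c.E ∨ ∃ t ∈ c.E, Odd (orderOf t) ∧ t ≠ 1 ∧
    Commute t (QuotientGroup.mk' _ ⟨σ ^ h, c.sub_le hJ⟩) ∧
    QuotientGroup.mk' _ ⟨v, c.sub_le hv⟩ * t * QuotientGroup.mk' _ ⟨v, c.sub_le hv⟩ = t⁻¹ := by
  refine Or.inr ⟨QuotientGroup.mk' _ ⟨z, hz.2⟩, c.inner_of_mem_sub
    (c.inverted_mem hv hv2 hz.2 (odd_orderOf D hz.1) hzi),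
    Comp.odd_orderOf_image _ (odd_orderOf D hz.1),
    c.inverted_image_ne_one hv hv2 hz.2 (odd_orderOf D hz.1) hzi hz1,
    Comp.image_commute _ _ (commute_J D hz.1), ?_⟩
  rw [← map_mul, ← map_mul, ← map_inv]
  exact congrArg _ (Subtype.ext hzi)

theorem image_v_ne : (QuotientGroup.mk' (Cfsg.oddCore ↥N) ⟨v, c.sub_le hv⟩) ≠
    QuotientGroup.mk' _ ⟨σ ^ h, c.sub_le hJ⟩ := fun e =>
  hvJ (Comp.eq_of_image_eq _ _ hv2 D.central_involution.1 hvc e)

/-- An element of odd order of the socle centralizing the image of `v` and `J` is trivial. -/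
theorem fixed_image {s : G} (hs : s ∈ oddSub σ h ⊓ N)
    (hsE : QuotientGroup.mk' (Cfsg.oddCore ↥N) ⟨s, hs.2⟩ ∈ c.E) (hsv : Commute s v) :
    QuotientGroup.mk' (Cfsg.oddCore ↥N) ⟨s, hs.2⟩ = 1 :=
  c.almost.fixed_eq_one (Comp.orderOf_image _ (orderOf_J' D c hJ)) (c.inner_of_mem_sub hJ)
    (by rw [← map_mul, show (⟨v, c.sub_le hv⟩ : N) * ⟨v, c.sub_le hv⟩ = 1 from Subtype.ext hv2,
      map_one])
    (Comp.image_ne_one _ (Cfsg.Lib.Invol.orderOf_eq_two_of hv1 hv2))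
    (image_v_ne D c hJ hv hv2 hv1 hvJ hvc hz hz1 hzi)
    (torus_witness D c hJ hv hv2 hv1 hvJ hvc hz hz1 hzi)
    hsE (Comp.odd_orderOf_image _ (odd_orderOf D hs.1)) (Comp.image_commute _ _ (commute_J D hs.1))
    (Comp.image_commute _ _ hsv)

/-- The elements of odd order of the centralizer of `J` in the socle come from inverted elements. -/
theorem exists_inverted_lift {e : ↥N ⧸ Cfsg.oddCore ↥N} (he : e ∈ c.E) (heo : Odd (orderOf e))
    (hec : Commute e (QuotientGroup.mk' _ ⟨σ ^ h, c.sub_le hJ⟩)) :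
    ∃ i, ∃ hi : i ∈ oddSub σ h ⊓ N, v * i * v = i⁻¹ ∧ QuotientGroup.mk' _ ⟨i, hi.2⟩ = e := by
  obtain ⟨s, hs, hse⟩ := exists_lift_odd D c hJ heo hec
  set φ := QuotientGroup.mk' (Cfsg.oddCore ↥N) with hφ
  have hUN : Odd (Nat.card ↥(oddSub σ h ⊓ N)) :=
    (odd_card_oddSub D).of_dvd_nat (card_dvd_of_le inf_le_left)
  have hvn : v ∈ normalizer ((oddSub σ h ⊓ N : Subgroup G) : Set G) :=
    mem_normalizer_fintype fun y (hy : y ∈ oddSub σ h ⊓ N) =>
      (show v * y * v⁻¹ ∈ oddSub σ h ⊓ N from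
        ⟨conj_oddSub D hvc hy.1, N.mul_mem (N.mul_mem (c.sub_le hv) hy.2) (N.inv_mem (c.sub_le hv))⟩)
  obtain ⟨u, hu, i, hi, huv, hiv, hsui⟩ := InvAct.exists_split hUN hv2 hvn hs
  have hiE : φ ⟨i, hi.2⟩ ∈ c.E :=
    c.inner_of_mem_sub (c.inverted_mem hv hv2 hi.2 (odd_orderOf D hi.1) hiv)
  have hue : φ ⟨u, hu.2⟩ = e * (φ ⟨i, hi.2⟩)⁻¹ := by
    rw [eq_mul_inv_iff_mul_eq, ← map_mul, ← hse]
    exact congrArg φ (Subtype.ext hsui.symm)
  have hu1 : φ ⟨u, hu.2⟩ = 1 := fixed_image D c hJ hv hv2 hv1 hvJ hvc hz hz1 hzi hu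
    (hue ▸ mul_mem he (inv_mem hiE)) huv
  refine ⟨i, hi, hiv, ?_⟩
  rw [hu1, eq_comm, mul_inv_eq_one] at hue
  exact hue.symm

/-- An element centralizing `v` and the inverted elements centralizes the component. -/
theorem centralize_sub {y : G} (hy : y ∈ oddSub σ h ⊓ N) (hyv : Commute y v)
    (hyT : ∀ i ∈ oddSub σ h ⊓ N, v * i * v = i⁻¹ → Commute y i) {l : G} (hl : l ∈ c.sub) :
    Commute l y := by
  refine c.commute_core hl hy.2 ?_
  refine c.almost.centralizing_eq_one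
    (Comp.orderOf_image _ (orderOf_J' D c hJ)) (c.inner_of_mem_sub hJ)
    (by rw [← map_mul, show (⟨v, c.sub_le hv⟩ : N) * ⟨v, c.sub_le hv⟩ = 1 from Subtype.ext hv2,
      map_one])
    (Comp.image_ne_one _ (Cfsg.Lib.Invol.orderOf_eq_two_of hv1 hv2))
    (image_v_ne D c hJ hv hv2 hv1 hvJ hvc hz hz1 hzi)
    (torus_witness D c hJ hv hv2 hv1 hvJ hvc hz hz1 hzi)
    (Comp.odd_orderOf_image _ (odd_orderOf D hy.1)) (Comp.image_commute _ _ (commute_J D hy.1))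
    (Comp.image_commute _ _ hyv) ?_
  intro e he heo hec
  obtain ⟨i, hi, hiv, rfl⟩ := exists_inverted_lift D c hJ hv hv2 hv1 hvJ hvc hz hz1 hzi he heo hec
  exact Comp.image_commute _ _ (hyT i hi hiv)

/-- The component is of type `PSL₂`, if every involution commuting with `J` inverts `z`. -/
theorem torus_pslType
    (hall : ∀ w : G, w * w = 1 → w ≠ 1 → w ≠ σ ^ h → Commute w (σ ^ h) → w * z * w = z⁻¹) :
    PSLType c.E := by
  refine c.almost.cases.resolve_right ?_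
  rintro ⟨-, hA⟩
  set φ := QuotientGroup.mk' (Cfsg.oddCore ↥N) with hφ
  obtain ⟨u, -, hu2, hu1, huj, huc, hut⟩ := c.almost.alt_commuting hA
    (Comp.orderOf_image (c.sub_le hJ) (orderOf_J' D c hJ)) (c.inner_of_mem_sub hJ)
    (c.inner_of_mem_sub (c.inverted_mem hv hv2 hz.2 (odd_orderOf D hz.1) hzi))
    (Comp.odd_orderOf_image hz.2 (odd_orderOf D hz.1)) (Comp.image_commute _ _ (commute_J D hz.1))
  obtain ⟨w, hw, hw2, hwc, hwe⟩ := exists_lift_invol D c hJ hu2 huc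
  have hi := hall w hw2 (fun e => hu1 ?_) (fun e => huj ?_) hwc
  · have e : φ ⟨w, hw⟩ * φ ⟨z, hz.2⟩ * φ ⟨w, hw⟩ = (φ ⟨z, hz.2⟩)⁻¹ := by
      rw [← map_mul, ← map_mul, ← map_inv]
      exact congrArg _ (Subtype.ext hi)
    rw [hwe] at e
    exact c.inverted_image_ne_one hv hv2 hz.2 (odd_orderOf D hz.1) hzi hz1
      (InvAct.eq_one_of_commute_inverted (Comp.odd_orderOf_image hz.2 (odd_orderOf D hz.1)) hu2
        hut.symm e)
  · rw [← hwe, show (⟨w, hw⟩ : N) = 1 from Subtype.ext e, map_one]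
  · rw [← hwe]
    exact congrArg φ (Subtype.ext e)

omit hz hz1 hzi in
/-- The count. -/
theorem torus_count (hz : z ∈ oddSub σ h ⊓ N) (hz1 : z ≠ 1) (hzi : v * z * v = z⁻¹)
    (hpsl : PSLType c.E) {p t W : ℕ} (hp : p.Prime) (hp2 : p ≠ 2) {T H : Subgroup G}
    (hT : ∀ s, s ∈ T ↔ s ∈ oddSub σ h ⊓ N ∧ v * s * v = s⁻¹) (hTc : Nat.card T = p * t)
    (hH : H ≤ oddSub σ h ⊓ N) (hHv : ∀ a ∈ H, Commute a v) (hHc : Nat.card H = W)
    {k : ℕ} (hk : σ ^ 2 ^ k ∈ c.sub) :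
    ∃ q d u j : ℕ, IsPrimePow q ∧ 4 ∣ u ∧ j ∣ 4 * h ∧ u * j = 4 * h * t ∧
      ((q = u * p + 1 ∧ 2 * d = u * p + 2) ∨ (q + 1 = u * p ∧ 2 * d + 2 = u * p)) ∧
      j ≤ 2 ^ k ∧ q * d * W ∣ Nat.card G := by
  classical
  obtain ⟨F, iF, iF', hodd, h3, ⟨e⟩⟩ := hpsl
  haveI := c.almost.normal
  set φ := QuotientGroup.mk' (Cfsg.oddCore ↥N) with hφ
  have hJo := orderOf_J' D c hJ
  obtain ⟨j₀, hj₀⟩ : ∃ j₀, j₀ = φ ⟨σ ^ h, c.sub_le hJ⟩ := ⟨_, rfl⟩
  have hjE : j₀ ∈ c.E := hj₀ ▸ c.inner_of_mem_sub hJ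
  have hjo : orderOf j₀ = 2 := hj₀ ▸ Comp.orderOf_image _ hJo
  obtain ⟨C, hC⟩ : ∃ C, C = c.E ⊓ centralizer ({j₀} : Set (↥N ⧸ Cfsg.oddCore ↥N)) := ⟨_, rfl⟩
  have hmC : ∀ {e}, e ∈ C ↔ e ∈ c.E ∧ Commute e j₀ := fun {e} => by
    simp only [hC, Subgroup.mem_inf, mem_centralizer_singleton_iff, commute_iff_eq]
  -- the image of `T`
  have hTN : T ≤ N := fun s hs => ((hT s).1 hs).1.2
  let ψ : T →* ↥N ⧸ Cfsg.oddCore ↥N := φ.comp (Subgroup.inclusion hTN)
  have hTodd : ∀ s : T, Odd (orderOf (s : G)) := fun s => odd_orderOf D ((hT s).1 s.2).1.1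
  have hinj : Function.Injective ψ := (injective_iff_map_eq_one ψ).2 fun s hs => by
    by_contra hs1
    exact c.inverted_image_ne_one hv hv2 (hTN s.2) (hTodd s) ((hT s).1 s.2).2
      (fun e => hs1 (Subtype.ext e)) hs
  have hψC : ∀ s : T, ψ s ∈ C := fun s => hmC.2
    ⟨c.inner_of_mem_sub (c.inverted_mem hv hv2 (hTN s.2) (hTodd s) ((hT s).1 s.2).2),
      hj₀ ▸ Comp.image_commute _ _ (commute_J D ((hT s).1 s.2).1.1)⟩
  have hle : ψ.range ≤ C := by rintro _ ⟨s, rfl⟩; exact hψC s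
  have hTcard : Nat.card ψ.range = p * t := by
    rw [← hTc]
    exact (Nat.card_congr (MonoidHom.ofInjective hinj).toEquiv).symm
  have hTo : Odd (p * t) := by
    rw [← hTc]
    exact (odd_card_oddSub D).of_dvd_nat (card_dvd_of_le fun s hs => ((hT s).1 hs).1.1)
  have hsurj : ∀ e ∈ C, Odd (orderOf e) → e ∈ ψ.range := fun e he heo => by
    obtain ⟨i, hi, hiv, hie⟩ := exists_inverted_lift D c hJ hv hv2 hv1 hvJ hvc hz hz1 hzi
      (hmC.1 he).1 heo (hj₀ ▸ (hmC.1 he).2)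
    exact ⟨⟨i, (hT i).2 ⟨hi, hiv⟩⟩, hie⟩
  -- `|C| = 2 ^ a p t`
  obtain ⟨a, ha⟩ : ∃ a, Nat.card C = 2 ^ a * (p * t) := by
    obtain ⟨ix, hix⟩ : ∃ ix, Nat.card C = ix * (p * t) := by
      obtain ⟨ix, hix⟩ := hTcard ▸ card_dvd_of_le hle
      exact ⟨ix, by rw [hix, mul_comm]⟩
    obtain ⟨a, b, hb, hab⟩ := Nat.exists_eq_two_pow_mul_odd (n := ix) fun e => by
      rw [e, zero_mul] at hix
      exact absurd hix Nat.card_pos.ne'
    refine ⟨a, ?_⟩
    rw [hix, hab]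
    suffices hb1 : b = 1 by rw [hb1, mul_one]
    by_contra hb1
    obtain ⟨r, hr, hrb⟩ := Nat.exists_prime_and_dvd hb1
    haveI : Fact r.Prime := ⟨hr⟩
    obtain ⟨S⟩ : Nonempty (Sylow r C) := inferInstance
    obtain ⟨n, hn⟩ := IsPGroup.iff_card.1 S.isPGroup'
    have hSle : (S : Subgroup C).map C.subtype ≤ ψ.range := by
      rintro _ ⟨x, hx, rfl⟩
      refine hsurj _ x.2 ?_
      have h1 : orderOf (x : ↥N ⧸ Cfsg.oddCore ↥N) ∣ r ^ n := by
        rw [Subgroup.orderOf_coe, ← hn]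
        exact Subgroup.orderOf_dvd_natCard _ hx
      exact ((hb.of_dvd_nat hrb).pow).of_dvd_nat h1
    have h1 : r ^ n ∣ p * t := by
      have := card_dvd_of_le hSle
      rwa [card_map_of_injective C.subtype_injective, hn, hTcard] at this
    refine S.not_dvd_index ?_
    have h2 := (S : Subgroup C).index_mul_card
    rw [hn, hix, hab] at h2
    obtain ⟨m, hm⟩ := h1
    obtain ⟨b', rfl⟩ := hrb
    rw [hm] at h2
    have h3 : (S : Subgroup C).index = r * (2 ^ a * b' * m) :=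
      Nat.eq_of_mul_eq_mul_right (pow_pos hr.pos n) (h2.trans (by ring))
    exact Dvd.intro _ h3.symm
  -- two-parts
  have h2G : ∀ i : ℕ, 2 ^ i ∣ Nat.card G → 2 ^ i ∣ 4 * h := fun i hi => by
    rw [← D.card]
    exact P.pow_dvd_card_of_pow_dvd_card (by simpa using hi)
  have hNG : Nat.card (↥N ⧸ Cfsg.oddCore ↥N) ∣ Nat.card G :=
    (Subgroup.card_dvd_of_surjective φ (QuotientGroup.mk'_surjective _)).trans N.card_subgroup_dvd_card
  have ha4 : 2 ^ a ∣ 4 * h :=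
    h2G a ((Dvd.intro _ ha.symm).trans ((Subgroup.card_subgroup_dvd_card C).trans hNG))
  obtain ⟨v₀, hv₀⟩ : ∃ v₀, v₀ = φ ⟨v, c.sub_le hv⟩ := ⟨_, rfl⟩
  have hv₀2 : v₀ * v₀ = 1 := by
    rw [hv₀, ← map_mul, show (⟨v, c.sub_le hv⟩ : N) * ⟨v, c.sub_le hv⟩ = 1 from Subtype.ext hv2,
      map_one]
  have hv₀1 : v₀ ≠ 1 := hv₀ ▸ Comp.image_ne_one _ (Cfsg.Lib.Invol.orderOf_eq_two_of hv1 hv2)
  have hv₀j : v₀ ≠ j₀ := hv₀ ▸ hj₀ ▸ image_v_ne D c hJ hv hv2 hv1 hvJ hvc hz hz1 hzi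
  have hv₀C : v₀ ∈ C := hmC.2
    ⟨hv₀ ▸ c.inner_of_mem_sub hv, hv₀ ▸ hj₀ ▸ Comp.image_commute _ _ hvc⟩
  have hjC : j₀ ∈ C := hmC.2 ⟨hjE, Commute.refl _⟩
  -- a cyclic two-subgroup is not a Sylow subgroup of `C`
  have hcyc : ∀ g ∈ C, ∀ n : ℕ, orderOf g = 2 ^ n → 1 ≤ n → j₀ ∈ zpowers g → 2 ^ (n + 1) ∣ 2 ^ a := by
    intro g hg n hn hn1 hjg
    refine pow_dvd_pow 2 ?_
    by_contra hlt
    have hd : 2 ^ n ∣ 2 ^ a * (p * t) := hn ▸ ha ▸ Subgroup.orderOf_dvd_natCard C hg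
    have hna : n = a := le_antisymm
      ((Nat.pow_dvd_pow_iff_le_right (by norm_num)).1
        (((Nat.coprime_two_left.2 hTo).pow_left n).dvd_of_dvd_mul_right hd)) (by omega)
    subst hna
    have hgC : IsPGroup 2 (zpowers (⟨g, hg⟩ : C)) := IsPGroup.iff_card.2
      ⟨n, by rw [Nat.card_zpowers, Subgroup.orderOf_mk, hn]⟩
    have hvC2 : IsPGroup 2 (zpowers (⟨v₀, hv₀C⟩ : C)) := IsPGroup.iff_card.2
      ⟨1, by rw [Nat.card_zpowers, Subgroup.orderOf_mk, pow_one,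
        Cfsg.Lib.Invol.orderOf_eq_two_of hv₀1 hv₀2]⟩
    obtain ⟨S, hS⟩ := hgC.exists_le_sylow
    obtain ⟨S', hS'⟩ := hvC2.exists_le_sylow
    obtain ⟨b, hb⟩ := MulAction.exists_smul_eq C S' S
    have hSc : (S : Subgroup C) = zpowers (⟨g, hg⟩ : C) := by
      refine (eq_of_le_of_card_ge hS ?_).symm
      rw [Nat.card_zpowers, Subgroup.orderOf_mk, hn]
      obtain ⟨i, hi⟩ := IsPGroup.iff_card.1 S.isPGroup'
      rw [hi]
      refine Nat.pow_le_pow_right two_pos ((Nat.pow_dvd_pow_iff_le_right (by norm_num)).1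
        (((Nat.coprime_two_left.2 hTo).pow_left i).dvd_of_dvd_mul_right ?_))
      rw [← hi, ← ha]
      exact Subgroup.card_subgroup_dvd_card _
    have hbv : b * ⟨v₀, hv₀C⟩ * b⁻¹ ∈ zpowers (⟨g, hg⟩ : C) := by
      rw [← hSc, ← hb, Sylow.coe_subgroup_smul, Subgroup.mem_smul_pointwise_iff_exists]
      exact ⟨_, hS' (mem_zpowers _), rfl⟩
    have hinv : ∀ x y : zpowers g, orderOf x = 2 → orderOf y = 2 → x = y := by
      intro x y hx hy
      by_contra hne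
      have h2 : (Finset.univ.filter fun z : zpowers g => z ^ 2 = 1).card ≤ 2 :=
        IsCyclic.card_pow_eq_one_le two_pos
      have hsub : ({1, x, y} : Finset (zpowers g)) ⊆ Finset.univ.filter fun z => z ^ 2 = 1 := by
        intro z hz'
        simp only [Finset.mem_insert, Finset.mem_singleton] at hz'
        rcases hz' with rfl | rfl | rfl <;> simp only [Finset.mem_filter, Finset.mem_univ, true_and]
        · exact one_pow 2
        · exact orderOf_dvd_iff_pow_eq_one.1 hx.dvd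
        · exact orderOf_dvd_iff_pow_eq_one.1 hy.dvd
      have h3 := (Finset.card_le_card hsub).trans h2
      rw [Finset.card_insert_of_notMem, Finset.card_pair hne] at h3
      · omega
      · simp only [Finset.mem_insert, Finset.mem_singleton, not_or]
        exact ⟨fun e => by rw [← e, orderOf_one] at hx; omega,
          fun e => by rw [← e, orderOf_one] at hy; omega⟩
    obtain ⟨i, hi⟩ := mem_zpowers_iff.1 hbv
    have hbg : (b : ↥N ⧸ Cfsg.oddCore ↥N) * v₀ * (b : ↥N ⧸ Cfsg.oddCore ↥N)⁻¹ ∈ zpowers g :=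
      mem_zpowers_iff.2 ⟨i, congrArg Subtype.val hi⟩
    have := congrArg Subtype.val (hinv ⟨_, hbg⟩ ⟨j₀, hjg⟩ (by
      rw [Subgroup.orderOf_mk, ← MulAut.conj_apply, MulEquiv.orderOf_eq,
        Cfsg.Lib.Invol.orderOf_eq_two_of hv₀1 hv₀2]) (by rw [Subgroup.orderOf_mk, hjo]))
    simp only at this
    refine hv₀j ?_
    calc v₀ = (b : ↥N ⧸ Cfsg.oddCore ↥N)⁻¹ * (b * v₀ * (b : ↥N ⧸ Cfsg.oddCore ↥N)⁻¹) * b := by group
      _ = (b : ↥N ⧸ Cfsg.oddCore ↥N)⁻¹ * (b * j₀) := by rw [this, (hmC.1 b.2).2.eq, mul_assoc]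
      _ = j₀ := inv_mul_cancel_left _ _
  have ha2 : 2 ≤ a := by
    have := (Nat.pow_dvd_pow_iff_le_right (by norm_num)).1
      (hcyc j₀ hjC 1 (by rw [hjo, pow_one]) le_rfl (mem_zpowers _))
    omega
  -- `q ∓ 1 = 2 ^ a p t`
  let j₁ : c.E := ⟨j₀, hjE⟩
  have hord : orderOf (e j₁) = 2 := by rw [e.orderOf_eq, Subgroup.orderOf_mk, hjo]
  have hce : Nat.card (centralizer ({e j₁} : Set (Matrix.ProjectiveSpecialLinearGroup (Fin 2) F))) =
      Nat.card C := by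
    refine (Nat.card_congr
      { toFun := fun x : C => (⟨e ⟨x.1, (hmC.1 x.2).1⟩, mem_centralizer_singleton_iff.2
          ((show Commute (⟨x.1, (hmC.1 x.2).1⟩ : c.E) j₁ from Subtype.ext (hmC.1 x.2).2.eq).map
            e.toMonoidHom).eq⟩ :
              centralizer ({e j₁} : Set (Matrix.ProjectiveSpecialLinearGroup (Fin 2) F)))
        invFun := fun y => ⟨(e.symm y.1 : c.E), hmC.2 ⟨(e.symm y.1).2,
          congrArg Subtype.val (e.injective (by
            rw [map_mul, map_mul, e.apply_symm_apply]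
            exact mem_centralizer_singleton_iff.1 y.2) : e.symm y.1 * j₁ = j₁ * e.symm y.1)⟩⟩
        left_inv := fun x => Subtype.ext (by simp)
        right_inv := fun y => Subtype.ext (by simp) }).symm
  have hq : Fintype.card F % 2 = 1 := Nat.odd_iff.1 hodd
  have hp3 : 3 ≤ p := by
    have := hp.two_le
    omega
  have h7 : 7 ≤ Fintype.card F := by
    by_contra hlt
    have hq5 : Fintype.card F = 5 := by omega
    haveI : Fact (Nat.Prime p) := ⟨hp⟩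
    obtain ⟨s, hs⟩ := exists_prime_orderOf_dvd_card' p (hTc ▸ dvd_mul_right p t : p ∣ Nat.card T)
    obtain ⟨x, hx⟩ : ∃ x : c.E, x = ⟨ψ s, (hmC.1 (hψC s)).1⟩ := ⟨_, rfl⟩
    have hxo : orderOf (e x) = p := by
      rw [e.orderOf_eq, hx, Subgroup.orderOf_mk, orderOf_injective ψ hinj, hs]
    have hxj : Commute (e x) (e j₁) :=
      (show Commute x j₁ from hx ▸ Subtype.ext (hmC.1 (hψC s)).2.eq).map e.toMonoidHom
    have hm : orderOf (e x * e j₁) = p * 2 := by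
      rw [hxj.orderOf_mul_eq_mul_orderOf_of_coprime
        (by rw [hxo, hord]; exact Nat.coprime_two_right.2 (hp.odd_of_ne_two hp2)), hxo, hord]
    obtain ⟨l, hlp, hl, n, hn0, hn⟩ := Cfsg.Lib.Dickson.exists_char (F := F)
    haveI := Fact.mk hlp
    have hl5 : l = 5 := ((Nat.prime_dvd_prime_iff_eq hlp (by norm_num : Nat.Prime 5)).1
      (hq5 ▸ hn ▸ dvd_pow_self l hn0.ne'))
    have hspec := (Cfsg.Lib.Spec.psl_two_spectrum (F := F) l (by omega)).subset ⟨_, hm⟩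
    rw [Set.mem_setOf_eq, hq5, hl5] at hspec
    norm_num at hspec
    rcases hspec with h' | h' | h' <;> have := Nat.le_of_dvd (by norm_num) h' <;>
      rcases (show p = 3 ∨ p ≥ 5 by omega) with e' | e' <;>
      first | omega | (rw [e'] at h'; norm_num at h')
  have hqc := card_centralizer_cases hq h7 hord
  rw [hce, ha] at hqc
  obtain ⟨u, hu⟩ : ∃ u, u = 2 ^ a * t := ⟨_, rfl⟩
  have hup : 2 ^ a * (p * t) = u * p := by rw [hu]; ring
  rw [hup] at hqc
  have hu4 : 4 ∣ u := hu ▸ Dvd.dvd.mul_right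
    ((show (4 : ℕ) = 2 ^ 2 by norm_num) ▸ pow_dvd_pow 2 ha2) t
  obtain ⟨jj, hjj⟩ := ha4
  have hq2 : ∃ d, (Fintype.card F = u * p + 1 ∧ 2 * d = u * p + 2) ∨
      (Fintype.card F + 1 = u * p ∧ 2 * d + 2 = u * p) := by
    obtain ⟨i, hi⟩ := hu4.mul_right p
    rcases hqc with ⟨-, h'⟩ | ⟨-, h'⟩
    · exact ⟨2 * i + 1, Or.inl ⟨by omega, by omega⟩⟩
    · exact ⟨2 * i - 1, Or.inr ⟨by omega, by omega⟩⟩
  obtain ⟨d, hd⟩ := hq2
  refine ⟨Fintype.card F, d, u, jj, FiniteField.isPrimePow_card F, hu4, ⟨2 ^ a, hjj.trans (mul_comm _ _)⟩,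
    by rw [hu, hjj]; ring, hd, ?_, ?_⟩
  · -- the power of the rotation
    by_contra hlt
    have hh := D.two_le
    obtain ⟨n, hn⟩ : ∃ n, 4 * h = 2 ^ n := by
      obtain ⟨m, hm⟩ := P.isPGroup'.exists_card_eq
      exact ⟨m, by rw [← hm, D.card]⟩
    have hn3 : 3 ≤ n := by
      by_contra h'
      have := Nat.pow_le_pow_right two_pos (show n ≤ 2 by omega)
      omega
    obtain ⟨j', hj', rfl⟩ := (Nat.dvd_prime_pow Nat.prime_two).1
      (hn ▸ ⟨2 ^ a, hjj.trans (mul_comm _ _)⟩ : jj ∣ 2 ^ n)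
    have hkj : k < j' := (Nat.pow_lt_pow_iff_right (by norm_num)).1 (not_le.1 hlt)
    have haj : a + j' = n := Nat.pow_right_injective (le_refl 2) (by
      show 2 ^ (a + j') = 2 ^ n
      rw [pow_add, ← hjj, hn])
    obtain ⟨g, hg⟩ : ∃ g, g = φ ⟨σ ^ 2 ^ k, c.sub_le hk⟩ := ⟨_, rfl⟩
    have hσ2h : orderOf σ = 2 ^ (n - 1) := by
      have h1 : 2 ^ n = 2 * 2 ^ (n - 1) := by rw [← pow_succ']; congr 1; omega
      rw [D.orderσ]
      omega
    have hσk : orderOf (σ ^ 2 ^ k) = 2 ^ (n - 1 - k) := by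
      rw [orderOf_pow' _ (by positivity), hσ2h,
        Nat.gcd_eq_right (pow_dvd_pow 2 (by omega : k ≤ n - 1)), Nat.pow_div (by omega) two_pos]
    have hh2 : h = 2 ^ (n - 2) := by
      have h1 : 2 ^ n = 4 * 2 ^ (n - 2) := by
        rw [show (4 : ℕ) = 2 ^ 2 by norm_num, ← pow_add]; congr 1; omega
      omega
    have hJg : j₀ ∈ zpowers g := by
      refine mem_zpowers_iff.2 ⟨((2 ^ (n - 2 - k) : ℕ) : ℤ), ?_⟩
      rw [zpow_natCast, hg, hj₀, ← map_pow]
      refine congrArg φ (Subtype.ext ?_)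
      rw [SubmonoidClass.coe_pow]
      show (σ ^ 2 ^ k) ^ 2 ^ (n - 2 - k) = σ ^ h
      rw [← pow_mul, ← pow_add, hh2]
      congr 2
      omega
    have hgo : orderOf g = 2 ^ (n - 1 - k) := by
      obtain ⟨i, hi, hi'⟩ := (Nat.dvd_prime_pow Nat.prime_two).1 (show orderOf g ∣ 2 ^ (n - 1 - k) from
        hg ▸ (orderOf_map_dvd φ _).trans (by rw [Subgroup.orderOf_mk, hσk]))
      rw [hi']
      congr 1
      by_contra hne
      -- otherwise a smaller power kills `J`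
      have h1 : g ^ 2 ^ (n - 2 - k) = 1 := by
        refine orderOf_dvd_iff_pow_eq_one.1 ?_
        rw [hi']
        exact pow_dvd_pow 2 (by omega)
      have h2 : g ^ 2 ^ (n - 2 - k) = j₀ := by
        rw [hg, hj₀, ← map_pow]
        refine congrArg φ (Subtype.ext ?_)
        rw [SubmonoidClass.coe_pow]
        show (σ ^ 2 ^ k) ^ 2 ^ (n - 2 - k) = σ ^ h
        rw [← pow_mul, ← pow_add, hh2]
        congr 2
        omega
      rw [h2] at h1
      exact Cfsg.Lib.Invol.ne_one hjo h1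
    have hgC : g ∈ C := hmC.2 ⟨hg ▸ c.inner_of_mem_sub hk,
      hg ▸ hj₀ ▸ Comp.image_commute _ _ ((Commute.refl σ).pow_pow _ _)⟩
    have := (Nat.pow_dvd_pow_iff_le_right (by norm_num)).1 (hcyc g hgC _ hgo (by omega) hJg)
    omega
  · -- divisibility
    let ρ : H →* ↥N ⧸ Cfsg.oddCore ↥N := φ.comp (Subgroup.inclusion fun a ha => (hH ha).2)
    have hdis : Disjoint c.E ρ.range := by
      rw [Subgroup.disjoint_def]
      rintro _ hx ⟨a, rfl⟩
      exact fixed_image D c hJ hv hv2 hv1 hvJ hvc hz hz1 hzi (hH a.2) hx (hHv a a.2)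
    have h1 : Nat.card c.E * Nat.card ρ.range ∣ Nat.card (↥N ⧸ Cfsg.oddCore ↥N) := by
      have hsup : Nat.card c.E * Nat.card ρ.range = Nat.card ↥(c.E ⊔ ρ.range) := by
        rw [← Nat.card_prod]
        refine Nat.card_congr (Equiv.ofBijective
          (fun q : c.E × ρ.range => (⟨(q.1 : ↥N ⧸ Cfsg.oddCore ↥N) * q.2,
            mul_mem (mem_sup_left q.1.2) (mem_sup_right q.2.2)⟩ : ↥(c.E ⊔ ρ.range))) ⟨?_, ?_⟩)
        · intro q q' e'
          exact mul_injective_of_disjoint hdis (congrArg Subtype.val e')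
        · rintro ⟨x, hx⟩
          obtain ⟨a, ha, b, hb, rfl⟩ : ∃ a ∈ c.E, ∃ b ∈ ρ.range, a * b = x := by
            have := (c.E.normal_mul ρ.range).symm ▸ (show x ∈ ((c.E ⊔ ρ.range : Subgroup _) : Set _) from hx)
            exact Set.mem_mul.1 this
          exact ⟨(⟨a, ha⟩, ⟨b, hb⟩), rfl⟩
      rw [hsup]
      exact Subgroup.card_subgroup_dvd_card _
    have h2 : W ∣ Nat.card ρ.range * Nat.card (Cfsg.oddCore ↥N) := by
      rw [← hHc, ← Subgroup.index_mul_card ρ.ker, Subgroup.index_ker]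
      refine Nat.mul_dvd_mul_left _ ?_
      let g₀ : ρ.ker →* Cfsg.oddCore ↥N :=
        { toFun := fun x => ⟨Subgroup.inclusion (fun a ha => (hH ha).2) (x : H),
            (QuotientGroup.eq_one_iff _).1 x.2⟩
          map_one' := rfl
          map_mul' := fun _ _ => rfl }
      refine Subgroup.card_dvd_of_injective g₀ fun x y e' => ?_
      have e'' : ((g₀ x : ↥N) : G) = ((g₀ y : ↥N) : G) := by rw [e']
      exact Subtype.ext (Subtype.ext e'')
    have h3 : Fintype.card F * d ∣ Nat.card c.E := by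
      rw [Nat.card_congr e.toEquiv]
      have hcard := Cfsg.Lib.Dickson.card_psl_mul (K := F) hq
      obtain ⟨i, hi⟩ := hu4.mul_right p
      rw [hi] at hd
      rcases hd with ⟨e1, e2⟩ | ⟨e1, e2⟩
      · refine ⟨4 * i, ?_⟩
        refine Nat.eq_of_mul_eq_mul_left two_pos (hcard.trans ?_)
        rw [show Fintype.card F ^ 2 - 1 = (Fintype.card F + 1) * (Fintype.card F - 1) by
          rw [← Nat.sq_sub_sq, one_pow], show Fintype.card F + 1 = 2 * d by omega,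
          show Fintype.card F - 1 = 4 * i by omega]
        ring
      · refine ⟨4 * i, ?_⟩
        refine Nat.eq_of_mul_eq_mul_left two_pos (hcard.trans ?_)
        rw [show Fintype.card F ^ 2 - 1 = (Fintype.card F + 1) * (Fintype.card F - 1) by
          rw [← Nat.sq_sub_sq, one_pow], show Fintype.card F - 1 = 2 * d by omega,
          show Fintype.card F + 1 = 4 * i by omega]
        ring
    calc Fintype.card F * d * W ∣ Nat.card c.E * (Nat.card ρ.range * Nat.card (Cfsg.oddCore ↥N)) :=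
          Nat.mul_dvd_mul h3 h2
      _ ∣ Nat.card (↥N ⧸ Cfsg.oddCore ↥N) * Nat.card (Cfsg.oddCore ↥N) := by
          rw [← mul_assoc]; exact Nat.mul_dvd_mul_right h1 _
      _ ∣ Nat.card G := by
          rw [← Subgroup.card_eq_card_quotient_mul_card_subgroup]
          exact N.card_subgroup_dvd_card

end Cfsg.Lib.GW.CMax
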