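import Cfsg.Agent.Lib.GW.CaseA
import Cfsg.Agent.Lib.GW.CMax.Local

/-!
# Transfer from rotors

If every reflection `x` is the image of `J` under an element centralizing `C_U(x)`, then
`C = C' P`.  So a homomorphism of `C` with `P` central kills `U`: `U` centralizes the sections on
which `P` is scalar, and has no nontrivial `P`-invariant homomorphism to an abelian group.
-/

set_option autoImplicit false
set_option linter.unusedSectionVars false
set_option linter.style.haveILetI false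
set_option maxHeartbeats 800000

namespace Cfsg.Lib.GW.CMax

open Cfsg Cfsg.Lib.Block
open Cfsg.Lib.Block.DihSylow (oddPart mem_oddPart)
open scoped commutatorElement

universe u

variable {G : Type u} [Group G] [Fintype G] [Fact (Nat.Prime 2)] {P : Sylow 2 G} {σ τ : G} {h : ℕ}

/-- Every reflection is the image of `J` under an element centralizing its fixed points in `U`. -/
def RotorAll (P : Sylow 2 G) (σ : G) (h : ℕ) : Prop :=
  ∀ x ∈ (P : Subgroup G), x ∉ Subgroup.zpowers σ →
    ∃ l, l * σ ^ h * l⁻¹ = x ∧ ∀ w ∈ oddSub σ h, Commute w x → Commute l w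

variable (D : DihSylow P σ τ h)

include D

/-- **(H)** from the rotors: a linear character of the centralizer trivial on `P` respects the fusion of the
sections. -/
theorem sections_of_rotor (hconjJ : ∀ a : G, a * a = 1 → a ≠ 1 → IsConj (σ ^ h) a)
    (hR : RotorAll P σ h) (Λ : Subgroup.centralizer ({σ ^ h} : Set G) →* ℂˣ)
    (hP : ∀ z : Subgroup.centralizer ({σ ^ h} : Set G), (z : G) ∈ (P : Subgroup G) → Λ z = 1)
    (g y : Subgroup.centralizer ({σ ^ h} : Set G)) (hy : (y : G) ∈ oddPart σ h)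
    (hg : IsConj (σ ^ h * (y : G)) (g : G)) : Λ g = Λ y := by
  classical
  obtain ⟨hJ2, hJ1, hJc⟩ := D.central_involution
  obtain ⟨hyJ, m, hm⟩ := mem_oddPart.1 hy
  obtain ⟨z, hz⟩ := isConj_iff.1 hg
  have hmem : ∀ {w : G}, Commute w (σ ^ h) → w ∈ Subgroup.centralizer ({σ ^ h} : Set G) :=
    fun hw => Subgroup.mem_centralizer_singleton_iff.2 hw.eq
  have hgJ : Commute (g : G) (σ ^ h) := Subgroup.mem_centralizer_singleton_iff.1 g.2
  have hconj : ∀ {c d : G} (hc : Commute c (σ ^ h)) (hd : Commute d (σ ^ h))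
      (e : Commute (c * d * c⁻¹) (σ ^ h)), Λ ⟨_, hmem e⟩ = Λ ⟨d, hmem hd⟩ := by
    intro c d hc hd e
    rw [show (⟨_, hmem e⟩ : Subgroup.centralizer ({σ ^ h} : Set G)) =
      ⟨c, hmem hc⟩ * ⟨d, hmem hd⟩ * ⟨c, hmem hc⟩⁻¹ from rfl, map_mul, map_mul, map_inv]
    exact mul_inv_cancel_comm _ _
  -- the two parts of `g`
  have hpow : (σ ^ h * (y : G)) ^ orderOf (y : G) = σ ^ h := by
    rw [hyJ.symm.mul_pow, pow_orderOf_eq_one, mul_one, hm, pow_succ, pow_mul, pow_two, hJ2,
      one_pow, one_mul]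
  have htC : Commute (z * σ ^ h * z⁻¹) (σ ^ h) := by
    have e : z * σ ^ h * z⁻¹ = (g : G) ^ orderOf (y : G) := by
      rw [← hz, conj_pow, hpow]
    rw [e]
    exact hgJ.pow_left _
  have hwC : Commute (z * (y : G) * z⁻¹) (σ ^ h) := by
    have e : z * (y : G) * z⁻¹ = (z * σ ^ h * z⁻¹)⁻¹ * (g : G) := by rw [← hz]; group
    rw [e]
    exact htC.inv_left.mul_left hgJ
  have ht2 : z * σ ^ h * z⁻¹ * (z * σ ^ h * z⁻¹) = 1 := by
    rw [show ∀ n a : G, n * a * n⁻¹ * (n * a * n⁻¹) = n * (a * a) * n⁻¹ from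
      fun n a => by group, hJ2]
    group
  obtain ⟨c, hc, hcP⟩ := exists_conj_mem D ht2 htC
  have htL : Λ ⟨_, hmem htC⟩ = 1 := by
    have e : Commute (c * (z * σ ^ h * z⁻¹) * c⁻¹) (σ ^ h) := hJc _ hcP
    rw [← hconj hc htC e]
    exact hP _ hcP
  have hgL : Λ g = Λ ⟨_, hmem hwC⟩ := by
    have e : g = (⟨_, hmem htC⟩ : Subgroup.centralizer ({σ ^ h} : Set G)) * ⟨_, hmem hwC⟩ := by
      refine Subtype.ext ?_
      show (g : G) = z * σ ^ h * z⁻¹ * (z * (y : G) * z⁻¹)
      rw [← hz]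
      group
    conv_lhs => rw [e]
    rw [map_mul, htL, one_mul]
  -- the odd part moved by `c`
  obtain ⟨w, hw⟩ : ∃ w, w = c * (z * (y : G) * z⁻¹) * c⁻¹ := ⟨_, rfl⟩
  have hw' : w = c * z * (y : G) * (c * z)⁻¹ := by rw [hw]; group
  have hwJ : Commute w (σ ^ h) := by
    rw [hw]; exact (hc.mul_left hwC).mul_left hc.inv_left
  have hwU : w ∈ oddPart σ h := by
    refine mem_oddPart.2 ⟨hwJ, ?_⟩
    rw [hw', show c * z * (y : G) * (c * z)⁻¹ = MulAut.conj (c * z) (y : G) from
      (MulAut.conj_apply _ _).symm, MulEquiv.orderOf_eq]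
    exact ⟨m, hm⟩
  obtain ⟨x, hx⟩ : ∃ x, x = c * (z * σ ^ h * z⁻¹) * c⁻¹ := ⟨_, rfl⟩
  have hx' : x = c * z * σ ^ h * (c * z)⁻¹ := by rw [hx]; group
  rw [← hx] at hcP
  have hxw : Commute x w := by
    have e := hyJ.symm.map (MulAut.conj (c * z)).toMonoidHom
    simp only [MulEquiv.coe_toMonoidHom, MulAut.conj_apply] at e
    rw [hx', hw']
    exact e
  have hwL : Λ g = Λ ⟨w, hmem hwJ⟩ := by
    rw [hgL]
    have e : Commute (c * (z * (y : G) * z⁻¹) * c⁻¹) (σ ^ h) := hw ▸ hwJ
    rw [← hconj hc hwC e]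
    exact congrArg Λ (Subtype.ext hw.symm)
  rw [hwL]
  -- an element of `C` taking `y` to `w`
  suffices key : ∃ a, Commute a (σ ^ h) ∧ a * (y : G) * a⁻¹ = w by
    obtain ⟨a, ha, hay⟩ := key
    have e : Commute (a * (y : G) * a⁻¹) (σ ^ h) := hay ▸ hwJ
    rw [← hconj ha hyJ e]
    exact congrArg Λ (Subtype.ext hay.symm)
  by_cases hxσ : x ∈ Subgroup.zpowers σ
  · have hxJ : x = σ ^ h := by
      refine (D.eq_central_of_sq hxσ ?_).resolve_left ?_
      · rw [hx', show ∀ n a : G, n * a * n⁻¹ * (n * a * n⁻¹) = n * (a * a) * n⁻¹ from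
          fun n a => by group, hJ2]
        group
      · rw [hx']
        exact fun e => hJ1 (conj_eq_one_iff.1 e)
    refine ⟨c * z, ?_, hw'.symm⟩
    exact mul_inv_eq_iff_eq_mul.1 (hx'.symm.trans hxJ)
  · obtain ⟨d, hd, hdW⟩ := hR x hcP hxσ
    have hdw : Commute d w := hdW w ((mem_oddSub D).2 hwU) hxw.symm
    refine ⟨d⁻¹ * (c * z), ?_, ?_⟩
    · have e : d⁻¹ * (c * z) * σ ^ h * (d⁻¹ * (c * z))⁻¹ = σ ^ h := by
        calc d⁻¹ * (c * z) * σ ^ h * (d⁻¹ * (c * z))⁻¹
            = d⁻¹ * (c * z * σ ^ h * (c * z)⁻¹) * d := by group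
          _ = d⁻¹ * (d * σ ^ h * d⁻¹) * d := by rw [← hx', hd]
          _ = σ ^ h := by group
      exact mul_inv_eq_iff_eq_mul.1 e
    · calc d⁻¹ * (c * z) * (y : G) * (d⁻¹ * (c * z))⁻¹
          = d⁻¹ * (c * z * (y : G) * (c * z)⁻¹ * d) := by group
        _ = d⁻¹ * (d * w) := by rw [← hw', hdw.eq]
        _ = w := by group

/-- With rotors the centralizer of the involution is generated by its commutators and `P`. -/
theorem commutator_sup_of_rotor [IsSimpleGroup G] (hna : ¬∀ a b : G, a * b = b * a)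
    (hconjJ : ∀ a : G, a * a = 1 → a ≠ 1 → IsConj (σ ^ h) a) (hR : RotorAll P σ h) :
    commutator (Subgroup.centralizer ({σ ^ h} : Set G)) ⊔
      (P : Subgroup G).subgroupOf (Subgroup.centralizer ({σ ^ h} : Set G)) = ⊤ := by
  classical
  set C := Subgroup.centralizer ({σ ^ h} : Set G) with hC
  set K := commutator C ⊔ (P : Subgroup G).subgroupOf C with hK
  haveI : K.Normal := Subgroup.Normal.of_commutator_le C (hK ▸ le_sup_left)
  letI : CommGroup (C ⧸ K) :=
    { (inferInstance : Group (C ⧸ K)) with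
      mul_comm := by
        intro a b
        obtain ⟨a, rfl⟩ := QuotientGroup.mk_surjective a
        obtain ⟨b, rfl⟩ := QuotientGroup.mk_surjective b
        rw [← QuotientGroup.mk_mul, ← QuotientGroup.mk_mul, QuotientGroup.eq]
        refine le_sup_left (a := commutator C) ?_
        rw [show (a * b)⁻¹ * (b * a) = ⁅b⁻¹, a⁻¹⁆ by rw [commutatorElement_def]; group]
        exact Subgroup.commutator_mem_commutator (Subgroup.mem_top _) (Subgroup.mem_top _) }
  refine (Subgroup.eq_top_iff' K).2 fun g => ?_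
  rw [← QuotientGroup.eq_one_iff]
  by_contra hne
  obtain ⟨φ, hφ⟩ := CommGroup.exists_apply_ne_one_of_hasEnoughRootsOfUnity (C ⧸ K) ℂ hne
  refine hφ ?_
  have hP : ∀ z : C, (z : G) ∈ (P : Subgroup G) → φ.comp (QuotientGroup.mk' K) z = 1 := by
    intro z hz
    have : (z : C ⧸ K) = 1 :=
      (QuotientGroup.eq_one_iff z).2 (le_sup_right (a := commutator C) hz)
    simp [MonoidHom.comp_apply, this]
  have e := linearQuotient_trivial D hna hconjJ (φ.comp (QuotientGroup.mk' K)) hP
    (fun a b hb hab => sections_of_rotor D hconjJ hR _ hP a b hb hab)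
  have e2 := DFunLike.congr_fun e g
  simpa using e2

variable [IsSimpleGroup G] (hna : ¬∀ a b : G, a * b = b * a)
  (hconjJ : ∀ a : G, a * a = 1 → a ≠ 1 → IsConj (σ ^ h) a) (hR : RotorAll P σ h)

include hna hconjJ hR

/-- A homomorphism of the centralizer of `J` with `P` central in the image kills `U`. -/
theorem hom_kills (hsolv : Group.IsSolvable (Subgroup.centralizer ({σ ^ h} : Set G))) {X : Type*}
    [Group X] (ρ : Subgroup.centralizer ({σ ^ h} : Set G) →* X)
    (hP : ∀ z : Subgroup.centralizer ({σ ^ h} : Set G), (z : G) ∈ (P : Subgroup G) →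
      ∀ g, Commute (ρ z) (ρ g))
    (y : Subgroup.centralizer ({σ ^ h} : Set G)) (hy : (y : G) ∈ oddSub σ h) : ρ y = 1 := by
  classical
  haveI := hsolv
  let ξ := ρ.rangeRestrict
  have hξ : Function.Surjective ξ := ρ.rangeRestrict_surjective
  have hcen : ((P : Subgroup G).subgroupOf (Subgroup.centralizer ({σ ^ h} : Set G))).map ξ ≤ Subgroup.center ρ.range := by
    rintro _ ⟨z, hz, rfl⟩
    refine Subgroup.mem_center_iff.2 fun w => ?_
    obtain ⟨g, rfl⟩ := hξ w
    show ξ g * ξ z = ξ z * ξ g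
    refine Subtype.ext ?_
    rw [Subgroup.coe_mul, Subgroup.coe_mul]
    exact (hP z (Subgroup.mem_subgroupOf.1 hz) g).eq.symm
  haveI := Group.isSolvable_of_surjective hξ
  have hsup : commutator ρ.range ⊔ ((P : Subgroup G).subgroupOf (Subgroup.centralizer ({σ ^ h} : Set G))).map ξ = ⊤ := by
    rw [← commutator_map_top ξ hξ, ← Subgroup.map_sup, commutator_sup_of_rotor D hna hconjJ hR,
      Subgroup.map_top_of_surjective _ hξ]
  set K := commutator ρ.range with hKdef
  have hdec : ∀ a : ρ.range, ∃ k ∈ K, ∃ z ∈ Subgroup.center ρ.range, k * z = a := fun a => by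
    have ha : a ∈ ((K ⊔ Subgroup.center ρ.range : Subgroup _) : Set ρ.range) := by
      rw [top_le_iff.1 (hsup.ge.trans (sup_le_sup_left hcen K))]
      exact Subgroup.mem_top a
    rw [Subgroup.normal_mul] at ha
    exact Set.mem_mul.1 ha
  have hperf : ⁅K, K⁆ = K := by
    refine le_antisymm (Subgroup.commutator_le_self K) ?_
    show ⁅(⊤ : Subgroup ρ.range), ⊤⁆ ≤ ⁅K, K⁆
    rw [Subgroup.commutator_le]
    intro a _ b _
    obtain ⟨k, hk, z, hz, rfl⟩ := hdec a
    obtain ⟨k', hk', z', hz', rfl⟩ := hdec b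
    rw [Cfsg.Lib.Chev.comm_mul_central hz hz']
    exact Subgroup.commutator_mem_commutator hk hk'
  have hK : K = ⊥ := by
    have hp : commutator K = ⊤ := by
      refine Subgroup.map_injective K.subtype_injective ?_
      rw [Subgroup.map_subtype_commutator, ← MonoidHom.range_eq_map, Subgroup.range_subtype]
      exact hperf
    haveI := subsingleton_of_perfect_solvable hp
    exact Subgroup.eq_bot_of_subsingleton K
  rw [hK, bot_sup_eq] at hsup
  obtain ⟨z, hz, he⟩ := (hsup ▸ Subgroup.mem_top (ξ y) : ξ y ∈ ((P : Subgroup G).subgroupOf (Subgroup.centralizer ({σ ^ h} : Set G))).map ξ)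
  have he' : ρ z = ρ y := congrArg Subtype.val he
  obtain ⟨j, hj⟩ := D.exists_order (u := (z : G)) (Subgroup.mem_subgroupOf.1 hz)
  have h1 : orderOf (ρ y) ∣ 2 ^ j := by
    rw [← he', ← hj, Subgroup.orderOf_coe]
    exact orderOf_map_dvd ρ z
  have h2 : Odd (orderOf (ρ y)) :=
    (odd_orderOf D hy).of_dvd_nat (by rw [Subgroup.orderOf_coe]; exact orderOf_map_dvd ρ y)
  exact orderOf_eq_one_iff.1
    (Nat.eq_one_of_dvd_coprimes ((Nat.coprime_two_right.2 h2).pow_right j) dvd_rfl h1)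

/-- A homomorphism of `U` to an abelian group invariant under `P` is trivial. -/
theorem invariant_hom_trivial (hsolv : Group.IsSolvable (Subgroup.centralizer ({σ ^ h} : Set G)))
    {X : Type*} [CommGroup X] (f : oddSub σ h →* X)
    (hf : ∀ π ∈ (P : Subgroup G), ∀ v v' : oddSub σ h, (v' : G) = π * v * π⁻¹ → f v' = f v)
    (v : oddSub σ h) : f v = 1 := by
  classical
  obtain ⟨-, hmul, hinv, -, hdec, huniq, -⟩ := D.oddPart_spec
  obtain ⟨-, -, hJc⟩ := D.central_involution
  set C := Subgroup.centralizer ({σ ^ h} : Set G)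
  choose xc hxP hxo using fun g : C => hdec g (Subgroup.mem_centralizer_singleton_iff.1 g.2)
  let uc : C → oddSub σ h := fun g => ⟨(g : G) * (xc g)⁻¹, (mem_oddSub D).2 (hxo g)⟩
  have hkey : ∀ g : C, ∀ x ∈ (P : Subgroup G), ∀ v : oddSub σ h, (g : G) = v * x → uc g = v := by
    intro g x hx v hgx
    have hxe : xc g = x := by
      refine huniq _ (hxP g) _ hx ?_
      rw [show xc g * x⁻¹ = ((g : G) * (xc g)⁻¹)⁻¹ * v by rw [hgx]; group]
      exact hmul _ (hinv _ (hxo g)) _ ((mem_oddSub D).1 v.2)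
    exact Subtype.ext (show (g : G) * (xc g)⁻¹ = v by rw [hxe, hgx, mul_inv_cancel_right])
  let ψ : C →* X := MonoidHom.mk' (fun g => f (uc g)) fun a b => by
    have hxc : Commute (xc a) (σ ^ h) := hJc _ (hxP a)
    have e1 : uc (a * b) = uc a * ⟨xc a * (uc b : G) * (xc a)⁻¹, conj_oddSub D hxc (uc b).2⟩ := by
      refine hkey (a * b) (xc a * xc b) (mul_mem (hxP a) (hxP b)) _ ?_
      simp only [uc, Subgroup.coe_mul]
      group
    show f (uc (a * b)) = f (uc a) * f (uc b)
    rw [e1, map_mul, hf _ (hxP a) (uc b) ⟨_, _⟩ rfl]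
  have hv : (v : G) ∈ C := Subgroup.mem_centralizer_singleton_iff.2 (commute_J D v.2).eq
  have h1 := hom_kills D hna hconjJ hR hsolv ψ (fun z _ g => Commute.all _ _) ⟨v, hv⟩ v.2
  rwa [show ψ ⟨v, hv⟩ = f v from congrArg f (hkey _ 1 (one_mem _) v (mul_one _).symm)] at h1

omit hna hconjJ hR in
/-- The centralizer of `J` is solvable. -/
theorem solvable_centralizer (hG : GWMin G) :
    Group.IsSolvable (Subgroup.centralizer ({σ ^ h} : Set G)) :=
  isSolvable_of_complement (hG.centralizer_complement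
    (Cfsg.Lib.Invol.orderOf_eq_two_of D.central_involution.2.1 D.central_involution.1))

end Cfsg.Lib.GW.CMax
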