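import Cfsg.Agent.Lib.GW.CMax.Rotor
import Cfsg.Agent.Lib.GW.CMax.Transfer
import Cfsg.Agent.Lib.GW.CMax.MixedInner
import Cfsg.Agent.Lib.GW.CMax.ReducedTorus
import Cfsg.Agent.Lib.GW.CMax.ReducedFix

/-!
# The reduction: the component at the fixed points of a reflection

`τ` moves and fixes in `R = O_p(U)`, moving reflections invert `Ω₁ Z`.  Over `N(C_R(τ))` there is a
component `PSL₂(q)` containing `J` and `τ` and centralized by `C_R(τ)`; every reflection moves and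
fixes in `R`, inverts every other `O_r(U)`, and has a rotor.
-/

set_option autoImplicit false
set_option linter.unusedSectionVars false
set_option linter.style.haveILetI false
set_option maxHeartbeats 800000

namespace Cfsg.Lib.GW.CMax

open Cfsg Cfsg.Lib.Block

universe u

variable {G : Type u} [Group G] [Fintype G] [Fact (Nat.Prime 2)]

/-- The hypotheses of the reduction. -/
structure RedCtx (P : Sylow 2 G) (σ τ : G) (h p : ℕ) : Prop where
  frame : DihSylow P σ τ h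
  gw : GWMin G
  eight : 8 ∣ Nat.card G
  max : IsCoatom (Subgroup.centralizer ({σ ^ h} : Set G))
  conjJ : ∀ a : G, a * a = 1 → a ≠ 1 → IsConj (σ ^ h) a
  na : ¬ ∀ a b : G, a * b = b * a
  prime : p.Prime
  ne_two : p ≠ 2
  move : ∃ a ∈ coreP σ h p, ¬ Commute τ a
  fix : ∃ a ∈ coreP σ h p, a ≠ 1 ∧ Commute τ a
  inv : ∀ r : ℕ, r.Prime → r ≠ 2 → ∀ x ∈ (P : Subgroup G), x ∉ Subgroup.zpowers σ →
    (∃ a ∈ coreP σ h r, ¬ Commute x a) → ∀ z ∈ omegaZ σ h r, x * z * x = z⁻¹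

/-- A nontrivial `p`-subgroup has a central element of order `p`. -/
theorem exists_central_prime {p : ℕ} (hp : p.Prime) {B : Subgroup G} (hB : IsPGroup p B)
    (hne : ∃ b ∈ B, b ≠ 1) :
    ∃ b ∈ B, b ≠ 1 ∧ b ^ p = 1 ∧ ∀ b' ∈ B, Commute b b' := by
  haveI : Fact p.Prime := ⟨hp⟩
  obtain ⟨b₀, hb₀, hb₀1⟩ := hne
  haveI : Nontrivial B := ⟨⟨⟨b₀, hb₀⟩, 1, fun e => hb₀1 (congrArg Subtype.val e)⟩⟩
  haveI := hB.center_nontrivial
  obtain ⟨k, hk⟩ : ∃ k : Subgroup.center B, orderOf k = p := by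
    obtain ⟨n, hn0, hn⟩ := (hB.to_subgroup (Subgroup.center B)).nontrivial_iff_card.1 inferInstance
    exact exists_prime_orderOf_dvd_card' p (hn ▸ dvd_pow_self p (by omega))
  refine ⟨((k : B) : G), (k : B).2, fun e => ?_, ?_, fun b' hb' =>
    (congrArg Subtype.val (Subgroup.mem_center_iff.1 k.2 ⟨b', hb'⟩)).symm⟩
  · rw [show k = 1 from Subtype.ext (Subtype.ext e), orderOf_one] at hk
    exact hp.one_lt.ne hk
  · rw [← hk, ← SubmonoidClass.coe_pow, ← SubmonoidClass.coe_pow, pow_orderOf_eq_one]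
    rfl

variable {P : Sylow 2 G} {σ τ : G} {h p : ℕ}

/-- An involution commuting with `J` and a reflection lies in their four group. -/
theorem invol_pair (D : DihSylow P σ τ h) {x : G} (hxP : x ∈ (P : Subgroup G))
    (hxσ : x ∉ Subgroup.zpowers σ) {y : G} (hy : y * y = 1) (hyJ : Commute y (σ ^ h))
    (hyx : Commute y x) : y = 1 ∨ y = σ ^ h ∨ y = x ∨ y = σ ^ h * x := by
  obtain ⟨u, hu, π, hux, rfl, hπ2, hπ⟩ := centralizer_pair D hxP hxσ hyJ hyx
  have huπ : Commute u π := by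
    rcases hπ with rfl | rfl | rfl | rfl
    · exact Commute.one_right u
    · exact commute_J D hu
    · exact hux
    · exact (commute_J D hu).mul_right hux
  have hu1 : u = 1 := eq_one_of_two_pow D hu (k := 1) (by
    rw [pow_one, pow_two]
    rw [huπ.symm.mul_mul_mul_comm, hπ2, mul_one] at hy
    exact hy)
  rw [hu1, one_mul]
  exact hπ

namespace RedCtx

variable (r : RedCtx P σ τ h p)

include r

theorem tau : τ ∈ (P : Subgroup G) ∧ τ ∉ Subgroup.zpowers σ := CMax.tau_mem r.frame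

theorem tauJ : Commute τ (σ ^ h) := r.frame.central_involution.2.2 τ r.frame.memτ

theorem tau_inv_omega {z : G} (hz : z ∈ omegaZ σ h p) : τ * z * τ = z⁻¹ :=
  r.inv p r.prime r.ne_two τ r.tau.1 r.tau.2 r.move z hz

theorem exists_z : ∃ z ∈ omegaZ σ h p, z ≠ 1 := by
  obtain ⟨a, ha, ha1, -⟩ := r.fix
  obtain ⟨z, hz, hz1, hzp, hzc⟩ := exists_central_prime r.prime isPGroup_coreP ⟨a, ha, ha1⟩
  exact ⟨z, ⟨hz, hzp, hzc⟩, hz1⟩

theorem fixed_omega {z : G} (hz : z ∈ omegaZ σ h p) (hc : Commute z τ) : z = 1 :=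
  eq_one_of_inverted r.frame (omegaZ_le.trans coreP_le hz) hc.symm
    (by rw [r.frame.τ_inv]; exact r.tau_inv_omega hz)

omit r in
theorem omega_commute_fix {z : G} (hz : z ∈ omegaZ σ h p) :
    ∀ a ∈ fixR σ τ h p, Commute z a := fun a ha => hz.2.2 a (mem_fixR.1 ha).1

/-- The component over the normalizer of the fixed points contains `J` and `τ`. -/
theorem exists_local : ∃ (N : Subgroup G) (c : Comp N), σ ^ h ∈ c.sub ∧ τ ∈ c.sub ∧
    ∀ g : G, ((∀ a ∈ fixR σ τ h p, Commute g a) ∨ (g ∈ oddSub σ h ∧ Commute g τ)) → g ∈ N := by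
  classical
  have D := r.frame
  haveI := r.gw.isSimple
  obtain ⟨hτP, hτσ⟩ := r.tau
  obtain ⟨hτ2, hτ1, hτJ'⟩ := reflection_mem D hτP hτσ
  have hτJ := r.tauJ
  have hτo : orderOf τ = 2 := Cfsg.Lib.Invol.orderOf_eq_two_of hτ1 hτ2
  have hJo := orderOf_central D
  obtain ⟨a₀, ha₀, ha₀1, ha₀τ⟩ := r.fix
  obtain ⟨N, -, hYN, ⟨c⟩⟩ := exists_over D r.gw r.eight r.max r.prime r.ne_two r.move
    (Y := fixR σ τ h p) inf_le_left
    (fun e => ha₀1 (Subgroup.mem_bot.1 (e ▸ mem_fixR.2 ⟨ha₀, ha₀τ.symm⟩)))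
    (fun y hy => (mem_fixR.1 hy).2.symm)
  have hN : ∀ g : G, (∀ a ∈ fixR σ τ h p, g * a * g⁻¹ ∈ fixR σ τ h p) → g ∈ N := fun g hg =>
    hYN (Subgroup.mem_normalizer_fintype hg)
  have hcN : ∀ {g : G}, (∀ a ∈ fixR σ τ h p, Commute g a) → g ∈ N := fun {g} hg =>
    hN g fun a ha => by rw [(hg a ha).eq, mul_inv_cancel_right]; exact ha
  -- `J`
  obtain ⟨i, hi⟩ := D.even
  obtain ⟨ρ, hρ⟩ : ∃ ρ, ρ = σ ^ i := ⟨_, rfl⟩
  have hρρ : ρ * ρ = σ ^ h := by rw [hρ, ← pow_add, hi]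
  have hρJ : Commute ρ (σ ^ h) := hρ ▸ (Commute.refl σ).pow_pow i h
  have hρN : ρ ∈ N := by
    refine hN ρ fun a ha => ?_
    obtain ⟨haR, haτ⟩ := mem_fixR.1 ha
    have ha' := conj_coreP D hρJ haR
    refine mem_fixR.2 ⟨ha', ?_⟩
    have h1 : ρ * τ * ρ⁻¹ = σ ^ h * τ := by
      have := D.conj_pow_reflection 0 i
      rw [pow_zero, one_mul, zero_add, ← hρ, show σ ^ (2 * i) = σ ^ h by rw [hi, two_mul]] at this
      exact this
    have h2 : Commute (ρ * a * ρ⁻¹) (σ ^ h * τ) := by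
      have := haτ.map (MulAut.conj ρ).toMonoidHom
      simp only [MulEquiv.coe_toMonoidHom, MulAut.conj_apply] at this
      rwa [h1] at this
    have h3 := (commute_J D (coreP_le ha')).inv_right.mul_right h2
    rwa [inv_mul_cancel_left] at h3
  have hJs : σ ^ h ∈ c.sub := hρρ ▸ c.sq_mem_sub hρN (by
    rw [show ρ ^ 4 = ρ * ρ * (ρ * ρ) by simp only [pow_succ, pow_zero, one_mul, mul_assoc], hρρ,
      D.central_involution.1])
  refine ⟨N, c, hJs, ?_, fun g hg => hg.elim hcN fun hw => hN g fun a ha =>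
    mem_fixR.2 ⟨conj_coreP D (commute_J D hw.1) (mem_fixR.1 ha).1,
      (hw.2.mul_left (mem_fixR.1 ha).2).mul_left hw.2.inv_left⟩⟩
  -- `τ`
  by_contra hout
  have hτN : τ ∈ N := hcN fun a ha => (mem_fixR.1 ha).2.symm
  have hWN : ∀ {w}, w ∈ oddSub σ h → Commute w τ → w ∈ N := fun {w} hw hwτ => hN w fun a ha =>
    mem_fixR.2 ⟨conj_coreP D (commute_J D hw) (mem_fixR.1 ha).1,
      (hwτ.mul_left (mem_fixR.1 ha).2).mul_left hwτ.inv_left⟩
  obtain ⟨v, hvs, hv2, hv1, hvJ, hvc, hvy⟩ := c.exists_inner hJs hJo hτN hτo hτJ hout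
  obtain ⟨s, o, ho, hord⟩ := exists_two_pow_dvd (g := τ * v)
  obtain ⟨l, hl⟩ := ho
  obtain ⟨k, hk⟩ : ∃ k, k = (τ * v) ^ o := ⟨_, rfl⟩
  have hvN := c.sub_le hvs
  have hkN : k ∈ N := hk ▸ pow_mem (mul_mem hτN hvN) _
  have hkJ : Commute k (σ ^ h) := hk ▸ (hτJ.mul_left hvc).pow_left _
  have hkW : ∀ {w}, w ∈ oddSub σ h → Commute w τ → Commute w k := fun {w} hw hwτ =>
    hk ▸ (hwτ.mul_right (hvy w (hWN hw hwτ) (odd_orderOf D hw) (commute_J D hw) hwτ)).pow_right _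
  have hkinv : τ * k * τ = k⁻¹ := by
    have e : τ * (τ * v) * τ⁻¹ = (τ * v)⁻¹ := by
      rw [_root_.mul_inv_rev, inv_eq_of_mul_eq_one_right hv2, ← mul_assoc, hτ2, one_mul]
    have := conj_pow (i := o) (a := τ) (b := τ * v)
    rw [e, inv_pow, D.τ_inv, ← hk] at this
    exact this.symm
  have hk2 : k ^ 2 ^ s = 1 := by rw [hk, ← pow_mul, mul_comm, ← hord, pow_orderOf_eq_one]
  have hnot : ∀ {y : G}, y ∈ c.sub → y * y = 1 → Commute y (σ ^ h) → Commute y τ → y ≠ 1 →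
      y = σ ^ h := by
    intro y hys hy2 hyJ hyτ hy1
    rcases invol_pair D hτP hτσ hy2 hyJ hyτ with e | e | e | e
    · exact absurd e hy1
    · exact e
    · exact absurd (e ▸ hys) hout
    · exact absurd ((Subgroup.mul_mem_cancel_left _ hJs).1 (e ▸ hys)) hout
  have hkk : k * k ≠ 1 := by
    intro hkk
    obtain ⟨v', hv'⟩ : ∃ v', v' = τ * k := ⟨_, rfl⟩
    have hvconj : v' = (v * τ) ^ l * v * ((v * τ) ^ l)⁻¹ := by
      have hinv : ((v * τ) ^ l)⁻¹ = (τ * v) ^ l := by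
        rw [← inv_pow, _root_.mul_inv_rev, inv_eq_of_mul_eq_one_right hv2, D.τ_inv]
      rw [hinv, hv', hk, hl, show 2 * l + 1 = (l + 1) + l by omega, pow_add, ← mul_assoc]
      congr 1
      have h1 : ∀ n : ℕ, τ * (τ * v) ^ (n + 1) = (v * τ) ^ n * v := by
        intro n
        induction n with
        | zero => rw [pow_one, pow_zero, one_mul, ← mul_assoc, hτ2, one_mul]
        | succ n ih =>
          rw [pow_succ (τ * v) (n + 1), ← mul_assoc, ih, pow_succ (v * τ) n]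
          simp only [mul_assoc]
      exact h1 l
    have hgN : (v * τ) ^ l ∈ N := pow_mem (mul_mem hvN hτN) _
    have hgJ : Commute ((v * τ) ^ l) (σ ^ h) := (hvc.mul_left hτJ).pow_left _
    have hv's : v' ∈ c.sub := hvconj ▸ c.conj_sub hgN hvs
    have hv'τ : Commute v' τ := by
      have hki : τ * k * τ = k := by rw [hkinv, inv_eq_of_mul_eq_one_right hkk]
      exact hv' ▸ ((Commute.refl τ).mul_left (InvAct.commute_of_conj hτ2 hki))
    have hv'1 : v' ≠ 1 := fun e => hv1 (conj_eq_one_iff.1 (hvconj ▸ e))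
    have hv'2 : v' * v' = 1 := by
      rw [hvconj, show (v * τ) ^ l * v * ((v * τ) ^ l)⁻¹ * ((v * τ) ^ l * v * ((v * τ) ^ l)⁻¹) =
        (v * τ) ^ l * (v * v) * ((v * τ) ^ l)⁻¹ by group, hv2, mul_one, mul_inv_cancel]
    refine hvJ ?_
    have hv'J := hnot hv's hv'2 (hvconj ▸ (hgJ.mul_left hvc).mul_left hgJ.inv_left) hv'τ hv'1
    rw [hv'J, ← mul_inv_eq_iff_eq_mul, inv_inv] at hvconj
    rw [← hgJ.eq] at hvconj
    exact (mul_left_cancel hvconj).symm
  -- an element of order four squaring to `J`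
  obtain ⟨n, -, hn⟩ := (Nat.dvd_prime_pow Nat.prime_two).1 (orderOf_dvd_of_pow_eq_one hk2)
  have hn2 : 2 ≤ n := by
    by_contra hlt
    refine hkk ?_
    rw [← pow_two]
    refine orderOf_dvd_iff_pow_eq_one.1 ?_
    rw [hn]
    exact (pow_dvd_pow 2 (by omega : n ≤ 1)).trans (pow_one 2).dvd
  obtain ⟨ρ', hρ'⟩ : ∃ ρ', ρ' = k ^ 2 ^ (n - 2) := ⟨_, rfl⟩
  have hρ'4 : ρ' ^ 4 = 1 := by
    rw [hρ', ← pow_mul, show (4 : ℕ) = 2 ^ 2 from rfl, ← pow_add, show n - 2 + 2 = n by omega, ← hn,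
      pow_orderOf_eq_one]
  have hρ'J : ρ' * ρ' = σ ^ h := by
    have hρ'N : ρ' ∈ N := hρ' ▸ pow_mem hkN _
    have hi' : τ * ρ' * τ = ρ'⁻¹ := by
      have := conj_pow (i := 2 ^ (n - 2)) (a := τ) (b := k)
      rw [D.τ_inv, hkinv, inv_pow, ← hρ'] at this
      exact this.symm
    have h2 : ρ' * ρ' * (ρ' * ρ') = 1 := by
      rw [← hρ'4]; simp only [pow_succ, pow_zero, one_mul, mul_assoc]
    refine hnot (c.sq_mem_sub hρ'N hρ'4) h2 ((hρ' ▸ hkJ.pow_left _).mul_left (hρ' ▸ hkJ.pow_left _))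
      (InvAct.commute_of_conj hτ2 ?_) fun e => ?_
    · rw [InvAct.conj_mul hτ2, hi', ← _root_.mul_inv_rev, inv_eq_of_mul_eq_one_right h2]
    · rw [← pow_two, hρ', ← pow_mul, ← pow_succ, show n - 2 + 1 = n - 1 by omega] at e
      have hd := orderOf_dvd_of_pow_eq_one e
      rw [hn, Nat.pow_dvd_pow_iff_le_right (by norm_num)] at hd
      omega
  obtain ⟨d, hdτ, hdJ, -, hdW⟩ := exists_moving D r.conjJ hτP hτσ
  obtain ⟨ρ₂, hρ₂⟩ : ∃ ρ₂, ρ₂ = d * ρ' * d⁻¹ := ⟨_, rfl⟩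
  have hρ₂N : ρ₂ ∈ N := hcN fun a ha => by
    obtain ⟨haR, haτ⟩ := mem_fixR.1 ha
    obtain ⟨ha', ha'τ⟩ := hdW a (coreP_le haR) haτ
    have := ((hkW ha' ha'τ).pow_right (2 ^ (n - 2))).symm.map (MulAut.conj d).toMonoidHom
    simp only [MulEquiv.coe_toMonoidHom, MulAut.conj_apply, ← hρ', ← hρ₂] at this
    rwa [show d * (d⁻¹ * a * d) * d⁻¹ = a by group] at this
  have h4 : ρ₂ ^ 4 = 1 := by rw [hρ₂, conj_pow, hρ'4, mul_one, mul_inv_cancel]
  have hm := c.sq_mem_sub hρ₂N h4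
  rw [hρ₂, show d * ρ' * d⁻¹ * (d * ρ' * d⁻¹) = d * (ρ' * ρ') * d⁻¹ by group, hρ'J, hdJ] at hm
  exact hout ((Subgroup.mul_mem_cancel_right _ hJs).1 hm)

/-- Fixed elements of `O_s(U)` in `N` centralize a component through `J` and `τ`. -/
theorem centralize_of_fixed {N : Subgroup G} (c : Comp N) (hJ : σ ^ h ∈ c.sub) (hτ : τ ∈ c.sub)
    (hwit : ∃ i ∈ oddSub σ h, i ∈ N ∧ τ * i * τ = i⁻¹ ∧ i ≠ 1) {s : ℕ} (hs : s.Prime) (hs2 : s ≠ 2)
    {b : G} (hb : b ∈ coreP σ h s) (hbτ : Commute b τ) (hbN : b ∈ N) :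
    ∀ l ∈ c.sub, Commute l b := by
  obtain ⟨hτ2, hτ1, hτJ'⟩ := reflection_mem r.frame r.tau.1 r.tau.2
  haveI : Fact s.Prime := ⟨hs⟩
  obtain ⟨k, hk⟩ := IsPGroup.iff_orderOf.1 (isPGroup_coreP (p := s)) ⟨b, hb⟩
  rw [Subgroup.orderOf_mk] at hk
  refine cc_centralize r.frame c hJ hτ hτ2 r.tauJ hτ1 hτJ' hwit hs hs2 k b
    (coreP_le hb) hbN hbτ (by rw [← hk, pow_orderOf_eq_one]) fun i hi _ _ => ?_
  have hm : i⁻¹ * (b * i * b⁻¹) ∈ coreP σ h s := by
    rw [show i⁻¹ * (b * i * b⁻¹) = i⁻¹ * b * i⁻¹⁻¹ * b⁻¹ by group]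
    exact mul_mem (conj_coreP r.frame (commute_J r.frame hi).inv_left hb) (inv_mem hb)
  obtain ⟨n, hn⟩ := isPGroup_coreP (p := s) ⟨_, hm⟩
  exact ⟨n, congrArg Subtype.val hn⟩

section At

variable {N : Subgroup G} (c : Comp N) (hJ : σ ^ h ∈ c.sub) (hτ : τ ∈ c.sub)
  (hN : ∀ g : G, ((∀ a ∈ fixR σ τ h p, Commute g a) ∨ (g ∈ oddSub σ h ∧ Commute g τ)) → g ∈ N)

include hJ hτ hN

omit r hJ hτ in
theorem mem_of_commute {g : G} (hg : ∀ a ∈ fixR σ τ h p, Commute g a) : g ∈ N :=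
  hN g (Or.inl hg)

theorem fixed_mem {w : G} (hw : w ∈ oddSub σ h) (hwτ : Commute w τ) : w ∈ N :=
  hN w (Or.inr ⟨hw, hwτ⟩)

theorem omega_mem {z : G} (hz : z ∈ omegaZ σ h p) : z ∈ N :=
  mem_of_commute hN (omega_commute_fix hz)

theorem witness : ∃ i ∈ oddSub σ h, i ∈ N ∧ τ * i * τ = i⁻¹ ∧ i ≠ 1 := by
  obtain ⟨z, hz, hz1⟩ := r.exists_z
  exact ⟨z, omegaZ_le.trans coreP_le hz, r.omega_mem c hJ hτ hN hz, r.tau_inv_omega hz, hz1⟩

/-- Fixed elements of `O_s(U)` centralize the component. -/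
theorem fixed_centralize {s : ℕ} (hs : s.Prime) (hs2 : s ≠ 2) {b : G} (hb : b ∈ coreP σ h s)
    (hbτ : Commute b τ) : ∀ l ∈ c.sub, Commute l b :=
  r.centralize_of_fixed c hJ hτ (r.witness c hJ hτ hN) hs hs2 hb hbτ
    (r.fixed_mem c hJ hτ hN (coreP_le hb) hbτ)

theorem fix_commute_sub {a : G} (ha : a ∈ fixR σ τ h p) : ∀ l ∈ c.sub, Commute l a :=
  r.fixed_centralize c hJ hτ hN r.prime r.ne_two (mem_fixR.1 ha).1 (mem_fixR.1 ha).2

/-- The other parts of the Fitting subgroup are inverted and lie in the component. -/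
theorem core_inverted {s : ℕ} (hs : s.Prime) (hsp : s ≠ p) {q : G} (hq : q ∈ coreP σ h s) :
    q ∈ c.sub ∧ τ * q * τ = q⁻¹ := by
  have D := r.frame
  haveI := r.gw.isSimple
  obtain ⟨hτ2, hτ1, -⟩ := reflection_mem D r.tau.1 r.tau.2
  by_cases hs2 : s = 2
  · subst hs2
    obtain ⟨k, hk⟩ := isPGroup_coreP (p := 2) (⟨q, hq⟩ : coreP σ h 2)
    have hq1 : q = 1 := eq_one_of_two_pow D (coreP_le hq) (congrArg Subtype.val hk)
    exact ⟨hq1 ▸ one_mem _, by rw [hq1, mul_one, hτ2, inv_one]⟩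
  have hQN : ∀ {y}, y ∈ coreP σ h s → y ∈ N := fun {y} hy =>
    mem_of_commute hN fun a ha => commute_coreP D hs r.prime hsp hy (mem_fixR.1 ha).1
  obtain ⟨B, hBdef⟩ : ∃ B, B = coreP σ h s ⊓ Subgroup.centralizer ({τ} : Set G) := ⟨_, rfl⟩
  have hmB : ∀ {y}, y ∈ B ↔ y ∈ coreP σ h s ∧ Commute y τ := fun {y} => by
    simp only [hBdef, Subgroup.mem_inf, Subgroup.mem_centralizer_singleton_iff, commute_iff_eq]
  have hQn : τ ∈ Subgroup.normalizer (coreP σ h s : Set G) :=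
    Subgroup.mem_normalizer_fintype fun y hy => conj_coreP D r.tauJ hy
  have hsplit : ∀ y ∈ coreP σ h s, ∃ b ∈ B, ∃ i ∈ coreP σ h s, i ∈ c.sub ∧ τ * i * τ = i⁻¹ ∧
      y = b * i := by
    intro y hy
    obtain ⟨b, hb, i, hi, hbτ, hii, e⟩ := InvAct.exists_split
      ((odd_card_oddSub D).of_dvd_nat (Subgroup.card_dvd_of_le coreP_le)) hτ2 hQn hy
    exact ⟨b, hmB.2 ⟨hb, hbτ⟩, i, hi,
      c.inverted_mem hτ hτ2 (hQN hi) (odd_orderOf D (coreP_le hi)) hii, hii, e⟩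
  suffices hB : ∀ b ∈ B, b = 1 by
    obtain ⟨b, hb, i, -, his, hii, rfl⟩ := hsplit q hq
    rw [hB b hb, one_mul]
    exact ⟨his, hii⟩
  by_contra hne
  push Not at hne
  obtain ⟨b, hb, hb1, hbs, hbc⟩ := exists_central_prime hs
    ((isPGroup_coreP (p := s)).to_le (hBdef ▸ inf_le_left : B ≤ coreP σ h s)) hne
  obtain ⟨hbQ, hbτ⟩ := hmB.1 hb
  by_cases hall : ∀ y ∈ coreP σ h s, Commute τ y
  · -- the component would normalize `O_s(U)`
    obtain ⟨l, hl, hn⟩ := c.exists_not_commute hJ (orderOf_central D)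
    refine hn (commute_of_normalizes D r.max (coreP σ h s) coreP_le
      (fun e => hb1 (Subgroup.mem_bot.1 (e ▸ hbQ))) (fun g hg a ha => conj_coreP D hg ha) fun a ha => ?_)
    rw [(r.fixed_centralize c hJ hτ hN hs hs2 ha (hall a ha).symm l hl).eq, mul_inv_cancel_right]
    exact ha
  push Not at hall
  refine hb1 (eq_one_of_inverted D (coreP_le hbQ) hbτ.symm ?_)
  rw [D.τ_inv]
  refine r.inv s hs hs2 τ r.tau.1 r.tau.2 hall b ⟨hbQ, hbs, fun y hy => ?_⟩
  obtain ⟨b', hb', i, -, his, -, rfl⟩ := hsplit y hy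
  exact (hbc b' hb').mul_right (r.fixed_centralize c hJ hτ hN hs hs2 hbQ hbτ i his).symm

/-- The component is of type `PSL₂`. -/
theorem pslType : PSLType c.E := by
  have D := r.frame
  haveI := r.gw.isSimple
  obtain ⟨hτ2, hτ1, hτJ'⟩ := reflection_mem D r.tau.1 r.tau.2
  obtain ⟨z, hz, hz1⟩ := r.exists_z
  have hzU : z ∈ oddSub σ h := omegaZ_le.trans coreP_le hz
  have hzN := r.omega_mem c hJ hτ hN hz
  have hzi := r.tau_inv_omega hz
  have hzs := c.inverted_mem hτ hτ2 hzN (odd_orderOf D hzU) hzi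
  refine c.almost.cases.resolve_right ?_
  rintro ⟨htop, hA⟩
  set φ := QuotientGroup.mk' (Cfsg.oddCore ↥N) with hφ
  have hjo := Comp.orderOf_image (c.sub_le hJ) (orderOf_central D)
  obtain ⟨u, -, hu2, hu1, huj, huc, hut⟩ := c.almost.alt_commuting hA hjo
    (c.inner_of_mem_sub hJ) (c.inner_of_mem_sub hzs)
    (Comp.odd_orderOf_image hzN (odd_orderOf D hzU)) (Comp.image_commute _ _ (commute_J D hzU))
  obtain ⟨w, hw, hw2, hwc, hwe⟩ := exists_lift_invol D c hJ hu2 huc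
  have hw1 : w ≠ 1 := fun e => hu1 (by
    rw [← hwe, show (⟨w, hw⟩ : N) = 1 from Subtype.ext e, map_one])
  have hwJ : w ≠ σ ^ h := fun e => huj (by rw [← hwe]; exact congrArg φ (Subtype.ext e))
  have hws : w ∈ c.sub := c.mem_sub_of_inner hw (k := 1) (by rw [pow_one, pow_two, hw2])
    (by show _ ∈ c.E; rw [htop]; exact Subgroup.mem_top _)
  -- `w` centralizes the inverted elements
  obtain ⟨g₀, -, hg3, hg⟩ := c.almost.alt_three hA hjo (c.inner_of_mem_sub hJ)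
  have hkey : ∀ {q}, q ∈ oddSub σ h → q ∈ c.sub → Commute w q := by
    intro q hqU hqs
    have hqu : Commute u (φ ⟨q, c.sub_le hqs⟩) := by
      obtain ⟨m, hm⟩ := Subgroup.mem_zpowers_iff.1 (hg _ (c.inner_of_mem_sub hqs)
        (Comp.odd_orderOf_image _ (odd_orderOf D hqU)) (Comp.image_commute _ _ (commute_J D hqU)))
      obtain ⟨m', hm'⟩ := Subgroup.mem_zpowers_iff.1 (hg _ (c.inner_of_mem_sub hzs)
        (Comp.odd_orderOf_image _ (odd_orderOf D hzU)) (Comp.image_commute _ _ (commute_J D hzU)))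
      have hgm : g₀ ∈ Subgroup.zpowers (φ ⟨z, hzN⟩) := by
        rw [← hm']
        haveI : Fact (Nat.Prime 3) := ⟨Nat.prime_three⟩
        have hg1 : g₀ ≠ 1 := fun e =>
          c.inverted_image_ne_one hτ hτ2 hzN (odd_orderOf D hzU) hzi hz1
            (by rw [← hm', e, _root_.one_zpow])
        have ho3 : orderOf g₀ = 3 := orderOf_eq_prime hg3 hg1
        have heq : Subgroup.zpowers (g₀ ^ m') = Subgroup.zpowers g₀ := by
          refine Subgroup.eq_of_le_of_card_ge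
            (Subgroup.zpowers_le.2 (zpow_mem (Subgroup.mem_zpowers _) _)) ?_
          rw [Nat.card_zpowers, Nat.card_zpowers, ho3]
          rcases (Nat.dvd_prime Nat.prime_three).1 (ho3 ▸ orderOf_dvd_of_mem_zpowers
            (zpow_mem (Subgroup.mem_zpowers g₀) m')) with e | e
          · exact absurd (hm' ▸ orderOf_eq_one_iff.1 e)
              (c.inverted_image_ne_one hτ hτ2 hzN (odd_orderOf D hzU) hzi hz1)
          · exact e.ge
        rw [heq]
        exact Subgroup.mem_zpowers _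
      obtain ⟨j, hj⟩ := Subgroup.mem_zpowers_iff.1 hgm
      rw [← hm, ← hj]
      exact (hut.zpow_right j).zpow_right m
    obtain ⟨o, ho⟩ : ∃ o, o = w * q * w * q⁻¹ := ⟨_, rfl⟩
    have hos : o ∈ c.sub := ho ▸ mul_mem (mul_mem (mul_mem hws hqs) hws) (inv_mem hqs)
    have ho1 : φ ⟨o, c.sub_le hos⟩ = 1 := by
      rw [show (⟨o, c.sub_le hos⟩ : N) = ⟨w, hw⟩ * ⟨q, c.sub_le hqs⟩ * ⟨w, hw⟩ *
        (⟨q, c.sub_le hqs⟩ : N)⁻¹ from Subtype.ext ho, map_mul, map_mul, map_mul, map_inv, hwe,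
        hqu.eq, mul_assoc _ u u, hu2, mul_one, mul_inv_cancel]
    have how : Commute w o := c.commute_core hws (c.sub_le hos) ho1
    have hwq : w * q * w = o * q := by rw [ho, inv_mul_cancel_right]
    have ho2 : o * o = 1 := by
      have e : q = o * o * q := by
        calc q = (w * w) * q * (w * w) := by rw [hw2, one_mul, mul_one]
          _ = w * (w * q * w) * w := by group
          _ = w * o * (q * w) := by rw [hwq]; group
          _ = o * (w * q * w) := by rw [how.eq]; group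
          _ = o * o * q := by rw [hwq, mul_assoc]
      exact right_eq_mul.1 e
    have hoo : o = 1 := by
      have hodd := Cfsg.Lib.ZStar.odd_orderOf_oddCore ((QuotientGroup.eq_one_iff _).1 ho1)
      rw [Subgroup.orderOf_mk] at hodd
      exact orderOf_eq_one_iff.1 (Nat.eq_one_of_dvd_coprimes (Nat.coprime_two_right.2 hodd) dvd_rfl
        (orderOf_dvd_of_pow_eq_one (by rw [pow_two, ho2])))
    rw [hoo, one_mul] at hwq
    exact (InvAct.commute_of_conj hw2 hwq).symm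
  obtain ⟨g, hgJ, hgP, hgσ⟩ := exists_reflection D hw2 hw1 hwJ hwc
  obtain ⟨y, hy⟩ : ∃ y, y = g * w * g⁻¹ := ⟨_, rfl⟩
  rw [← hy] at hgP hgσ
  have hyR : ∀ a ∈ coreP σ h p, Commute y a := by
    by_contra hmv
    push Not at hmv
    have hzg : g * z * g⁻¹ ∈ omegaZ σ h p := conj_omegaZ D hgJ hz
    have hc : Commute y (g * z * g⁻¹) :=
      hy ▸ (hkey hzU hzs).map (MulAut.conj g).toMonoidHom
    refine hz1 (conj_eq_one_iff.1 (eq_one_of_inverted D (omegaZ_le.trans coreP_le hzg) hc ?_))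
    rw [inv_eq_of_mul_eq_one_right (D.sq_outside hgP hgσ)]
    exact r.inv p r.prime r.ne_two y hgP hgσ hmv _ hzg
  have hyU : ∀ a ∈ oddSub σ h, Commute y a := by
    refine commute_oddSub D hgP (commute_fitSub D fun s hs a ha => ?_)
    by_cases hsp : s = p
    · subst hsp; exact hyR a ha
    have ha' : g⁻¹ * a * g ∈ coreP σ h s := by
      have := conj_coreP D hgJ.inv_left ha
      rwa [inv_inv] at this
    have := (hkey (coreP_le ha') (r.core_inverted c hJ hτ hN hs hsp ha').1).map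
      (MulAut.conj g).toMonoidHom
    simp only [MulEquiv.coe_toMonoidHom, MulAut.conj_apply, ← hy] at this
    rwa [show g * (g⁻¹ * a * g) * g⁻¹ = a by group] at this
  obtain ⟨d, -, hdJ, hd, -⟩ := exists_moving D r.conjJ hgP hgσ
  have hdc : Commute d (σ ^ h) := commute_of_normalizes D r.max (oddSub σ h) le_rfl
    (fun e => hz1 (Subgroup.mem_bot.1 (e ▸ hzU))) (fun g' hg' a ha => conj_oddSub D hg' ha)
    fun a ha => (hd a ha (hyU a ha).symm).1
  rw [hdc.eq, mul_inv_cancel_right] at hdJ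
  exact (reflection_mem D hgP hgσ).2.1 (right_eq_mul.1 hdJ)

/-- No reflection centralizes `O_p(U)`. -/
theorem reflection_moves {y : G} (hyP : y ∈ (P : Subgroup G)) (hyσ : y ∉ Subgroup.zpowers σ) :
    ∃ a ∈ coreP σ h p, ¬ Commute y a := by
  by_contra hno
  push Not at hno
  have D := r.frame
  obtain ⟨hy2, hy1, hyJ⟩ := reflection_mem D hyP hyσ
  obtain ⟨hτ2, -, -⟩ := reflection_mem D r.tau.1 r.tau.2
  obtain ⟨z, hz, hz1⟩ := r.exists_z
  have hzU : z ∈ oddSub σ h := omegaZ_le.trans coreP_le hz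
  have hzN := r.omega_mem c hJ hτ hN hz
  have hyN : y ∈ N := mem_of_commute hN fun a ha => hno a (mem_fixR.1 ha).1
  exact hyJ (Comp.eq_of_image_eq hyN (c.sub_le hJ) hy2 D.central_involution.1
    (D.central_involution.2.2 y hyP) (c.image_unique (r.pslType c hJ hτ hN) hzN
      (c.inner_of_mem_sub (c.inverted_mem hτ hτ2 hzN (odd_orderOf D hzU) (r.tau_inv_omega hz)))
      (odd_orderOf D hzU)
      (c.inverted_image_ne_one hτ hτ2 hzN (odd_orderOf D hzU) (r.tau_inv_omega hz) hz1)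
      hyN (c.sub_le hJ) (Cfsg.Lib.Invol.orderOf_eq_two_of hy1 hy2) (orderOf_central D)
      (hno z (omegaZ_le hz)) (commute_J D hzU).symm))

/-- An element of the component taking `J` to `τ` centralizing its fixed points. -/
theorem rotor : ∃ l, l * σ ^ h * l⁻¹ = τ ∧ ∀ w ∈ oddSub σ h, Commute w τ → Commute l w := by
  obtain ⟨hτ2, hτ1, hτJ'⟩ := reflection_mem r.frame r.tau.1 r.tau.2
  obtain ⟨l, -, hl, hlw⟩ := exists_rotor r.frame c hJ hτ hτ2 r.tauJ hτ1 hτJ' (r.witness c hJ hτ hN)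
    (r.pslType c hJ hτ hN) r.tau.1 r.tau.2
  exact ⟨l, hl, fun w hw hwτ => hlw w hw (r.fixed_mem c hJ hτ hN hw hwτ) hwτ⟩

end At

/-- The hypotheses hold for every reflection. -/
theorem at_reflection {x : G} (hx : x ∈ (P : Subgroup G)) (hx' : x ∉ Subgroup.zpowers σ) :
    RedCtx P σ x h p := by
  obtain ⟨N, c, hJ, hτ, hN⟩ := r.exists_local
  have D := r.frame
  have hmv := r.reflection_moves c hJ hτ hN hx hx'
  obtain ⟨hx2, -, -⟩ := reflection_mem D hx hx'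
  have hxi : x⁻¹ = x := inv_eq_of_mul_eq_one_right hx2
  refine { r with frame := CMax.frame_at D hx hx', move := hmv, fix := ?_ }
  by_contra hno
  push Not at hno
  have hxn : x ∈ Subgroup.normalizer (coreP σ h p : Set G) :=
    Subgroup.mem_normalizer_fintype fun y hy => conj_coreP D (D.central_involution.2.2 x hx) hy
  have hRodd : Odd (Nat.card (coreP σ h p)) :=
    (odd_card_oddSub D).of_dvd_nat (Subgroup.card_dvd_of_le coreP_le)
  have hinv : ∀ y ∈ coreP σ h p, x * y * x = y⁻¹ := by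
    intro y hy
    obtain ⟨w, hw, i, -, hwx, hii, rfl⟩ := InvAct.exists_split hRodd hx2 hxn hy
    rw [show w = 1 from by_contra fun h1 => hno w hw h1 hwx.symm, one_mul]
    exact hii
  have hab : ∀ y ∈ coreP σ h p, ∀ y' ∈ coreP σ h p, Commute y y' := fun y hy y' hy' =>
    GW.commute_of_inverted_inverted hx2 (hinv y hy) (hinv y' hy')
      (hinv _ (conj_coreP D (commute_J D (coreP_le hy)) hy')) (odd_orderOf D (coreP_le hy))
  obtain ⟨a, ha, ha1, haτ⟩ := r.fix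
  obtain ⟨b, hb, hb1, hbp, -⟩ := exists_central_prime r.prime
    (B := Subgroup.zpowers a) ((isPGroup_coreP (p := p)).to_le (Subgroup.zpowers_le.2 ha))
    ⟨a, Subgroup.mem_zpowers a, ha1⟩
  have hbR : b ∈ coreP σ h p := Subgroup.zpowers_le.2 ha hb
  obtain ⟨m, rfl⟩ := Subgroup.mem_zpowers_iff.1 hb
  exact hb1 (r.fixed_omega ⟨hbR, hbp, fun y hy => hab _ hbR y hy⟩ (haτ.symm.zpow_left m))

/-- Every reflection has a rotor. -/
theorem rotorAll : RotorAll P σ h := fun x hx hx' => by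
  obtain ⟨N, c, hJ, hτ, hN⟩ := (r.at_reflection hx hx').exists_local
  exact (r.at_reflection hx hx').rotor c hJ hτ hN

/-- Every involution other than `J` commuting with it inverts `Z`. -/
theorem invol_omega {x : G} (hx2 : x * x = 1) (hx1 : x ≠ 1) (hxJ : x ≠ σ ^ h)
    (hxc : Commute x (σ ^ h)) {z : G} (hz : z ∈ omegaZ σ h p) : x * z * x = z⁻¹ := by
  obtain ⟨g, hgJ, hgP, hgσ⟩ := exists_reflection r.frame hx2 hx1 hxJ hxc
  have e := (r.at_reflection hgP hgσ).tau_inv_omega (conj_omegaZ r.frame hgJ hz)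
  rw [show g * x * g⁻¹ * (g * z * g⁻¹) * (g * x * g⁻¹) = g * (x * z * x) * g⁻¹ by group,
    show (g * z * g⁻¹)⁻¹ = g * z⁻¹ * g⁻¹ by group] at e
  exact mul_left_cancel (mul_right_cancel e)

end RedCtx

end Cfsg.Lib.GW.CMax
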