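import Cfsg.Agent.Lib.GW.CMax.HeisenbergEnd

/-!
# Gorenstein–Walter, a maximal centralizer: the end after the reduction

`|U| = p² t n W`, the two classes of reflections give `|U| (1/W₀ + 1/W₁) = 2 p² t M` with `n ∣ M`, and the
component has torus order `c = u p` with `u j = 4 h t`. Then `X - 1 = ± j M c p`, so the characteristic
divides `u ± j M` or `2 u ± j M`; if one of these vanishes, `X = 1 - c²` or `X = 1 - 2 c²` and the other
half `d = c / 2 ± 1` of the order of the component divides `3` or `21`.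
-/

set_option autoImplicit false
set_option linter.unusedSectionVars false
set_option linter.style.haveILetI false
set_option maxHeartbeats 800000

namespace Cfsg.Lib.GW.CMax

open Cfsg Cfsg.Lib.Block
open Cfsg.Lib.Block.DihSylow (oddPart oddFix mem_oddPart mem_oddFix)

universe u

/-- The vanishing cases: `d ∣ 21` is impossible. -/
theorem reduced_small {p u j M d : ℕ} (hp : p.Prime) (h3 : 3 ≤ p) (hu : 4 ∣ u) (hu0 : 0 < u)
    (hjM : j * M ≤ p + 1) (h11 : p = 11 → j * M ≠ 8) (h2 : 2 * u = j * M) (hd : d ∣ 21)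
    (hc : 2 * d = u * p + 2 ∨ 2 * d + 2 = u * p) : False := by
  obtain ⟨a, rfl⟩ := hu
  obtain ⟨x, hx⟩ : ∃ x, x = a * p := ⟨_, rfl⟩
  rw [mul_assoc, ← hx] at hc
  have hd21 := Nat.le_of_dvd (by norm_num) hd
  have hx3 : 3 ≤ x := hx ▸ le_trans h3 (Nat.le_mul_of_pos_left p (by omega))
  have hxs : x = 3 ∨ x = 4 ∨ x = 10 ∨ x = 11 := by
    rcases hc with h | h <;> interval_cases d <;> first | omega | (norm_num at hd)
  have hpd : p ∣ x := hx ▸ dvd_mul_left p a
  have hpx : p ≤ x := Nat.le_of_dvd (by omega) hpd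
  rcases hxs with rfl | rfl | rfl | rfl
  · have : a = 1 := by
      rcases (Nat.dvd_prime Nat.prime_three).1 hpd with e | e <;> rw [e] at hx <;> omega
    omega
  · rcases (show p = 3 ∨ p = 4 by omega) with e | e
    · rw [e] at hpd; norm_num at hpd
    · rw [e] at hp; norm_num at hp
  · interval_cases p <;> first | omega | norm_num at hp | norm_num at hpd
  · rcases (Nat.dvd_prime (show Nat.Prime 11 by norm_num)).1 hpd with e | e
    · omega
    · rw [e] at hx
      exact h11 e (by omega)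

variable {G : Type u} [Group G] [Fintype G] [Fact (Nat.Prime 2)] {P : Sylow 2 G} {σ τ : G} {h : ℕ}
  (D : DihSylow P σ τ h) {I : Ideal AlgInt}

include D

/-- The end after the reduction. -/
theorem reduced_end [IsSimpleGroup G] (co : Companion I P σ τ h)
    (hmax : IsCoatom (Subgroup.centralizer ({σ ^ h} : Set G)))
    {p t n M W : ℕ} (hp : p.Prime) (h3 : 3 ≤ p) (ho : (oddPart σ h).card = p ^ 2 * t * n * W)
    (hS : (oddPart σ h).card * ((oddFix σ h τ).card + (oddFix σ h (σ * τ)).card) =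
      2 * (p ^ 2 * t * M) * ((oddFix σ h τ).card * (oddFix σ h (σ * τ)).card))
    (hnM : n ∣ M) (hM : 2 * M ≤ p + 1)
    (hmove : ∀ r : ℕ, r.Prime → r ∣ p * t →
      ∀ x ∈ (P : Subgroup G), x ∉ Subgroup.zpowers σ → ∃ y ∈ coreP σ h r, ¬ Commute x y)
    {q d v j : ℕ} (hq : IsPrimePow q) (hv : 4 ∣ v) (hj : j ∣ 4 * h) (hvj : v * j = 4 * h * t)
    (hqc : (q = v * p + 1 ∧ 2 * d = v * p + 2) ∨ (q + 1 = v * p ∧ 2 * d + 2 = v * p))
    (hjM : j * M ≤ p + 1) (h11 : p = 11 → j * M ≠ 8)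
    (hdvd : q * d * W ∣ Nat.card G) : False := by
  obtain ⟨hJ2, hJ1, -⟩ := D.central_involution
  have hh := D.two_le
  obtain ⟨o, ho'⟩ : ∃ o, o = (oddPart σ h).card := ⟨_, rfl⟩
  have ho0 : 0 < o := ho' ▸ Finset.card_pos.2 ⟨1, D.oddPart_spec.1⟩
  rw [← ho'] at ho hS
  have hW0 : 0 < W := Nat.pos_of_ne_zero fun e => by rw [ho, e, mul_zero] at ho0; omega
  have ht0 : 0 < t := Nat.pos_of_ne_zero fun e => by rw [ho, e] at ho0; simp at ho0
  have hn0 : 0 < n := Nat.pos_of_ne_zero fun e => by rw [ho, e] at ho0; simp at ho0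
  obtain ⟨w₀, hw₀⟩ : ∃ w, w = (oddFix σ h τ).card := ⟨_, rfl⟩
  obtain ⟨w₁, hw₁⟩ : ∃ w, w = (oddFix σ h (σ * τ)).card := ⟨_, rfl⟩
  have hone : ∀ x, 0 < (oddFix σ h x).card := fun x => Finset.card_pos.2
    ⟨1, mem_oddFix.2 ⟨D.oddPart_spec.1, Commute.one_left x⟩⟩
  have hw₀0 : 0 < w₀ := hw₀ ▸ hone τ
  have hw₁0 : 0 < w₁ := hw₁ ▸ hone (σ * τ)
  rw [← hw₀, ← hw₁] at hS
  have hM0 : 0 < M := Nat.pos_of_ne_zero fun e => by
    rw [e, mul_zero, mul_zero, zero_mul] at hS
    rcases Nat.mul_eq_zero.1 hS with h' | h' <;> omega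
  -- the integral form of the order formula
  obtain ⟨J, hJ⟩ : ∃ J, J = Nat.card {a : G // IsConj (σ ^ h) a} := ⟨_, rfl⟩
  have hJodd : Odd J := hJ ▸ odd_card_class D
  have hG : J * (4 * h * o) = Nat.card G := hJ ▸ ho' ▸ card_class_mul D
  obtain ⟨e, he⟩ := co.congr
  obtain ⟨d', hd'⟩ := co.four_dvd D
  obtain ⟨Y, hY⟩ : ∃ Y : ℤ, Y = 2 * d' + 1 := ⟨_, rfl⟩
  have hXY : co.X + 1 = 2 * Y := by omega
  obtain ⟨N, hN⟩ : ∃ N, N = p ^ 2 * t * M := ⟨_, rfl⟩
  have hN0 : 0 < N := hN ▸ by positivity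
  have hform : (J : ℤ) * e ^ 2 = 4 * (co.X * Y) * (N : ℤ) ^ 2 := by
    have hf := co.order_formula D
    rw [← hw₀, ← hw₁, ← ho', ← hG] at hf
    have hoq : (o : ℚ) ≠ 0 := Nat.cast_ne_zero.2 ho0.ne'
    have hhq : (h : ℚ) ≠ 0 := Nat.cast_ne_zero.2 (by omega)
    have hw₀q : (w₀ : ℚ) ≠ 0 := Nat.cast_ne_zero.2 hw₀0.ne'
    have hw₁q : (w₁ : ℚ) ≠ 0 := Nat.cast_ne_zero.2 hw₁0.ne'
    have hSq : (o : ℚ) * (1 / (w₀ : ℚ) + 1 / (w₁ : ℚ)) = 2 * N := by
      field_simp
      rw [hN]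
      have : ((o * (w₀ + w₁) : ℕ) : ℚ) = ((2 * (p ^ 2 * t * M) * (w₀ * w₁) : ℕ) : ℚ) := by rw [hS]
      push_cast at this ⊢
      linear_combination this
    have e1 : (co.X : ℚ) - 1 = 2 * h * e := by exact_mod_cast he
    have e2 : (co.X : ℚ) + 1 = 2 * Y := by exact_mod_cast hXY
    rw [e1, e2, show (8 : ℚ) * h ^ 3 * co.X * (2 * Y) * (o : ℚ) ^ 3 * (1 / (w₀ : ℚ) + 1 / (w₁ : ℚ)) ^ 2 =
      8 * h ^ 3 * co.X * (2 * Y) * o * ((o : ℚ) * (1 / (w₀ : ℚ) + 1 / (w₁ : ℚ))) ^ 2 by ring, hSq] at hf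
    push_cast at hf
    apply Int.cast_injective (α := ℚ)
    push_cast
    refine mul_left_cancel₀ (show (16 : ℚ) * h ^ 3 * o ≠ 0 by positivity) ?_
    linear_combination hf
  have hcop : IsCoprime e (co.X * Y) := by
    obtain ⟨i, hi⟩ := D.even
    refine IsCoprime.mul_right ⟨-(2 * h : ℤ), 1, by linarith⟩ ⟨-(h : ℤ), 1, by linarith⟩
  obtain ⟨k, hk⟩ : e ∣ 2 * (N : ℤ) := by
    rw [← Int.pow_dvd_pow_iff two_ne_zero]
    refine (hcop.pow_left (m := 2)).dvd_of_dvd_mul_left ?_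
    exact ⟨J, by linear_combination (-hform)⟩
  have he0 : e ≠ 0 := fun e0 => by
    rw [e0, zero_mul] at hk
    omega
  have hJk : (J : ℤ) = k ^ 2 * (co.X * Y) := by
    refine mul_right_cancel₀ (pow_ne_zero 2 he0) ?_
    linear_combination hform + (co.X * Y * (2 * (N : ℤ) + e * k)) * hk
  have hkodd : Odd k := by
    have : Odd ((J : ℤ)) := by exact_mod_cast hJodd
    rw [hJk] at this
    exact Int.Odd.of_mul_left (by rw [pow_two] at this; exact Int.Odd.of_mul_left this)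
  -- the number of involutions modulo the primes of `p t`
  have hmodr : ∀ r : ℕ, r.Prime → r ∣ p * t → (r : ℤ) ∣ (J : ℤ) - 1 ∧ ¬ (r : ℤ) ∣ k := by
    intro r hr hrt
    haveI : Fact r.Prime := ⟨hr⟩
    have h1 := card_class_modEq (coreP σ h r) isPGroup_coreP (σ ^ h)
      (fun y hy => commute_J D (coreP_le hy)) (fun a ha hc => by
        obtain ⟨g, rfl⟩ := isConj_iff.1 ha
        exact eq_central_of_commute_coreP D hmax (hmove r hr hrt)
          (by rw [show g * σ ^ h * g⁻¹ * (g * σ ^ h * g⁻¹) = g * (σ ^ h * σ ^ h) * g⁻¹ by group,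
            hJ2, mul_one, mul_inv_cancel]) (fun e' => hJ1 (conj_eq_one_iff.1 e')) hc)
    rw [← hJ, Nat.modEq_iff_dvd] at h1
    have h1' : (r : ℤ) ∣ (J : ℤ) - 1 := by
      rw [← dvd_neg, neg_sub]; exact_mod_cast h1
    refine ⟨h1', fun hrk => ?_⟩
    have hI' : (r : ℤ) ∣ (J : ℤ) := hJk ▸ dvd_mul_of_dvd_left (dvd_pow hrk two_ne_zero) _
    have := dvd_sub hI' h1'
    rw [sub_sub_cancel] at this
    exact hr.one_lt.ne' (by exact_mod_cast Int.eq_one_of_dvd_one (Int.natCast_nonneg r) this)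
  -- the cofactor is a unit
  have hkm : k ∣ (M : ℤ) := by
    have h2 : k ∣ (N : ℤ) :=
      (Int.isCoprime_two_right.2 hkodd).dvd_of_dvd_mul_left ⟨e, by rw [hk, mul_comm]⟩
    rw [hN] at h2
    push_cast at h2
    have hc : ∀ n : ℕ, (∀ r : ℕ, r.Prime → r ∣ n → r ∣ p * t) → IsCoprime k (n : ℤ) := by
      intro n hn
      rw [Int.isCoprime_iff_gcd_eq_one]
      by_contra hne
      obtain ⟨r, hr, hrg⟩ := Nat.exists_prime_and_dvd hne
      have h1 : (r : ℤ) ∣ k := (Int.natCast_dvd_natCast.2 hrg).trans (Int.gcd_dvd_left _ _)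
      have h2 : r ∣ n := by
        have := (Int.natCast_dvd_natCast.2 hrg).trans (Int.gcd_dvd_right k (n : ℤ))
        exact_mod_cast this
      exact (hmodr r hr (hn r hr h2)).2 h1
    refine IsCoprime.dvd_of_dvd_mul_left ?_ h2
    exact IsCoprime.mul_right
      ((hc p fun r _ hrp => hrp.trans (dvd_mul_right _ _)).pow_right)
      (hc t fun r _ hrt => hrt.trans (dvd_mul_left _ _))
  obtain ⟨hIp, hkp⟩ := hmodr p hp (dvd_mul_right _ _)
  have hpe : (p : ℤ) ∣ e := by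
    have : (p : ℤ) ∣ e * k := ⟨2 * (p * t * M), by rw [← hk, hN]; push_cast; ring⟩
    exact ((Nat.prime_iff_prime_int.1 hp).dvd_mul.1 this).resolve_right hkp
  have hk1 : k = 1 ∨ k = -1 := by
    have hsq : (p : ℤ) ∣ k ^ 2 - 1 := by
      obtain ⟨l, hl⟩ := hpe
      have hX : (p : ℤ) ∣ co.X - 1 := ⟨2 * h * l, by rw [he, hl]; ring⟩
      have hY : (p : ℤ) ∣ 2 * (co.X * Y - 1) := by
        have : 2 * (co.X * Y - 1) = (co.X - 1) * (co.X + 2) := by
          linear_combination (-co.X) * hXY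
        rw [this]
        exact hX.mul_right _
      have hY' : (p : ℤ) ∣ co.X * Y - 1 :=
        (Int.Prime.dvd_mul' hp hY).resolve_left fun h' => by
          have : p ≤ 2 := Nat.le_of_dvd two_pos (by exact_mod_cast h')
          omega
      rw [show k ^ 2 - 1 = ((J : ℤ) - 1) - k ^ 2 * (co.X * Y - 1) by rw [hJk]; ring]
      exact dvd_sub hIp (hY'.mul_left _)
    have hle : k.natAbs ≤ M := Nat.le_of_dvd hM0 (Int.natAbs_dvd_natAbs.2 hkm)
    obtain ⟨a, ha⟩ := hp.odd_of_ne_two (by omega)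
    obtain ⟨b, hb⟩ := hkodd
    rw [show k ^ 2 - 1 = (k - 1) * (k + 1) by ring] at hsq
    have small : ∀ z : ℤ, (p : ℤ) ∣ z → z.natAbs < p → z = 0 := fun z hz hlt =>
      Int.natAbs_eq_zero.1 (Nat.eq_zero_of_dvd_of_lt (Int.natCast_dvd.1 hz) hlt)
    rcases Int.Prime.dvd_mul' hp hsq with h' | h'
    · exact Or.inl (by have := small _ h' (by omega); omega)
    · exact Or.inr (by have := small _ h' (by omega); omega)
  obtain ⟨s, hs, hs2⟩ : ∃ s : ℤ, co.X - 1 = s * (4 * h * p ^ 2 * t * M) ∧ (s = 1 ∨ s = -1) := by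
    refine ⟨k, ?_, hk1⟩
    have hkk : k * k = 1 := by rcases hk1 with e' | e' <;> rw [e'] <;> norm_num
    rw [he]
    have : e = 2 * (N : ℤ) * k := by rw [hk, mul_assoc, hkk, mul_one]
    rw [this, hN]
    push_cast
    ring
  have hJXY : (J : ℤ) = co.X * Y := by
    rw [hJk]; rcases hk1 with e' | e' <;> rw [e'] <;> ring
  -- the torus
  obtain ⟨c, hc⟩ : ∃ c, c = v * p := ⟨_, rfl⟩
  rw [← hc] at hqc
  have hc4 : 4 ∣ c := hc ▸ hv.mul_right p
  have hv0 : 0 < v := Nat.pos_of_ne_zero fun e' => by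
    have h4 : 0 < 4 * h * t := by positivity
    rw [e', zero_mul] at hvj
    omega
  have hv4 : 4 ≤ v := Nat.le_of_dvd hv0 hv
  have hc12 : 12 ≤ c := by
    have := Nat.mul_le_mul hv4 h3
    omega
  have hdodd : Odd d := by
    obtain ⟨i, hi⟩ := hc4
    rcases hqc with ⟨-, h'⟩ | ⟨-, h'⟩
    · exact ⟨i, by omega⟩
    · exact ⟨i - 1, by omega⟩
  have hqodd : Odd q := by
    obtain ⟨i, hi⟩ := hc4
    rcases hqc with ⟨h', -⟩ | ⟨h', -⟩
    · exact ⟨2 * i, by omega⟩
    · exact ⟨2 * i - 1, by omega⟩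
  have hqc' : Nat.Coprime q c := by
    rcases hqc with ⟨e', -⟩ | ⟨e', -⟩
    · rw [e']; exact (Nat.coprime_self_add_left.2 (Nat.coprime_one_left c) :)
    · rw [← e']; exact Nat.coprime_self_add_right.2 (Nat.coprime_one_right _)
  have hdc : Nat.Coprime d c := by
    have hd2 : Nat.Coprime d 2 := Nat.coprime_two_right.2 hdodd
    rcases hqc with ⟨-, e'⟩ | ⟨-, e'⟩
    · have h1 : Nat.gcd d c ∣ 2 := by
        have := Nat.dvd_sub ((Nat.gcd_dvd_left d c).mul_left 2) (Nat.gcd_dvd_right d c)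
        rwa [show 2 * d - c = 2 by omega] at this
      exact Nat.eq_one_of_dvd_coprimes hd2 (Nat.gcd_dvd_left d c) h1
    · have h1 : Nat.gcd d c ∣ 2 := by
        have := Nat.dvd_sub (Nat.gcd_dvd_right d c) ((Nat.gcd_dvd_left d c).mul_left 2)
        rwa [show c - 2 * d = 2 by omega] at this
      exact Nat.eq_one_of_dvd_coprimes hd2 (Nat.gcd_dvd_left d c) h1
  obtain ⟨nP, hnP⟩ : ∃ m : ℕ, 4 * h = 2 ^ m := by
    obtain ⟨m, hm⟩ := P.isPGroup'.exists_card_eq
    exact ⟨m, by rw [← hm, D.card]⟩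
  have htc : t ∣ c := by
    obtain ⟨i, hi⟩ := hj
    have hvi : v = i * t := Nat.eq_of_mul_eq_mul_left (Nat.pos_of_ne_zero fun e' => by
      rw [e', zero_mul] at hi; omega) (show j * v = j * (i * t) by rw [mul_comm j v, hvj, hi]; ring)
    exact hc ▸ (hvi ▸ dvd_mul_left t i).mul_right p
  have hpc : p ∣ c := hc ▸ dvd_mul_left p v
  have hcopr : ∀ {z : ℕ}, Odd z → Nat.Coprime z c → Nat.Coprime z (4 * h * p ^ 2 * t) := fun {z} hz hzc =>
    Nat.Coprime.mul_right (Nat.Coprime.mul_right (hnP ▸ (Nat.coprime_two_right.2 hz).pow_right nP)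
      ((hzc.coprime_dvd_right hpc).pow_right 2)) (hzc.coprime_dvd_right htc)
  have hqd : ((q * d : ℕ) : ℤ) ∣ co.X * Y * (n : ℤ) := by
    have h1 : q * d ∣ J * n := by
      have h2 : q * d ∣ (4 * h * p ^ 2 * t) * (J * n) := by
        refine Nat.dvd_of_mul_dvd_mul_right hW0 ?_
        rw [← hG, ho] at hdvd
        convert hdvd using 1
        ring
      exact (Nat.Coprime.mul_left (hcopr hqodd hqc') (hcopr hdodd hdc)).dvd_of_dvd_mul_left h2
    rw [← hJXY]
    exact_mod_cast h1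
  -- the congruences
  have hX : co.X - 1 = s * ((j * M : ℕ) : ℤ) * c * p := by
    have hvj' : (v : ℤ) * j = 4 * h * t := by exact_mod_cast hvj
    rw [hs, hc]
    push_cast
    linear_combination (-(s * M * p ^ 2)) * hvj' 
  obtain ⟨r, f, hr, hf, hrq⟩ := (isPrimePow_nat_iff _).1 hq
  have hri : Prime (r : ℤ) := Nat.prime_iff_prime_int.1 hr
  have hn_lt : n < q := by
    have : n ≤ M := Nat.le_of_dvd hM0 hnM
    have hpc' : 4 * p ≤ c := hc ▸ Nat.mul_le_mul_right p hv4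
    omega
  have hqI : (q : ℤ) ∣ co.X * Y * (n : ℤ) := (Int.natCast_dvd_natCast.2 (dvd_mul_right q d)).trans hqd
  have hqXY : (q : ℤ) ∣ co.X ∨ (q : ℤ) ∣ co.X + 1 := by
    by_cases hrn : r ∣ n
    · exfalso
      have hcx : IsCoprime ((r : ℤ) ^ f) (co.X * Y) := by
        refine IsCoprime.pow_left ((Irreducible.coprime_iff_not_dvd hri.irreducible).2 fun hd0 => ?_)
        have hrX : (r : ℤ) ∣ co.X - 1 := by
          rw [hs]
          exact Dvd.dvd.mul_left (Dvd.dvd.mul_left (Int.natCast_dvd_natCast.2 (hrn.trans hnM)) _) _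
        have hr2 : (r : ℤ) ∣ 2 * (co.X * Y - 1) := by
          rw [show 2 * (co.X * Y - 1) = (co.X - 1) * (co.X + 2) by linear_combination (-co.X) * hXY]
          exact hrX.mul_right _
        rcases hri.dvd_mul.1 hr2 with h' | h'
        · have h2 : r ∣ 2 := by exact_mod_cast h'
          rw [← hrq, (Nat.prime_dvd_prime_iff_eq hr Nat.prime_two).1 h2, Nat.odd_pow_iff hf.ne'] at hqodd
          exact absurd hqodd (by decide)
        · have := dvd_sub hd0 h'
          rw [sub_sub_cancel] at this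
          exact hri.not_dvd_one this
      rw [← hrq] at hqI hn_lt
      push_cast at hqI
      have h1 : ((r : ℤ) ^ f) ∣ (n : ℤ) := hcx.dvd_of_dvd_mul_left hqI
      have : r ^ f ≤ n := Nat.le_of_dvd hn0 (by exact_mod_cast h1)
      omega
    · have hcm : IsCoprime ((r : ℤ) ^ f) (n : ℤ) :=
        IsCoprime.pow_left ((Irreducible.coprime_iff_not_dvd hri.irreducible).2 fun h' =>
          hrn (by exact_mod_cast h'))
      rw [← hrq] at hqI ⊢
      push_cast at hqI ⊢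
      have h1 : ((r : ℤ) ^ f) ∣ co.X * Y := hcm.dvd_of_dvd_mul_right hqI
      by_cases hrX : (r : ℤ) ∣ co.X
      · left
        refine (IsCoprime.pow_left ((Irreducible.coprime_iff_not_dvd hri.irreducible).2
          fun hrY => ?_)).dvd_of_dvd_mul_right h1
        have := dvd_sub (hrY.mul_left 2) hrX
        rw [show 2 * Y - co.X = 1 by omega] at this
        exact hri.not_dvd_one this
      · right
        rw [hXY]
        exact ((IsCoprime.pow_left ((Irreducible.coprime_iff_not_dvd hri.irreducible).2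
          hrX)).dvd_of_dvd_mul_left h1).mul_left 2
  have hqsq : (q : ℤ) ∣ (c : ℤ) ^ 2 - 1 := by
    rcases hqc with ⟨e', -⟩ | ⟨e', -⟩
    · exact ⟨(c : ℤ) - 1, by rw [e']; push_cast; ring⟩
    · exact ⟨(c : ℤ) + 1, by rw [← e']; push_cast; ring⟩
  obtain ⟨w, hw⟩ : ∃ w, w = j * M := ⟨_, rfl⟩
  rw [← hw] at hX hjM h11
  have hw0 : 0 < w := hw ▸ Nat.mul_pos (Nat.pos_of_ne_zero fun e' => by
    rw [e', mul_zero] at hvj
    have h4 : 0 < 4 * h * t := by positivity
    omega) hM0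
  have hcv : (c : ℤ) = v * p := by exact_mod_cast hc
  have key : (v : ℤ) * co.X = (v + s * w) + s * w * ((c : ℤ) ^ 2 - 1) := by
    linear_combination (v : ℤ) * hX - (s * w * c) * hcv
  have hw3 : w ≠ 3 ∨ p ≠ 3 := by
    by_contra hh'
    push Not at hh'
    obtain ⟨hw3, hp3⟩ := hh'
    have hj3 : j = 3 ∨ M = 3 := by
      rcases (Nat.dvd_prime Nat.prime_three).1 ⟨M, hw3.symm.trans hw⟩ with e' | e'
      · right; rw [e', one_mul] at hw; omega
      · exact Or.inl e'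
    rcases hj3 with e' | e'
    · rw [e', hnP] at hj
      exact absurd ((Nat.prime_dvd_prime_iff_eq Nat.prime_three Nat.prime_two).1
        (Nat.prime_three.dvd_of_dvd_pow hj)) (by omega)
    · omega
  have hlt : 2 * v + w < q ∨ (p = 3 ∧ v = 4) := by
    by_cases h5 : 5 ≤ p
    · left
      have e1 : v * 5 ≤ v * p := Nat.mul_le_mul_left v h5
      have e2 : 4 * p ≤ v * p := Nat.mul_le_mul_right p hv4
      omega
    · have hp3 : p = 3 := by
        rcases (show p = 3 ∨ p = 4 by omega) with e' | e'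
        · exact e'
        · rw [e'] at hp; exact absurd hp (by norm_num)
      rw [hp3] at hc
      obtain ⟨i, hi⟩ := hv
      by_cases h8 : v = 4
      · exact Or.inr ⟨hp3, h8⟩
      · left; omega
  have hzero : s = -1 ∧ (v = w ∨ 2 * v = w) := by
    rcases hqXY with h' | h'
    · have hz : (q : ℤ) ∣ (v : ℤ) + s * w := by
        have := dvd_sub (h'.mul_left (v : ℤ)) (hqsq.mul_left (s * w))
        rwa [key, add_sub_cancel_right] at this
      rw [Int.natCast_dvd] at hz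
      have hz0 := Nat.eq_zero_of_dvd_of_lt hz (by
        rcases hs2 with e' | e' <;> rw [e'] <;> rcases hlt with h'' | ⟨h1, h2⟩ <;>
          first | omega | (rw [h1] at hc hjM; omega))
      rcases hs2 with e' | e' <;> rw [e'] at hz0
      · omega
      · exact ⟨e', Or.inl (by omega)⟩
    · have hz : (q : ℤ) ∣ (2 * v : ℤ) + s * w := by
        have := dvd_sub (h'.mul_left (v : ℤ)) (hqsq.mul_left (s * w))
        rwa [mul_add, mul_one, key, show (v : ℤ) + s * w + s * w * ((c : ℤ) ^ 2 - 1) + v -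
          s * w * ((c : ℤ) ^ 2 - 1) = 2 * v + s * w by ring] at this
      rw [Int.natCast_dvd] at hz
      rcases hlt with h'' | ⟨h1, h2⟩
      · have hz0 := Nat.eq_zero_of_dvd_of_lt hz (by rcases hs2 with e' | e' <;> rw [e'] <;> omega)
        rcases hs2 with e' | e' <;> rw [e'] at hz0
        · omega
        · exact ⟨e', Or.inr (by omega)⟩
      · rw [h1] at hc hjM
        rw [h2] at hz hc ⊢
        have hw4 : w ≤ 4 := hjM
        have hq' : q = 13 ∨ q = 11 := by omega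
        interval_cases w <;> rcases hs2 with e' | e' <;> rcases hq' with e'' | e'' <;>
          simp [e', e''] at hz <;> omega
  obtain ⟨hs1, hvw⟩ := hzero
  have hdI : (d : ℤ) ∣ co.X * Y * (n : ℤ) := (Int.natCast_dvd_natCast.2 (dvd_mul_left d q)).trans hqd
  have hd4 : (d : ℤ) ∣ (c : ℤ) ^ 2 - 4 := by
    rcases hqc with ⟨-, e'⟩ | ⟨-, e'⟩
    · have e2 : (c : ℤ) = 2 * d - 2 := by omega
      exact ⟨4 * d - 8, by rw [e2]; ring⟩
    · have e2 : (c : ℤ) = 2 * d + 2 := by omega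
      exact ⟨4 * d + 8, by rw [e2]; ring⟩
  have hnd : Nat.Coprime d n := by
    have hwc : w ∣ 2 * c := ?_
    · exact Nat.Coprime.coprime_dvd_right (hnM.trans ((hw.symm ▸ dvd_mul_left M j : M ∣ w).trans hwc))
        ((Nat.coprime_two_right.2 hdodd).mul_right hdc)
    rw [hc]
    rcases hvw with e' | e' <;> rw [← e']
    · exact Dvd.intro (2 * p) (by ring)
    · exact Dvd.intro p (by ring)
  have hd5 : 5 ≤ d := by rcases hqc with ⟨-, e'⟩ | ⟨-, e'⟩ <;> omega
  -- `d` divides `X (X + 1)`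
  have hdXX : (d : ℤ) ∣ co.X * (co.X + 1) := by
    have h1 : (d : ℤ) ∣ co.X * Y := Int.dvd_of_dvd_mul_left_of_gcd_one
      (b := co.X * Y) (c := (n : ℤ)) (by exact_mod_cast hdI) (by simpa [Int.gcd] using hnd)
    rw [hXY, ← mul_assoc, mul_comm co.X 2, mul_assoc]
    exact h1.mul_left 2
  rcases hvw with e' | e'
  · have hXc : co.X = 1 - (c : ℤ) ^ 2 := by
      rw [hs1, ← e'] at hX
      linear_combination hX + (c : ℤ) * hcv
    have h6 : (d : ℤ) ∣ 6 := by
      have := dvd_sub hdXX (hd4.mul_right ((c : ℤ) ^ 2 + 1))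
      rwa [hXc, show (1 - (c : ℤ) ^ 2) * (1 - (c : ℤ) ^ 2 + 1) - ((c : ℤ) ^ 2 - 4) * ((c : ℤ) ^ 2 + 1) = 6 by
        ring] at this
    have h3' : d ∣ 3 := (Nat.coprime_two_right.2 hdodd).dvd_of_dvd_mul_left
      (show d ∣ 2 * 3 by exact_mod_cast h6)
    have := Nat.le_of_dvd (by norm_num) h3'
    omega
  · have hXc : co.X = 1 - 2 * (c : ℤ) ^ 2 := by
      rw [hs1, ← e'] at hX
      push_cast at hX
      linear_combination hX + (2 * (c : ℤ)) * hcv
    have h42 : (d : ℤ) ∣ 42 := by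
      have := dvd_sub hdXX (hd4.mul_right (4 * (c : ℤ) ^ 2 + 10))
      rwa [hXc, show (1 - 2 * (c : ℤ) ^ 2) * (1 - 2 * (c : ℤ) ^ 2 + 1) -
        ((c : ℤ) ^ 2 - 4) * (4 * (c : ℤ) ^ 2 + 10) = 42 by ring] at this
    have h21 : d ∣ 21 := (Nat.coprime_two_right.2 hdodd).dvd_of_dvd_mul_left
      (show d ∣ 2 * 21 by exact_mod_cast h42)
    rw [hc] at hqc
    rw [hw] at e' hjM h11
    exact reduced_small hp h3 hv hv0 hjM h11 e' h21 (hqc.imp And.right And.right)

end Cfsg.Lib.GW.CMax
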