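import Cfsg.Agent.Lib.GW.CMax.ReducedLocal
import Cfsg.Agent.Lib.GW.CMax.ReducedEnd

/-!
# The extraspecial case of the reduction does not occur

With `m = |U : F(U)|` and `f = |C_F(x)|` the odd part has order `p² t m f` and `C_U(x)` has order `f` or
`m f`; the rotation has order `2 ^ i` on `E / Z` with `2 ^ i m ≤ p + 1` unless it inverts `U / F(U)`, and
then `i ≤ 2` and `m ∣ p - 1`.
-/

set_option autoImplicit false
set_option linter.unusedSectionVars false
set_option linter.style.haveILetI false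
set_option maxHeartbeats 800000

namespace Cfsg.Lib.GW.CMax

open Cfsg Cfsg.Lib.Block Matrix
open Cfsg.Lib.Block.DihSylow (oddPart oddFix mem_oddPart mem_oddFix)

universe u

/-- An element of determinant one of order not dividing `2 p` has order dividing `p - 1` or `p + 1`. -/
theorem orderOf_dvd_sub_or_add {p : ℕ} [Fact p.Prime] (hp : p ≠ 2)
    {S : Matrix (Fin 2) (Fin 2) (ZMod p)} (hS : S.det = 1) (h : ¬ orderOf S ∣ 2 * p) :
    orderOf S ∣ p - 1 ∨ orderOf S ∣ p + 1 := by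
  have hD : Plane.disc S ≠ 0 := by
    intro h0
    refine h (orderOf_dvd_of_pow_eq_one ?_)
    rw [pow_mul, pow_two]
    refine Plane.pow_q_eq_one (by rw [det_mul, hS, mul_one]) ?_
    rw [Plane.disc_eq, hS] at h0
    rw [det_fin_two] at hS
    simp only [Matrix.mul_apply, Fin.sum_univ_two]
    linear_combination h0 - 2 * hS
  rcases Plane.pow_sub_or_add hp hS hD with e | e
  · exact Or.inl (orderOf_dvd_of_pow_eq_one e)
  · exact Or.inr (orderOf_dvd_of_pow_eq_one e)

theorem two_mul_le {p m : ℕ} (h3 : 3 ≤ p) (hp : Odd p) (hm : Odd m)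
    (h : m ∣ p - 1 ∨ m ∣ p + 1) : 2 * m ≤ p + 1 := by
  obtain ⟨a, rfl⟩ := hp
  obtain ⟨b, rfl⟩ := hm
  rcases h with ⟨c, hc⟩ | ⟨c, hc⟩
  · rcases Nat.lt_or_ge c 2 with h' | h'
    · interval_cases c <;> omega
    · have := Nat.mul_le_mul_left (2 * b + 1) h'
      omega
  · rcases Nat.lt_or_ge c 2 with h' | h'
    · interval_cases c <;> omega
    · have := Nat.mul_le_mul_left (2 * b + 1) h'
      omega

variable {G : Type u} [Group G] [Fintype G] [Fact (Nat.Prime 2)]
  {P : Sylow 2 G} {σ τ : G} {h p : ℕ} {E : Subgroup G} {y b : G}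

/-- `x` centralizes `U / F(U)`. -/
def CentF (σ x : G) (h : ℕ) : Prop := ∀ u ∈ oddSub σ h, x * u * x * u⁻¹ ∈ fitSub σ h

/-- `x` inverts `U / F(U)`. -/
def InvF (σ x : G) (h : ℕ) : Prop := ∀ u ∈ oddSub σ h, u * (x * u * x) ∈ fitSub σ h

namespace PlaneCtx

variable (k : PlaneCtx P σ τ h p E y b)

include k

theorem mat_eq_iff {a a' : G} (ha : a ∈ oddSub σ h) (ha' : a' ∈ oddSub σ h) :
    pmat p y b a = pmat p y b a' ↔ a * a'⁻¹ ∈ fitSub σ h := by
  haveI : Fact p.Prime := ⟨k.ctx.prime⟩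
  have hJ : ∀ {z}, z ∈ oddSub σ h → Commute z (σ ^ h) := fun hz => commute_J k.ctx.frame hz
  have e : pmat p y b (a * a'⁻¹) = pmat p y b a * pmat p y b a'⁻¹ :=
    k.mat_mul (hJ ha) (hJ (inv_mem ha'))
  have e' : pmat p y b a' * pmat p y b a'⁻¹ = 1 := by
    rw [← k.mat_mul (hJ ha') (hJ (inv_mem ha')), mul_inv_cancel, k.mat_one]
  have e'' : pmat p y b a'⁻¹ * pmat p y b a' = 1 := by
    rw [← k.mat_mul (hJ (inv_mem ha')) (hJ ha'), inv_mul_cancel, k.mat_one]
  refine ⟨fun h1 => k.fit_of_mat (mul_mem ha (inv_mem ha')) (by rw [e, h1, e']), fun h1 => ?_⟩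
  have h2 := k.mat_fit h1
  rw [e] at h2
  have h3 := congrArg (· * pmat p y b a') h2
  simpa only [Matrix.mul_assoc, e'', Matrix.mul_one, Matrix.one_mul] using h3

theorem mat_mul_iff {a a' : G} (ha : a ∈ oddSub σ h) (ha' : a' ∈ oddSub σ h) :
    pmat p y b a * pmat p y b a' = 1 ↔ a * a' ∈ fitSub σ h := by
  rw [← k.mat_mul (commute_J k.ctx.frame ha) (commute_J k.ctx.frame ha')]
  exact ⟨k.fit_of_mat (mul_mem ha ha'), k.mat_fit⟩

theorem conj_U {x u : G} (hxJ : Commute x (σ ^ h)) (hx2 : x * x = 1) (hu : u ∈ oddSub σ h) :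
    x * u * x ∈ oddSub σ h := by
  have := conj_oddSub k.ctx.frame hxJ hu
  rwa [inv_eq_of_mul_eq_one_right hx2] at this

theorem centF_or_invF {x : G} (hxJ : Commute x (σ ^ h)) (hx2 : x * x = 1) :
    CentF σ x h ∨ InvF σ x h := by
  haveI : Fact p.Prime := ⟨k.ctx.prime⟩
  refine (k.cent_or_inv hxJ hx2).imp (fun h' u hu => ?_) fun h' u hu => ?_
  · exact (k.mat_eq_iff (k.conj_U hxJ hx2 hu) hu).1 (h' u hu)
  · exact (k.mat_mul_iff hu (k.conj_U hxJ hx2 hu)).1 (h' u hu)

theorem fix_cases :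
    (CentF σ τ h → Nat.card ↥(oddSub σ h ⊓ Subgroup.centralizer ({τ} : Set G)) =
      Nat.card (repU k).range * Nat.card ↥(fitSub σ h ⊓ Subgroup.centralizer ({τ} : Set G))) ∧
    (InvF σ τ h → Nat.card ↥(oddSub σ h ⊓ Subgroup.centralizer ({τ} : Set G)) =
      Nat.card ↥(fitSub σ h ⊓ Subgroup.centralizer ({τ} : Set G))) :=
  ⟨fun h' => k.card_fixU.1 fun u hu =>
      (k.mat_eq_iff (k.conj_U k.ctx.tau_J k.ctx.frame.sqτ hu) hu).2 (h' u hu),
    fun h' => k.card_fixU.2 fun u hu =>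
      (k.mat_mul_iff hu (k.conj_U k.ctx.tau_J k.ctx.frame.sqτ hu)).2 (h' u hu)⟩

theorem sigma_J : Commute σ (σ ^ h) := (Commute.refl σ).pow_right h

theorem det_sigma : (pmat p y b σ).det = 1 := k.det_commute k.sigma_J fun _ hz => k.sigma_omega hz

theorem mat_pow {g : G} (hg : Commute g (σ ^ h)) : ∀ n : ℕ, pmat p y b (g ^ n) = pmat p y b g ^ n
  | 0 => by rw [pow_zero, pow_zero, k.mat_one]
  | n + 1 => by rw [pow_succ, pow_succ, k.mat_mul (hg.pow_left n) hg, mat_pow hg n]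

theorem exists_sigma_order : ∃ i : ℕ, orderOf (pmat p y b σ) = 2 ^ i := by
  obtain ⟨l, hl⟩ := k.ctx.frame.exists_order k.ctx.frame.memσ
  have hd : orderOf (pmat p y b σ) ∣ 2 ^ l := orderOf_dvd_of_pow_eq_one (by
    rw [← k.mat_pow k.sigma_J, ← hl, pow_orderOf_eq_one, k.mat_one])
  obtain ⟨i, -, hi⟩ := (Nat.dvd_prime_pow Nat.prime_two).1 hd
  exact ⟨i, hi⟩

theorem sigma_triv {i n : ℕ} (hi : orderOf (pmat p y b σ) = 2 ^ i) (hn : i ≤ n) :
    ∀ a ∈ E, σ ^ 2 ^ n * a * (σ ^ 2 ^ n)⁻¹ * a⁻¹ ∈ omegaZ σ h p :=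
  (k.mat_eq_one_iff (k.sigma_J.pow_left _)).1 (by
    rw [k.mat_pow k.sigma_J]
    exact orderOf_dvd_iff_pow_eq_one.1 (hi ▸ pow_dvd_pow 2 hn))

theorem exists_order_prime {r : ℕ} (hr : r.Prime) (hd : r ∣ Nat.card (repU k).range) :
    ∃ u ∈ oddSub σ h, orderOf (pmat p y b u) = r := by
  haveI : Fact p.Prime := ⟨k.ctx.prime⟩
  haveI : Fact r.Prime := ⟨hr⟩
  haveI : Finite (repU k).range :=
    Finite.of_surjective (repU k).rangeRestrict (repU k).rangeRestrict_surjective
  obtain ⟨q, hq⟩ := exists_prime_orderOf_dvd_card' r hd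
  obtain ⟨⟨u, hu⟩, e⟩ := q.2
  refine ⟨u, hu, ?_⟩
  rw [← hq, ← Subgroup.orderOf_coe, ← orderOf_units, ← e]
  rfl

/-- The rotation against the image, when both classes invert it. -/
theorem sigma_bound (hτ : InvF σ τ h) (hστ : InvF σ (σ * τ) h) {i : ℕ}
    (hi : orderOf (pmat p y b σ) = 2 ^ i) (hi2 : 2 ≤ i) :
    2 ^ i * Nat.card (repU k).range ≤ p + 1 ∧ (2 ^ i ∣ p - 1 ∨ 2 ^ i ∣ p + 1) := by
  haveI : Fact p.Prime := ⟨k.ctx.prime⟩
  have hp := k.ctx.prime
  have hpo : Odd p := hp.odd_of_ne_two k.ctx.ne_two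
  have h3 : 3 ≤ p := by
    have := hp.two_le
    have := k.ctx.ne_two
    omega
  have hnot : ∀ r : ℕ, ¬ 2 ^ i * r ∣ 2 * p := fun r hd => by
    have h4 : 2 * 2 ∣ 2 * p := ((pow_dvd_pow 2 hi2).trans (Dvd.intro r rfl)).trans hd
    exact Nat.not_even_iff_odd.2 hpo (even_iff_two_dvd.2 (Nat.dvd_of_mul_dvd_mul_left two_pos h4))
  have hσd : 2 ^ i ∣ p - 1 ∨ 2 ^ i ∣ p + 1 := hi ▸ orderOf_dvd_sub_or_add k.ctx.ne_two k.det_sigma
    (hi ▸ fun hd => hnot 1 (by rwa [mul_one]))
  refine ⟨?_, hσd⟩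
  obtain ⟨m, hm, hmo, hmd, -⟩ := k.card_range
  rw [← hm]
  rcases eq_or_ne m 1 with hm1 | hm1
  · rw [hm1, mul_one]
    rcases hσd with hd | hd
    · exact (Nat.le_of_dvd (by omega) hd).trans (by omega)
    · exact Nat.le_of_dvd (by omega) hd
  obtain ⟨r, hr, hrm⟩ := Nat.exists_prime_and_dvd hm1
  obtain ⟨u, hu, hur⟩ := k.exists_order_prime hr (hm ▸ hrm)
  have hro : Odd r := hmo.of_dvd_nat hrm
  -- `σ` centralizes the image
  obtain ⟨hsP, hsσ⟩ := rotation_facts k.ctx.frame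
  have hsJ := k.ctx.frame.central_involution.2.2 _ hsP
  have hs2 := (reflection_mem k.ctx.frame hsP hsσ).1
  have hcomm : Commute (pmat p y b σ) (pmat p y b u) := by
    obtain ⟨v, hv⟩ : ∃ v, v = τ * u * τ := ⟨_, rfl⟩
    have hvU : v ∈ oddSub σ h := hv ▸ k.conj_U k.ctx.tau_J k.ctx.frame.sqτ hu
    have h1 : pmat p y b u * pmat p y b v = 1 :=
      (k.mat_mul_iff hu hvU).2 (hv ▸ hτ u hu)
    have h2 : pmat p y b v * pmat p y b (σ * τ * v * (σ * τ)) = 1 :=
      (k.mat_mul_iff hvU (k.conj_U hsJ hs2 hvU)).2 (hστ v hvU)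
    have e : σ * τ * v * (σ * τ) = σ * u * σ⁻¹ := by
      have hi' : (σ * τ)⁻¹ = σ * τ := inv_eq_of_mul_eq_one_right hs2
      rw [show σ * τ * v * (σ * τ) = σ * τ * v * (σ * τ)⁻¹ by rw [hi'], hv, _root_.mul_inv_rev,
        k.ctx.frame.τ_inv,
        show σ * τ * (τ * u * τ) * (τ * σ⁻¹) = σ * (τ * τ) * u * ((τ * τ) * σ⁻¹) by group,
        k.ctx.frame.sqτ, mul_one, one_mul]
    rw [e] at h2
    have h3' : pmat p y b (σ * u * σ⁻¹) = pmat p y b u := by
      have := congrArg (pmat p y b u * ·) h2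
      simp only [← Matrix.mul_assoc, h1, Matrix.one_mul, Matrix.mul_one] at this
      exact this
    have := congrArg (· * pmat p y b σ) h3'
    rw [← k.mat_mul (((k.sigma_J.mul_left (commute_J k.ctx.frame hu))).mul_left k.sigma_J.inv_left)
      k.sigma_J, inv_mul_cancel_right, k.mat_mul k.sigma_J (commute_J k.ctx.frame hu)] at this
    exact this
  have hord : orderOf (pmat p y b σ * pmat p y b u) = 2 ^ i * r := by
    rw [hcomm.orderOf_mul_eq_mul_orderOf_of_coprime (by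
      rw [hi, hur]; exact (Nat.coprime_two_left.2 hro).pow_left i), hi, hur]
  have hd := orderOf_dvd_sub_or_add k.ctx.ne_two (S := pmat p y b σ * pmat p y b u)
    (by rw [det_mul, k.det_sigma, k.det_U hu, one_mul]) (hord ▸ hnot r)
  rw [hord] at hd
  have hcop : Nat.Coprime (2 ^ i) m := (Nat.coprime_two_left.2 hmo).pow_left i
  have no_both : r ∣ p - 1 → r ∣ p + 1 → False := fun h1 h2 => by
    have := Nat.dvd_sub h2 h1
    rw [show p + 1 - (p - 1) = 2 by omega] at this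
    rw [(Nat.prime_dvd_prime_iff_eq hr Nat.prime_two).1 this] at hro
    exact absurd hro (by decide)
  rcases hd with hd | hd <;> rcases hmd with hm' | hm'
  · exact (Nat.le_of_dvd (by omega) (hcop.mul_dvd_of_dvd_of_dvd ((Dvd.intro r rfl).trans hd) hm')).trans
      (by omega)
  · exact (no_both ((Dvd.intro_left _ rfl).trans hd) (hrm.trans hm')).elim
  · exact (no_both (hrm.trans hm') ((Dvd.intro_left _ rfl).trans hd)).elim
  · exact Nat.le_of_dvd (by omega) (hcop.mul_dvd_of_dvd_of_dvd ((Dvd.intro r rfl).trans hd) hm')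

/-- The rotation inverts the image when one class inverts and the other centralizes it. -/
theorem mixed_bound {x x' : G} (hxP : x ∈ (P : Subgroup G)) (hxσ : x ∉ Subgroup.zpowers σ)
    (hx'P : x' ∈ (P : Subgroup G)) (hx'σ : x' ∉ Subgroup.zpowers σ)
    (hxx : σ = x * x' ∨ σ = x' * x) (hc : CentF σ x h) (hinv : InvF σ x' h)
    (hm1 : Nat.card (repU k).range ≠ 1) {i : ℕ} (hi : orderOf (pmat p y b σ) = 2 ^ i) :
    i ≤ 2 ∧ Nat.card (repU k).range ∣ p - 1 := by
  haveI : Fact p.Prime := ⟨k.ctx.prime⟩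
  obtain ⟨hx2, -, -⟩ := reflection_mem k.ctx.frame hxP hxσ
  obtain ⟨hx'2, -, -⟩ := reflection_mem k.ctx.frame hx'P hx'σ
  have hxJ := k.ctx.frame.central_involution.2.2 x hxP
  have hx'J := k.ctx.frame.central_involution.2.2 x' hx'P
  have hxi := inv_eq_of_mul_eq_one_right hx2
  obtain ⟨m, hm, hmo, hmd, -⟩ := k.card_range
  rw [← hm] at hm1 ⊢
  have hp := k.ctx.prime
  obtain ⟨r, hr, hrm⟩ := Nat.exists_prime_and_dvd hm1
  obtain ⟨u, hu, hur⟩ := k.exists_order_prime hr (hm ▸ hrm)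
  have hu1 : pmat p y b u ≠ 1 := fun e => hr.ne_one (by rw [← hur, e, orderOf_one])
  have hcm : ∀ {w}, w ∈ oddSub σ h → Commute (pmat p y b x) (pmat p y b w) := fun {w} hw => by
    have e := (k.mat_eq_iff (k.conj_U hxJ hx2 hw) hw).2 (hc w hw)
    have := congrArg (· * pmat p y b x) e
    rw [← k.mat_mul ((hxJ.mul_left (commute_J k.ctx.frame hw)).mul_left hxJ) hxJ,
      show x * w * x * x = x * w by rw [mul_assoc, hx2, mul_one],
      k.mat_mul hxJ (commute_J k.ctx.frame hw)] at this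
    exact this
  refine ⟨?_, ?_⟩
  · -- `σ` inverts
    have key : pmat p y b u * pmat p y b (σ * u * σ⁻¹) = 1 := by
      have hx'u := k.conj_U hx'J hx'2 hu
      have h1 : pmat p y b u * pmat p y b (x' * u * x') = 1 :=
        (k.mat_mul_iff hu hx'u).2 (hinv u hu)
      have hxu := k.conj_U hxJ hx2 hu
      rcases hxx with e | e
      · rw [e, show x * x' * u * (x * x')⁻¹ = x * (x' * u * x'⁻¹) * x⁻¹ by group, hxi,
          inv_eq_of_mul_eq_one_right hx'2,
          (k.mat_eq_iff (k.conj_U hxJ hx2 hx'u) hx'u).2 (hc _ hx'u)]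
        exact h1
      · rw [e, show x' * x * u * (x' * x)⁻¹ = x' * (x * u * x⁻¹) * x'⁻¹ by group, hxi,
          inv_eq_of_mul_eq_one_right hx'2, ← (k.mat_eq_iff hxu hu).2 (hc u hu)]
        exact (k.mat_mul_iff hxu (k.conj_U hx'J hx'2 hxu)).2 (hinv _ hxu)
    have hσu : Commute (σ * u * σ⁻¹) (σ ^ h) :=
      (k.sigma_J.mul_left (commute_J k.ctx.frame hu)).mul_left k.sigma_J.inv_left
    have hsq := Plane.sq_eq_neg_one k.ctx.ne_two (k.det_U hu) (k.mat_disc hu hu1) k.det_sigma key (by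
      rw [← k.mat_mul k.sigma_J (commute_J k.ctx.frame hu), ← k.mat_mul hσu k.sigma_J,
        inv_mul_cancel_right])
    have h4 : orderOf (pmat p y b σ) ∣ 2 ^ 2 := orderOf_dvd_of_pow_eq_one (by
      rw [show (2 : ℕ) ^ 2 = 2 + 2 by rfl, pow_add, pow_two, hsq, neg_mul_neg, one_mul])
    rw [hi] at h4
    exact (Nat.pow_dvd_pow_iff_le_right (by norm_num)).1 h4
  · have hX2 : pmat p y b x * pmat p y b x = 1 := by rw [← k.mat_mul hxJ hxJ, hx2, k.mat_one]
    have hXd : (pmat p y b x).det = -1 := k.det_invert hxJ fun z hz => by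
      rw [hxi]; exact k.ctx.inv x hxP hxσ z hz
    have hq := Plane.pow_card_of_commute k.ctx.ne_two hX2 hXd (hcm hu)
    have hr1 : r ∣ p - 1 := by
      rw [← hur]
      refine orderOf_dvd_of_pow_eq_one ?_
      have hinv' : pmat p y b u⁻¹ * pmat p y b u = 1 := by
        rw [← k.mat_mul (commute_J k.ctx.frame (inv_mem hu)) (commute_J k.ctx.frame hu), inv_mul_cancel,
          k.mat_one]
      have hq' : pmat p y b u * pmat p y b u ^ (p - 1) = pmat p y b u := by
        rw [← pow_succ', Nat.sub_add_cancel (le_of_lt hp.one_lt), hq]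
      have := congrArg (pmat p y b u⁻¹ * ·) hq'
      simp only [← Matrix.mul_assoc, hinv', Matrix.one_mul] at this
      exact this
    refine hmd.resolve_right fun h2 => ?_
    have h2' := Nat.dvd_sub (hrm.trans h2) hr1
    rw [show p + 1 - (p - 1) = 2 by have := hp.two_le; omega] at h2'
    have hro := hmo.of_dvd_nat hrm
    rw [(Nat.prime_dvd_prime_iff_eq hr Nat.prime_two).1 h2'] at hro
    exact absurd hro (by decide)

end PlaneCtx

/-- **The extraspecial case does not occur.** -/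
theorem extra_false (c : ExtraCtx P σ τ h p E)
    (hconjJ : ∀ a : G, a * a = 1 → a ≠ 1 → IsConj (σ ^ h) a) : False := by
  classical
  haveI := c.gw.isSimple
  haveI : Fact p.Prime := ⟨c.prime⟩
  have D := c.frame
  obtain ⟨hsP, hsσ⟩ := rotation_facts D
  obtain ⟨hτP, hτσ⟩ := c.tau_facts'
  have hs2 := (reflection_mem D hsP hsσ).1
  have hsJ := D.central_involution.2.2 _ hsP
  obtain ⟨y, b, k⟩ := c.exists_basis
  obtain ⟨y', b', k'⟩ := (c.frame_at hsP hsσ).exists_basis
  have h3 : 3 ≤ p := by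
    have := c.prime.two_le
    have := c.ne_two
    omega
  have hpo : Odd p := c.prime.odd_of_ne_two c.ne_two
  -- the orders
  obtain ⟨m, hm, hmo, hmd, hUm⟩ := k.card_range
  obtain ⟨m', hm', -, -, hUm'⟩ := k'.card_range
  have hF0 : 0 < Nat.card (fitSub σ h) := Nat.card_pos
  have hmm : m' = m := Nat.eq_of_mul_eq_mul_right hF0 (hUm'.symm.trans hUm)
  obtain ⟨t, ht⟩ : p ∣ Nat.card (cinv σ h) := by
    rw [← c.cardZ]
    exact Subgroup.card_dvd_of_le fun z hz => c.centR_le_cinv (c.omega_centR hz)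
  obtain ⟨f, hf⟩ : ∃ f, f = Nat.card ↥(fitSub σ h ⊓ Subgroup.centralizer ({τ} : Set G)) := ⟨_, rfl⟩
  have hFc := k.card_fit
  have hFc' := k'.card_fit
  rw [← hf, ht] at hFc
  rw [ht] at hFc'
  have hpt0 : 0 < p * (p * t) := by
    rw [← ht]; exact Nat.mul_pos c.prime.pos Nat.card_pos
  have hf' : Nat.card ↥(fitSub σ h ⊓ Subgroup.centralizer ({σ * τ} : Set G)) = f :=
    Nat.eq_of_mul_eq_mul_right hpt0 (hFc'.symm.trans hFc)
  have ho : (oddPart σ h).card = p ^ 2 * t * m * f := by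
    have e : (oddPart σ h).card = Nat.card (oddSub σ h) := by
      rw [Nat.card_eq_fintype_card, Fintype.card_subtype]
      congr 1
      ext a
      simp [mem_oddSub D]
    rw [e, hUm, hFc]
    ring
  have hW0 := PlaneCtx.card_oddFix (τ := τ) D
  have hW1 : (oddFix σ h (σ * τ)).card =
      Nat.card ↥(oddSub σ h ⊓ Subgroup.centralizer ({σ * τ} : Set G)) :=
    PlaneCtx.card_oddFix (τ := σ * τ) (frame_at D hsP hsσ)
  have fix := k.fix_cases
  have fix' := k'.fix_cases
  rw [← hm, ← hf, ← hW0] at fix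
  rw [← hm', hmm, hf', ← hW1] at fix'
  have hmove : ∀ r : ℕ, r.Prime → r ∣ p * t →
      ∀ x ∈ (P : Subgroup G), x ∉ Subgroup.zpowers σ → ∃ a ∈ coreP σ h r, ¬ Commute x a := by
    intro r hr hrt x hx hx'
    rcases eq_or_ne r p with rfl | hrp
    · exact c.moving x hx hx'
    haveI : Fact r.Prime := ⟨hr⟩
    obtain ⟨w, hw⟩ := exists_prime_orderOf_dvd_card' r (ht ▸ hrt : r ∣ Nat.card (cinv σ h))
    refine ⟨w, mem_coreP_of_mem_fitSub D hr w.2.1 (k := 1) (by
      rw [pow_one, ← hw, ← Subgroup.orderOf_coe, pow_orderOf_eq_one]), fun hc => ?_⟩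
    have hw1 := eq_one_of_inverted D (fitSub_le w.2.1) hc (by
      rw [inv_eq_of_mul_eq_one_right (reflection_mem D hx hx').1]; exact c.cinv_inverted w.2 hx hx')
    rw [← Subgroup.orderOf_coe, hw1, orderOf_one] at hw
    exact hr.one_lt.ne hw
  obtain ⟨I, hI⟩ := exists_isPModular Nat.prime_two
  obtain ⟨co⟩ := exists_companion hI D hconjJ
  obtain ⟨i, hi⟩ := k.exists_sigma_order
  have hi2 : i ≤ 1 → ∀ {j}, j ≤ 2 ^ (i - 1 + 1) → j ≤ 2 := fun h' j hj => by
    rw [show i - 1 = 0 by omega] at hj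
    simpa using hj
  have hpow : ∀ {j : ℕ}, j ∣ 4 * h → j * 1 = 8 → j = 8 := fun _ h' => by simpa using h'
  -- the classes
  have hc0 := k.centF_or_invF c.tau_J D.sqτ
  have hc1 := k.centF_or_invF hsJ hs2
  by_cases hm1 : m = 1 ∨ (InvF σ τ h ∧ InvF σ (σ * τ) h) ∨ (CentF σ τ h ∧ CentF σ (σ * τ) h)
  · -- equal fixed points
    obtain ⟨W, n, hW, hW', hno⟩ : ∃ W n, (oddFix σ h τ).card = W ∧ (oddFix σ h (σ * τ)).card = W ∧
        ((W = f ∧ n = m) ∨ (W = m * f ∧ n = 1)) := by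
      rcases hm1 with e | ⟨a, a'⟩ | ⟨a, a'⟩
      · refine ⟨f, m, ?_, ?_, Or.inl ⟨rfl, rfl⟩⟩
        · rcases hc0 with a | a
          · rw [fix.1 a, e, one_mul]
          · exact fix.2 a
        · rcases hc1 with a | a
          · rw [fix'.1 a, e, one_mul]
          · exact fix'.2 a
      · exact ⟨f, m, fix.2 a, fix'.2 a', Or.inl ⟨rfl, rfl⟩⟩
      · exact ⟨m * f, 1, fix.1 a, fix'.1 a', Or.inr ⟨rfl, rfl⟩⟩
    obtain ⟨q, d, u, j, hq, hu, hj, huj, hqc, hjl, hdvd⟩ :=
      k.local_data ht (l := i - 1) (k.sigma_triv hi (by omega))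
    rw [← hW0, hW] at hdvd
    have hn : p ^ 2 * t * n * W = (oddPart σ h).card ∧ (n = m ∨ n = 1) := by
      rcases hno with ⟨rfl, rfl⟩ | ⟨rfl, rfl⟩
      · exact ⟨by rw [ho], Or.inl rfl⟩
      · exact ⟨by rw [ho]; ring, Or.inr rfl⟩
    obtain ⟨ho', hn'⟩ := hn
    have hpi : 2 ≤ i → 2 ^ i ∣ p - 1 ∨ 2 ^ i ∣ p + 1 := fun h2 =>
      hi ▸ orderOf_dvd_sub_or_add c.ne_two k.det_sigma (hi ▸ fun hd => by
        have h4 : 2 * 2 ∣ 2 * p := ((pow_dvd_pow 2 h2)).trans hd
        exact Nat.not_even_iff_odd.2 hpo (even_iff_two_dvd.2 (Nat.dvd_of_mul_dvd_mul_left two_pos h4)))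
    have hjn : j * n ≤ p + 1 := by
      rcases Nat.lt_or_ge i 2 with h' | h'
      · have h2j := hi2 (by omega) hjl
        have := two_mul_le h3 hpo hmo hmd
        rcases hn' with rfl | rfl
        · exact (Nat.mul_le_mul_right n h2j).trans this
        · omega
      · rw [Nat.sub_add_cancel (by omega : 1 ≤ i)] at hjl
        rcases hn' with rfl | rfl
        · rcases eq_or_ne n 1 with e | e
          · rw [e, mul_one]
            rcases hpi h' with hd | hd
            · exact hjl.trans ((Nat.le_of_dvd (by omega) hd).trans (by omega))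
            · exact hjl.trans (Nat.le_of_dvd (by omega) hd)
          · rcases hm1 with e' | ⟨a, a'⟩ | ⟨a, a'⟩
            · exact absurd e' e
            · exact (Nat.mul_le_mul_right n hjl).trans (hm ▸ (k.sigma_bound a a' hi h').1)
            · exfalso
              rcases hno with ⟨rfl, -⟩ | ⟨-, e''⟩
              · have := fix.1 a
                rw [hW] at this
                have hf0 : 0 < W := hW ▸ Finset.card_pos.2
                  ⟨1, mem_oddFix.2 ⟨D.oddPart_spec.1, Commute.one_left _⟩⟩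
                exact e (Nat.eq_of_mul_eq_mul_right hf0 (by omega : n * W = 1 * W))
              · exact e e''
        · rw [mul_one]
          rcases hpi h' with hd | hd
          · exact hjl.trans ((Nat.le_of_dvd (by omega) hd).trans (by omega))
          · exact hjl.trans (Nat.le_of_dvd (by omega) hd)
    refine reduced_end D co c.max c.prime h3 ho'.symm (n := n) (M := n) ?_ dvd_rfl ?_ hmove hq hu hj huj
      hqc hjn ?_ hdvd
    · rw [hW, hW', ← ho']
      ring
    · rcases hn' with rfl | rfl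
      · exact two_mul_le h3 hpo hmo hmd
      · omega
    · intro h11 h8
      subst h11
      have hno2 : n = 1 := by
        have hno' : Odd n := by
          rcases hn' with rfl | rfl
          · exact hmo
          · exact odd_one
        obtain ⟨l, -, hl⟩ := (Nat.dvd_prime_pow Nat.prime_two).1
          (show n ∣ 2 ^ 3 from ⟨j, by rw [show (2 : ℕ) ^ 3 = 8 from rfl, ← h8, mul_comm]⟩)
        rcases l with _ | l
        · simpa using hl
        · rw [hl, Nat.odd_pow_iff (by omega)] at hno'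
          exact absurd hno' (by decide)
      rw [hno2, mul_one] at h8
      rw [h8] at hjl
      rcases Nat.lt_or_ge i 3 with h' | h'
      · have := Nat.pow_le_pow_right two_pos (show i - 1 + 1 ≤ 2 by omega)
        omega
      · rcases hpi (by omega) with hd | hd <;>
          have := (pow_dvd_pow 2 h').trans hd <;> norm_num at this
  · -- mixed classes
    push Not at hm1
    obtain ⟨hm1, hnI, hnC⟩ := hm1
    obtain ⟨hib, hmdvd, hmix, hdata⟩ : i ≤ 2 ∧ m ∣ p - 1 ∧
        ((oddFix σ h τ).card + (oddFix σ h (σ * τ)).card = m * f + f ∧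
          (oddFix σ h τ).card * (oddFix σ h (σ * τ)).card = m * f * f) ∧
        ∃ q d u j : ℕ, IsPrimePow q ∧ 4 ∣ u ∧ j ∣ 4 * h ∧ u * j = 4 * h * t ∧
          ((q = u * p + 1 ∧ 2 * d = u * p + 2) ∨ (q + 1 = u * p ∧ 2 * d + 2 = u * p)) ∧
          j ≤ 2 ^ (1 + 1) ∧ q * d * (m * f) ∣ Nat.card G := by
      have hσ : σ = (σ * τ) * τ := by rw [mul_assoc, D.sqτ, mul_one]
      rcases hc0 with a | a
      · have a' : InvF σ (σ * τ) h := hc1.resolve_left fun e => hnC a e
        obtain ⟨h1, h2⟩ := k.mixed_bound hτP hτσ hsP hsσ (Or.inr hσ) a a' (hm ▸ hm1) hi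
        refine ⟨h1, hm ▸ h2, ⟨by rw [fix.1 a, fix'.2 a'], by rw [fix.1 a, fix'.2 a']⟩, ?_⟩
        have := k.local_data ht (l := 1) (k.sigma_triv hi (by omega))
        rwa [← hW0, fix.1 a] at this
      · have a' : CentF σ (σ * τ) h := hc1.resolve_right fun e => hnI a e
        obtain ⟨h1, h2⟩ := k.mixed_bound hsP hsσ hτP hτσ (Or.inl hσ) a' a (hm ▸ hm1) hi
        refine ⟨h1, hm ▸ h2,
          ⟨by rw [fix.2 a, fix'.1 a']; ring, by rw [fix.2 a, fix'.1 a']; ring⟩, ?_⟩
        have := k'.local_data ht (l := 1) (k.sigma_triv hi (by omega))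
        rwa [← hW1, fix'.1 a'] at this
    obtain ⟨q, d, u, j, hq, hu, hj, huj, hqc, hjl, hdvd⟩ := hdata
    obtain ⟨a, ha⟩ := hmo
    have h2m : 2 * m ≤ p - 1 := by
      obtain ⟨c', hc'⟩ := hmdvd
      obtain ⟨b', hb'⟩ := hpo
      rcases Nat.lt_or_ge c' 2 with h' | h'
      · interval_cases c' <;> omega
      · have := Nat.mul_le_mul_left m h'
        omega
    have hj4 : j * (a + 1) ≤ 4 * (a + 1) := Nat.mul_le_mul_right _ (by simpa using hjl)
    refine reduced_end D co c.max c.prime h3 (n := 1) (M := a + 1) (W := m * f) (by rw [ho]; ring) ?_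
      (one_dvd _) (by omega) hmove hq hu hj huj hqc (by omega) ?_ hdvd
    · rw [hmix.1, hmix.2, ho, ha]
      ring
    · intro h11 h8
      subst h11
      have : m ∣ 10 := hmdvd
      have hm5 : m ≤ 5 := by omega
      interval_cases m <;> first | omega | (obtain rfl : a = 2 := (by omega); omega) | norm_num at this

end Cfsg.Lib.GW.CMax
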