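import Cfsg.Agent.Lib.GW.CMax.ReduceFix
import Cfsg.Agent.Lib.GW.CMax.ReducedExtra

/-!
# The reduction: the line of a fixed point

`a` has exponent `p`, its commutators with `R` lie in `Ω₁ Z(R)` and `τ` fixes it; `N` lies over
`N(⟨a⟩)`.  Then `C_R(a) = C_R(τ) × T_R` is abelian of index `p`, and either `Ω₁ Z₂(R)` is extraspecial
of order `p³`, which is `extra_false`, or it is `⟨a⟩ × Ω₁ Z(R)`.
-/

set_option autoImplicit false
set_option linter.unusedSectionVars false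
set_option linter.style.haveILetI false
set_option maxHeartbeats 800000

namespace Cfsg.Lib.GW.CMax

open Cfsg Cfsg.Lib.Block
open scoped commutatorElement

universe u

variable {G : Type u} [Group G] [Fintype G] [Fact (Nat.Prime 2)]

/-- Conjugation by powers, the commutator being centralized. -/
theorem pow_conj_comm {a b z : G} (he : a * b * a⁻¹ = z * b) (hc : Commute a z) (n : ℕ) :
    a ^ n * b * (a ^ n)⁻¹ = z ^ n * b := by
  induction n with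
  | zero => simp
  | succ n ih =>
    calc a ^ (n + 1) * b * (a ^ (n + 1))⁻¹ = a * (a ^ n * b * (a ^ n)⁻¹) * a⁻¹ := by
          rw [pow_succ']; group
      _ = a * z ^ n * a⁻¹ * (a * b * a⁻¹) := by rw [ih]; group
      _ = z ^ (n + 1) * b := by
          rw [(hc.pow_right n).eq, mul_inv_cancel_right, he, pow_succ]; group

/-- The component over the normalizer of the line of a fixed point. -/
structure LineCtx (P : Sylow 2 G) (σ τ : G) (h p : ℕ) {N : Subgroup G} (c : Comp N) (a : G) : Prop where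
  red : RedCtx P σ τ h p
  amem : a ∈ omegaE σ h p
  ane : a ≠ 1
  afix : Commute a τ
  memJ : σ ^ h ∈ c.sub
  memτ : τ ∈ c.sub
  memN : ∀ g : G, g * a * g⁻¹ ∈ Subgroup.zpowers a → g ∈ N

/-- The centralizer of `a` in `R`. -/
noncomputable def centA (σ : G) (h p : ℕ) (a : G) : Subgroup G :=
  coreP σ h p ⊓ Subgroup.centralizer ({a} : Set G)

omit [Fintype G] [Fact (Nat.Prime 2)] in
theorem mem_centA [Fintype G] {σ : G} {h p : ℕ} {a b : G} :
    b ∈ centA σ h p a ↔ b ∈ coreP σ h p ∧ Commute b a := by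
  simp only [centA, Subgroup.mem_inf, Subgroup.mem_centralizer_singleton_iff, commute_iff_eq]

variable {P : Sylow 2 G} {σ τ : G} {h p : ℕ}

/-- An involution fixing the line of a fixed point and lying over it is inner there. -/
theorem RedCtx.mem_sub_over (r : RedCtx P σ τ h p) {a : G} (haR : a ∈ coreP σ h p)
    (haτ : Commute a τ) {N : Subgroup G} (c : Comp N) (hcN : ∀ g, Commute g a → g ∈ N) :
    σ ^ h ∈ c.sub ∧ τ ∈ c.sub := by
  obtain ⟨M, d, hJ, hτ, hM⟩ := r.exists_local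
  have hle : d.sub ≤ N := fun l hl =>
    hcN l (r.fix_commute_sub d hJ hτ hM (mem_fixR.2 ⟨haR, haτ⟩) l hl)
  exact ⟨c.mem_sub_of_perfect d.perfect_sub hle hJ r.frame.central_involution.1,
    c.mem_sub_of_perfect d.perfect_sub hle hτ r.frame.sqτ⟩

/-- A fixed point gives a line. -/
theorem RedCtx.exists_line (r : RedCtx P σ τ h p) {a : G} (ha : a ∈ omegaE σ h p) (ha1 : a ≠ 1)
    (haτ : Commute a τ) : ∃ (N : Subgroup G) (c : Comp N), LineCtx P σ τ h p c a := by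
  have haR := ((mem_omegaE r.prime r.ne_two).1 ha).1
  haveI := r.gw.isSimple
  obtain ⟨N, -, hYN, ⟨c⟩⟩ := exists_over r.frame r.gw r.eight r.max r.prime r.ne_two r.move
    (Y := Subgroup.zpowers a) (Subgroup.zpowers_le.2 haR) (fun e => ha1 (Subgroup.zpowers_eq_bot.1 e))
    (fun y hy => by
      obtain ⟨i, rfl⟩ := Subgroup.mem_zpowers_iff.1 hy
      exact (haτ.zpow_left i).symm)
  have hover : ∀ g : G, g * a * g⁻¹ ∈ Subgroup.zpowers a → g ∈ N := fun g hg => by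
    refine hYN (Subgroup.mem_normalizer_fintype fun z hz => ?_)
    obtain ⟨n, rfl⟩ := Subgroup.mem_zpowers_iff.1 hz
    rw [← conj_zpow]
    exact zpow_mem hg n
  obtain ⟨hJ, hτ⟩ := r.mem_sub_over haR haτ c fun g hg =>
    hover g (by rw [hg.eq, mul_inv_cancel_right]; exact Subgroup.mem_zpowers a)
  exact ⟨N, c, r, ha, ha1, haτ, hJ, hτ, hover⟩

/-- A nontrivial subgroup of `R` normal in it meets `Z(R)`. -/
theorem RedCtx.exists_centR_mem (r : RedCtx P σ τ h p) {X : Subgroup G} (hX : X ≤ coreP σ h p)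
    (hXn : ∀ b ∈ coreP σ h p, ∀ y ∈ X, b * y * b⁻¹ ∈ X) {y : G} (hy : y ∈ X) (hy1 : y ≠ 1) :
    ∃ w ∈ X, w ∈ centR σ h p ∧ w ≠ 1 := by
  haveI : Fact p.Prime := ⟨r.prime⟩
  haveI : (X.subgroupOf (coreP σ h p)).Normal := ⟨fun w hw b => Subgroup.mem_subgroupOf.2
    (hXn b b.2 w (Subgroup.mem_subgroupOf.1 hw))⟩
  have hne : X.subgroupOf (coreP σ h p) ≠ ⊥ := fun e => hy1 (by
    have hm : (⟨y, hX hy⟩ : coreP σ h p) ∈ X.subgroupOf (coreP σ h p) := Subgroup.mem_subgroupOf.2 hy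
    rw [e, Subgroup.mem_bot] at hm
    exact congrArg Subtype.val hm)
  obtain ⟨w, ⟨hwX, hwc⟩, hw1⟩ := (Subgroup.bot_or_exists_ne_one _).resolve_left
    (Cfsg.Lib.PGroup.inf_center_ne_bot isPGroup_coreP hne)
  exact ⟨w, Subgroup.mem_subgroupOf.1 hwX, ⟨w, hwc, rfl⟩, fun e => hw1 (Subtype.ext e)⟩

/-- A subgroup of fixed elements normal in `R` is trivial. -/
theorem RedCtx.eq_one_of_normal_fixed (r : RedCtx P σ τ h p) {X : Subgroup G}
    (hX : X ≤ coreP σ h p) (hXn : ∀ b ∈ coreP σ h p, ∀ y ∈ X, b * y * b⁻¹ ∈ X)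
    (hfix : ∀ y ∈ X, Commute y τ) {y : G} (hy : y ∈ X) : y = 1 := by
  by_contra hy1
  obtain ⟨w, hw, hwc, hw1⟩ := r.exists_centR_mem hX hXn hy hy1
  exact hw1 (eq_one_of_inverted r.frame (coreP_le (hX hw)) (hfix w hw).symm
    (by rw [r.frame.τ_inv]; exact r.centR_inverted hwc))

namespace LineCtx

variable {N : Subgroup G} {c : Comp N} {a : G} (k : LineCtx P σ τ h p c a)

include k

theorem amemR : a ∈ coreP σ h p := ((mem_omegaE k.red.prime k.red.ne_two).1 k.amem).1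

theorem a_pow : a ^ p = 1 := ((mem_omegaE k.red.prime k.red.ne_two).1 k.amem).2.1

theorem a_comm {b : G} (hb : b ∈ coreP σ h p) : a * b * a⁻¹ * b⁻¹ ∈ omegaZ σ h p :=
  ((mem_omegaE k.red.prime k.red.ne_two).1 k.amem).2.2 b hb

theorem mem_of_commute' {g : G} (hg : Commute g a) : g ∈ N :=
  k.memN g (by rw [hg.eq, mul_inv_cancel_right]; exact Subgroup.mem_zpowers a)

/-- A fixed element of `omegaE` commutes with the fixed elements of `R`. -/
theorem fixed_commute {e b : G} (he : e ∈ omegaE σ h p) (heτ : Commute e τ) (hb : b ∈ coreP σ h p)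
    (hbτ : Commute b τ) : Commute e b :=
  mul_inv_eq_iff_eq_mul.1 (mul_inv_eq_one.1 (k.red.fixed_omega
    (((mem_omegaE k.red.prime k.red.ne_two).1 he).2.2 b hb)
    (((heτ.mul_left hbτ).mul_left heτ.inv_left).mul_left hbτ.inv_left)))

theorem omega_commute_a {z : G} (hz : z ∈ omegaZ σ h p) : Commute z a := hz.2.2 a k.amemR

theorem witness' : ∃ i ∈ oddSub σ h, i ∈ N ∧ τ * i * τ = i⁻¹ ∧ i ≠ 1 := by
  obtain ⟨z, hz, hz1⟩ := k.red.exists_z
  exact ⟨z, omegaZ_le.trans coreP_le hz, k.mem_of_commute' (k.omega_commute_a hz),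
    k.red.tau_inv_omega hz, hz1⟩

theorem fix_sub {b : G} (hb : b ∈ fixR σ τ h p) : ∀ l ∈ c.sub, Commute l b :=
  k.red.centralize_of_fixed c k.memJ k.memτ k.witness' k.red.prime k.red.ne_two (mem_fixR.1 hb).1
    (mem_fixR.1 hb).2
    (k.mem_of_commute' (k.fixed_commute k.amem k.afix (mem_fixR.1 hb).1 (mem_fixR.1 hb).2).symm)

theorem sub_commute_a {l : G} (hl : l ∈ c.sub) : Commute l a :=
  k.fix_sub (mem_fixR.2 ⟨k.amemR, k.afix⟩) l hl

theorem omega_zpowers {z z' : G} (hz : z ∈ omegaZ σ h p) (hz1 : z ≠ 1) (hz' : z' ∈ omegaZ σ h p) :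
    z' ∈ Subgroup.zpowers z := by
  obtain ⟨hτ2, hτ1, hτJ'⟩ := reflection_mem k.red.frame k.red.tau.1 k.red.tau.2
  exact cc_prime k.red.frame c k.memJ k.memτ hτ2 k.red.tauJ hτ1 hτJ' k.witness' k.red.prime
    (omegaZ_le.trans coreP_le hz) (k.mem_of_commute' (k.omega_commute_a hz)) (k.red.tau_inv_omega hz)
    hz1 hz.2.1 (omegaZ_le.trans coreP_le hz') (k.mem_of_commute' (k.omega_commute_a hz'))
    (k.red.tau_inv_omega hz') hz'.2.1

theorem exists_pow_omega {z z' : G} (hz : z ∈ omegaZ σ h p) (hz1 : z ≠ 1)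
    (hz' : z' ∈ omegaZ σ h p) : ∃ n : ℕ, z ^ n = z' :=
  (isOfFinOrder_of_finite z).mem_powers_iff_mem_zpowers.2 (k.omega_zpowers hz hz1 hz')

theorem card_omega : Nat.card (omegaZ σ h p) = p := by
  haveI : Fact p.Prime := ⟨k.red.prime⟩
  obtain ⟨z, hz, hz1⟩ := k.red.exists_z
  rw [le_antisymm (fun z' hz' => k.omega_zpowers hz hz1 hz') (Subgroup.zpowers_le.2 hz),
    Nat.card_zpowers, orderOf_eq_prime hz.2.1 hz1]

theorem exists_noncomm : ∃ r₀ ∈ coreP σ h p, a * r₀ * a⁻¹ * r₀⁻¹ ≠ 1 := by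
  by_contra hno
  push Not at hno
  exact k.ane (k.red.fixed_omega ⟨k.amemR, k.a_pow, fun b hb =>
    mul_inv_eq_iff_eq_mul.1 (mul_inv_eq_one.1 (hno b hb))⟩ k.afix)

theorem centA_split {b : G} (hb : b ∈ centA σ h p a) :
    ∃ w ∈ fixR σ τ h p, ∃ i ∈ c.sub, i ∈ centA σ h p a ∧ τ * i * τ = i⁻¹ ∧ b = w * i := by
  have D := k.red.frame
  obtain ⟨hτ2, -, -⟩ := reflection_mem D k.red.tau.1 k.red.tau.2
  obtain ⟨w, hw, i, hi, hwτ, hii, e⟩ := InvAct.exists_split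
    ((odd_card_oddSub D).of_dvd_nat (Subgroup.card_dvd_of_le
      (inf_le_left.trans coreP_le : centA σ h p a ≤ oddSub σ h))) hτ2
    (Subgroup.mem_normalizer_fintype fun y (hy : y ∈ centA σ h p a) => mem_centA.2
      ⟨conj_coreP D k.red.tauJ (mem_centA.1 hy).1,
        (k.afix.symm.mul_left (mem_centA.1 hy).2).mul_left k.afix.symm.inv_left⟩) hb
  exact ⟨w, mem_fixR.2 ⟨(mem_centA.1 hw).1, hwτ⟩, i, c.inverted_mem k.memτ hτ2
    (k.mem_of_commute' (mem_centA.1 hi).2) (odd_orderOf D (coreP_le (mem_centA.1 hi).1)) hii, hi,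
    hii, e⟩

theorem decompose {r₀ : G} (hr₀ : r₀ ∈ coreP σ h p) (hz₀ : a * r₀ * a⁻¹ * r₀⁻¹ ≠ 1) {b : G}
    (hb : b ∈ coreP σ h p) : ∃ n : ℕ, (r₀ ^ n)⁻¹ * b ∈ centA σ h p a := by
  obtain ⟨z, hz⟩ : ∃ z, z = a * r₀ * a⁻¹ * r₀⁻¹ := ⟨_, rfl⟩
  rw [← hz] at hz₀
  have hzZ : z ∈ omegaZ σ h p := hz ▸ k.a_comm hr₀
  obtain ⟨n, hn⟩ := k.exists_pow_omega hzZ hz₀ (k.a_comm hb)
  refine ⟨n, mem_centA.2 ⟨mul_mem (inv_mem (pow_mem hr₀ n)) hb, ?_⟩⟩
  have e1 : a * r₀ ^ n * a⁻¹ = z ^ n * r₀ ^ n := by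
    rw [← conj_pow, show a * r₀ * a⁻¹ = z * r₀ by rw [hz]; group, (hzZ.2.2 r₀ hr₀).mul_pow]
  have e2 : a * b * a⁻¹ = z ^ n * b := by rw [hn]; group
  refine (mul_inv_eq_iff_eq_mul.1 ?_ : Commute a ((r₀ ^ n)⁻¹ * b)).symm
  rw [show a * ((r₀ ^ n)⁻¹ * b) * a⁻¹ = (a * r₀ ^ n * a⁻¹)⁻¹ * (a * b * a⁻¹) by group, e1, e2,
    _root_.mul_inv_rev, mul_assoc, inv_mul_cancel_left]

/-- The fixed points of `τ` of exponent `p` in the second centre form the line. -/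
theorem fixed_omegaE {e : G} (he : e ∈ omegaE σ h p) (heτ : Commute e τ) :
    e ∈ Subgroup.zpowers a := by
  obtain ⟨r₀, hr₀, hz₀⟩ := k.exists_noncomm
  obtain ⟨z, hz⟩ : ∃ z, z = a * r₀ * a⁻¹ * r₀⁻¹ := ⟨_, rfl⟩
  rw [← hz] at hz₀
  have hzZ : z ∈ omegaZ σ h p := hz ▸ k.a_comm hr₀
  obtain ⟨heR, -, hec⟩ := (mem_omegaE k.red.prime k.red.ne_two).1 he
  obtain ⟨n, hn⟩ := k.exists_pow_omega hzZ hz₀ (hec r₀ hr₀)
  obtain ⟨e', he'⟩ : ∃ e', e' = e * (a ^ n)⁻¹ := ⟨_, rfl⟩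
  have he'E : e' ∈ omegaE σ h p := he' ▸ mul_mem he (inv_mem (pow_mem k.amem n))
  have he'R : e' ∈ coreP σ h p := he' ▸ mul_mem heR (inv_mem (pow_mem k.amemR n))
  have he'τ : Commute e' τ := he' ▸ heτ.mul_left (k.afix.pow_left n).inv_left
  have hr : Commute e' r₀ := by
    refine mul_inv_eq_iff_eq_mul.1 ?_
    have e1 := pow_conj_comm (show a * r₀ * a⁻¹ = z * r₀ by rw [hz]; group)
      (k.omega_commute_a hzZ).symm n
    have e2 : (a ^ n)⁻¹ * r₀ * a ^ n = (z ^ n)⁻¹ * r₀ := by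
      have hzn : Commute (z ^ n) (a ^ n) := (k.omega_commute_a hzZ).pow_pow n n
      calc (a ^ n)⁻¹ * r₀ * a ^ n = (a ^ n)⁻¹ * ((z ^ n)⁻¹ * (z ^ n * r₀)) * a ^ n := by group
        _ = (a ^ n)⁻¹ * (z ^ n)⁻¹ * (a ^ n * r₀ * (a ^ n)⁻¹) * a ^ n := by rw [e1]; group
        _ = (z ^ n)⁻¹ * r₀ := by rw [hzn.inv_inv.eq.symm]; group
    calc e' * r₀ * e'⁻¹ = e * ((a ^ n)⁻¹ * r₀ * a ^ n) * e⁻¹ := by rw [he']; group
      _ = e * (z ^ n)⁻¹ * e⁻¹ * (e * r₀ * e⁻¹) := by rw [e2]; group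
      _ = r₀ := by
          rw [((hzZ.2.2 e heR).pow_left n).inv_left.symm.eq, mul_inv_cancel_right, hn]; group
  have hC : ∀ b ∈ centA σ h p a, Commute e' b := by
    intro b hb
    obtain ⟨w, hw, i, his, -, -, rfl⟩ := k.centA_split hb
    exact (k.fixed_commute he'E he'τ (mem_fixR.1 hw).1 (mem_fixR.1 hw).2).mul_right
      (k.fix_sub (mem_fixR.2 ⟨he'R, he'τ⟩) i his).symm
  have hcen : e' ∈ omegaZ σ h p := by
    refine ⟨he'R, ((mem_omegaE k.red.prime k.red.ne_two).1 he'E).2.1, fun b hb => ?_⟩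
    obtain ⟨m, hm⟩ := k.decompose hr₀ (hz ▸ hz₀) hb
    have := (hr.pow_right m).mul_right (hC _ hm)
    rwa [mul_inv_cancel_left] at this
  have h1 := k.red.fixed_omega hcen he'τ
  rw [he', mul_inv_eq_one] at h1
  exact h1 ▸ pow_mem (Subgroup.mem_zpowers a) n

theorem hN' : ∀ g : G, ((∀ b ∈ fixR σ τ h p, Commute g b) ∨ (g ∈ oddSub σ h ∧ Commute g τ)) → g ∈ N :=
  fun g hg => hg.elim (fun hc => k.mem_of_commute' (hc a (mem_fixR.2 ⟨k.amemR, k.afix⟩))) fun hw =>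
    k.memN g (k.fixed_omegaE (k.red.conj_omegaE (commute_J k.red.frame hw.1) k.amem)
      ((hw.2.mul_left k.afix).mul_left hw.2.inv_left))

theorem psl : PSLType c.E := k.red.pslType c k.memJ k.memτ k.hN'

theorem sub_inverted {s : G} (hs : s ∈ c.sub) (hsU : s ∈ oddSub σ h) : τ * s * τ = s⁻¹ := by
  obtain ⟨hτ2, hτ1, hτJ'⟩ := reflection_mem k.red.frame k.red.tau.1 k.red.tau.2
  exact sub_odd_inverted k.red.frame c k.memJ k.memτ hτ2 k.red.tauJ hτ1 hτJ' k.witness' k.psl hs hsU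

theorem torus_commute {s s' : G} (hs : s ∈ c.sub) (hsU : s ∈ oddSub σ h) (hs' : s' ∈ c.sub)
    (hsU' : s' ∈ oddSub σ h) : Commute s s' := by
  obtain ⟨hτ2, hτ1, hτJ'⟩ := reflection_mem k.red.frame k.red.tau.1 k.red.tau.2
  exact cc_commute k.red.frame c k.memJ k.memτ hτ2 k.red.tauJ hτ1 hτJ' k.witness' hsU (c.sub_le hs)
    (k.sub_inverted hs hsU) hsU' (c.sub_le hs') (k.sub_inverted hs' hsU')

/-- A subgroup of fixed elements normal in `R` is trivial. -/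
theorem eq_one_of_normal_fixed {X : Subgroup G} (hX : X ≤ coreP σ h p)
    (hXn : ∀ b ∈ coreP σ h p, ∀ y ∈ X, b * y * b⁻¹ ∈ X) (hfix : ∀ y ∈ X, Commute y τ) {y : G}
    (hy : y ∈ X) : y = 1 :=
  k.red.eq_one_of_normal_fixed hX hXn hfix hy

theorem centA_normal {b y : G} (hb : b ∈ coreP σ h p) (hy : y ∈ centA σ h p a) :
    b * y * b⁻¹ ∈ centA σ h p a := by
  obtain ⟨hyR, hya⟩ := mem_centA.1 hy
  refine mem_centA.2 ⟨mul_mem (mul_mem hb hyR) (inv_mem hb), ?_⟩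
  have hd := inv_mem (k.a_comm hb)
  have h1 : Commute (b * y * b⁻¹) (b * a * b⁻¹) := hya.map (MulAut.conj b).toMonoidHom
  have h2 : Commute (b * y * b⁻¹) (a * b * a⁻¹ * b⁻¹)⁻¹ :=
    (hd.2.2 _ (mul_mem (mul_mem hb hyR) (inv_mem hb))).symm
  have h3 := h2.inv_right.mul_right h1
  rwa [show (a * b * a⁻¹ * b⁻¹)⁻¹⁻¹ * (b * a * b⁻¹) = a by group] at h3

/-- `C_R(a)` is abelian. -/
theorem centA_comm {y y' : G} (hy : y ∈ centA σ h p a) (hy' : y' ∈ centA σ h p a) : Commute y y' := by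
  have hle : ∀ u ∈ ⁅centA σ h p a, centA σ h p a⁆, u ∈ fixR σ τ h p := by
    refine fun u hu => (Subgroup.commutator_le.2 fun b hb b' hb' => ?_) hu
    obtain ⟨w, hw, i, his, hi, -, rfl⟩ := k.centA_split hb
    obtain ⟨w', hw', i', his', hi', -, rfl⟩ := k.centA_split hb'
    have e : ⁅w * i, w' * i'⁆ = ⁅w, w'⁆ := by
      have a1 := k.fix_sub hw i his
      have a2 := k.fix_sub hw' i his
      have a3 := k.fix_sub hw i' his'
      have a4 := k.fix_sub hw' i' his'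
      have a5 := k.torus_commute his (coreP_le (mem_centA.1 hi).1) his' (coreP_le (mem_centA.1 hi').1)
      rw [commutatorElement_def, commutatorElement_def]
      calc w * i * (w' * i') * (w * i)⁻¹ * (w' * i')⁻¹
          = w * (i * w') * (i' * i⁻¹) * w⁻¹ * (i'⁻¹ * w'⁻¹) := by group
        _ = w * w' * (i * i' * i⁻¹) * w⁻¹ * (w'⁻¹ * i'⁻¹) := by
            rw [a2.eq, a4.inv_inv.eq]; group
        _ = w * w' * (w⁻¹ * i') * (w'⁻¹ * i'⁻¹) := by
            rw [a5.eq, mul_inv_cancel_right, ← a3.inv_right.eq]; group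
        _ = w * w' * w⁻¹ * (i' * w'⁻¹) * i'⁻¹ := by group
        _ = w * w' * w⁻¹ * w'⁻¹ := by rw [a4.inv_right.eq]; group
    rw [e]
    exact mul_mem (mul_mem (mul_mem hw hw') (inv_mem hw)) (inv_mem hw')
  refine mul_inv_eq_iff_eq_mul.1 (mul_inv_eq_one.1 ?_)
  rw [← commutatorElement_def]
  refine k.eq_one_of_normal_fixed (X := ⁅centA σ h p a, centA σ h p a⁆)
    ((Subgroup.commutator_le_self _).trans inf_le_left) ?_ (fun u hu => (mem_fixR.1 (hle u hu)).2)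
    (Subgroup.commutator_mem_commutator hy hy')
  intro b hb u hu
  have hmap : (centA σ h p a).map (MulAut.conj b).toMonoidHom ≤ centA σ h p a := by
    rintro _ ⟨y, hy, rfl⟩
    exact k.centA_normal hb hy
  have h1 : b * u * b⁻¹ ∈ (⁅centA σ h p a, centA σ h p a⁆).map (MulAut.conj b).toMonoidHom :=
    ⟨u, hu, rfl⟩
  rw [Subgroup.map_commutator] at h1
  exact Subgroup.commutator_mono hmap hmap h1

/-- `Ω₁ Z₂(R) ∩ C(a) = ⟨a⟩ Ω₁ Z`. -/
theorem omegaE_centA {e : G} (he : e ∈ omegaE σ h p) (hea : Commute e a) :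
    ∃ m : ℕ, ∃ z ∈ omegaZ σ h p, e = a ^ m * z := by
  have D := k.red.frame
  obtain ⟨hτ2, hτ1, hτJ'⟩ := reflection_mem D k.red.tau.1 k.red.tau.2
  have hEU : omegaE σ h p ≤ oddSub σ h := fun y hy =>
    coreP_le ((mem_omegaE k.red.prime k.red.ne_two).1 hy).1
  obtain ⟨w, hw, i, hi, hwτ, hii, rfl⟩ := InvAct.exists_split
    ((odd_card_oddSub D).of_dvd_nat (Subgroup.card_dvd_of_le hEU)) hτ2
    (Subgroup.mem_normalizer_fintype fun y hy => k.red.conj_omegaE k.red.tauJ hy) he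
  obtain ⟨m, rfl⟩ := (isOfFinOrder_of_finite a).mem_powers_iff_mem_zpowers.2 (k.fixed_omegaE hw hwτ)
  refine ⟨m, i, ?_, rfl⟩
  have hia : Commute i a := by
    have := ((Commute.refl a).pow_left m).inv_left.mul_left hea
    rwa [inv_mul_cancel_left] at this
  obtain ⟨z, hz, hz1⟩ := k.red.exists_z
  exact Subgroup.zpowers_le.2 hz (cc_prime D c k.memJ k.memτ hτ2 k.red.tauJ hτ1 hτJ' k.witness'
    k.red.prime (omegaZ_le.trans coreP_le hz) (k.mem_of_commute' (k.omega_commute_a hz))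
    (k.red.tau_inv_omega hz) hz1 hz.2.1 (hEU hi) (k.mem_of_commute' hia) hii
    ((mem_omegaE k.red.prime k.red.ne_two).1 hi).2.1)

/-- If `Ω₁ Z₂(R)` does not centralize `a` it is extraspecial, and the case is excluded. -/
theorem extra_case {e₁ : G} (he₁ : e₁ ∈ omegaE σ h p) (hne : ¬ Commute a e₁) : False := by
  classical
  have r := k.red
  haveI : Fact p.Prime := ⟨r.prime⟩
  obtain ⟨he₁R, -, he₁c⟩ := (mem_omegaE r.prime r.ne_two).1 he₁
  have hz₀ : a * e₁ * a⁻¹ * e₁⁻¹ ≠ 1 := fun e =>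
    hne (mul_inv_eq_iff_eq_mul.1 (mul_inv_eq_one.1 e))
  have hER : omegaE σ h p ≤ coreP σ h p := fun y hy => ((mem_omegaE r.prime r.ne_two).1 hy).1
  have hZE : omegaZ σ h p ≤ omegaE σ h p := fun z hz => (mem_omegaE r.prime r.ne_two).2
    ⟨hz.1, hz.2.1, fun b hb => by rw [(hz.2.2 b hb).eq, mul_inv_cancel_right, mul_inv_cancel]
                                  exact one_mem _⟩
  -- the order
  let f : omegaE σ h p →* omegaZ σ h p :=
    MonoidHom.mk' (fun e => ⟨a * e * a⁻¹ * (e : G)⁻¹, k.a_comm (hER e.2)⟩) fun e e' => Subtype.ext (by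
      show a * ((e : G) * e') * a⁻¹ * ((e : G) * e')⁻¹ =
        a * e * a⁻¹ * (e : G)⁻¹ * (a * e' * a⁻¹ * (e' : G)⁻¹)
      rw [show a * ((e : G) * e') * a⁻¹ * ((e : G) * e')⁻¹ = a * e * a⁻¹ * (e : G)⁻¹ *
        ((e : G) * (a * e' * a⁻¹ * (e' : G)⁻¹) * (e : G)⁻¹) by group,
        ((k.a_comm (hER e'.2)).2.2 e (hER e.2)).symm.eq, mul_inv_cancel_right])
  have hsurj : f.range = ⊤ := by
    haveI : Fact (Nat.Prime (Nat.card ↥(omegaZ σ h p))) := ⟨k.card_omega.symm ▸ r.prime⟩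
    refine (Subgroup.eq_bot_or_eq_top_of_prime_card f.range).resolve_left fun hb => hz₀ ?_
    have h1 : f ⟨e₁, he₁⟩ ∈ f.range := MonoidHom.mem_range.2 ⟨_, rfl⟩
    rw [hb] at h1
    exact congrArg Subtype.val (Subgroup.mem_bot.1 h1)
  have hker : Nat.card f.ker = p * p := by
    have hzp : Nat.card (Subgroup.zpowers a) = p := by
      rw [Nat.card_zpowers, orderOf_eq_prime k.a_pow k.ane]
    conv_rhs => arg 1; rw [← hzp]
    conv_rhs => arg 2; rw [← k.card_omega]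
    rw [← Nat.card_prod]
    refine (Nat.card_congr (Equiv.ofBijective (fun q : Subgroup.zpowers a × omegaZ σ h p =>
      (⟨⟨(q.1 : G) * q.2, mul_mem (Subgroup.zpowers_le.2 k.amem q.1.2) (hZE q.2.2)⟩,
        MonoidHom.mem_ker.2 (Subtype.ext ?_)⟩ : f.ker)) ⟨?_, ?_⟩)).symm
    · show a * ((q.1 : G) * q.2) * a⁻¹ * ((q.1 : G) * q.2)⁻¹ = 1
      obtain ⟨i, hi⟩ := Subgroup.mem_zpowers_iff.1 q.1.2
      rw [← hi, (((Commute.refl a).zpow_right i).mul_right (k.omega_commute_a q.2.2).symm).eq,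
        mul_inv_cancel_right, mul_inv_cancel]
    · rintro ⟨⟨x, hx⟩, ⟨y, hy⟩⟩ ⟨⟨x', hx'⟩, ⟨y', hy'⟩⟩ e
      have e' : x * y = x' * y' := congrArg (fun w : f.ker => ((w : omegaE σ h p) : G)) e
      have hm : x'⁻¹ * x = y' * y⁻¹ := by
        rw [eq_mul_inv_iff_mul_eq, mul_assoc, e', inv_mul_cancel_left]
      have h1 : x'⁻¹ * x = 1 := r.fixed_omega (hm ▸ mul_mem hy' (inv_mem hy)) (by
        obtain ⟨i, hi⟩ := Subgroup.mem_zpowers_iff.1 (mul_mem (inv_mem hx') hx)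
        rw [← hi]
        exact k.afix.zpow_left i)
      obtain rfl := inv_mul_eq_one.1 h1
      obtain rfl := mul_left_cancel e'
      rfl
    · rintro ⟨⟨e, he⟩, hek⟩
      have hea : Commute e a := (mul_inv_eq_iff_eq_mul.1 (mul_inv_eq_one.1
        (congrArg Subtype.val (MonoidHom.mem_ker.1 hek))) : Commute a e).symm
      obtain ⟨m, z, hz, rfl⟩ := k.omegaE_centA he hea
      exact ⟨(⟨a ^ m, pow_mem (Subgroup.mem_zpowers a) m⟩, ⟨z, hz⟩), rfl⟩
  have hcard : Nat.card (omegaE σ h p) = p ^ 3 := by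
    rw [← Subgroup.index_mul_card f.ker, Subgroup.index_ker, hsurj, Subgroup.card_top, k.card_omega,
      hker]
    ring
  refine extra_false (c := (⟨r.frame, r.gw, r.eight, r.max, r.prime, r.ne_two, k.card_omega,
    fun x hx hx' => (r.at_reflection hx hx').move,
    fun x hx hx' z hz => (r.at_reflection hx hx').tau_inv_omega hz, hER, hcard,
    fun e he => ((mem_omegaE r.prime r.ne_two).1 he).2.1, ⟨a, k.amem, e₁, he₁, hne⟩,
    fun g hg e he => r.conj_omegaE hg he,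
    fun e he b hb => ((mem_omegaE r.prime r.ne_two).1 he).2.2 b hb, ?_, r.centU,
    fun s hs hsp => ⟨(r.other hs hsp).1, Or.inl (r.other hs hsp).2⟩⟩ :
      ExtraCtx P σ τ h p (omegaE σ h p))) r.conjJ
  intro b hb
  obtain ⟨n, hn⟩ := k.decompose he₁R hz₀ hb
  obtain ⟨b₁, hb₁⟩ : ∃ b₁, b₁ = (e₁ ^ n)⁻¹ * b := ⟨_, rfl⟩
  rw [← hb₁] at hn
  obtain ⟨z, hz⟩ : ∃ z, z = a * e₁ * a⁻¹ * e₁⁻¹ := ⟨_, rfl⟩
  have hzZ : z ∈ omegaZ σ h p := hz ▸ k.a_comm he₁R
  obtain ⟨l, hl⟩ := k.exists_pow_omega hzZ (hz ▸ hz₀) (he₁c b₁ (mem_centA.1 hn).1)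
  obtain ⟨d, hd⟩ : ∃ d, d = a ^ l * b₁ := ⟨_, rfl⟩
  have haC : a ∈ centA σ h p a := mem_centA.2 ⟨k.amemR, Commute.refl a⟩
  have hdC : d ∈ centA σ h p a := hd ▸ mul_mem (pow_mem haC l) hn
  have hde : Commute e₁ d := by
    refine mul_inv_eq_iff_eq_mul.1 ?_
    have e1 : e₁ * a * e₁⁻¹ = z⁻¹ * a := by rw [hz]; group
    have hez : Commute e₁ z := (hzZ.2.2 e₁ he₁R).symm
    have e2 : e₁ * a ^ l * e₁⁻¹ = (z ^ l)⁻¹ * a ^ l := by
      rw [← conj_pow, e1, ((k.omega_commute_a hzZ).inv_left).mul_pow, inv_pow]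
    have e3 : e₁ * b₁ * e₁⁻¹ = z ^ l * b₁ := by rw [hl]; group
    rw [hd, show e₁ * (a ^ l * b₁) * e₁⁻¹ = e₁ * a ^ l * e₁⁻¹ * (e₁ * b₁ * e₁⁻¹) by group, e2, e3,
      mul_assoc ((z ^ l)⁻¹), ← mul_assoc (a ^ l) (z ^ l),
      ((k.omega_commute_a hzZ).pow_pow l l).symm.eq]
    group
  refine ⟨e₁ ^ n * (a ^ l)⁻¹, mul_mem (pow_mem he₁ n) (inv_mem (pow_mem k.amem l)), d,
    mem_centR.2 ⟨(mem_centA.1 hdC).1, fun b' hb' => ?_⟩, by rw [hd, hb₁]; group⟩
  obtain ⟨n', hn'⟩ := k.decompose he₁R hz₀ hb'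
  have := (hde.symm.pow_right n').mul_right (k.centA_comm hdC hn')
  rwa [mul_inv_cancel_left] at this

end LineCtx

end Cfsg.Lib.GW.CMax
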