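import Cfsg.Agent.Lib.GW.Klein.Plane

/-!
# Two by two matrices over `ZMod p`: elements of determinant one and involutions

Commuting elements of determinant one with the same trace are equal or inverse; so `A ^ p` is `A` or
`A⁻¹`, an element inverting a semisimple one squares to `-1`, and an element centralised by an
involution of determinant `-1` has order dividing `p - 1`.
-/

set_option autoImplicit false
set_option linter.unusedSectionVars false
set_option linter.style.haveILetI false

namespace Cfsg.Lib.GW.Plane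

open Matrix

variable {q : ℕ} [Fact q.Prime]

theorem mat_ext {A B : Matrix (Fin 2) (Fin 2) (ZMod q)} (h00 : A 0 0 = B 0 0) (h01 : A 0 1 = B 0 1)
    (h10 : A 1 0 = B 1 0) (h11 : A 1 1 = B 1 1) : A = B := by
  ext i j
  fin_cases i <;> fin_cases j <;> assumption

theorem disc_eq (A : Matrix (Fin 2) (Fin 2) (ZMod q)) :
    disc A = (A 0 0 + A 1 1) ^ 2 - 4 * A.det := by
  simp only [disc, det_fin_two]
  ring

/-- Commuting elements with the same trace and determinant one are equal or inverse. -/
theorem eq_or_inv (hq : q ≠ 2) {A B : Matrix (Fin 2) (Fin 2) (ZMod q)} (hA : A.det = 1)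
    (hB : B.det = 1) (ht : B 0 0 + B 1 1 = A 0 0 + A 1 1) (hD : disc A ≠ 0) (hc : Commute A B) :
    B = A ∨ A * B = 1 := by
  obtain ⟨e1, e2, e3⟩ := parallel hc
  have hdB : disc B = disc A := by rw [disc_eq, disc_eq, ht, hA, hB]
  have h2 := two_ne_zero_of hq
  have hpol : pol A B * pol A B = disc A * disc A := by
    refine mul_left_cancel₀ hD ?_
    have e : disc A * disc A * disc B = pol A B * pol A B * disc A := by
      have key : disc A * disc A * disc B =
          (disc A * (B 0 0 - B 1 1)) * (disc A * (B 0 0 - B 1 1)) +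
            4 * ((disc A * B 0 1) * (disc A * B 1 0)) := by
        simp only [disc]
        ring
      rw [key, e1, e2, e3]
      simp only [disc]
      ring
    rw [hdB] at e
    linear_combination -e
  rcases mul_self_eq_mul_self_iff.1 hpol with hp | hp <;> rw [hp] at e1 e2 e3
  · left
    have d1 := mul_left_cancel₀ hD e1
    refine mat_ext (mul_left_cancel₀ h2 ?_) (mul_left_cancel₀ hD e2) (mul_left_cancel₀ hD e3)
      (mul_left_cancel₀ h2 ?_)
    · linear_combination ht + d1
    · linear_combination ht - d1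
  · right
    have d1 : B 0 0 - B 1 1 = -(A 0 0 - A 1 1) :=
      mul_left_cancel₀ hD (by linear_combination e1)
    have d2 : B 0 1 = -A 0 1 := mul_left_cancel₀ hD (by linear_combination e2)
    have d3 : B 1 0 = -A 1 0 := mul_left_cancel₀ hD (by linear_combination e3)
    have b0 : B 0 0 = A 1 1 := mul_left_cancel₀ h2 (by linear_combination ht + d1)
    have b1 : B 1 1 = A 0 0 := mul_left_cancel₀ h2 (by linear_combination ht - d1)
    rw [det_fin_two] at hA
    refine mat_ext ?_ ?_ ?_ ?_ <;>
      simp only [Matrix.mul_apply, Fin.sum_univ_two, b0, b1, d2, d3, Matrix.one_apply_eq,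
        Matrix.one_apply_ne (show (0 : Fin 2) ≠ 1 by decide),
        Matrix.one_apply_ne (show (1 : Fin 2) ≠ 0 by decide)]
    · linear_combination hA
    · ring
    · ring
    · linear_combination hA

/-- A semisimple element of determinant one has order dividing `q - 1` or `q + 1`. -/
theorem pow_sub_or_add (hq : q ≠ 2) {A : Matrix (Fin 2) (Fin 2) (ZMod q)} (hA : A.det = 1)
    (hD : disc A ≠ 0) : A ^ (q - 1) = 1 ∨ A ^ (q + 1) = 1 := by
  have ht : (A ^ q) 0 0 + (A ^ q) 1 1 = A 0 0 + A 1 1 := by
    have := ZMod.trace_pow_card A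
    rwa [ZMod.pow_card, Matrix.trace_fin_two, Matrix.trace_fin_two] at this
  rcases eq_or_inv hq hA (by rw [det_pow, hA, one_pow]) ht hD ((Commute.refl A).pow_right q) with
    e | e
  · left
    have hinv : A.adjugate * A = 1 := by rw [adjugate_mul, hA, one_smul]
    have e' : A * A ^ (q - 1) = A := by
      rw [← pow_succ', Nat.sub_add_cancel (Fact.out : q.Prime).one_le, e]
    have e'' := congrArg (A.adjugate * ·) e'
    simp only [← Matrix.mul_assoc, hinv, Matrix.one_mul] at e''
    exact e''
  · right
    rw [pow_succ']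
    exact e

theorem trace_eq_zero_of_involution (hq : q ≠ 2) {X : Matrix (Fin 2) (Fin 2) (ZMod q)}
    (hX2 : X * X = 1) (hX : X.det = -1) : X 0 0 + X 1 1 = 0 := by
  have h00 := congrFun (congrFun hX2 0) 0
  have h11 := congrFun (congrFun hX2 1) 1
  simp [Matrix.mul_apply, Fin.sum_univ_two] at h00 h11
  rw [det_fin_two] at hX
  have : (X 0 0 + X 1 1) * (X 0 0 + X 1 1) = 0 := by linear_combination h00 + h11 + 2 * hX
  exact mul_self_eq_zero.1 this

/-- An element commuting with an involution of determinant `-1` is fixed by the Frobenius. -/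
theorem pow_card_of_commute (hq : q ≠ 2) {A X : Matrix (Fin 2) (Fin 2) (ZMod q)} (hX2 : X * X = 1)
    (hX : X.det = -1) (hc : Commute X A) : A ^ q = A := by
  have ht := trace_eq_zero_of_involution hq hX2 hX
  have h2 := two_ne_zero_of hq
  have hd : disc X = 4 := by rw [disc_eq, ht, hX]; ring
  obtain ⟨e1, e2, e3⟩ := parallel hc
  rw [hd] at e1 e2 e3
  obtain ⟨a, ha⟩ : ∃ a, a = pol X A / 4 := ⟨_, rfl⟩
  obtain ⟨b, hb⟩ : ∃ b, b = (A 0 0 + A 1 1) / 2 := ⟨_, rfl⟩
  have h4 : (4 : ZMod q) ≠ 0 := by
    rw [show (4 : ZMod q) = 2 * 2 by norm_num]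
    exact mul_ne_zero h2 h2
  have ha' : pol X A = 4 * a := by rw [ha]; field_simp
  have hb' : A 0 0 + A 1 1 = 2 * b := by rw [hb]; field_simp
  rw [ha'] at e1 e2 e3
  have h8 : (4 : ZMod q) * 2 ≠ 0 := mul_ne_zero h4 h2
  have hAe : A = a • X + b • 1 := by
    refine mat_ext (mul_left_cancel₀ h8 ?_) (mul_left_cancel₀ h4 ?_) (mul_left_cancel₀ h4 ?_)
      (mul_left_cancel₀ h8 ?_) <;>
      simp only [Matrix.add_apply, Matrix.smul_apply, smul_eq_mul, Matrix.one_apply_eq,
        Matrix.one_apply_ne (show (0 : Fin 2) ≠ 1 by decide),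
        Matrix.one_apply_ne (show (1 : Fin 2) ≠ 0 by decide)]
    · linear_combination e1 + 4 * hb' - 4 * a * ht
    · linear_combination e2
    · linear_combination e3
    · linear_combination -e1 + 4 * hb' - 4 * a * ht
  obtain ⟨k, hk⟩ := (Fact.out : q.Prime).odd_of_ne_two hq
  have hXq : X ^ q = X := by
    refine (congrArg (X ^ ·) hk).trans ?_
    show X ^ (2 * k + 1) = X
    rw [pow_succ, pow_mul, pow_two, hX2, one_pow, one_mul]
  rw [hAe, add_pow_char_of_commute q ((Commute.one_right (a • X)).smul_right b), smul_pow, smul_pow,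
    one_pow, ZMod.pow_card, ZMod.pow_card, hXq]

/-- An element of determinant one inverting a semisimple one squares to `-1`. -/
theorem sq_eq_neg_one (hq : q ≠ 2) {A B S : Matrix (Fin 2) (Fin 2) (ZMod q)} (hA : A.det = 1)
    (hD : disc A ≠ 0) (hS : S.det = 1) (hAB : A * B = 1) (hi : S * A = B * S) : S * S = -1 := by
  have h2 := two_ne_zero_of hq
  have hB : B = A.adjugate := by
    have h := congrArg (A.adjugate * ·) hAB
    simpa [← Matrix.mul_assoc, adjugate_mul, hA] using h
  rw [hB, adjugate_fin_two] at hi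
  have h00 := congrFun (congrFun hi 0) 0
  have h01 := congrFun (congrFun hi 0) 1
  have h10 := congrFun (congrFun hi 1) 0
  have h11 := congrFun (congrFun hi 1) 1
  simp [Matrix.mul_apply, Fin.sum_univ_two] at h00 h01 h10 h11
  have hs : S 0 0 + S 1 1 = 0 := by
    by_contra hne
    refine hD ?_
    have u : A 0 0 - A 1 1 = 0 := (mul_eq_zero.1 (show (S 0 0 + S 1 1) * (A 0 0 - A 1 1) = 0 by
      linear_combination h00 - h11)).resolve_left hne
    have v : A 0 1 = 0 := (mul_eq_zero.1 (show (S 0 0 + S 1 1) * A 0 1 = 0 by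
      linear_combination h01)).resolve_left hne
    simp only [disc, u, v]
    ring
  rw [det_fin_two] at hS
  refine mat_ext ?_ ?_ ?_ ?_ <;> simp [Matrix.mul_apply, Fin.sum_univ_two]
  · linear_combination (S 0 0) * hs - hS
  · linear_combination (S 0 1) * hs
  · linear_combination (S 1 0) * hs
  · linear_combination (S 1 1) * hs - hS

/-- A square root of one of determinant one is a sign. -/
theorem sq_one_cases (hq : q ≠ 2) {S : Matrix (Fin 2) (Fin 2) (ZMod q)} (hS : S.det = 1)
    (h : S * S = 1) : S = 1 ∨ S = -1 := by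
  have h2 := two_ne_zero_of hq
  have h00 := congrFun (congrFun h 0) 0
  have h01 := congrFun (congrFun h 0) 1
  have h10 := congrFun (congrFun h 1) 0
  have h11 := congrFun (congrFun h 1) 1
  simp [Matrix.mul_apply, Fin.sum_univ_two] at h00 h01 h10 h11
  rw [det_fin_two] at hS
  have t0 : (S 0 0 + S 1 1) * S 0 0 = 2 := by linear_combination h00 + hS
  have hs : S 0 0 + S 1 1 ≠ 0 := fun e => h2 (by rw [e, zero_mul] at t0; exact t0.symm)
  have b0 : S 0 1 = 0 := (mul_eq_zero.1 (show (S 0 0 + S 1 1) * S 0 1 = 0 by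
    linear_combination h01)).resolve_left hs
  have c0 : S 1 0 = 0 := (mul_eq_zero.1 (show (S 0 0 + S 1 1) * S 1 0 = 0 by
    linear_combination h10)).resolve_left hs
  rw [b0, c0] at hS h00 h11
  have ad : S 0 0 = S 1 1 := mul_left_cancel₀ hs (by linear_combination h00 - h11)
  have ha : S 0 0 * S 0 0 = 1 := by linear_combination h00
  rcases mul_self_eq_one_iff.1 ha with e | e
  · exact Or.inl (mat_ext (by simp [e]) (by simp [b0]) (by simp [c0]) (by simp [← ad, e]))
  · exact Or.inr (mat_ext (by simp [e]) (by simp [b0]) (by simp [c0]) (by simp [← ad, e]))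

end Cfsg.Lib.GW.Plane
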