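import Cfsg.Agent.Lib.GW.CMax.ReducedCtx
import Cfsg.Agent.Lib.GW.CMax.MixedInner
import Cfsg.Agent.Lib.GW.CMax.ReducedMat

/-!
# The extraspecial case: coordinates on `E / Z`

For `y` fixed and `b` inverted by `τ` outside `Z` the commutator with them gives coordinates on `E / Z`,
and conjugation by the centralizer of `J` becomes a matrix representation `pmat`, of determinant one
on the elements commuting with `Z` and `-1` on the reflections.
-/

set_option autoImplicit false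
set_option linter.unusedSectionVars false
set_option linter.style.haveILetI false
set_option maxHeartbeats 800000

namespace Cfsg.Lib.GW.CMax

open Cfsg Cfsg.Lib.Block Matrix

universe u

variable {G : Type u} [Group G]

open Classical in
/-- The exponent of a power of `w` modulo `p`. -/
noncomputable def plog (p : ℕ) (w z : G) : ZMod p :=
  if hz : ∃ n : ℕ, z = w ^ n then ((Classical.choose hz : ℕ) : ZMod p) else 0

/-- The exponent of a commutator over that of `[y, b]`. -/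
noncomputable def ppair (p : ℕ) (y b a a' : G) : ZMod p :=
  plog p (y * b * y⁻¹ * b⁻¹) (a * a' * a⁻¹ * a'⁻¹)

/-- The coordinates. -/
noncomputable def pcrd (p : ℕ) (y b a : G) : Fin 2 → ZMod p :=
  ![ppair p y b a b, ppair p y b y a]

/-- The matrix of a conjugation. -/
noncomputable def pmat (p : ℕ) (y b g : G) : Matrix (Fin 2) (Fin 2) (ZMod p) :=
  Matrix.of ![![pcrd p y b (g * y * g⁻¹) 0, pcrd p y b (g * b * g⁻¹) 0],
    ![pcrd p y b (g * y * g⁻¹) 1, pcrd p y b (g * b * g⁻¹) 1]]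

theorem plog_pow {p : ℕ} {w : G} (hw : orderOf w = p) (n : ℕ) : plog p w (w ^ n) = n := by
  have hz : ∃ k : ℕ, w ^ n = w ^ k := ⟨n, rfl⟩
  rw [plog, dif_pos hz]
  have e := Classical.choose_spec hz
  rw [ZMod.natCast_eq_natCast_iff, ← hw]
  exact (pow_eq_pow_iff_modEq.1 e).symm

variable [Fintype G] [Fact (Nat.Prime 2)]

/-- A basis adapted to the reflection. -/
structure PlaneCtx (P : Sylow 2 G) (σ τ : G) (h p : ℕ) (E : Subgroup G) (y b : G) : Prop where
  ctx : ExtraCtx P σ τ h p E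
  ymem : y ∈ E
  bmem : b ∈ E
  yfix : Commute y τ
  binv : τ * b * τ = b⁻¹
  ynot : y ∉ omegaZ σ h p
  bnot : b ∉ omegaZ σ h p

variable {P : Sylow 2 G} {σ τ : G} {h p : ℕ} {E : Subgroup G}

namespace ExtraCtx

variable (c : ExtraCtx P σ τ h p E)

include c

theorem le_U : E ≤ oddSub σ h := c.le.trans coreP_le

theorem omega_centR : omegaZ σ h p ≤ centR σ h p := fun _ hz => mem_centR.2 ⟨hz.1, hz.2.2⟩

theorem omega_commute {z u : G} (hz : z ∈ omegaZ σ h p) (hu : u ∈ oddSub σ h) : Commute u z :=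
  c.centU z (c.omega_centR hz) u hu

theorem tau_facts' : τ ∈ (P : Subgroup G) ∧ τ ∉ Subgroup.zpowers σ := CMax.tau_mem c.frame

theorem tau_J : Commute τ (σ ^ h) := c.frame.central_involution.2.2 τ c.frame.memτ

theorem tau_omega {z : G} (hz : z ∈ omegaZ σ h p) : τ * z * τ = z⁻¹ :=
  c.inv τ c.tau_facts'.1 c.tau_facts'.2 z hz

theorem fixed_omega {z : G} (hz : z ∈ omegaZ σ h p) (hc : Commute z τ) : z = 1 :=
  eq_one_of_inverted c.frame (omegaZ_le.trans coreP_le hz) hc.symm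
    (by rw [c.frame.τ_inv, c.tau_omega hz])

theorem conj_tau {a : G} (ha : a ∈ E) : τ * a * τ ∈ E := by
  have := c.conj τ c.tau_J a ha
  rwa [c.frame.τ_inv] at this

theorem zpowers_omega {z : G} (hz : z ∈ omegaZ σ h p) (hz1 : z ≠ 1) :
    Subgroup.zpowers z = omegaZ σ h p := by
  haveI : Fact p.Prime := ⟨c.prime⟩
  refine Subgroup.eq_of_le_of_card_ge (Subgroup.zpowers_le.2 hz) ?_
  rw [Nat.card_zpowers, c.cardZ, orderOf_eq_prime hz.2.1 hz1]

theorem omega_le : omegaZ σ h p ≤ E := by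
  obtain ⟨a, ha, b, hb, hab⟩ := c.nonab
  rw [← c.zpowers_omega (c.comm a ha b (c.le hb)) fun e => hab (mul_inv_eq_iff_eq_mul.1
    (mul_inv_eq_one.1 e)), Subgroup.zpowers_le]
  exact mul_mem (mul_mem (mul_mem ha hb) (inv_mem ha)) (inv_mem hb)

theorem center_omega {a : G} (ha : a ∈ E) (hc : ∀ e ∈ E, Commute a e) : a ∈ omegaZ σ h p := by
  refine ⟨c.le ha, c.exp a ha, fun r hr => ?_⟩
  obtain ⟨e, he, d, hd, rfl⟩ := c.decomp r hr
  exact (hc e he).mul_right ((mem_centR.1 hd).2 a (c.le ha)).symm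

theorem exists_basis : ∃ y b : G, PlaneCtx P σ τ h p E y b := by
  have hodd : Odd (Nat.card E) :=
    (odd_card_oddSub c.frame).of_dvd_nat (Subgroup.card_dvd_of_le c.le_U)
  have hsplit : ∀ a ∈ E, ∃ f ∈ E, ∃ i ∈ E, Commute f τ ∧ τ * i * τ = i⁻¹ ∧ a = f * i := fun a ha =>
    InvAct.exists_split hodd c.frame.sqτ
      (Subgroup.mem_normalizer_fintype fun y hy => c.conj τ c.tau_J y hy) ha
  have hy : ∃ y ∈ E, Commute y τ ∧ y ∉ omegaZ σ h p := by
    by_contra hno
    push Not at hno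
    have hinv : ∀ a ∈ E, τ * a * τ = a⁻¹ := by
      intro a ha
      obtain ⟨f, hf, i, -, hfc, hii, rfl⟩ := hsplit a ha
      rwa [c.fixed_omega (hno f hf hfc) hfc, one_mul]
    obtain ⟨a, ha, b, hb, hab⟩ := c.nonab
    refine hab ?_
    have e := hinv _ (mul_mem ha hb)
    rw [InvAct.conj_mul c.frame.sqτ, hinv a ha, hinv b hb] at e
    have := congrArg (·⁻¹) e
    simp only [_root_.mul_inv_rev, inv_inv] at this
    exact this.symm
  have hb : ∃ b ∈ E, τ * b * τ = b⁻¹ ∧ b ∉ omegaZ σ h p := by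
    by_contra hno
    push Not at hno
    obtain ⟨a, ha, b, hb, hab⟩ := c.nonab
    obtain ⟨f, hf, i, hi, hfc, hii, rfl⟩ := hsplit a ha
    obtain ⟨f', hf', i', hi', hfc', hii', rfl⟩ := hsplit b hb
    have hz := hno i hi hii
    have hz' := hno i' hi' hii'
    have hff : Commute f f' := mul_inv_eq_iff_eq_mul.1 (mul_inv_eq_one.1
      (c.fixed_omega (c.comm f hf f' (c.le hf'))
        (((hfc.mul_left hfc').mul_left hfc.inv_left).mul_left hfc'.inv_left)))
    refine hab ((hff.mul_right ?_).mul_left ?_)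
    · exact c.omega_commute hz' (c.le_U hf)
    · exact (c.omega_commute hz (c.le_U (mul_mem hf' hi'))).symm
  obtain ⟨y, hy, hyc, hyn⟩ := hy
  obtain ⟨b, hb, hbi, hbn⟩ := hb
  exact ⟨y, b, c, hy, hb, hyc, hbi, hyn, hbn⟩

end ExtraCtx

namespace PlaneCtx

variable {y b : G} (k : PlaneCtx P σ τ h p E y b)

include k

theorem pw_add [NeZero p] {a : G} (ha : a ∈ E) (i j : ZMod p) :
    a ^ (i + j).val = a ^ i.val * a ^ j.val := by
  rw [← pow_add, ZMod.val_add]
  exact (pow_eq_pow_mod _ (k.ctx.exp a ha)).symm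

theorem eq_one_of_pow_mem {a : G} (hn : a ∉ omegaZ σ h p) (ha : a ∈ E) {n : ℕ}
    (hm : a ^ n ∈ omegaZ σ h p) : (n : ZMod p) = 0 := by
  haveI : Fact p.Prime := ⟨k.ctx.prime⟩
  by_contra hne
  refine hn ?_
  obtain ⟨j, hj⟩ := exists_pow_eq_self_of_coprime (x := a) (n := n) (by
    rw [orderOf_eq_prime (k.ctx.exp a ha) fun e => hn (e ▸ one_mem _)]
    refine Nat.Coprime.symm ((k.ctx.prime.coprime_iff_not_dvd).2 fun hd => hne ?_)
    rwa [ZMod.natCast_eq_zero_iff])
  exact hj ▸ pow_mem hm j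

/-- Every element of `E` is `y ^ i b ^ k z`. -/
theorem normal_form {a : G} (ha : a ∈ E) :
    ∃ i j : ZMod p, ∃ z ∈ omegaZ σ h p, a = y ^ i.val * b ^ j.val * z := by
  classical
  haveI : Fact p.Prime := ⟨k.ctx.prime⟩
  let f : ZMod p × ZMod p × omegaZ σ h p → E := fun q =>
    ⟨y ^ q.1.val * b ^ q.2.1.val * q.2.2, mul_mem (mul_mem (pow_mem k.ymem _) (pow_mem k.bmem _))
      (k.ctx.omega_le q.2.2.2)⟩
  have key : ∀ i j : ℕ, y ^ i * b ^ j ∈ omegaZ σ h p → (i : ZMod p) = 0 ∧ (j : ZMod p) = 0 := by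
    intro i j hm
    have e1 := k.ctx.tau_omega hm
    rw [InvAct.conj_mul k.ctx.frame.sqτ, InvAct.conj_of_commute k.ctx.frame.sqτ (k.yfix.pow_left i),
      show τ * b ^ j * τ = (τ * b * τ⁻¹) ^ j by rw [conj_pow, k.ctx.frame.τ_inv],
      k.ctx.frame.τ_inv, k.binv] at e1
    have e2 : b ^ j * b ^ j = y ^ i * b ^ j * (y ^ i * b ^ j) := by
      have := congrArg (·⁻¹) e1
      simp only [_root_.mul_inv_rev, inv_inv, inv_pow] at this
      calc b ^ j * b ^ j = b ^ j * (y ^ i)⁻¹ * (y ^ i * b ^ j) := by group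
        _ = y ^ i * b ^ j * (y ^ i * b ^ j) := by rw [this]
    have hb2 : ((j + j : ℕ) : ZMod p) = 0 := k.eq_one_of_pow_mem k.bnot k.bmem
      (by rw [pow_add, e2]; exact mul_mem hm hm)
    have hj : (j : ZMod p) = 0 := by
      rw [Nat.cast_add, ← two_mul] at hb2
      exact (mul_eq_zero.1 hb2).resolve_left (Plane.two_ne_zero_of k.ctx.ne_two)
    refine ⟨k.eq_one_of_pow_mem k.ynot k.ymem ?_, hj⟩
    have hj1 : b ^ j = 1 := by
      rw [ZMod.natCast_eq_zero_iff] at hj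
      obtain ⟨l, rfl⟩ := hj
      rw [pow_mul, k.ctx.exp b k.bmem, one_pow]
    rwa [hj1, mul_one] at hm
  have hinj : Function.Injective f := by
    rintro ⟨i, j, z⟩ ⟨i', j', z'⟩ e
    have e' : y ^ i.val * b ^ j.val * z = y ^ i'.val * b ^ j'.val * z' := congrArg Subtype.val e
    obtain ⟨d, hd⟩ : ∃ d, d = i - i' := ⟨_, rfl⟩
    obtain ⟨d', hd'⟩ : ∃ d', d' = j - j' := ⟨_, rfl⟩
    have hi : i = i' + d := by rw [hd]; abel
    have hj : j = d' + j' := by rw [hd']; abel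
    rw [hi, hj, k.pw_add k.ymem, k.pw_add k.bmem] at e'
    have hm : y ^ d.val * b ^ d'.val ∈ omegaZ σ h p := by
      have hb' : Commute (b ^ j'.val) ((z' : G) * (z : G)⁻¹) :=
        k.ctx.omega_commute (mul_mem z'.2 (inv_mem z.2)) (k.ctx.le_U (pow_mem k.bmem _))
      have : y ^ d.val * b ^ d'.val = (z' : G) * (z : G)⁻¹ := by
        calc y ^ d.val * b ^ d'.val
            = (y ^ i'.val)⁻¹ * (y ^ i'.val * y ^ d.val * (b ^ d'.val * b ^ j'.val) * z) *
              (z : G)⁻¹ * (b ^ j'.val)⁻¹ := by group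
          _ = b ^ j'.val * ((z' : G) * (z : G)⁻¹) * (b ^ j'.val)⁻¹ := by rw [e']; group
          _ = _ := by rw [hb'.eq, mul_inv_cancel_right]
      exact this ▸ mul_mem z'.2 (inv_mem z.2)
    obtain ⟨h1, h2⟩ := key _ _ hm
    rw [ZMod.natCast_zmod_val] at h1 h2
    rw [h1, h2, ZMod.val_zero, pow_zero, pow_zero, mul_one, one_mul] at e'
    rw [Prod.mk.injEq, Prod.mk.injEq]
    exact ⟨by rw [hi, h1, add_zero], by rw [hj, h2, zero_add],
      Subtype.ext (mul_left_cancel e')⟩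
  obtain ⟨⟨i, j, z⟩, e⟩ := ((Nat.bijective_iff_injective_and_card f).2 ⟨hinj, by
    rw [Nat.card_prod, Nat.card_prod, Nat.card_zmod, k.ctx.cardZ, k.ctx.cardE]; ring⟩).2 ⟨a, ha⟩
  exact ⟨i, j, z, z.2, (congrArg Subtype.val e).symm⟩

theorem w_mem : y * b * y⁻¹ * b⁻¹ ∈ omegaZ σ h p := k.ctx.comm y k.ymem b (k.ctx.le k.bmem)

theorem yb_not : ¬ Commute y b := by
  intro hyb
  obtain ⟨a, ha, a', ha', hn⟩ := k.ctx.nonab
  obtain ⟨i, j, z, hz, rfl⟩ := k.normal_form ha
  obtain ⟨i', j', z', hz', rfl⟩ := k.normal_form ha'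
  refine hn ?_
  have hu : y ^ i'.val * b ^ j'.val * z' ∈ oddSub σ h := k.ctx.le_U ha'
  refine (Commute.mul_right ?_ ?_).mul_left (k.ctx.omega_commute hz hu).symm
  · exact (((Commute.refl y).pow_pow _ _).mul_right (hyb.pow_pow _ _)).mul_left
      ((hyb.symm.pow_pow _ _).mul_right ((Commute.refl b).pow_pow _ _))
  · exact k.ctx.omega_commute hz' (k.ctx.le_U (mul_mem (pow_mem k.ymem _) (pow_mem k.bmem _)))

theorem orderOf_w : orderOf (y * b * y⁻¹ * b⁻¹) = p := by
  haveI : Fact p.Prime := ⟨k.ctx.prime⟩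
  exact orderOf_eq_prime k.w_mem.2.1 fun e => k.yb_not (mul_inv_eq_iff_eq_mul.1 (mul_inv_eq_one.1 e))

theorem exists_pow_w {z : G} (hz : z ∈ omegaZ σ h p) : ∃ n : ℕ, z = (y * b * y⁻¹ * b⁻¹) ^ n := by
  rw [← k.ctx.zpowers_omega k.w_mem fun e => k.yb_not (mul_inv_eq_iff_eq_mul.1 (mul_inv_eq_one.1 e)),
    ← (isOfFinOrder_of_finite _).mem_powers_iff_mem_zpowers] at hz
  obtain ⟨n, hn⟩ := hz
  exact ⟨n, hn.symm⟩

theorem plog_mul {z z' : G} (hz : z ∈ omegaZ σ h p) (hz' : z' ∈ omegaZ σ h p) :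
    plog p (y * b * y⁻¹ * b⁻¹) (z * z') =
      plog p (y * b * y⁻¹ * b⁻¹) z + plog p (y * b * y⁻¹ * b⁻¹) z' := by
  obtain ⟨n, rfl⟩ := k.exists_pow_w hz
  obtain ⟨n', rfl⟩ := k.exists_pow_w hz'
  rw [← pow_add, plog_pow k.orderOf_w, plog_pow k.orderOf_w, plog_pow k.orderOf_w, Nat.cast_add]

theorem plog_one : plog p (y * b * y⁻¹ * b⁻¹) 1 = 0 := by
  rw [← pow_zero (y * b * y⁻¹ * b⁻¹), plog_pow k.orderOf_w, Nat.cast_zero]

theorem eq_one_of_plog {z : G} (hz : z ∈ omegaZ σ h p)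
    (h0 : plog p (y * b * y⁻¹ * b⁻¹) z = 0) : z = 1 := by
  obtain ⟨n, rfl⟩ := k.exists_pow_w hz
  rw [plog_pow k.orderOf_w, ZMod.natCast_eq_zero_iff] at h0
  obtain ⟨l, rfl⟩ := h0
  rw [pow_mul, k.w_mem.2.1, one_pow]

theorem pair_add_left {a a' e : G} (ha : a ∈ E) (ha' : a' ∈ E) (he : e ∈ E) :
    ppair p y b (a * a') e = ppair p y b a e + ppair p y b a' e := by
  have hc := k.ctx.comm a' ha' e (k.ctx.le he)
  rw [ppair, ppair, ppair,
    show a * a' * e * (a * a')⁻¹ * e⁻¹ = a * (a' * e * a'⁻¹ * e⁻¹) * a⁻¹ * (a * e * a⁻¹ * e⁻¹) by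
      group,
    (k.ctx.omega_commute hc (k.ctx.le_U ha)).eq, mul_inv_cancel_right,
    k.plog_mul hc (k.ctx.comm a ha e (k.ctx.le he)), add_comm]

theorem pair_swap {a e : G} (ha : a ∈ E) (he : e ∈ E) :
    ppair p y b a e + ppair p y b e a = 0 := by
  rw [ppair, ppair, ← k.plog_mul (k.ctx.comm a ha e (k.ctx.le he))
    (k.ctx.comm e he a (k.ctx.le ha)),
    show a * e * a⁻¹ * e⁻¹ * (e * a * e⁻¹ * a⁻¹) = 1 by group, k.plog_one]

theorem pair_self (a : G) : ppair p y b a a = 0 := by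
  rw [ppair, show a * a * a⁻¹ * a⁻¹ = 1 by group, k.plog_one]

theorem pair_yb : ppair p y b y b = 1 := by
  have := plog_pow k.orderOf_w 1
  rwa [pow_one, Nat.cast_one] at this

theorem pair_pow_left {a e : G} (ha : a ∈ E) (he : e ∈ E) (n : ℕ) :
    ppair p y b (a ^ n) e = n * ppair p y b a e := by
  induction n with
  | zero => rw [pow_zero, ppair, show (1 : G) * e * 1⁻¹ * e⁻¹ = 1 by group, k.plog_one]; simp
  | succ n ih => rw [pow_succ, k.pair_add_left (pow_mem ha n) ha he, ih]; push_cast; ring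

theorem pair_central {z e : G} (hz : z ∈ omegaZ σ h p) (he : e ∈ E) : ppair p y b z e = 0 := by
  rw [ppair, (k.ctx.omega_commute hz (k.ctx.le_U he)).symm.eq, mul_inv_cancel_right, mul_inv_cancel,
    k.plog_one]

/-- The pairing in coordinates. -/
theorem pair_form {e : G} (he : e ∈ E) (i j : ZMod p) {z : G} (hz : z ∈ omegaZ σ h p) :
    ppair p y b (y ^ i.val * b ^ j.val * z) e = i * ppair p y b y e + j * ppair p y b b e := by
  haveI : Fact p.Prime := ⟨k.ctx.prime⟩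
  rw [k.pair_add_left (mul_mem (pow_mem k.ymem _) (pow_mem k.bmem _)) (k.ctx.omega_le hz) he,
    k.pair_add_left (pow_mem k.ymem _) (pow_mem k.bmem _) he, k.pair_central hz he,
    k.pair_pow_left k.ymem he, k.pair_pow_left k.bmem he, ZMod.natCast_zmod_val,
    ZMod.natCast_zmod_val, add_zero]

theorem crd_form (i j : ZMod p) {z : G} (hz : z ∈ omegaZ σ h p) :
    pcrd p y b (y ^ i.val * b ^ j.val * z) = ![i, j] := by
  haveI : Fact p.Prime := ⟨k.ctx.prime⟩
  have ha : y ^ i.val * b ^ j.val * z ∈ E :=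
    mul_mem (mul_mem (pow_mem k.ymem _) (pow_mem k.bmem _)) (k.ctx.omega_le hz)
  have h1 : ppair p y b (y ^ i.val * b ^ j.val * z) b = i := by
    rw [k.pair_form k.bmem i j hz, k.pair_yb, k.pair_self]; ring
  have h2 : ppair p y b y (y ^ i.val * b ^ j.val * z) = j := by
    have h := k.pair_swap k.ymem ha
    have hby := k.pair_swap k.ymem k.bmem
    rw [k.pair_yb] at hby
    rw [k.pair_form k.ymem i j hz, k.pair_self] at h
    linear_combination h - j * hby
  rw [pcrd, h1, h2]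

theorem crd_add {a a' : G} (ha : a ∈ E) (ha' : a' ∈ E) :
    pcrd p y b (a * a') = pcrd p y b a + pcrd p y b a' := by
  have hs : ppair p y b y (a * a') = ppair p y b y a + ppair p y b y a' := by
    have e1 := k.pair_swap k.ymem (mul_mem ha ha')
    have e2 := k.pair_swap k.ymem ha
    have e3 := k.pair_swap k.ymem ha'
    rw [k.pair_add_left ha ha' k.ymem] at e1
    linear_combination e1 - e2 - e3
  funext i
  fin_cases i
  · exact k.pair_add_left ha ha' k.bmem
  · exact hs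

theorem crd_y : pcrd p y b y = ![1, 0] := by
  haveI : Fact p.Prime := ⟨k.ctx.prime⟩
  haveI : Fact (1 < p) := ⟨k.ctx.prime.one_lt⟩
  simpa [ZMod.val_one] using k.crd_form 1 0 (one_mem _)

theorem crd_b : pcrd p y b b = ![0, 1] := by
  haveI : Fact p.Prime := ⟨k.ctx.prime⟩
  haveI : Fact (1 < p) := ⟨k.ctx.prime.one_lt⟩
  simpa [ZMod.val_one] using k.crd_form 0 1 (one_mem _)

theorem mem_omega_of_crd {a : G} (ha : a ∈ E) (h0 : pcrd p y b a = 0) : a ∈ omegaZ σ h p := by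
  obtain ⟨i, j, z, hz, rfl⟩ := k.normal_form ha
  rw [k.crd_form i j hz] at h0
  rw [show i = 0 from congrFun h0 0, show j = 0 from congrFun h0 1, ZMod.val_zero, pow_zero,
    pow_zero, one_mul, one_mul]
  exact hz

theorem crd_omega {z : G} (hz : z ∈ omegaZ σ h p) : pcrd p y b z = 0 := by
  haveI : Fact p.Prime := ⟨k.ctx.prime⟩
  have e := k.crd_form 0 0 hz
  rw [ZMod.val_zero, pow_zero, pow_zero, one_mul, one_mul] at e
  rw [e]
  funext i
  fin_cases i <;> rfl

theorem crd_inj {a a' : G} (ha : a ∈ E) (ha' : a' ∈ E) (he : pcrd p y b a = pcrd p y b a') :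
    a⁻¹ * a' ∈ omegaZ σ h p := by
  refine k.mem_omega_of_crd (mul_mem (inv_mem ha) ha') ?_
  have h1 := k.crd_add ha (mul_mem (inv_mem ha) ha')
  rw [mul_inv_cancel_left, ← he] at h1
  exact left_eq_add.1 h1

/-- Conjugation is given by the matrix. -/
theorem crd_conj {g a : G} (hg : Commute g (σ ^ h)) (ha : a ∈ E) :
    pcrd p y b (g * a * g⁻¹) = pmat p y b g *ᵥ pcrd p y b a := by
  haveI : Fact p.Prime := ⟨k.ctx.prime⟩
  obtain ⟨i, j, z, hz, rfl⟩ := k.normal_form ha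
  have hy := k.ctx.conj g hg y k.ymem
  have hb := k.ctx.conj g hg b k.bmem
  rw [k.crd_form i j hz,
    show g * (y ^ i.val * b ^ j.val * z) * g⁻¹ =
      g * y ^ i.val * g⁻¹ * (g * b ^ j.val * g⁻¹) * (g * z * g⁻¹) by group,
    ← conj_pow, ← conj_pow,
    k.crd_add (mul_mem (pow_mem hy _) (pow_mem hb _)) (k.ctx.omega_le (conj_omegaZ k.ctx.frame hg hz)),
    k.crd_add (pow_mem hy _) (pow_mem hb _), k.crd_omega (conj_omegaZ k.ctx.frame hg hz), add_zero]
  have hpow : ∀ {a : G}, a ∈ E → ∀ n : ℕ, pcrd p y b (a ^ n) = n • pcrd p y b a := by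
    intro a ha n
    induction n with
    | zero => rw [pow_zero, k.crd_omega (one_mem _), zero_smul]
    | succ n ih => rw [pow_succ, k.crd_add (pow_mem ha n) ha, ih, succ_nsmul]
  rw [hpow hy, hpow hb]
  funext r
  simp only [Pi.add_apply, nsmul_eq_mul, Pi.mul_apply, Pi.natCast_apply, ZMod.natCast_zmod_val]
  fin_cases r <;> simp [pmat, Matrix.mulVec, dotProduct, Fin.sum_univ_two] <;> ring

theorem mat_one : pmat p y b 1 = 1 := by
  ext i j
  fin_cases i <;> fin_cases j <;> simp [pmat, k.crd_y, k.crd_b]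

theorem mat_mul {g g' : G} (hg : Commute g (σ ^ h)) (hg' : Commute g' (σ ^ h)) :
    pmat p y b (g * g') = pmat p y b g * pmat p y b g' := by
  have hy := k.ctx.conj g' hg' y k.ymem
  have hb := k.ctx.conj g' hg' b k.bmem
  have e1 := k.crd_conj hg hy
  have e2 := k.crd_conj hg hb
  rw [show g * (g' * y * g'⁻¹) * g⁻¹ = g * g' * y * (g * g')⁻¹ by group] at e1
  rw [show g * (g' * b * g'⁻¹) * g⁻¹ = g * g' * b * (g * g')⁻¹ by group] at e2
  ext i j
  fin_cases i <;> fin_cases j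
  · simpa [pmat, Matrix.mul_apply, Matrix.mulVec, dotProduct, Fin.sum_univ_two] using congrFun e1 0
  · simpa [pmat, Matrix.mul_apply, Matrix.mulVec, dotProduct, Fin.sum_univ_two] using congrFun e2 0
  · simpa [pmat, Matrix.mul_apply, Matrix.mulVec, dotProduct, Fin.sum_univ_two] using congrFun e1 1
  · simpa [pmat, Matrix.mul_apply, Matrix.mulVec, dotProduct, Fin.sum_univ_two] using congrFun e2 1

/-- The determinant is the action on `Z`. -/
theorem det_mat {g : G} (hg : Commute g (σ ^ h)) :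
    (pmat p y b g).det =
      plog p (y * b * y⁻¹ * b⁻¹) (g * (y * b * y⁻¹ * b⁻¹) * g⁻¹) := by
  haveI : Fact p.Prime := ⟨k.ctx.prime⟩
  have hy := k.ctx.conj g hg y k.ymem
  have hb := k.ctx.conj g hg b k.bmem
  have e : ppair p y b (g * y * g⁻¹) (g * b * g⁻¹) = (pmat p y b g).det := by
    obtain ⟨i, j, z, hz, ey⟩ := k.normal_form hy
    obtain ⟨i', j', z', hz', eb⟩ := k.normal_form hb
    have hd : (pmat p y b g).det = i * j' - i' * j := by
      rw [det_fin_two, pmat, ey, eb, k.crd_form i j hz, k.crd_form i' j' hz']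
      simp
    have h1 := k.pair_form hb i j hz
    rw [← ey] at h1
    have h2 := k.pair_swap k.ymem hb
    have h3 := k.pair_swap k.bmem hb
    rw [eb] at h2 h3
    rw [k.pair_form k.ymem i' j' hz', k.pair_self] at h2
    rw [k.pair_form k.bmem i' j' hz', k.pair_self, k.pair_yb] at h3
    rw [← eb] at h2 h3
    have hby := k.pair_swap k.ymem k.bmem
    rw [k.pair_yb] at hby
    rw [h1, hd]
    linear_combination i * h2 + j * h3 - i * j' * hby
  rw [← e, ppair]
  congr 1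
  group

theorem det_commute {g : G} (hg : Commute g (σ ^ h)) (hc : ∀ z ∈ omegaZ σ h p, Commute g z) :
    (pmat p y b g).det = 1 := by
  rw [k.det_mat hg, (hc _ k.w_mem).eq, mul_inv_cancel_right]
  exact k.pair_yb

theorem det_invert {g : G} (hg : Commute g (σ ^ h)) (hi : ∀ z ∈ omegaZ σ h p, g * z * g⁻¹ = z⁻¹) :
    (pmat p y b g).det = -1 := by
  rw [k.det_mat hg, hi _ k.w_mem]
  have e := k.plog_mul k.w_mem (inv_mem k.w_mem)
  rw [mul_inv_cancel, k.plog_one] at e
  have h1 : plog p (y * b * y⁻¹ * b⁻¹) (y * b * y⁻¹ * b⁻¹) = 1 := k.pair_yb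
  linear_combination -e - h1

/-- The kernel. -/
theorem mat_eq_one_iff {g : G} (hg : Commute g (σ ^ h)) :
    pmat p y b g = 1 ↔ ∀ a ∈ E, g * a * g⁻¹ * a⁻¹ ∈ omegaZ σ h p := by
  refine ⟨fun h1 a ha => ?_, fun hall => ?_⟩
  · have e := k.crd_conj hg ha
    rw [h1, Matrix.one_mulVec] at e
    have hga := k.ctx.conj g hg a ha
    have hz := k.crd_inj ha hga e.symm
    have hu := (k.ctx.omega_commute hz (k.ctx.le_U ha)).eq
    rw [mul_inv_cancel_left] at hu
    rw [show g * a * g⁻¹ * a⁻¹ = a * (a⁻¹ * (g * a * g⁻¹)) * a⁻¹ by group,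
      (k.ctx.omega_commute hz (k.ctx.le_U ha)).eq, mul_inv_cancel_right]
    exact hz
  · have key : ∀ a ∈ E, pcrd p y b (g * a * g⁻¹) = pcrd p y b a := fun a ha => by
      conv_lhs => rw [show g * a * g⁻¹ = g * a * g⁻¹ * a⁻¹ * a by group]
      rw [k.crd_add (k.ctx.omega_le (hall a ha)) ha, k.crd_omega (hall a ha), zero_add]
    ext i j
    fin_cases i <;> fin_cases j <;> simp [pmat, key y k.ymem, key b k.bmem, k.crd_y, k.crd_b]

end PlaneCtx

end Cfsg.Lib.GW.CMax
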