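import Cfsg.Agent.Lib.GW.CMax.Local
import Cfsg.Agent.Lib.GW.CMax.HeisenbergBase

/-!
# The maximal centralizer: the extraspecial case of the reduction

`R = O_p(U)`, `Z = Ω₁ Z(R)` of order `p`, `E` extraspecial of order `p³` and exponent `p` with
`R = E Z(R)`, invariant under the centralizer of `J`.
-/

set_option autoImplicit false
set_option linter.unusedSectionVars false
set_option linter.style.haveILetI false

namespace Cfsg.Lib.GW.CMax

open Cfsg Cfsg.Lib.Block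

universe u

variable {G : Type u} [Group G] [Fintype G] [Fact (Nat.Prime 2)]

/-- The extraspecial case of the reduction. -/
structure ExtraCtx (P : Sylow 2 G) (σ τ : G) (h p : ℕ) (E : Subgroup G) : Prop where
  frame : DihSylow P σ τ h
  gw : GWMin G
  eight : 8 ∣ Nat.card G
  max : IsCoatom (Subgroup.centralizer ({σ ^ h} : Set G))
  prime : p.Prime
  ne_two : p ≠ 2
  cardZ : Nat.card (omegaZ σ h p) = p
  moving : ∀ x ∈ (P : Subgroup G), x ∉ Subgroup.zpowers σ →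
    ∃ a ∈ coreP σ h p, ¬ Commute x a
  inv : ∀ x ∈ (P : Subgroup G), x ∉ Subgroup.zpowers σ →
    ∀ z ∈ omegaZ σ h p, x * z * x = z⁻¹
  le : E ≤ coreP σ h p
  cardE : Nat.card E = p ^ 3
  exp : ∀ a ∈ E, a ^ p = 1
  nonab : ∃ a ∈ E, ∃ b ∈ E, ¬ Commute a b
  conj : ∀ g : G, Commute g (σ ^ h) → ∀ a ∈ E, g * a * g⁻¹ ∈ E
  comm : ∀ a ∈ E, ∀ r ∈ coreP σ h p, a * r * a⁻¹ * r⁻¹ ∈ omegaZ σ h p
  decomp : ∀ r ∈ coreP σ h p, ∃ e ∈ E, ∃ d ∈ centR σ h p, r = e * d
  centU : ∀ d ∈ centR σ h p, ∀ u ∈ oddSub σ h, Commute u d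
  other : ∀ r : ℕ, r.Prime → r ≠ p →
    (∀ a ∈ coreP σ h r, ∀ u ∈ oddSub σ h, Commute u a) ∧
      ((∀ x ∈ (P : Subgroup G), x ∉ Subgroup.zpowers σ → ∀ a ∈ coreP σ h r, x * a * x = a⁻¹) ∨
        ∀ x ∈ (P : Subgroup G), x ∉ Subgroup.zpowers σ → ∀ a ∈ coreP σ h r, Commute x a)

/-- The structure survives a change of the reflection. -/
theorem ExtraCtx.frame_at {P : Sylow 2 G} {σ τ : G} {h p : ℕ} {E : Subgroup G}
    (c : ExtraCtx P σ τ h p E) {x : G} (hx : x ∈ (P : Subgroup G))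
    (hx' : x ∉ Subgroup.zpowers σ) : ExtraCtx P σ x h p E :=
  { c with frame := CMax.frame_at c.frame hx hx' }

end Cfsg.Lib.GW.CMax
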