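import Cfsg.Agent.Lib.GW.CMax.ReducedCoord
import Cfsg.Agent.Lib.GW.CMax.Quadratic

/-!
# The extraspecial case: the odd part modulo its Fitting subgroup

`F(U)` is the kernel of `U` on `E / Z`, the image is abelian, fixed point free, of order `m` dividing
`p - 1` or `p + 1`, and each involution commuting with `J` centralizes or inverts it.
-/

set_option autoImplicit false
set_option linter.unusedSectionVars false
set_option linter.style.haveILetI false
set_option maxHeartbeats 800000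

namespace Cfsg.Lib.GW.CMax

open Cfsg Cfsg.Lib.Block Matrix

universe u

/-- The centre of the odd part. -/
noncomputable def zU {G : Type u} [Group G] [Fintype G] (σ : G) (h : ℕ) : Subgroup G :=
  oddSub σ h ⊓ Subgroup.centralizer (oddSub σ h : Set G)

variable {G : Type u} [Group G] [Fintype G] [Fact (Nat.Prime 2)]

theorem mem_zU {σ : G} {h : ℕ} {w : G} :
    w ∈ zU σ h ↔ w ∈ oddSub σ h ∧ ∀ u ∈ oddSub σ h, Commute u w := by
  simp only [zU, Subgroup.mem_inf, Subgroup.mem_centralizer_iff, SetLike.mem_coe, commute_iff_eq]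

variable {P : Sylow 2 G} {σ τ : G} {h p : ℕ} {E : Subgroup G} {y b : G}

namespace PlaneCtx

variable (k : PlaneCtx P σ τ h p E y b)

include k

theorem D : DihSylow P σ τ h := k.ctx.frame

/-- An element of the Fitting subgroup is one of `E` times a central one. -/
theorem fit_decomp {f : G} (hf : f ∈ fitSub σ h) :
    ∃ e ∈ E, ∃ w ∈ zU σ h, f = e * w := by
  let S : Subgroup G :=
    { carrier := {g | ∃ e ∈ E, ∃ w ∈ zU σ h, g = e * w}
      one_mem' := ⟨1, one_mem _, 1, one_mem _, (one_mul 1).symm⟩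
      mul_mem' := by
        rintro a a' ⟨e, he, w, hw, rfl⟩ ⟨e', he', w', hw', rfl⟩
        refine ⟨e * e', mul_mem he he', w * w', mul_mem hw hw', ?_⟩
        rw [mul_assoc, ← mul_assoc w, ← ((mem_zU.1 hw).2 e' (k.ctx.le_U he')).eq]
        group
      inv_mem' := by
        rintro a ⟨e, he, w, hw, rfl⟩
        refine ⟨e⁻¹, inv_mem he, w⁻¹, inv_mem hw, ?_⟩
        rw [_root_.mul_inv_rev, ((mem_zU.1 (inv_mem hw)).2 e⁻¹ (k.ctx.le_U (inv_mem he))).eq] }
  refine fitSub_induction S (fun r hr a ha => ?_) hf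
  by_cases hrp : r = p
  · subst hrp
    obtain ⟨e, he, d, hd, rfl⟩ := k.ctx.decomp a ha
    exact ⟨e, he, d, mem_zU.2 ⟨coreP_le (mem_centR.1 hd).1, k.ctx.centU d hd⟩, rfl⟩
  · exact ⟨1, one_mem _, a, mem_zU.2 ⟨coreP_le ha, (k.ctx.other r hr hrp).1 a ha⟩, (one_mul a).symm⟩

theorem omega_zU {z : G} (hz : z ∈ omegaZ σ h p) : z ∈ zU σ h :=
  mem_zU.2 ⟨omegaZ_le.trans coreP_le hz, fun _ hu => k.ctx.omega_commute hz hu⟩

theorem det_U {u : G} (hu : u ∈ oddSub σ h) : (pmat p y b u).det = 1 :=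
  k.det_commute (commute_J k.D hu) fun _ hz => k.ctx.omega_commute hz hu

theorem mat_fit {f : G} (hf : f ∈ fitSub σ h) : pmat p y b f = 1 := by
  obtain ⟨e, he, w, hw, rfl⟩ := k.fit_decomp hf
  refine (k.mat_eq_one_iff (commute_J k.D (fitSub_le hf))).2 fun a ha => ?_
  rw [show e * w * a * (e * w)⁻¹ * a⁻¹ = e * (w * a * w⁻¹) * e⁻¹ * a⁻¹ by group,
    ((mem_zU.1 hw).2 a (k.ctx.le_U ha)).symm.eq, mul_inv_cancel_right]
  exact k.ctx.comm e he a (k.ctx.le ha)

theorem fit_of_mat {u : G} (hu : u ∈ oddSub σ h) (h1 : pmat p y b u = 1) : u ∈ fitSub σ h := by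
  haveI : Fact p.Prime := ⟨k.ctx.prime⟩
  have hm := (k.mat_eq_one_iff (commute_J k.D hu)).1 h1
  -- correct by an element of `E`
  obtain ⟨al, hal⟩ : ∃ al, al = plog p (y * b * y⁻¹ * b⁻¹) (u * y * u⁻¹ * y⁻¹) := ⟨_, rfl⟩
  obtain ⟨be, hbe⟩ : ∃ be, be = plog p (y * b * y⁻¹ * b⁻¹) (u * b * u⁻¹ * b⁻¹) := ⟨_, rfl⟩
  obtain ⟨e, he⟩ : ∃ e, e = y ^ be.val * b ^ (-al).val * 1 := ⟨_, rfl⟩
  have heE : e ∈ E := he ▸ mul_mem (mul_mem (pow_mem k.ymem _) (pow_mem k.bmem _)) (one_mem _)
  have hey : ppair p y b e y = al := by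
    rw [he, k.pair_form k.ymem be (-al) (one_mem _), k.pair_self]
    have hby := k.pair_swap k.ymem k.bmem
    rw [k.pair_yb] at hby
    linear_combination -al * hby
  have heb : ppair p y b e b = be := by
    rw [he, k.pair_form k.bmem be (-al) (one_mem _), k.pair_yb, k.pair_self]
    ring
  have key : ∀ {a : G}, a ∈ E → ppair p y b e a = plog p (y * b * y⁻¹ * b⁻¹) (u * a * u⁻¹ * a⁻¹) →
      Commute (e⁻¹ * u) a := by
    intro a ha heq
    have h2 : u * a * u⁻¹ * a⁻¹ = e * a * e⁻¹ * a⁻¹ := by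
      obtain ⟨n, hn⟩ := k.exists_pow_w (hm a ha)
      obtain ⟨n', hn'⟩ := k.exists_pow_w (k.ctx.comm e heE a (k.ctx.le ha))
      rw [ppair, hn, hn', plog_pow k.orderOf_w, plog_pow k.orderOf_w, ZMod.natCast_eq_natCast_iff] at heq
      rw [hn, hn']
      exact pow_eq_pow_iff_modEq.2 (k.orderOf_w ▸ heq.symm)
    refine mul_inv_eq_iff_eq_mul.1 ?_
    rw [show e⁻¹ * u * a * (e⁻¹ * u)⁻¹ = e⁻¹ * (u * a * u⁻¹ * a⁻¹ * a) * e by group, h2]
    group
  have hcy := key k.ymem (hey.trans hal)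
  have hcb := key k.bmem (heb.trans hbe)
  have hv : e⁻¹ * u ∈ oddSub σ h := mul_mem (inv_mem (k.ctx.le_U heE)) hu
  have hF : e⁻¹ * u ∈ fitSub σ h := by
    refine mem_fitSub_of_commute k.D hv (commute_fitSub k.D fun r hr a ha => ?_)
    by_cases hrp : r = p
    · subst hrp
      obtain ⟨a₁, ha₁, d, hd, rfl⟩ := k.ctx.decomp a ha
      refine Commute.mul_right ?_ (k.ctx.centU d hd _ hv)
      obtain ⟨i, j, z, hz, rfl⟩ := k.normal_form ha₁
      exact ((hcy.pow_right _).mul_right (hcb.pow_right _)).mul_right (k.ctx.omega_commute hz hv)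
    · exact (k.ctx.other r hr hrp).1 a ha _ hv
  have := mul_mem (coreP_le_fitSub k.ctx.prime (k.ctx.le heE)) hF
  rwa [mul_inv_cancel_left] at this

end PlaneCtx

/-- The action of the odd part on `E / Z`. -/
noncomputable def repU (k : PlaneCtx P σ τ h p E y b) :
    oddSub σ h →* (Matrix (Fin 2) (Fin 2) (ZMod p))ˣ :=
  MonoidHom.toHomUnits
    { toFun := fun u => pmat p y b (u : G)
      map_one' := k.mat_one
      map_mul' := fun u v => k.mat_mul (commute_J k.ctx.frame u.2) (commute_J k.ctx.frame v.2) }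

namespace PlaneCtx

variable (k : PlaneCtx P σ τ h p E y b)

include k

theorem repU_val (u : oddSub σ h) :
    ((repU k u : (Matrix (Fin 2) (Fin 2) (ZMod p))ˣ) : Matrix _ _ (ZMod p)) = pmat p y b (u : G) :=
  rfl

theorem repU_eq_one {u : oddSub σ h} : repU k u = 1 ↔ (u : G) ∈ fitSub σ h := by
  rw [Units.ext_iff, k.repU_val, Units.val_one]
  exact ⟨k.fit_of_mat u.2, k.mat_fit⟩

theorem odd_range : Odd (Nat.card (repU k).range) :=
  (odd_card_oddSub k.D).of_dvd_nat (Subgroup.card_range_dvd (repU k))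

/-- The plane data of the image. -/
theorem exists_data [Fact p.Prime] : ∃ Dt : Plane.Data p (repU k).range,
    ∀ q : (repU k).range, Dt.τ q = ((q : (Matrix (Fin 2) (Fin 2) (ZMod p))ˣ) : Matrix _ _ (ZMod p)) := by
  haveI : Finite (repU k).range :=
    Finite.of_surjective (repU k).rangeRestrict (repU k).rangeRestrict_surjective
  refine ⟨⟨(Units.coeHom _).comp (repU k).range.subtype, ?_, ?_, k.odd_range, ?_, k.ctx.ne_two⟩,
    fun q => rfl⟩
  · rintro ⟨q, u, rfl⟩
    exact k.det_U u.2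
  · exact Units.val_injective.comp (repU k).range.subtype_injective
  intro M hM hMp
  rw [eq_bot_iff]
  intro q hq
  obtain ⟨u₀, hu₀⟩ := (repU k).rangeRestrict_surjective q
  set K := M.comap (repU k).rangeRestrict with hKdef
  haveI : K.Normal := hM.comap _
  have hK : ∀ x : oddSub σ h, x ∈ K → ∃ i : ℕ, ∀ u : oddSub σ h, Commute u (x ^ p ^ i) := by
    intro x hx
    obtain ⟨i, hi⟩ := hMp ⟨_, hx⟩
    have hf : ((x ^ p ^ i : oddSub σ h) : G) ∈ fitSub σ h := by
      rw [← k.repU_eq_one, map_pow]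
      exact congrArg (fun z : M => ((z : (repU k).range) : (Matrix (Fin 2) (Fin 2) (ZMod p))ˣ)) hi
    obtain ⟨e, he, w, hw, hew⟩ := k.fit_decomp hf
    refine ⟨i + 1, fun u => Subtype.ext ?_⟩
    show (u : G) * ((x ^ p ^ (i + 1) : oddSub σ h) : G) = ((x ^ p ^ (i + 1) : oddSub σ h) : G) * u
    rw [pow_succ, pow_mul, SubmonoidClass.coe_pow, hew,
      ((mem_zU.1 hw).2 e (k.ctx.le_U he)).mul_pow, k.ctx.exp e he, one_mul]
    exact (((mem_zU.1 hw).2 u u.2).pow_right p).eq
  have hle : K ≤ Cfsg.fittingSubgroup (oddSub σ h) := by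
    refine Cfsg.Lib.Core.le_fittingSubgroup ?_
    have hp : IsPGroup p (K ⧸ Subgroup.center K) := by
      intro x
      obtain ⟨x, rfl⟩ := QuotientGroup.mk'_surjective _ x
      obtain ⟨i, hi⟩ := hK x x.2
      refine ⟨i, ?_⟩
      rw [← map_pow, QuotientGroup.mk'_apply, QuotientGroup.eq_one_iff, Subgroup.mem_center_iff]
      exact fun g => Subtype.ext (by simpa using (hi g).eq)
    haveI := hp.isNilpotent
    exact Subgroup.isNilpotent_of_ker_le_center (QuotientGroup.mk' (Subgroup.center K))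
      (le_of_eq (QuotientGroup.ker_mk' _))
  have hu : u₀ ∈ Cfsg.fittingSubgroup (oddSub σ h) := hle (by rw [hKdef, Subgroup.mem_comap, hu₀]; exact hq)
  rw [Subgroup.mem_bot, ← hu₀]
  exact Subtype.ext (k.repU_eq_one.2 ⟨u₀, hu, rfl⟩)

variable [Fact p.Prime]

theorem mat_comm {u v : G} (hu : u ∈ oddSub σ h) (hv : v ∈ oddSub σ h) :
    Commute (pmat p y b u) (pmat p y b v) := by
  obtain ⟨Dt, hDt⟩ := k.exists_data
  haveI : Finite (repU k).range :=
    Finite.of_surjective (repU k).rangeRestrict (repU k).rangeRestrict_surjective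
  have := (Dt.commutative ((repU k).rangeRestrict ⟨u, hu⟩) ((repU k).rangeRestrict ⟨v, hv⟩)).map Dt.τ
  rwa [hDt, hDt] at this

theorem mat_disc {u : G} (hu : u ∈ oddSub σ h) (h1 : pmat p y b u ≠ 1) :
    Plane.disc (pmat p y b u) ≠ 0 := by
  obtain ⟨Dt, hDt⟩ := k.exists_data
  haveI : Finite (repU k).range :=
    Finite.of_surjective (repU k).rangeRestrict (repU k).rangeRestrict_surjective
  have := Dt.disc_ne_zero (x := (repU k).rangeRestrict ⟨u, hu⟩) fun e => h1 (by
    have := congrArg Dt.τ e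
    rwa [hDt, map_one] at this)
  rwa [hDt] at this

theorem mat_fpf {u : G} (hu : u ∈ oddSub σ h) {v : Fin 2 → ZMod p} (hv : pmat p y b u *ᵥ v = v)
    (hv0 : v ≠ 0) : pmat p y b u = 1 := by
  obtain ⟨Dt, hDt⟩ := k.exists_data
  haveI : Finite (repU k).range :=
    Finite.of_surjective (repU k).rangeRestrict (repU k).rangeRestrict_surjective
  by_contra h1
  refine hv0 (Dt.fpf (x := (repU k).rangeRestrict ⟨u, hu⟩) (fun e => h1 ?_) ?_)
  · have := congrArg Dt.τ e
    rwa [hDt, map_one] at this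
  · rw [hDt]
    exact hv

/-- The order of the image. -/
theorem card_range : ∃ m : ℕ, m = Nat.card (repU k).range ∧ Odd m ∧ (m ∣ p - 1 ∨ m ∣ p + 1) ∧
    Nat.card (oddSub σ h) = m * Nat.card (fitSub σ h) := by
  obtain ⟨Dt, -⟩ := k.exists_data
  haveI : Finite (repU k).range :=
    Finite.of_surjective (repU k).rangeRestrict (repU k).rangeRestrict_surjective
  refine ⟨_, rfl, k.odd_range, Dt.card_dvd, ?_⟩
  rw [← Subgroup.index_ker, ← Subgroup.index_mul_card (repU k).ker]
  congr 1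
  refine Nat.card_congr
    { toFun := fun x => ⟨((x : oddSub σ h) : G), k.repU_eq_one.1 x.2⟩
      invFun := fun f => ⟨⟨f, fitSub_le f.2⟩, k.repU_eq_one.2 f.2⟩
      left_inv := fun _ => rfl
      right_inv := fun _ => rfl }

/-- An involution commuting with `J` centralizes or inverts the image. -/
theorem cent_or_inv {x : G} (hxJ : Commute x (σ ^ h)) (hx2 : x * x = 1) :
    (∀ u ∈ oddSub σ h, pmat p y b (x * u * x) = pmat p y b u) ∨
      (∀ u ∈ oddSub σ h, pmat p y b u * pmat p y b (x * u * x) = 1) := by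
  have hxi : x⁻¹ = x := inv_eq_of_mul_eq_one_right hx2
  have hconj : ∀ {u}, u ∈ oddSub σ h → x * u * x ∈ oddSub σ h := fun {u} hu => by
    have := conj_oddSub k.D hxJ hu
    rwa [hxi] at this
  have hJ := fun {u} (hu : u ∈ oddSub σ h) => commute_J k.D hu
  have hhom : ∀ u ∈ oddSub σ h, ∀ v ∈ oddSub σ h, pmat p y b (x * (u * v) * x) =
      pmat p y b (x * u * x) * pmat p y b (x * v * x) := fun u hu v hv => by
    rw [InvAct.conj_mul hx2, k.mat_mul (hJ (hconj hu)) (hJ (hconj hv))]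
  have each : ∀ u ∈ oddSub σ h, pmat p y b (x * u * x) = pmat p y b u ∨
      pmat p y b u * pmat p y b (x * u * x) = 1 := by
    intro u hu
    by_cases h1 : pmat p y b u = 1
    · right
      have hf := conj_fitSub k.D hxJ (k.fit_of_mat hu h1)
      rw [hxi] at hf
      rw [k.mat_fit hf, h1, mul_one]
    refine Plane.eq_or_inv k.ctx.ne_two (k.det_U hu) (k.det_U (hconj hu)) ?_ (k.mat_disc hu h1)
      (k.mat_comm hu (hconj hu))
    have e : pmat p y b (x * u * x) = pmat p y b x * pmat p y b u * pmat p y b x := by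
      rw [k.mat_mul (hxJ.mul_left (hJ hu)) hxJ, k.mat_mul hxJ (hJ hu)]
    rw [← Matrix.trace_fin_two, ← Matrix.trace_fin_two, e, Matrix.trace_mul_cycle,
      ← k.mat_mul hxJ hxJ, hx2, k.mat_one, Matrix.one_mul]
  by_contra hno
  push Not at hno
  obtain ⟨⟨u, hu, hun⟩, v, hv, hvn⟩ := hno
  have hui := (each u hu).resolve_left hun
  have hvc := (each v hv).resolve_right hvn
  rcases each _ (mul_mem hu hv) with e | e
  · rw [hhom u hu v hv, k.mat_mul (hJ hu) (hJ hv), hvc] at e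
    refine hun ?_
    have hvinv : pmat p y b v * pmat p y b v⁻¹ = 1 := by
      rw [← k.mat_mul (hJ hv) (hJ (inv_mem hv)), mul_inv_cancel, k.mat_one]
    have := congrArg (· * pmat p y b v⁻¹) e
    simpa only [Matrix.mul_assoc, hvinv, Matrix.mul_one] using this
  · rw [hhom u hu v hv, k.mat_mul (hJ hu) (hJ hv), Matrix.mul_assoc,
      ← Matrix.mul_assoc (pmat p y b v), (k.mat_comm hv (hconj hu)).eq, Matrix.mul_assoc,
      ← Matrix.mul_assoc, hui, Matrix.one_mul] at e
    exact hvn e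

end PlaneCtx

end Cfsg.Lib.GW.CMax
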