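import Cfsg.Agent.Lib.GW.CMax.ReducedFix
import Cfsg.Agent.Lib.GW.CMax.ReducedTorus

/-!
# The extraspecial case: the component at the fixed point of a reflection

`N` is over the normalizer of `⟨y⟩ = C_E(τ)`.  The elements of `N ∩ U` inverted by an inner involution
fixing `y` are the elements of `cinv`, so the torus count applies with `t = |cinv| / p`.
-/

set_option autoImplicit false
set_option linter.unusedSectionVars false
set_option linter.style.haveILetI false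
set_option maxHeartbeats 800000

namespace Cfsg.Lib.GW.CMax

open Cfsg Cfsg.Lib.Block Matrix

universe u

/-- In a cyclic group the elements of order dividing a prime are powers of one of them. -/
theorem mem_zpowers_of_pow_prime {X : Type*} [Group X] [Finite X] {p : ℕ} (hp : p.Prime) {g a a' : X}
    (ha : a ∈ Subgroup.zpowers g) (ha' : a' ∈ Subgroup.zpowers g) (hap : a ^ p = 1) (ha1 : a ≠ 1)
    (hap' : a' ^ p = 1) : a' ∈ Subgroup.zpowers a := by
  haveI : Fact p.Prime := ⟨hp⟩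
  obtain ⟨m, rfl⟩ := Subgroup.mem_zpowers_iff.1 ha
  have hord : orderOf (g ^ m) = p := orderOf_eq_prime hap ha1
  have hpn : p ∣ orderOf g := hord ▸ (orderOf_dvd_of_mem_zpowers (zpow_mem (Subgroup.mem_zpowers g) m))
  obtain ⟨n, hn⟩ := hpn
  have hn0 : n ≠ 0 := fun e => (orderOf_pos g).ne' (by rw [hn, e, mul_zero])
  have key : ∀ b ∈ Subgroup.zpowers g, b ^ p = 1 → b ∈ Subgroup.zpowers (g ^ n) := by
    intro b hb hbp
    obtain ⟨l, rfl⟩ := Subgroup.mem_zpowers_iff.1 hb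
    rw [← zpow_natCast, ← _root_.zpow_mul, ← orderOf_dvd_iff_zpow_eq_one, hn] at hbp
    push_cast at hbp
    obtain ⟨r, hr⟩ := hbp
    refine Subgroup.mem_zpowers_iff.2 ⟨r, ?_⟩
    rw [← zpow_natCast, ← _root_.zpow_mul]
    congr 1
    exact mul_left_cancel₀ (Int.natCast_ne_zero.2 hp.ne_zero) (by linear_combination -hr)
  have heq : Subgroup.zpowers (g ^ m) = Subgroup.zpowers (g ^ n) := by
    refine Subgroup.eq_of_le_of_card_ge (Subgroup.zpowers_le.2 (key _ ha hap)) ?_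
    rw [Nat.card_zpowers, Nat.card_zpowers, hord, orderOf_pow_of_dvd hn0 (hn ▸ dvd_mul_left n p), hn,
      Nat.mul_div_cancel _ (Nat.pos_of_ne_zero hn0)]
  rw [heq]
  exact key _ ha' hap'

variable {G : Type u} [Group G] [Fintype G] [Fact (Nat.Prime 2)]
  {P : Sylow 2 G} {σ τ : G} {h p : ℕ} {E : Subgroup G} {y b : G}

namespace PlaneCtx

variable (k : PlaneCtx P σ τ h p E y b)

include k

theorem y_zpow_mem {z : G} (hz : z ∈ Subgroup.zpowers y) : z ∈ E :=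
  Subgroup.zpowers_le.2 k.ymem hz

/-- The elements of `E` fixed by an involution fixing `y` and inverting `Z`. -/
theorem fixed_zpowers {v a : G} (hv2 : v * v = 1) (hvy : Commute y v)
    (hvZ : ∀ z ∈ omegaZ σ h p, v * z * v = z⁻¹) (ha : a ∈ E) (hav : Commute a v) :
    a ∈ Subgroup.zpowers y := by
  haveI : Fact p.Prime := ⟨k.ctx.prime⟩
  have fix1 : ∀ {z}, z ∈ omegaZ σ h p → Commute z v → z = 1 := fun {z} hz hc =>
    eq_one_of_inverted k.ctx.frame (omegaZ_le.trans coreP_le hz) hc.symm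
      (by rw [inv_eq_of_mul_eq_one_right hv2]; exact hvZ z hz)
  obtain ⟨i, j, z, hz, rfl⟩ := k.normal_form ha
  have he : Commute (b ^ j.val * z) v := by
    have := (hvy.pow_left i.val).inv_left.mul_left hav
    rwa [mul_assoc (y ^ i.val) (b ^ j.val) z, inv_mul_cancel_left] at this
  have heE : b ^ j.val * z ∈ E := mul_mem (pow_mem k.bmem _) (k.ctx.omega_le hz)
  have hc1 : y * (b ^ j.val * z) * y⁻¹ * (b ^ j.val * z)⁻¹ = 1 :=
    fix1 (k.ctx.comm y k.ymem _ (k.ctx.le heE))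
      (((hvy.mul_left he).mul_left hvy.inv_left).mul_left he.inv_left)
  have hj : j = 0 := by
    have h1 := k.crd_form 0 j hz
    rw [ZMod.val_zero, pow_zero, one_mul] at h1
    have h2 : ppair p y b y (b ^ j.val * z) = 0 := by rw [ppair, hc1, k.plog_one]
    have h3 := congrFun h1 1
    simp only [pcrd, Matrix.cons_val_one, Matrix.cons_val_fin_one] at h3
    rw [← h3, h2]
  rw [hj, ZMod.val_zero, pow_zero, one_mul] at he
  rw [hj, ZMod.val_zero, pow_zero, mul_one, fix1 hz he, mul_one]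
  exact pow_mem (Subgroup.mem_zpowers y) _

theorem tau_fixed {a : G} (ha : a ∈ E) (hac : Commute a τ) : a ∈ Subgroup.zpowers y :=
  k.fixed_zpowers k.ctx.frame.sqτ k.yfix (fun _ hz => k.ctx.tau_omega hz) ha hac

omit k in
theorem normalizer_of_conj {g : G} (hg : g * y * g⁻¹ ∈ Subgroup.zpowers y) :
    g ∈ Subgroup.normalizer (Subgroup.zpowers y : Set G) := by
  refine Subgroup.mem_normalizer_fintype fun z hz => ?_
  obtain ⟨n, rfl⟩ := Subgroup.mem_zpowers_iff.1 hz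
  rw [← conj_zpow]
  exact zpow_mem hg n

theorem sigma_omega {z : G} (hz : z ∈ omegaZ σ h p) : Commute σ z := by
  obtain ⟨hP, hσ⟩ := rotation_facts k.ctx.frame
  have e1 := k.ctx.inv _ hP hσ _ (inv_mem hz)
  refine mul_inv_eq_iff_eq_mul.1 ?_
  have e2 : τ * z⁻¹ * τ = z := by rw [k.ctx.tau_omega (inv_mem hz), inv_inv]
  have hi : (σ * τ)⁻¹ = σ * τ := inv_eq_of_mul_eq_one_right (reflection_mem k.ctx.frame hP hσ).1
  calc σ * z * σ⁻¹ = σ * (τ * z⁻¹ * τ) * σ⁻¹ := by rw [e2]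
    _ = σ * τ * z⁻¹ * (σ * τ)⁻¹ := by rw [_root_.mul_inv_rev, k.ctx.frame.τ_inv]; group
    _ = z := by rw [hi, e1, inv_inv]

/-- A power of the rotation acting trivially on `E / Z` centralizes `E`. -/
theorem pow_sigma_commute {n : ℕ} (hn : ∀ a ∈ E, σ ^ n * a * (σ ^ n)⁻¹ * a⁻¹ ∈ omegaZ σ h p) {a : G}
    (ha : a ∈ E) : Commute (σ ^ n) a := by
  obtain ⟨g, hg⟩ : ∃ g, g = σ ^ n := ⟨_, rfl⟩
  rw [← hg] at hn ⊢
  obtain ⟨w, hw⟩ : ∃ w, w = g * a * g⁻¹ * a⁻¹ := ⟨_, rfl⟩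
  have hwZ : w ∈ omegaZ σ h p := hw ▸ hn a ha
  have hgw : Commute g w := hg ▸ (k.sigma_omega hwZ).pow_left n
  have hit : ∀ i : ℕ, g ^ i * a * (g ^ i)⁻¹ = w ^ i * a := by
    intro i
    induction i with
    | zero => simp
    | succ i ih =>
      calc g ^ (i + 1) * a * (g ^ (i + 1))⁻¹ = g * (g ^ i * a * (g ^ i)⁻¹) * g⁻¹ := by
            rw [pow_succ']; group
        _ = g * w ^ i * g⁻¹ * (g * a * g⁻¹) := by rw [ih]; group
        _ = w ^ (i + 1) * a := by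
            rw [(hgw.pow_right i).eq, mul_inv_cancel_right, pow_succ, mul_assoc (w ^ i) w a,
              show g * a * g⁻¹ = w * a by rw [hw, inv_mul_cancel_right]]
  obtain ⟨l, hl⟩ := k.ctx.frame.exists_order (u := g) (hg ▸ pow_mem k.ctx.frame.memσ n)
  have h1 := hit (orderOf g)
  rw [pow_orderOf_eq_one, one_mul, inv_one, mul_one, hl, right_eq_mul] at h1
  have hw1 : w = 1 := eq_one_of_two_pow k.ctx.frame (omegaZ_le.trans coreP_le hwZ) h1
  rw [hw] at hw1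
  exact mul_inv_eq_iff_eq_mul.1 (mul_inv_eq_one.1 hw1)

/-- A power of the rotation whose square centralizes `y` normalizes `⟨y⟩`. -/
theorem pow_sigma_norm {n : ℕ} (hn : Commute (σ ^ n * σ ^ n) y) :
    σ ^ n * y * (σ ^ n)⁻¹ ∈ Subgroup.zpowers y := by
  obtain ⟨w, hw⟩ : ∃ w, w = σ ^ n := ⟨_, rfl⟩
  rw [← hw] at hn ⊢
  have hwJ : Commute w (σ ^ h) := hw ▸ (Commute.refl σ).pow_pow n h
  have e1 : τ * w * τ = w⁻¹ := by
    have := k.ctx.frame.τ_conj (k.ctx.frame.mem_pow n)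
    rwa [k.ctx.frame.τ_inv, ← hw] at this
  refine k.tau_fixed (k.ctx.conj w hwJ y k.ymem) (InvAct.commute_of_conj k.ctx.frame.sqτ ?_)
  rw [InvAct.conj_mul k.ctx.frame.sqτ, InvAct.conj_mul k.ctx.frame.sqτ,
    InvAct.conj_inv k.ctx.frame.sqτ, e1, InvAct.conj_of_commute k.ctx.frame.sqτ k.yfix, inv_inv]
  calc w⁻¹ * y * w = w⁻¹ * (y * (w * w)) * w⁻¹ := by group
    _ = w⁻¹ * (w * w * y) * w⁻¹ := by rw [hn.eq]
    _ = w * y * w⁻¹ := by group

/-- The component at the fixed point. -/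
theorem local_data {t : ℕ} (ht : Nat.card (cinv σ h) = p * t) {l : ℕ}
    (hσ : ∀ a ∈ E, σ ^ 2 ^ (l + 1) * a * (σ ^ 2 ^ (l + 1))⁻¹ * a⁻¹ ∈ omegaZ σ h p) :
    ∃ q d u j : ℕ, IsPrimePow q ∧ 4 ∣ u ∧ j ∣ 4 * h ∧ u * j = 4 * h * t ∧
      ((q = u * p + 1 ∧ 2 * d = u * p + 2) ∨ (q + 1 = u * p ∧ 2 * d + 2 = u * p)) ∧
      j ≤ 2 ^ (l + 1) ∧
      q * d * Nat.card ↥(oddSub σ h ⊓ Subgroup.centralizer ({τ} : Set G)) ∣ Nat.card G := by
  haveI : Fact p.Prime := ⟨k.ctx.prime⟩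
  have D := k.ctx.frame
  haveI := k.ctx.gw.isSimple
  obtain ⟨hτP, hτσ⟩ := k.ctx.tau_facts'
  obtain ⟨-, hτ1, hτJ'⟩ := reflection_mem D hτP hτσ
  have hJo : orderOf (σ ^ h) = 2 := orderOf_central D
  have hy1 : y ≠ 1 := fun e => k.ynot (e ▸ one_mem _)
  have hyU : y ∈ oddSub σ h := k.ctx.le_U k.ymem
  obtain ⟨N, -, hYN, ⟨c⟩⟩ := exists_over D k.ctx.gw k.ctx.eight k.ctx.max k.ctx.prime k.ctx.ne_two
    (k.ctx.moving τ hτP hτσ) (Y := Subgroup.zpowers y)
    ((Subgroup.zpowers_le.2 (k.ctx.le k.ymem))) (fun e => hy1 (Subgroup.zpowers_eq_bot.1 e))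
    (fun a ha => by
      obtain ⟨i, rfl⟩ := Subgroup.mem_zpowers_iff.1 ha
      exact (k.yfix.zpow_left i).symm)
  have hN : ∀ {g}, g * y * g⁻¹ ∈ Subgroup.zpowers y → g ∈ N := fun hg =>
    hYN (normalizer_of_conj hg)
  have hcN : ∀ {g}, Commute g y → g ∈ N := fun {g} hg =>
    hN (by rw [hg.eq, mul_inv_cancel_right]; exact Subgroup.mem_zpowers y)
  have hτN : τ ∈ N := hcN k.yfix.symm
  -- `J` and the power of the rotation are inner
  have hJy : Commute (σ ^ h) y := (commute_J D hyU).symm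
  obtain ⟨i, hi⟩ := D.even
  have hρN : σ ^ i ∈ N := hN (k.pow_sigma_norm (by rw [← pow_add, ← hi]; exact hJy))
  have hJs : σ ^ h ∈ c.sub := by
    have hρρ : σ ^ i * σ ^ i = σ ^ h := by rw [← pow_add, hi]
    exact hρρ ▸ c.sq_mem_sub hρN (by
      rw [show (σ ^ i) ^ 4 = σ ^ i * σ ^ i * (σ ^ i * σ ^ i) by
        simp only [pow_succ, pow_zero, one_mul, mul_assoc], hρρ, D.central_involution.1])
  have hk : σ ^ 2 ^ (l + 1) ∈ c.sub := by
    have hsq : σ ^ 2 ^ l * σ ^ 2 ^ l = σ ^ 2 ^ (l + 1) := by rw [← pow_add, pow_succ, mul_two]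
    have hwN : σ ^ 2 ^ l ∈ N :=
      hN (k.pow_sigma_norm (by rw [hsq]; exact k.pow_sigma_commute hσ k.ymem))
    obtain ⟨m, hm⟩ := D.exists_order (u := σ ^ 2 ^ l) (pow_mem D.memσ _)
    have h1 : (σ ^ 2 ^ (l + 1)) ^ 2 ^ m = 1 := by
      rw [← hsq, (Commute.refl _).mul_pow, ← hm, pow_orderOf_eq_one, one_mul]
    refine c.mem_sub_of_inner (hsq ▸ mul_mem hwN hwN) (k := m) h1 ?_
    show QuotientGroup.mk' (Cfsg.oddCore ↥N) ⟨_, _⟩ ∈ c.E
    rw [show (⟨σ ^ 2 ^ (l + 1), hsq ▸ mul_mem hwN hwN⟩ : N) = ⟨_, hwN⟩ * ⟨_, hwN⟩ from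
      Subtype.ext hsq.symm, map_mul]
    exact c.almost.inner_sq_two (k := m) (by
      rw [← map_pow, show (⟨σ ^ 2 ^ l, hwN⟩ : N) ^ 2 ^ m = 1 from Subtype.ext (by
        rw [SubmonoidClass.coe_pow, ← hm, pow_orderOf_eq_one]; rfl), map_one])
  -- the inner involution
  have hfixN : ∀ a ∈ oddSub σ h, Commute a τ → a ∈ N := fun a ha hac =>
    hN (k.tau_fixed (k.ctx.conj a (commute_J D ha) y k.ymem)
      ((hac.mul_left k.yfix).mul_left hac.inv_left))
  obtain ⟨v, hvs, hv2, hv1, hvJ, hvc, hvH⟩ : ∃ v ∈ c.sub, v * v = 1 ∧ v ≠ 1 ∧ v ≠ σ ^ h ∧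
      Commute v (σ ^ h) ∧ ∀ a ∈ oddSub σ h, Commute a τ → Commute a v := by
    by_cases hin : τ ∈ c.sub
    · exact ⟨τ, hin, D.sqτ, hτ1, hτJ', k.ctx.tau_J, fun a _ hac => hac⟩
    · obtain ⟨v, hvs, hv2, hv1, hvJ, hvc, hvy⟩ := c.exists_inner hJs hJo hτN
        (Cfsg.Lib.Invol.orderOf_eq_two_of hτ1 D.sqτ) k.ctx.tau_J hin
      exact ⟨v, hvs, hv2, hv1, hvJ, hvc, fun a ha hac =>
        hvy a (hfixN a ha hac) (odd_orderOf D ha) (commute_J D ha) hac⟩
  have hvy : Commute y v := hvH y hyU k.yfix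
  have hvN : v ∈ N := c.sub_le hvs
  have hvi : v⁻¹ = v := inv_eq_of_mul_eq_one_right hv2
  have hvZ : ∀ z ∈ omegaZ σ h p, v * z * v = z⁻¹ := fun z hz =>
    k.ctx.invol_omega hv2 hv1 hvJ hvc hz
  obtain ⟨z, hz⟩ : ∃ z, z = y * b * y⁻¹ * b⁻¹ := ⟨_, rfl⟩
  have hzZ : z ∈ omegaZ σ h p := hz ▸ k.w_mem
  have hz1 : z ≠ 1 := fun e => k.yb_not (mul_inv_eq_iff_eq_mul.1 (mul_inv_eq_one.1 (hz ▸ e)))
  have hzU : z ∈ oddSub σ h := omegaZ_le.trans coreP_le hzZ
  have hzN : z ∈ N := hcN (k.ctx.omega_commute hzZ hyU).symm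
  -- `E ∩ N` centralizes `y`
  have hEN : ∀ a ∈ E, a ∈ N → Commute a y := by
    intro a ha haN
    obtain ⟨f, hf, i, hi, hfv, hiv, rfl⟩ := InvAct.exists_split (P := E ⊓ N)
      ((odd_card_oddSub D).of_dvd_nat (Subgroup.card_dvd_of_le (inf_le_left.trans k.ctx.le_U))) hv2
      (v := v) (Subgroup.mem_normalizer_fintype fun a (ha : a ∈ E ⊓ N) =>
        (⟨k.ctx.conj v hvc a ha.1, N.mul_mem (N.mul_mem hvN ha.2) (N.inv_mem hvN)⟩ : _ ∈ E ⊓ N))
      ⟨ha, haN⟩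
    obtain ⟨nf, hnf⟩ := Subgroup.mem_zpowers_iff.1 (k.fixed_zpowers hv2 hvy hvZ hf.1 hfv)
    refine Commute.mul_left (hnf ▸ (Commute.refl y).zpow_left nf) ?_
    suffices hiZ : i ∈ omegaZ σ h p from (k.ctx.omega_commute hiZ hyU).symm
    set φ := QuotientGroup.mk' (Cfsg.oddCore ↥N) with hφ
    have hiU := k.ctx.le_U hi.1
    have hiE := c.inner_of_mem_sub (c.inverted_mem hvs hv2 hi.2 (odd_orderOf D hiU) hiv)
    have hzE := c.inner_of_mem_sub (c.inverted_mem hvs hv2 hzN (odd_orderOf D hzU) (hvZ z hzZ))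
    obtain ⟨g, hgi, hgz⟩ := c.almost.cyclic_pair (Comp.orderOf_image (c.sub_le hJs) hJo)
      (c.inner_of_mem_sub hJs) hiE hzE (Comp.odd_orderOf_image _ (odd_orderOf D hiU))
      (Comp.odd_orderOf_image _ (odd_orderOf D hzU))
      (Comp.image_commute _ _ (commute_J D hiU)) (Comp.image_commute _ _ (commute_J D hzU))
    obtain ⟨m, hm⟩ := Subgroup.mem_zpowers_iff.1 (mem_zpowers_of_pow_prime k.ctx.prime hgz hgi
      (by rw [← map_pow, show (⟨z, hzN⟩ : N) ^ p = 1 from Subtype.ext hzZ.2.1, map_one])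
      (c.inverted_image_ne_one hvs hv2 hzN (odd_orderOf D hzU) (hvZ z hzZ) hz1)
      (by rw [← map_pow, show (⟨i, hi.2⟩ : N) ^ p = 1 from Subtype.ext (k.ctx.exp i hi.1), map_one]))
    obtain ⟨d, hd⟩ : ∃ d, d = i * (z ^ m)⁻¹ := ⟨_, rfl⟩
    suffices hd1 : d = 1 by
      rw [hd, mul_inv_eq_one] at hd1
      exact hd1 ▸ zpow_mem hzZ m
    by_contra hd1
    have hzm := zpow_mem hzZ m
    have hdU : d ∈ oddSub σ h := hd ▸ mul_mem hiU (inv_mem (omegaZ_le.trans coreP_le hzm))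
    have hdN : d ∈ N := hd ▸ mul_mem hi.2 (inv_mem (N.zpow_mem hzN m))
    refine c.inverted_image_ne_one hvs hv2 hdN (odd_orderOf D hdU) ?_ hd1 ?_
    · rw [hd, InvAct.conj_mul hv2, InvAct.conj_inv hv2, hiv, hvZ _ hzm, _root_.mul_inv_rev]
      exact (k.ctx.omega_commute (inv_mem (inv_mem hzm)) (inv_mem hiU)).eq
    · rw [show (⟨d, hdN⟩ : N) = ⟨i, hi.2⟩ * (⟨z, hzN⟩ ^ m)⁻¹ from Subtype.ext (by simp [hd]),
        map_mul, map_inv, map_zpow, hm, mul_inv_cancel]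
  have hvconj : ∀ {a}, a ∈ oddSub σ h → v * a * v ∈ oddSub σ h := fun {a} ha => by
    have := conj_oddSub D hvc ha
    rwa [hvi] at this
  -- the torus
  have hT : ∀ s, s ∈ cinv σ h ↔ s ∈ oddSub σ h ⊓ N ∧ v * s * v = s⁻¹ := by
    intro s
    refine ⟨fun hs => ⟨⟨fitSub_le hs.1, hcN (hs.2.1 y hyU).symm⟩, hs.2.2 v hv2 hv1 hvJ hvc⟩, ?_⟩
    rintro ⟨⟨hsU, hsN⟩, hsi⟩
    have hsJ := commute_J D hsU
    -- `s` lies in the Fitting subgroup
    have hsF : s ∈ fitSub σ h := by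
      obtain ⟨a, ha⟩ : ∃ a, a = s * y * s⁻¹ := ⟨_, rfl⟩
      have haE : a ∈ E := ha ▸ k.ctx.conj s hsJ y k.ymem
      have hay : Commute a y :=
        hEN a haE (ha ▸ mul_mem (mul_mem hsN (hcN (Commute.refl y))) (inv_mem hsN))
      obtain ⟨i, j, z', hz', hnf⟩ := k.normal_form haE
      have hj : j = 0 := by
        have h1 := congrFun (congrArg (pcrd p y b) hnf) 1
        rw [k.crd_form i j hz'] at h1
        simp only [pcrd, Matrix.cons_val_one, Matrix.cons_val_fin_one] at h1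
        rw [← h1, ppair, hay.symm.eq, mul_inv_cancel_right, mul_inv_cancel, k.plog_one]
      rw [hj, ZMod.val_zero, pow_zero, mul_one] at hnf
      have hva : v * a * v = s⁻¹ * y * s := by
        rw [ha, InvAct.conj_mul hv2, InvAct.conj_mul hv2, InvAct.conj_inv hv2, hsi,
          InvAct.conj_of_commute hv2 hvy, inv_inv]
      have hva' : v * a * v = y ^ i.val * z'⁻¹ := by
        rw [hnf, InvAct.conj_mul hv2, InvAct.conj_of_commute hv2 (hvy.pow_left _), hvZ _ hz']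
      have hc1 : pcrd p y b a = ![i, 0] := by
        have := k.crd_form i 0 hz'
        rwa [ZMod.val_zero, pow_zero, mul_one, ← hnf] at this
      have hc2 : pcrd p y b (s⁻¹ * y * s) = ![i, 0] := by
        have := k.crd_form i 0 (inv_mem hz')
        rwa [ZMod.val_zero, pow_zero, mul_one, ← hva', hva] at this
      have e1 := k.crd_conj hsJ k.ymem
      rw [← ha, hc1, k.crd_y] at e1
      have e2 := k.crd_conj hsJ.inv_left k.ymem
      rw [inv_inv, hc2, k.crd_y] at e2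
      have hfix : pmat p y b (s * s) *ᵥ ![1, 0] = ![1, 0] := by
        rw [k.mat_mul hsJ hsJ, ← Matrix.mulVec_mulVec, ← e1, e2, Matrix.mulVec_mulVec,
          ← k.mat_mul hsJ hsJ.inv_left, mul_inv_cancel, k.mat_one, Matrix.one_mulVec]
      have h1 := k.mat_fpf (mul_mem hsU hsU) hfix (fun e => one_ne_zero (congrFun e 0))
      exact GW.mem_of_sq_mem (odd_orderOf D hsU) (k.fit_of_mat (mul_mem hsU hsU) h1)
    -- and is central
    obtain ⟨e, he, w, hw, rfl⟩ := k.fit_decomp hsF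
    have hwy : Commute w y := ((mem_zU.1 hw).2 y hyU).symm
    have heN : e ∈ N := by
      have := N.mul_mem hsN (N.inv_mem (hcN hwy))
      rwa [mul_inv_cancel_right] at this
    obtain ⟨i, j, z', hz', rfl⟩ := k.normal_form he
    have hj : j = 0 := by
      have h1 := congrFun (k.crd_form i j hz') 1
      simp only [pcrd, Matrix.cons_val_one, Matrix.cons_val_fin_one] at h1
      rw [← h1, ppair, (hEN _ he heN).symm.eq, mul_inv_cancel_right, mul_inv_cancel, k.plog_one]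
    rw [hj, ZMod.val_zero, pow_zero, mul_one] at hsi hsF hsN hsU ⊢
    obtain ⟨w', hw'⟩ : ∃ w', w' = z' * w := ⟨_, rfl⟩
    rw [mul_assoc (y ^ i.val) z' w, ← hw'] at hsi hsF hsN hsU ⊢
    have hw'Z : w' ∈ zU σ h := hw' ▸ mul_mem (k.omega_zU hz') hw
    have hvw : v * w' * v ∈ zU σ h := mem_zU.2 ⟨hvconj (mem_zU.1 hw'Z).1, fun u hu => by
      have := ((mem_zU.1 hw'Z).2 _ (hvconj hu)).map (MulAut.conj v).toMonoidHom
      simp only [MulEquiv.coe_toMonoidHom, MulAut.conj_apply, hvi] at this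
      rwa [show v * (v * u * v) * v = (v * v) * u * (v * v) by group, hv2, one_mul, mul_one] at this⟩
    have hiU : y ^ i.val ∈ oddSub σ h := pow_mem hyU _
    rw [InvAct.conj_mul hv2, InvAct.conj_of_commute hv2 (hvy.pow_left _), _root_.mul_inv_rev] at hsi
    have hy2 : y ^ i.val * y ^ i.val ∈ zU σ h := by
      have e : y ^ i.val * y ^ i.val = (v * w' * v)⁻¹ * w'⁻¹ := by
        have c2 := ((mem_zU.1 (inv_mem hvw)).2 _ hiU).eq
        calc y ^ i.val * y ^ i.val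
            = y ^ i.val * (v * w' * v) * (v * w' * v)⁻¹ * y ^ i.val := by group
          _ = w'⁻¹ * (y ^ i.val)⁻¹ * (v * w' * v)⁻¹ * y ^ i.val := by rw [hsi]
          _ = w'⁻¹ * (y ^ i.val)⁻¹ * (y ^ i.val * (v * w' * v)⁻¹) := by rw [c2]; group
          _ = w'⁻¹ * (v * w' * v)⁻¹ := by group
          _ = _ := ((mem_zU.1 (inv_mem hvw)).2 _ (inv_mem (mem_zU.1 hw'Z).1)).eq
      rw [e]
      exact mul_mem (inv_mem hvw) (inv_mem hw'Z)
    have hi0 : i = 0 := by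
      by_contra hne
      refine k.yb_not ?_
      obtain ⟨n, hn⟩ := exists_pow_eq_self_of_coprime (x := y) (n := i.val + i.val) (by
        rw [orderOf_eq_prime (k.ctx.exp y k.ymem) hy1]
        refine Nat.Coprime.symm ((k.ctx.prime.coprime_iff_not_dvd).2 fun hd => hne ?_)
        rw [← ZMod.natCast_eq_zero_iff, Nat.cast_add, ZMod.natCast_zmod_val, ← two_mul] at hd
        exact (mul_eq_zero.1 hd).resolve_left (Plane.two_ne_zero_of k.ctx.ne_two))
      rw [← hn, pow_add]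
      exact (((mem_zU.1 hy2).2 b (k.ctx.le_U k.bmem)).pow_right n).symm
    rw [hi0, ZMod.val_zero, pow_zero, one_mul] at hsi hsF ⊢
    rw [inv_one, mul_one] at hsi
    exact k.ctx.cinv_of_inverted hsF (mem_zU.1 hw'Z).2 hv2 hv1 hvJ hvc hsi
  refine torus_count D c hJs hvs hv2 hv1 hvJ hvc ⟨hzU, hzN⟩ hz1 (hvZ z hzZ)
    (torus_pslType D c hJs hvs hv2 hv1 hvJ hvc ⟨hzU, hzN⟩ hz1 (hvZ z hzZ)
      fun w h2 h1 hJ' hc => k.ctx.invol_omega h2 h1 hJ' hc hzZ)
    k.ctx.prime k.ctx.ne_two hT ht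
    (H := oddSub σ h ⊓ Subgroup.centralizer ({τ} : Set G))
    (fun a ha => ⟨ha.1, hfixN a ha.1 (Subgroup.mem_centralizer_singleton_iff.1 ha.2)⟩)
    (fun a ha => hvH a ha.1 (Subgroup.mem_centralizer_singleton_iff.1 ha.2)) rfl hk

end PlaneCtx

end Cfsg.Lib.GW.CMax
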