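import Cfsg.Agent.Lib.GW.CMax.Component
import Cfsg.Agent.Lib.GW.Klein.CompCentral
import Cfsg.Agent.Lib.Dickson.KleinClasses
import Cfsg.Agent.Lib.GW.ConsumersOvergroup

/-!
# A component `PSL₂(q)` through `J` and a reflection

The component meets the odd core trivially; so its elements of `U` are the inverted elements of
`N ∩ U`, and an element of it taking `J` to `x` centralizes the fixed points of `x` in `N ∩ U`.
-/

set_option autoImplicit false
set_option linter.unusedSectionVars false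
set_option linter.style.haveILetI false

namespace Cfsg.Lib.GW.CMax

open Cfsg Cfsg.Lib.Block
open Cfsg.Lib.Block.DihSylow (oddPart mem_oddPart)
open Subgroup

universe u

/-- An element cycling two commuting involutions of `PSL₂(q)`. -/
theorem psl_exists_cycle {F : Type} [Field F] [Fintype F] (hodd : Fintype.card F % 2 = 1)
    {a b : Matrix.ProjectiveSpecialLinearGroup (Fin 2) F} (ha : orderOf a = 2) (hb : orderOf b = 2)
    (hne : a ≠ b) (hc : Commute a b) :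
    ∃ k : Matrix.ProjectiveSpecialLinearGroup (Fin 2) F, k * a * k⁻¹ = b ∧ k * b * k⁻¹ = a * b := by
  have h2 := Cfsg.Lib.Dickson.two_ne_zero_of_odd (F := F) hodd
  obtain ⟨a', rfl⟩ := QuotientGroup.mk_surjective a
  obtain ⟨b', rfl⟩ := QuotientGroup.mk_surjective b
  have tr : ∀ {w : Matrix.SpecialLinearGroup (Fin 2) F},
      orderOf (QuotientGroup.mk w : Matrix.ProjectiveSpecialLinearGroup (Fin 2) F) = 2 →
        w 0 0 + w 1 1 = 0 := fun {w} hw =>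
    Cfsg.Lib.Dickson.trace_zero_of_involution h2 (orderOf_dvd_iff_pow_eq_one.1 hw.dvd)
      (Cfsg.Lib.Invol.ne_one hw)
  obtain ⟨k, hk1, hk2⟩ := Cfsg.Lib.Dickson.KleinClasses.exists_cycle h2 (tr ha) (tr hb)
    (Cfsg.Lib.Dickson.KleinClasses.anticommute h2 (tr ha) (tr hb) hc hne)
  refine ⟨QuotientGroup.mk k, ?_, ?_⟩
  · rw [← QuotientGroup.mk_mul, hk1, QuotientGroup.mk_mul, mul_inv_cancel_right]
  · rw [← QuotientGroup.mk_mul, hk2, QuotientGroup.mk_mul, QuotientGroup.mk_mul,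
      mul_inv_cancel_right]

variable {G : Type u} [Group G] [Fintype G] [Fact (Nat.Prime 2)] {P : Sylow 2 G} {σ τ : G} {h : ℕ}

/-- The centralizer of `J` and a reflection: fixed points times the four group. -/
theorem centralizer_pair (D : DihSylow P σ τ h) {x : G} (hxP : x ∈ (P : Subgroup G))
    (hxσ : x ∉ zpowers σ) {y : G} (hyJ : Commute y (σ ^ h)) (hyx : Commute y x) :
    ∃ u ∈ oddSub σ h, ∃ π, Commute u x ∧ y = u * π ∧ π * π = 1 ∧
      (π = 1 ∨ π = σ ^ h ∨ π = x ∨ π = σ ^ h * x) := by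
  obtain ⟨hJ2, -, hJc⟩ := D.central_involution
  have hxJ := hJc x hxP
  have hx2 := D.sq_outside hxP hxσ
  obtain ⟨-, -, -, -, hdec, huniq, -⟩ := D.oddPart_spec
  obtain ⟨π, hπ, hyπ⟩ := hdec y hyJ
  obtain ⟨u, hu⟩ : ∃ u, u = y * π⁻¹ := ⟨_, rfl⟩
  have huU : u ∈ oddSub σ h := hu ▸ (mem_oddSub D).2 hyπ
  have hyu : y = u * π := by rw [hu, inv_mul_cancel_right]
  have hπJ := hJc π hπ
  have hxi : x⁻¹ = x := inv_eq_of_mul_eq_one_right hx2
  have hxy : x * u * x⁻¹ * (x * π * x⁻¹) = u * π := by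
    rw [show x * u * x⁻¹ * (x * π * x⁻¹) = x * y * x⁻¹ by rw [hyu]; group, hyx.symm.eq,
      mul_inv_cancel_right]
    exact hyu
  have hπx : x * π * x⁻¹ = π := by
    refine huniq _ (mul_mem (mul_mem hxP hπ) (inv_mem hxP)) _ hπ ((mem_oddSub D).1 ?_)
    rw [show x * π * x⁻¹ * π⁻¹ = (x * u * x⁻¹)⁻¹ * u by
      rw [eq_inv_mul_iff_mul_eq, ← mul_assoc, hxy, mul_inv_cancel_right]]
    exact mul_mem (inv_mem (conj_oddSub D hxJ huU)) huU
  have hux : x * u * x⁻¹ = u := by rw [hπx] at hxy; exact mul_right_cancel hxy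
  have hπcx : Commute x π := mul_inv_eq_iff_eq_mul.1 hπx
  have hπ2 : π * π = 1 ∧ (π = 1 ∨ π = σ ^ h ∨ π = x ∨ π = σ ^ h * x) := by
    by_cases hπσ : π ∈ zpowers σ
    · have h2 : π * π = 1 := by
        have e1 := D.conj_outside hxP hxσ hπσ
        rw [hπcx.eq, mul_inv_cancel_right] at e1
        exact mul_eq_one_iff_eq_inv.2 e1
      rcases D.eq_central_of_sq hπσ h2 with e' | e'
      · exact ⟨h2, Or.inl e'⟩
      · exact ⟨h2, Or.inr (Or.inl e')⟩
    · have hπ2 := D.sq_outside hπ hπσ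
      obtain ⟨ρ, hρ⟩ : ∃ ρ, ρ = π * x := ⟨_, rfl⟩
      have hρσ : ρ ∈ zpowers σ := hρ ▸ by
        obtain ⟨i, -, rfl⟩ := D.reflection_iff.1 ⟨hπ, hπσ⟩
        obtain ⟨j, -, rfl⟩ := D.reflection_iff.1 ⟨hxP, hxσ⟩
        have e1 := D.τ_conj (D.mem_pow j)
        rw [D.τ_inv] at e1
        rw [mul_assoc (σ ^ i) τ, ← mul_assoc τ (σ ^ j) τ, e1]
        exact mul_mem (D.mem_pow i) (inv_mem (D.mem_pow j))
      refine ⟨hπ2, ?_⟩
      have hρ2 : ρ * ρ = 1 := by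
        rw [hρ, hπcx.mul_mul_mul_comm, hπ2, hx2, one_mul]
      have hπe : π = ρ * x := by rw [hρ, mul_assoc, hx2, mul_one]
      rcases D.eq_central_of_sq hρσ hρ2 with e' | e'
      · exact Or.inr (Or.inr (Or.inl (by rw [hπe, e', one_mul])))
      · exact Or.inr (Or.inr (Or.inr (by rw [hπe, e'])))
  exact ⟨u, huU, π, (mul_inv_eq_iff_eq_mul.1 hux).symm, hyu, hπ2.1, hπ2.2⟩

variable
  (D : DihSylow P σ τ h) {N : Subgroup G} (c : Comp N) {x : G}
  (hJ : σ ^ h ∈ c.sub) (hx : x ∈ c.sub) (hx2 : x * x = 1) (hxJ : Commute x (σ ^ h))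
  (hxne : x ≠ 1) (hxneJ : x ≠ σ ^ h)
  (hwit : ∃ i ∈ oddSub σ h, i ∈ N ∧ x * i * x = i⁻¹ ∧ i ≠ 1) (hpsl : PSLType c.E)

include D hJ hx hx2 hxJ hxne hxneJ hwit hpsl

/-- The component meets the odd core trivially. -/
theorem comp_center {o : G} (ho : o ∈ c.sub)
    (ho' : QuotientGroup.mk' (Cfsg.oddCore ↥N) ⟨o, c.sub_le ho⟩ = 1) : o = 1 := by
  obtain ⟨F, iF, iF', hodd, h3, ⟨e⟩⟩ := hpsl
  have hq : Fintype.card F % 2 = 1 := Nat.odd_iff.1 hodd
  set φ := QuotientGroup.mk' (Cfsg.oddCore ↥N) with hφ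
  have hJo := cc_orderOf_J D c hJ hx hx2 hxJ hxne hxneJ hwit
  have h9 : Fintype.card F ≠ 9 := by
    intro h9
    obtain ⟨i, hi, hiN, hix, hi1⟩ := hwit
    have his := c.inverted_mem hx hx2 hiN (odd_orderOf D hi) hix
    let iE : c.E := ⟨φ ⟨i, hiN⟩, c.inner_of_mem_sub his⟩
    let jE : c.E := ⟨φ ⟨σ ^ h, c.sub_le hJ⟩, c.inner_of_mem_sub hJ⟩
    have hjo : orderOf (e jE) = 2 := by
      rw [e.orderOf_eq, ← Subgroup.orderOf_coe]
      exact Comp.orderOf_image _ hJo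
    have hmem : e iE ∈ centralizer ({e jE} : Set (Matrix.ProjectiveSpecialLinearGroup (Fin 2) F)) :=
      mem_centralizer_singleton_iff.2 ((show Commute iE jE from
        Subtype.ext (Comp.image_commute _ _ (commute_J D hi)).eq).map e.toMonoidHom).eq
    have hd := Subgroup.orderOf_dvd_natCard _ hmem
    rw [e.orderOf_eq, ← Subgroup.orderOf_coe] at hd
    rcases card_centralizer_cases hq (by omega) hjo with ⟨-, hc⟩ | ⟨h4, -⟩
    · rw [hc, h9] at hd
      refine c.inverted_image_ne_one hx hx2 hiN (odd_orderOf D hi) hix hi1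
        (orderOf_eq_one_iff.1 (Nat.eq_one_of_dvd_coprimes ?_ dvd_rfl hd))
      exact (show 9 - 1 = 2 ^ 3 by norm_num) ▸
        (Nat.coprime_two_right.2 (Comp.odd_orderOf_image hiN (odd_orderOf D hi))).pow_right 3
    · omega
  haveI := c.normal
  have hperf : commutator ↥c.L = ⊤ := by
    refine Subgroup.map_injective c.L.subtype_injective ?_
    rw [map_subtype_commutator, ← MonoidHom.range_eq_map, range_subtype, c.perfect]
  have hLE : ∀ l : c.L, φ l ∈ c.E := fun l => by rw [← c.map_L]; exact mem_map_of_mem _ l.2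
  let ψ : ↥c.L →* c.E := (φ.comp c.L.subtype).codRestrict c.E hLE
  have hψ : Function.Surjective ψ := fun y => by
    obtain ⟨l, hl, hle⟩ : (y : ↥N ⧸ Cfsg.oddCore ↥N) ∈ c.L.map φ := by rw [c.map_L]; exact y.2
    exact ⟨⟨l, hl⟩, Subtype.ext hle⟩
  have hk : ∀ l : c.L, l ∈ (e.toMonoidHom.comp ψ).ker → φ l = 1 := fun l hl =>
    congrArg Subtype.val (e.injective ((show e (ψ l) = 1 from hl).trans (map_one e).symm))
  have hker : Nat.card (e.toMonoidHom.comp ψ).ker ≤ 2 :=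
    psl_cover_ker_le hodd h3 h9 hperf _ (e.surjective.comp hψ) fun l hl =>
      mem_center_iff.2 fun l' =>
        Subtype.ext (c.comm l' l'.2 l ((QuotientGroup.eq_one_iff _).1 (hk l hl))).eq
  have hoL : (⟨o, c.sub_le ho⟩ : N) ∈ c.L := (c.mem_sub _).1 ho
  have hm : (⟨_, hoL⟩ : c.L) ∈ (e.toMonoidHom.comp ψ).ker := by
    show e (ψ ⟨_, hoL⟩) = 1
    rw [show ψ ⟨_, hoL⟩ = 1 from Subtype.ext ho', map_one]
  have hd := Subgroup.orderOf_dvd_natCard _ hm
  rw [Subgroup.orderOf_mk] at hd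
  obtain ⟨j, hj⟩ := Cfsg.Lib.ZStar.odd_orderOf_oddCore ((QuotientGroup.eq_one_iff _).1 ho')
  have := Nat.le_of_dvd Nat.card_pos hd
  exact congrArg Subtype.val (orderOf_eq_one_iff.1 (by omega : orderOf (⟨o, c.sub_le ho⟩ : N) = 1))

/-- The odd part of the component is inverted by `x`. -/
theorem sub_odd_inverted {s : G} (hs : s ∈ c.sub) (hsU : s ∈ oddSub σ h) : x * s * x = s⁻¹ := by
  have hsN := c.sub_le hs
  have hUN : Odd (Nat.card ↥(oddSub σ h ⊓ c.sub)) :=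
    (odd_card_oddSub D).of_dvd_nat (card_dvd_of_le inf_le_left)
  have hxn : x ∈ normalizer ((oddSub σ h ⊓ c.sub : Subgroup G) : Set G) :=
    mem_normalizer_fintype fun y (hy : y ∈ oddSub σ h ⊓ c.sub) =>
      (show x * y * x⁻¹ ∈ oddSub σ h ⊓ c.sub from
        ⟨conj_oddSub D hxJ hy.1, c.sub.mul_mem (c.sub.mul_mem hx hy.2) (c.sub.inv_mem hx)⟩)
  obtain ⟨u, hu, i, -, hux, hix, rfl⟩ := InvAct.exists_split hUN hx2 hxn
    (show s ∈ oddSub σ h ⊓ c.sub from ⟨hsU, hs⟩)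
  have hu1 : u = 1 := comp_center D c hJ hx hx2 hxJ hxne hxneJ hwit hpsl hu.2
    (cc_fixed_image D c hJ hx hx2 hxJ hxne hxneJ hwit (c.sub_le hu.2) (c.inner_of_mem_sub hu.2)
      (odd_orderOf D hu.1) (commute_J D hu.1) hux)
  rw [hu1, one_mul]
  exact hix

/-- An element of the component taking `J` to the reflection `x` centralizes the fixed points. -/
theorem exists_rotor (hxP : x ∈ (P : Subgroup G)) (hxσ : x ∉ zpowers σ) :
    ∃ l ∈ c.sub, l * σ ^ h * l⁻¹ = x ∧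
      ∀ w ∈ oddSub σ h, w ∈ N → Commute w x → Commute l w := by
  obtain ⟨F, iF, iF', hodd, h3, ⟨e⟩⟩ := id hpsl
  set φ := QuotientGroup.mk' (Cfsg.oddCore ↥N) with hφ
  obtain ⟨hJ2, -, hJc⟩ := D.central_involution
  have hJo := cc_orderOf_J D c hJ hx hx2 hxJ hxne hxneJ hwit
  have hxo := cc_x_order D c hJ hx hx2 hxJ hxne hxneJ hwit
  let xN : N := ⟨x, c.sub_le hx⟩
  let jN : N := ⟨σ ^ h, c.sub_le hJ⟩
  let xE : c.E := ⟨φ xN, c.inner_of_mem_sub hx⟩
  let jE : c.E := ⟨φ jN, c.inner_of_mem_sub hJ⟩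
  obtain ⟨k, hk1, hk2⟩ := psl_exists_cycle (Nat.odd_iff.1 hodd) (a := e jE) (b := e xE)
    (by rw [e.orderOf_eq, ← Subgroup.orderOf_coe]; exact Comp.orderOf_image _ hJo)
    (by rw [e.orderOf_eq, ← Subgroup.orderOf_coe]; exact Comp.orderOf_image _ hxo)
    (fun h' => cc_image_ne D c hJ hx hx2 hxJ hxne hxneJ hwit
      (congrArg Subtype.val (e.injective h')).symm)
    ((show Commute jE xE from Subtype.ext (Comp.image_commute _ _ hxJ.symm).eq).map e.toMonoidHom)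
  obtain ⟨k₀, rfl⟩ : ∃ k₀ : c.E, k = e k₀ := ⟨e.symm k, (e.apply_symm_apply k).symm⟩
  rw [← map_inv, ← map_mul, ← map_mul, e.injective.eq_iff] at hk1
  rw [← map_inv, ← map_mul, ← map_mul, ← map_mul, e.injective.eq_iff] at hk2
  obtain ⟨l₀, hl₀, hl₀e⟩ : (k₀ : ↥N ⧸ Cfsg.oddCore ↥N) ∈ c.L.map φ := by
    rw [c.map_L]; exact k₀.2
  have hls : (l₀ : G) ∈ c.sub := (c.mem_sub l₀.2).2 hl₀
  obtain ⟨l, hl⟩ : ∃ l, l = (l₀ : G) := ⟨_, rfl⟩
  rw [← hl] at hls
  -- the images lift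
  have hlift : ∀ {a b : G} (ha : a ∈ c.sub) (hb : b ∈ c.sub), a * a = 1 → b * b = 1 →
      φ l₀ * φ ⟨a, c.sub_le ha⟩ * (φ l₀)⁻¹ = φ ⟨b, c.sub_le hb⟩ → l * a * l⁻¹ = b := by
    intro a b ha hb ha2 hb2 he
    obtain ⟨o, ho⟩ : ∃ o, o = b⁻¹ * (l * a * l⁻¹) := ⟨_, rfl⟩
    have hos : o ∈ c.sub := ho ▸ mul_mem (inv_mem hb) (mul_mem (mul_mem hls ha) (inv_mem hls))
    have ho1 : φ ⟨o, c.sub_le hos⟩ = 1 := by
      rw [show (⟨o, c.sub_le hos⟩ : N) = (⟨b, c.sub_le hb⟩ : N)⁻¹ * (l₀ * ⟨a, c.sub_le ha⟩ * l₀⁻¹)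
        from Subtype.ext (by simp [ho, hl]), map_mul, map_inv, map_mul, map_mul, map_inv, he,
        inv_mul_cancel]
    have := comp_center D c hJ hx hx2 hxJ hxne hxneJ hwit hpsl hos ho1
    rw [ho] at this
    exact (inv_mul_eq_one.1 this).symm
  have hlJ : l * σ ^ h * l⁻¹ = x := hlift hJ hx hJ2 hx2 (by
    have := congrArg Subtype.val hk1
    simp only [Subgroup.coe_mul, InvMemClass.coe_inv, ← hl₀e] at this
    exact this)
  have hxJ2 : σ ^ h * x * (σ ^ h * x) = 1 := by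
    rw [hxJ.mul_mul_mul_comm, hJ2, hx2, one_mul]
  have hlx : l * x * l⁻¹ = σ ^ h * x := hlift hx (mul_mem hJ hx) hx2 hxJ2 (by
    have := congrArg Subtype.val hk2
    simp only [Subgroup.coe_mul, InvMemClass.coe_inv, ← hl₀e] at this
    exact this.trans (map_mul φ jN xN).symm)
  refine ⟨l, hls, hlJ, fun w hw hwN hwx => ?_⟩
  obtain ⟨v, hv⟩ : ∃ v, v = l⁻¹ * (w * l * w⁻¹) := ⟨_, rfl⟩
  have hvs : v ∈ c.sub := hv ▸ mul_mem (inv_mem hls) (c.conj_sub hwN hls)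
  have hwJ := commute_J D hw
  have hfix : ∀ {a b : G}, Commute w a → Commute w b → l * a * l⁻¹ = b → Commute v a := by
    intro a b ha hb hab
    refine mul_inv_eq_iff_eq_mul.1 ?_
    calc v * a * v⁻¹ = l⁻¹ * (w * (l * (w⁻¹ * a * w) * l⁻¹) * w⁻¹) * l := by rw [hv]; group
      _ = l⁻¹ * (w * b * w⁻¹) * l := by
          rw [mul_assoc w⁻¹ a w, ← ha.eq, inv_mul_cancel_left, hab]
      _ = l⁻¹ * (l * a * l⁻¹) * l := by rw [hb.eq, mul_inv_cancel_right, hab]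
      _ = a := by group
  have hvJ : Commute v (σ ^ h) := hfix hwJ hwx hlJ
  have hvx : Commute v x := hfix hwx (hwJ.mul_right hwx) hlx
  obtain ⟨u, huU, π, hux, hvu, hπ2⟩ := centralizer_pair D hxP hxσ hvJ hvx
  have hπs : π ∈ c.sub ∧ Commute w π := by
    rcases hπ2.2 with rfl | rfl | rfl | rfl
    · exact ⟨one_mem _, Commute.one_right w⟩
    · exact ⟨hJ, hwJ⟩
    · exact ⟨hx, hwx⟩
    · exact ⟨mul_mem hJ hx, hwJ.mul_right hwx⟩
  have hus : u ∈ c.sub := (Subgroup.mul_mem_cancel_right _ hπs.1).1 (hvu ▸ hvs)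
  have hu1 : u = 1 := comp_center D c hJ hx hx2 hxJ hxne hxneJ hwit hpsl hus
    (cc_fixed_image D c hJ hx hx2 hxJ hxne hxneJ hwit (c.sub_le hus) (c.inner_of_mem_sub hus)
      (odd_orderOf D huU) (commute_J D huU) hux)
  rw [hu1, one_mul] at hvu
  have hconj : w * l * w⁻¹ = l * v := by rw [hv, mul_inv_cancel_left]
  have hwv : Commute w v := hvu ▸ hπs.2
  have hiter : ∀ n : ℕ, w ^ n * l * (w ^ n)⁻¹ = l * v ^ n := by
    intro n
    induction n with
    | zero => simp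
    | succ n ih =>
      calc w ^ (n + 1) * l * (w ^ (n + 1))⁻¹ = w * (w ^ n * l * (w ^ n)⁻¹) * w⁻¹ := by
            rw [pow_succ']; group
        _ = w * l * w⁻¹ * (w * v ^ n * w⁻¹) := by rw [ih]; group
        _ = l * v ^ (n + 1) := by
            rw [hconj, (hwv.pow_right n).eq, mul_inv_cancel_right, pow_succ', mul_assoc]
  have hn := hiter (orderOf w)
  rw [pow_orderOf_eq_one, one_mul, inv_one, mul_one, left_eq_mul] at hn
  obtain ⟨m, hm⟩ := odd_orderOf D hw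
  rw [hm, pow_succ, pow_mul, pow_two, hvu, hπ2.1, one_pow, one_mul] at hn
  rw [hvu, hn, mul_one] at hconj
  exact (mul_inv_eq_iff_eq_mul.1 hconj).symm

end Cfsg.Lib.GW.CMax
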